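import Cfsg.Agent.Asch.Transport

/-!
Block matrices and Schur's lemma for families of matrices.
-/

set_option autoImplicit false
set_option linter.unusedSectionVars false

namespace Cfsg.Agent.Asch

open Matrix Cfsg.Geo Cfsg.Agent.PrimeDim
open scoped MatrixGroups

variable {F : Type*} [Field F] {d d' J : Type} [Fintype d] [DecidableEq d] [Fintype d'] [DecidableEq d']
  [Fintype J] [DecidableEq J]

/-- A family of matrices is irreducible. -/
def IrrFam {G : Type*} (a : G → Matrix d d F) : Prop :=
  ∀ W : Submodule F (d → F), (∀ g, ∀ w ∈ W, a g *ᵥ w ∈ W) → W = ⊥ ∨ W = ⊤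

/-- A non-zero intertwiner between irreducible families is bijective. -/
theorem schur {G : Type*} {a : G → Matrix d d F} {b : G → Matrix d' d' F} (ha : IrrFam a) (hb : IrrFam b)
    {X : Matrix d' d F} (hX : X ≠ 0) (h : ∀ g, b g * X = X * a g) :
    Function.Bijective (fun v : d → F => X *ᵥ v) := by
  have hmap : ∀ g v, b g *ᵥ (X *ᵥ v) = X *ᵥ (a g *ᵥ v) := fun g v => by
    rw [Matrix.mulVec_mulVec, Matrix.mulVec_mulVec, h]
  constructor
  · refine (injective_iff_map_eq_zero X.mulVecLin).2 fun v hv => ?_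
    rcases ha (LinearMap.ker X.mulVecLin) (fun g w hw => by
      rw [LinearMap.mem_ker, Matrix.mulVecLin_apply] at hw ⊢
      rw [← hmap, hw, Matrix.mulVec_zero]) with e | e
    · exact (Submodule.mem_bot F).1 (e ▸ LinearMap.mem_ker.2 hv)
    · exact absurd (Matrix.mulVec_injective (funext fun w => by
        rw [Matrix.zero_mulVec]; exact LinearMap.mem_ker.1 (e ▸ Submodule.mem_top : w ∈ LinearMap.ker X.mulVecLin))) hX
  · rcases hb (LinearMap.range X.mulVecLin) (fun g w hw => by
      obtain ⟨v, rfl⟩ := hw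
      exact ⟨a g *ᵥ v, (hmap g v).symm⟩) with e | e
    · exact absurd (Matrix.mulVec_injective (funext fun w => by
        rw [Matrix.zero_mulVec]
        exact (Submodule.mem_bot F).1 (e ▸ ⟨w, rfl⟩ : X *ᵥ w ∈ (⊥ : Submodule F (d' → F))))) hX
    · intro w
      obtain ⟨v, hv⟩ : w ∈ LinearMap.range X.mulVecLin := e ▸ Submodule.mem_top
      exact ⟨v, hv⟩

theorem card_eq_of_schur {G : Type*} {a : G → Matrix d d F} {b : G → Matrix d' d' F} (ha : IrrFam a) (hb : IrrFam b)
    {X : Matrix d' d F} (hX : X ≠ 0) (h : ∀ g, b g * X = X * a g) : Fintype.card d = Fintype.card d' := by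
  have := (LinearEquiv.ofBijective X.mulVecLin (schur ha hb hX h)).finrank_eq
  rwa [Module.finrank_fintype_fun_eq_card, Module.finrank_fintype_fun_eq_card] at this

theorem isUnit_of_schur {G : Type*} {a b : G → Matrix d d F} (ha : IrrFam a) (hb : IrrFam b)
    {X : Matrix d d F} (hX : X ≠ 0) (h : ∀ g, b g * X = X * a g) : IsUnit X :=
  Matrix.mulVec_injective_iff_isUnit.1 (schur ha hb hX h).1

/-- The blocks of a matrix. -/
def blk (X : Matrix (d × J) (d × J) F) (j k : J) : Matrix d d F := X.submatrix (fun i => (i, j)) (fun i => (i, k))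

theorem blk_apply (X : Matrix (d × J) (d × J) F) (j k : J) (i l : d) : blk X j k i l = X (i, j) (l, k) := rfl

theorem blk_ext {X Y : Matrix (d × J) (d × J) F} (h : ∀ j k, blk X j k = blk Y j k) : X = Y := by
  ext ⟨i, j⟩ ⟨l, k⟩
  exact congrFun (congrFun (h j k) i) l

theorem blk_bd (a : J → Matrix d d F) (j k : J) : blk (blockDiagonal a) j k = if j = k then a j else 0 := by
  ext i l
  rw [blk_apply, blockDiagonal_apply']
  split_ifs <;> rfl

theorem blk_mul_bd (X : Matrix (d × J) (d × J) F) (a : J → Matrix d d F) (j k : J) :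
    blk (X * blockDiagonal a) j k = blk X j k * a k := by
  ext i l
  simp [blk, Matrix.mul_apply, Fintype.sum_prod_type, blockDiagonal_apply']

theorem blk_bd_mul (a : J → Matrix d d F) (X : Matrix (d × J) (d × J) F) (j k : J) :
    blk (blockDiagonal a * X) j k = a j * blk X j k := by
  ext i l
  simp [blk, Matrix.mul_apply, Fintype.sum_prod_type, blockDiagonal_apply']

theorem blk_add (X Y : Matrix (d × J) (d × J) F) (j k : J) : blk (X + Y) j k = blk X j k + blk Y j k := rfl

/-- Every column of blocks of an invertible matrix has a non-zero block. -/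
theorem exists_blk_ne_zero [Nonempty d] {X Y : Matrix (d × J) (d × J) F} (h : Y * X = 1) (k : J) :
    ∃ j, blk X j k ≠ 0 := by
  by_contra hcon
  push Not at hcon
  obtain ⟨l⟩ := (inferInstance : Nonempty d)
  have h1 := congrFun (congrFun h (l, k)) (l, k)
  rw [Matrix.mul_apply, Matrix.one_apply_eq, Finset.sum_eq_zero] at h1
  · exact zero_ne_one h1
  rintro ⟨i, j⟩ -
  rw [show X (i, j) (l, k) = 0 from congrFun (congrFun (hcon j) i) l, mul_zero]

end Cfsg.Agent.Asch
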