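import Cfsg.Agent.Asch.Transport

/-!
The subfield of given degree of a field of matrices is normalised by the normaliser of the field.
-/

set_option autoImplicit false
set_option linter.unusedSectionVars false

namespace Cfsg.Agent.Asch

open Matrix Cfsg.Geo Cfsg.Agent.PrimeDim
open scoped MatrixGroups

variable {F : Type*} [Field F] [Finite F] {ι : Type} [Fintype ι] [DecidableEq ι]

theorem mat_conj_pow (g : GL ι F) (x : Matrix ι ι F) (m : ℕ) :
    (mat g * x * mat g⁻¹) ^ m = mat g * x ^ m * mat g⁻¹ := by
  induction m with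
  | zero => rw [pow_zero, pow_zero, mul_one, mat_mul_inv]
  | succ m ih =>
    rw [pow_succ, ih, pow_succ]
    simp only [mul_assoc]
    rw [← mul_assoc (mat g⁻¹) (mat g), mat_inv_mul, one_mul]

/-- The subfield of given degree, by its elements. -/
theorem exists_subfield_mem {D r : ℕ} {K : Subalgebra F (Matrix ι ι F)} (hK : IsFieldSubalgebra D K) (hD : 0 < D)
    (hr : r ∣ D) :
    ∃ K' : Subalgebra F (Matrix ι ι F), IsFieldSubalgebra r K' ∧ subalgebraNormalizer K ≤ subalgebraNormalizer K' ∧
      ∀ x, x ∈ K' ↔ x ∈ K ∧ x ^ (Nat.card F ^ r) = x := by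
  classical
  haveI : Fintype F := Fintype.ofFinite F
  set Q := Fintype.card F ^ r with hQ
  letI cK : CommRing K := { (inferInstance : Ring K) with
    mul_comm := fun a b => Subtype.ext (hK.comm a.1 a.2 b.1 b.2) }
  haveI : Nontrivial K := Module.nontrivial_of_finrank_pos (R := F) (hK.finrank_eq.symm ▸ hD)
  have hfield : IsField K :=
    { exists_pair_ne := exists_pair_ne K
      mul_comm := mul_comm
      mul_inv_cancel := fun {a} ha => by
        obtain ⟨b, hb, hab⟩ := hK.inv a.1 a.2 fun e => ha (Subtype.ext e)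
        exact ⟨⟨b, hb⟩, Subtype.ext hab⟩ }
  letI : Field K := hfield.toField
  haveI : Finite K := Subtype.finite
  haveI : Fintype K := Fintype.ofFinite K
  let σ : K →ₐ[F] K := (FiniteField.frobeniusAlgHom F K) ^ r
  have hσ : ∀ x : K, σ x = x ^ Q := fun x => by
    show ((FiniteField.frobeniusAlgHom F K) ^ r) x = _
    have h : ∀ m : ℕ, ((FiniteField.frobeniusAlgHom F K) ^ m) x = x ^ Fintype.card F ^ m := by
      intro m
      induction m with
      | zero => simp
      | succ m ih =>
        rw [pow_succ', AlgHom.mul_apply, ih]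
        show (x ^ Fintype.card F ^ m) ^ Fintype.card F = _
        rw [← pow_mul, ← pow_succ]
    exact h r
  let E : Subalgebra F K := AlgHom.equalizer σ (AlgHom.id F K)
  let K' : Subalgebra F (Matrix ι ι F) := E.map K.val
  have hmem : ∀ x, x ∈ K' ↔ x ∈ K ∧ x ^ Q = x := by
    intro x
    constructor
    · rintro ⟨y, hy, rfl⟩
      have hy' : σ y = y := hy
      rw [hσ] at hy'
      exact ⟨y.2, congrArg Subtype.val hy'⟩
    · rintro ⟨hx, hxQ⟩
      refine ⟨⟨x, hx⟩, ?_, rfl⟩
      show σ ⟨x, hx⟩ = ⟨x, hx⟩
      rw [hσ]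
      exact Subtype.ext hxQ
  have hQ1 : 1 ≤ Q := Nat.one_le_pow _ _ Fintype.card_pos
  refine ⟨K', ⟨fun x hx y hy => hK.comm x ((hmem x).1 hx).1 y ((hmem y).1 hy).1, fun x hx hx0 => ?_, ?_⟩, ?_, fun x => by rw [hmem, Nat.card_eq_fintype_card]⟩
  · obtain ⟨hxK, hxQ⟩ := (hmem x).1 hx
    obtain ⟨y, hy, hxy⟩ := hK.inv x hxK hx0
    refine ⟨y, (hmem y).2 ⟨hy, ?_⟩, hxy⟩
    calc y ^ Q = y ^ Q * (x * y) := by rw [hxy, mul_one]
      _ = (y * x) ^ Q * y := by
        rw [(show Commute y x from hK.comm y hy x hxK).mul_pow, hxQ, mul_assoc]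
      _ = y := by rw [hK.comm y hy x hxK, hxy, one_pow, one_mul]
  · have hcard : Nat.card E = Q := by
      have hu : Nat.card (powMonoidHom (α := Kˣ) (Q - 1)).ker = Q - 1 := by
        rw [IsCyclic.card_powMonoidHom_ker, Nat.card_units, Nat.gcd_eq_right]
        rw [Module.natCard_eq_pow_finrank (K := F), hK.finrank_eq, Nat.card_eq_fintype_card]
        exact Nat.pow_sub_one_dvd_pow_sub_one _ hr
      let f : Option (powMonoidHom (α := Kˣ) (Q - 1)).ker → E := fun o => match o with
        | none => ⟨0, zero_mem E⟩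
        | some u => ⟨(u.1 : K), by
            show σ _ = _
            rw [hσ]
            have h1 : u.1 ^ (Q - 1) = 1 := u.2
            have h2 : u.1 ^ Q = u.1 := by
              calc u.1 ^ Q = u.1 ^ (Q - 1 + 1) := congrArg (u.1 ^ ·) (Nat.sub_add_cancel hQ1).symm
                _ = u.1 := by rw [pow_succ, h1, one_mul]
            exact congrArg Units.val h2⟩
      have hf : Function.Bijective f := by
        constructor
        · rintro (_ | u) (_ | v) h
          · rfl
          · exact absurd (congrArg Subtype.val h).symm (Units.ne_zero v.1)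
          · exact absurd (congrArg Subtype.val h) (Units.ne_zero u.1)
          · exact congrArg some (Subtype.ext (Units.ext (congrArg Subtype.val h :)))
        · rintro ⟨x, hx⟩
          by_cases hx0 : x = 0
          · exact ⟨none, Subtype.ext hx0.symm⟩
          · refine ⟨some ⟨Units.mk0 x hx0, ?_⟩, rfl⟩
            have hx' : σ x = x := hx
            rw [hσ, ← Nat.sub_add_cancel hQ1, pow_succ] at hx'
            show (Units.mk0 x hx0) ^ (Q - 1) = 1
            ext1
            rw [Units.val_pow_eq_pow_val, Units.val_mk0, Units.val_one]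
            exact mul_right_cancel₀ hx0 (hx'.trans (one_mul x).symm)
      rw [← Nat.card_congr (Equiv.ofBijective f hf), Finite.card_option, hu, Nat.sub_add_cancel hQ1]
    rw [← (Subalgebra.equivMapOfInjective E K.val Subtype.val_injective).toLinearEquiv.finrank_eq]
    have h := Module.natCard_eq_pow_finrank (K := F) (V := E)
    rw [hcard, hQ, Nat.card_eq_fintype_card] at h
    exact (Nat.pow_right_injective Fintype.one_lt_card h).symm
  · intro g hg x
    rw [hmem, hmem, ← hg x, mat_conj_pow]
    refine and_congr_right fun _ => ⟨fun e => by rw [e], fun e => ?_⟩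
    exact g.isUnit.mul_left_cancel ((g⁻¹).isUnit.mul_right_cancel e)

/-- A field of matrices has a normalised subfield of each degree dividing its degree. -/
theorem exists_subfield_deg {D r : ℕ} {K : Subalgebra F (Matrix ι ι F)} (hK : IsFieldSubalgebra D K) (hD : 0 < D)
    (hr : r ∣ D) :
    ∃ K' : Subalgebra F (Matrix ι ι F), IsFieldSubalgebra r K' ∧ subalgebraNormalizer K ≤ subalgebraNormalizer K' := by
  obtain ⟨K', h1, h2, -⟩ := exists_subfield_mem hK hD hr
  exact ⟨K', h1, h2⟩

end Cfsg.Agent.Asch
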