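import Cfsg.Agent.Asch.Frame
import Cfsg.Agent.Asch.SubfieldDeg

/-!
Clifford theory for a normal subgroup: imprimitive, semilinear, tensor decomposable, or absolutely irreducible.
-/

set_option autoImplicit false
set_option linter.unusedSectionVars false

namespace Cfsg.Agent.Asch

open Matrix Cfsg.Geo Cfsg.Agent.PrimeDim
open scoped MatrixGroups Kronecker

variable {F : Type*} [Field F] [Finite F] {ι : Type} [Fintype ι] [DecidableEq ι]

/-- The group preserves a decomposition into subspaces of equal dimension. -/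
def Imprim (H : Subgroup (GL ι F)) : Prop :=
  ∃ (t m : ℕ) (D : Fin t → Submodule F (ι → F)), IsMDecomposition m D ∧ H ≤ decompositionStabilizer D

/-- The group normalises a field of matrices of prime degree. -/
def FieldNorm (H : Subgroup (GL ι F)) : Prop :=
  ∃ (r : ℕ) (K : Subalgebra F (Matrix ι ι F)), r.Prime ∧ IsFieldSubalgebra r K ∧ H ≤ subalgebraNormalizer K

/-- The group preserves a tensor decomposition into two factors. -/
def TensorTwo (H : Subgroup (GL ι F)) : Prop :=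
  ∃ (d k : ℕ) (e : ι ≃ Fin d × Fin k) (P : GL ι F), 2 ≤ d ∧ 2 ≤ k ∧ H ≤ tensorProductSubgroup d k e P

/-- A decomposition from a partition of a basis into fibres of equal size. -/
theorem decomp_of_fibres {κ C : Type} [Fintype κ] [Fintype C] [DecidableEq C] (b : Module.Basis κ F (ι → F))
    (cls : κ → C) {m t : ℕ} (hm : 0 < m) (ht : 2 ≤ t) (hfib : ∀ c, (Finset.univ.filter fun p => cls p = c).card = m)
    (eC : Fin t ≃ C) :
    IsMDecomposition m fun c => Submodule.span F (b '' {p | cls p = eC c}) := by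
  classical
  refine ⟨ht, hm, fun c => ?_, ?_, ?_⟩
  · rw [finrank_span_set_eq_card (b.linearIndependent.linearIndepOn _).id_image, Set.toFinset_image,
      Finset.card_image_of_injective _ b.injective, ← hfib (eC c)]
    congr 1
    ext p; simp
  · intro c
    refine Disjoint.mono_right ?_ (b.linearIndependent.disjoint_span_image
      (disjoint_compl_right (a := {p | cls p = eC c})))
    refine iSup₂_le fun c' hc' => Submodule.span_mono (Set.image_mono fun p hp => ?_)
    intro hp'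
    exact hc' (eC.injective (hp.symm.trans hp'))
  · rw [eq_top_iff, ← b.span_eq, Submodule.span_le]
    rintro _ ⟨p, rfl⟩
    refine Submodule.mem_iSup_of_mem (eC.symm (cls p)) (Submodule.subset_span ⟨p, ?_, rfl⟩)
    show cls p = eC (eC.symm (cls p))
    rw [Equiv.apply_symm_apply]

section

variable {d k : ℕ} {N H : Subgroup (GL (Fin d × Fin k) F)}
  {a : Fin k → GL (Fin d × Fin k) F → Matrix (Fin d) (Fin d) F}

theorem intertw (hb : IsBlockFrame N a) (hn : Normalised H N) {h : GL (Fin d × Fin k) F} (hh : h ∈ H) (j l : Fin k) :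
    ∀ g : N, a j (h * g.1 * h⁻¹) * blk (mat h) j l = blk (mat h) j l * a l g := by
  intro g
  have h1 : mat (h * g.1 * h⁻¹) * mat h = mat h * mat g.1 := by
    simp only [mat, ← Units.val_mul, inv_mul_cancel_right]
  rw [hb.block _ (hn h hh g.1 g.2), hb.block _ g.2] at h1
  rw [← blk_bd_mul (fun j => a j (h * g.1 * h⁻¹)), h1, blk_mul_bd]

theorem irr_twist (hb : IsBlockFrame N a) (hn : Normalised H N) {h : GL (Fin d × Fin k) F} (hh : h ∈ H) (j : Fin k) :
    IrrFam fun g : N => a j (h * g.1 * h⁻¹) := by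
  intro W hW
  refine hb.irr j W fun g w hw => ?_
  have h1 := hW ⟨h⁻¹ * g.1 * h, hn.conj' hh g.2⟩ w hw
  simp only at h1
  rwa [show h * (h⁻¹ * g.1 * h) * h⁻¹ = g.1 by group] at h1

theorem isUnit_blk (hb : IsBlockFrame N a) (hn : Normalised H N) {h : GL (Fin d × Fin k) F} (hh : h ∈ H) {j l : Fin k}
    (hne : blk (mat h) j l ≠ 0) : IsUnit (blk (mat h) j l) :=
  isUnit_of_schur (a := fun g : N => a l g) (b := fun g : N => a j (h * g.1 * h⁻¹)) (hb.irr l) (irr_twist hb hn hh j)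
    hne (intertw hb hn hh j l)

/-- Two non-zero blocks with equal sources have equal targets. -/
theorem target_eq (hb : IsBlockFrame N a) (hn : Normalised H N) {h : GL (Fin d × Fin k) F} (hh : h ∈ H)
    {j j' l l' : Fin k} (h1 : blk (mat h) j l ≠ 0) (h2 : blk (mat h) j' l' ≠ 0) (hl : ∀ g ∈ N, a l g = a l' g) :
    ∀ g ∈ N, a j g = a j' g := by
  obtain ⟨X, hX⟩ := isUnit_blk hb hn hh h1
  obtain ⟨Y, hY⟩ := isUnit_blk hb hn hh h2
  have hne : (X : Matrix (Fin d) (Fin d) F) * (↑Y⁻¹ : Matrix (Fin d) (Fin d) F) ≠ 0 := fun e => h1 (by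
    rw [← hX, ← mul_one (X : Matrix (Fin d) (Fin d) F), ← Units.inv_mul Y, ← mul_assoc, e, zero_mul])
  refine hb.reduced j j' _ hne fun g hg => ?_
  have hg' := hn.conj' hh hg
  have e1 := intertw hb hn hh j l ⟨_, hg'⟩
  have e2 := intertw hb hn hh j' l' ⟨_, hg'⟩
  simp only [show h * (h⁻¹ * g * h) * h⁻¹ = g by group, ← hX, ← hY] at e1 e2
  have e3 : a l' (h⁻¹ * g * h) * (↑Y⁻¹ : Matrix (Fin d) (Fin d) F) = (↑Y⁻¹ : Matrix (Fin d) (Fin d) F) * a j' g := by
    rw [Units.eq_inv_mul_iff_mul_eq, ← mul_assoc, ← e2, mul_assoc, Units.mul_inv, mul_one]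
  calc a j g * (↑X * ↑Y⁻¹) = ↑X * a l' (h⁻¹ * g * h) * ↑Y⁻¹ := by rw [← mul_assoc, e1, hl _ hg']
    _ = ↑X * ↑Y⁻¹ * a j' g := by rw [mul_assoc, e3, mul_assoc]

/-- Two non-zero blocks with equal targets have equal sources. -/
theorem source_eq (hb : IsBlockFrame N a) (hn : Normalised H N) {h : GL (Fin d × Fin k) F} (hh : h ∈ H)
    {j j' l l' : Fin k} (h1 : blk (mat h) j l ≠ 0) (h2 : blk (mat h) j' l' ≠ 0) (hj : ∀ g ∈ N, a j g = a j' g) :
    ∀ g ∈ N, a l g = a l' g := by
  obtain ⟨X, hX⟩ := isUnit_blk hb hn hh h1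
  obtain ⟨Y, hY⟩ := isUnit_blk hb hn hh h2
  have hne : (↑X⁻¹ : Matrix (Fin d) (Fin d) F) * Y ≠ 0 := fun e => h2 (by
    rw [← hY, ← one_mul (Y : Matrix (Fin d) (Fin d) F), ← Units.mul_inv X, mul_assoc, e, mul_zero])
  refine hb.reduced l l' _ hne fun g hg => ?_
  have e1 := intertw hb hn hh j l ⟨g, hg⟩
  have e2 := intertw hb hn hh j' l' ⟨g, hg⟩
  simp only [← hX, ← hY, hj _ (hn h hh g hg)] at e1 e2
  calc a l g * (↑X⁻¹ * ↑Y) = ↑X⁻¹ * (↑X * a l g) * ↑X⁻¹ * ↑Y := by
        rw [Units.inv_mul_cancel_left]; simp only [mul_assoc]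
    _ = ↑X⁻¹ * (a j' (h * g * h⁻¹) * ↑X) * ↑X⁻¹ * ↑Y := by rw [e1]
    _ = ↑X⁻¹ * (a j' (h * g * h⁻¹) * ↑Y) := by simp only [mul_assoc, Units.mul_inv_cancel_left]
    _ = ↑X⁻¹ * ↑Y * a l' g := by rw [e2, mul_assoc]

/-- The classes of equal blocks form a system of imprimitivity. -/
theorem imprim_classes (hd : 0 < d) (hk : 0 < k) (hb : IsBlockFrame N a) (hn : Normalised H N) (hH : Irr H) :
    (∃ (t m : ℕ) (cls : Fin k → Fin t), (∀ j l, cls j = cls l ↔ ∀ g ∈ N, a j g = a l g) ∧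
      IsMDecomposition m (fun c => Submodule.span F (Pi.basisFun F (Fin d × Fin k) '' {p | cls p.2 = c})) ∧
      H ≤ decompositionStabilizer
        (fun c => Submodule.span F (Pi.basisFun F (Fin d × Fin k) '' {p | cls p.2 = c}))) ∨
      ∀ j l, ∀ g ∈ N, a j g = a l g := by
  classical
  haveI : Nonempty (Fin d) := ⟨⟨0, hd⟩⟩
  by_cases hone : ∀ j l, ∀ g ∈ N, a j g = a l g
  · exact Or.inr hone
  left
  let st : Setoid (Fin k) := ⟨fun j l => ∀ g ∈ N, a j g = a l g, fun _ _ _ => rfl, fun h g hg => (h g hg).symm,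
    fun h h' g hg => (h g hg).trans (h' g hg)⟩
  let cls : Fin d × Fin k → Quotient st := fun p => Quotient.mk st p.2
  have hcls : ∀ {j l : Fin k}, Quotient.mk st j = Quotient.mk st l ↔ ∀ g ∈ N, a j g = a l g :=
    fun {j l} => Quotient.eq (r := st)
  have hcol : ∀ g : H, ∀ l, ∃ j, blk (mat g.1) j l ≠ 0 := fun g l => exists_blk_ne_zero (mat_inv_mul g.1) l
  choose tgt htgt using hcol
  let π : H → Quotient st → Quotient st := fun g => Quotient.lift (fun l => Quotient.mk st (tgt g l))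
    fun l l' hl => hcls.2 (target_eq hb hn g.2 (htgt g l) (htgt g l') hl)
  have hπinj : ∀ g, Function.Injective (π g) := by
    intro g c c' e
    induction c using Quotient.inductionOn with
    | h l =>
    induction c' using Quotient.inductionOn with
    | h l' => exact hcls.2 (source_eq hb hn g.2 (htgt g l) (htgt g l') (hcls.1 e))
  let D : Quotient st → Submodule F (Fin d × Fin k → F) := fun c =>
    Submodule.span F (Pi.basisFun F (Fin d × Fin k) '' {p | cls p = c})
  have hDmem : ∀ c x, x ∈ D c ↔ ∀ p, cls p ≠ c → x p = 0 := by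
    intro c x
    rw [Module.Basis.mem_span_image]
    simp only [Set.subset_def, Finset.mem_coe, Finsupp.mem_support_iff, Pi.basisFun_repr, Set.mem_setOf_eq]
    exact ⟨fun h p hp => by_contra fun h0 => hp (h p h0), fun h p hp => by_contra fun h0 => hp (h p h0)⟩
  have hmove : ∀ g : H, ∀ c, ∀ x ∈ D c, mat g.1 *ᵥ x ∈ D (π g c) := by
    intro g c x hx
    rw [hDmem] at hx ⊢
    rintro ⟨i, j⟩ hp
    refine Finset.sum_eq_zero fun ⟨i', l⟩ _ => ?_
    by_cases hl : cls (i', l) = c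
    · have h0 : blk (mat g.1) j l = 0 := by
        by_contra h0
        subst hl
        exact hp (hcls.2 (target_eq hb hn g.2 h0 (htgt g l) fun _ _ => rfl))
      show mat g.1 (i, j) (i', l) * x (i', l) = 0
      rw [show mat g.1 (i, j) (i', l) = 0 from congrFun (congrFun h0 i) i', zero_mul]
    · show mat g.1 (i, j) (i', l) * x (i', l) = 0
      rw [show x (i', l) = 0 from hx _ hl, mul_zero]
  let f : Quotient st → ℕ := fun c => (Finset.univ.filter fun p => cls p = c).card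
  have hrank : ∀ c, Module.finrank F (D c) = f c := by
    intro c
    rw [finrank_span_set_eq_card ((Pi.basisFun F _).linearIndependent.linearIndepOn _).id_image, Set.toFinset_image,
      Finset.card_image_of_injective _ (Pi.basisFun F _).injective]
    congr 1
    ext p; simp
  have hmap_le : ∀ g : H, ∀ c, (D c).map (Matrix.toLin' (mat g.1)) ≤ D (π g c) := by
    rintro g c _ ⟨x, hx, rfl⟩
    rw [Matrix.toLin'_apply]
    exact hmove g c x hx
  have hmap_rank : ∀ g : H, ∀ c, Module.finrank F ((D c).map (Matrix.toLin' (mat g.1))) = f c := fun g c => by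
    rw [← hrank]
    exact (Submodule.equivMapOfInjective _ (fun x y e => mulVec_injective g.1 (by simpa [Matrix.toLin'_apply] using e))
      _).symm.finrank_eq
  have hfπ : ∀ g c, f (π g c) = f c := by
    intro g
    have hle : ∀ c, f c ≤ f (π g c) := fun c => by
      rw [← hmap_rank g c, ← hrank (π g c)]; exact Submodule.finrank_mono (hmap_le g c)
    have hsum : ∑ c, f c = ∑ c, f (π g c) :=
      (Equiv.sum_comp (Equiv.ofBijective _ ((Finite.injective_iff_bijective).1 (hπinj g))) f).symm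
    exact fun c => ((Finset.sum_eq_sum_iff_of_le fun c _ => hle c).1 hsum c (Finset.mem_univ c)).symm
  obtain ⟨j₀⟩ : Nonempty (Fin k) := ⟨⟨0, hk⟩⟩
  have hf : ∀ c, f c = f (Quotient.mk st j₀) := by
    let W : Submodule F (Fin d × Fin k → F) := ⨆ c : {c // f c = f (Quotient.mk st j₀)}, D c.1
    have hW : Inv H W := by
      intro g hg x hx
      have : W ≤ W.comap (Matrix.toLin' (mat g)) := iSup_le fun c y hy => by
        rw [Submodule.mem_comap, Matrix.toLin'_apply]
        exact Submodule.mem_iSup_of_mem ⟨π ⟨g, hg⟩ c.1, (hfπ _ _).trans c.2⟩ (hmove ⟨g, hg⟩ c.1 y hy)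
      simpa [Matrix.toLin'_apply] using this hx
    intro c
    induction c using Quotient.inductionOn with
    | h l =>
    rcases hH W hW with e | e
    · exfalso
      have h1 : D (Quotient.mk st j₀) ≤ ⊥ :=
        e ▸ le_iSup (fun c : {c // f c = f (Quotient.mk st j₀)} => D c.1) ⟨_, rfl⟩
      have h2 := h1 (Submodule.subset_span ⟨(⟨0, hd⟩, j₀), rfl, rfl⟩)
      exact (Pi.basisFun F (Fin d × Fin k)).ne_zero _ ((Submodule.mem_bot F).1 h2)
    · by_contra hne
      have h1 : W ≤ Submodule.span F (Pi.basisFun F (Fin d × Fin k) '' {p | f (cls p) = f (Quotient.mk st j₀)}) :=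
        iSup_le fun c => Submodule.span_mono (Set.image_mono fun p (hp : cls p = c.1) => show _ = _ by rw [hp]; exact c.2)
      have h2 : Pi.basisFun F (Fin d × Fin k) (⟨0, hd⟩, l) ∈ W := e ▸ Submodule.mem_top
      have h3 := h1 h2
      rw [Module.Basis.mem_span_image] at h3
      refine hne (h3 (a := ((⟨0, hd⟩ : Fin d), l)) ?_)
      simp
  have ht : 2 ≤ Fintype.card (Quotient st) := by
    by_contra hlt
    haveI : Subsingleton (Quotient st) := Fintype.card_le_one_iff_subsingleton.1 (by omega)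
    exact hone fun j l => hcls.1 (Subsingleton.elim _ _)
  have hm : 0 < f (Quotient.mk st j₀) := Finset.card_pos.2 ⟨(⟨0, hd⟩, j₀), by simp [cls]⟩
  let eC := (Fintype.equivFin (Quotient st)).symm
  refine ⟨_, f (Quotient.mk st j₀), fun j => eC.symm (Quotient.mk st j),
    fun j l => eC.symm.injective.eq_iff.trans hcls, ?_⟩
  rw [show (fun c => Submodule.span F (Pi.basisFun F (Fin d × Fin k) '' {p | eC.symm (Quotient.mk st p.2) = c})) =
    fun c => Submodule.span F (Pi.basisFun F (Fin d × Fin k) '' {p | cls p = eC c}) from funext fun c => by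
      congr 2; ext p; exact Equiv.symm_apply_eq eC]
  refine ⟨decomp_of_fibres (Pi.basisFun F _) cls hm ht hf eC, fun g hg => ?_⟩
  refine ⟨(eC.trans (Equiv.ofBijective _ ((Finite.injective_iff_bijective).1 (hπinj ⟨g, hg⟩)))).trans eC.symm,
    fun c => ?_⟩
  show (D (eC c)).map (Matrix.toLin' (mat g)) = D (eC (eC.symm (π ⟨g, hg⟩ (eC c))))
  rw [Equiv.apply_symm_apply]
  exact Submodule.eq_of_le_of_finrank_eq (hmap_le ⟨g, hg⟩ (eC c)) (by rw [hmap_rank ⟨g, hg⟩, hrank, hfπ])

/-- More than one class gives a system of imprimitivity. -/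
theorem imprim_or_isotypic (hd : 0 < d) (hk : 0 < k) (hb : IsBlockFrame N a) (hn : Normalised H N) (hH : Irr H) :
    Imprim H ∨ ∀ j l, ∀ g ∈ N, a j g = a l g :=
  (imprim_classes hd hk hb hn hH).imp_left fun ⟨t, m, _, _, hD, hle⟩ => ⟨t, m, _, hD, hle⟩

/-- The scalar matrices of blocks. -/
def diagHom (d k : ℕ) : Matrix (Fin d) (Fin d) F →ₐ[F] Matrix (Fin d × Fin k) (Fin d × Fin k) F where
  toFun ε := blockDiagonal fun _ => ε
  map_one' := blockDiagonal_one
  map_mul' x y := blockDiagonal_mul _ _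
  map_zero' := blockDiagonal_zero
  map_add' x y := blockDiagonal_add _ _
  commutes' c := by
    rw [Algebra.algebraMap_eq_smul_one, Algebra.algebraMap_eq_smul_one,
      show (fun _ : Fin k => c • (1 : Matrix (Fin d) (Fin d) F)) = c • (1 : Fin k → Matrix (Fin d) (Fin d) F) from rfl,
      blockDiagonal_smul, blockDiagonal_one]

theorem diagHom_apply (ε : Matrix (Fin d) (Fin d) F) : diagHom d k ε = blockDiagonal fun _ => ε := rfl

theorem blk_ne_exists (hd : 0 < d) (hk : 0 < k) {X : GL (Fin d × Fin k) F} : ∃ j l, blk (mat X) j l ≠ 0 := by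
  haveI : Nonempty (Fin d) := ⟨⟨0, hd⟩⟩
  obtain ⟨j, hj⟩ := exists_blk_ne_zero (mat_inv_mul X) ⟨0, hk⟩
  exact ⟨j, _, hj⟩

/-- One class: a normalised field, or scalar commutant of the block. -/
theorem field_or_scalar (hd : 0 < d) (hk : 0 < k) (hb : IsBlockFrame N a) (hn : Normalised H N) (j₀ : Fin k)
    (hone : ∀ j, ∀ g ∈ N, a j g = a j₀ g) :
    FieldNorm H ∨ ∀ ε : Matrix (Fin d) (Fin d) F, (∀ g ∈ N, ε * a j₀ g = a j₀ g * ε) →
      ∃ c : F, ε = c • (1 : Matrix (Fin d) (Fin d) F) := by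
  classical
  haveI : Nonempty (Fin d) := ⟨⟨0, hd⟩⟩
  haveI : Nonempty (Fin k) := ⟨⟨0, hk⟩⟩
  let C : Subalgebra F (Matrix (Fin d) (Fin d) F) :=
    { carrier := {A | ∀ g ∈ N, A * a j₀ g = a j₀ g * A}
      mul_mem' := fun {A B} hA hB g hg => by rw [mul_assoc, hB g hg, ← mul_assoc, hA g hg, mul_assoc]
      add_mem' := fun {A B} hA hB g hg => by rw [add_mul, mul_add, hA g hg, hB g hg]
      algebraMap_mem' := fun c g _ => Algebra.commutes c (a j₀ g) }
  have hunit : ∀ A ∈ C, A ≠ 0 → IsUnit A := fun A hA h0 =>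
    isUnit_of_schur (hb.irr j₀) (hb.irr j₀) h0 fun g => (hA g.1 g.2).symm
  haveI : NoZeroDivisors C := ⟨fun {A B} hAB => by
    by_cases hA : (A : Matrix (Fin d) (Fin d) F) = 0
    · exact Or.inl (Subtype.ext hA)
    · refine Or.inr (Subtype.ext ((hunit _ A.2 hA).mul_left_cancel ?_))
      rw [ZeroMemClass.coe_zero, mul_zero]
      exact congrArg Subtype.val hAB⟩
  haveI : IsDomain C := NoZeroDivisors.to_isDomain C
  haveI : Finite C := Subtype.finite
  have hfield : IsField C := Finite.isDomain_to_isField C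
  by_cases hone' : Module.finrank F C = 1
  · refine Or.inr fun ε hε => ?_
    obtain ⟨c, hc⟩ := (finrank_eq_one_iff_of_nonzero' (1 : C) one_ne_zero).1 hone' ⟨ε, hε⟩
    exact ⟨c, (congrArg Subtype.val hc).symm⟩
  left
  have hinj : Function.Injective (diagHom (F := F) d k) := fun x y h =>
    congrFun (blockDiagonal_injective (by exact h : blockDiagonal (fun _ : Fin k => x) = blockDiagonal fun _ => y)) (⟨0, hk⟩ : Fin k)
  let K := C.map (diagHom d k)
  have hK : IsFieldSubalgebra (Module.finrank F C) K := by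
    refine ⟨?_, ?_, ((Subalgebra.equivMapOfInjective C _ hinj).toLinearEquiv.finrank_eq).symm⟩
    · rintro _ ⟨x, hx, rfl⟩ _ ⟨y, hy, rfl⟩
      exact (map_mul _ _ _).symm.trans ((congrArg _ (congrArg Subtype.val (hfield.mul_comm ⟨x, hx⟩ ⟨y, hy⟩))).trans (map_mul _ _ _))
    · rintro _ ⟨x, hx, rfl⟩ h0
      obtain ⟨y, hy⟩ := hfield.mul_inv_cancel (a := (⟨x, hx⟩ : C)) fun e => h0 (by
        rw [show x = 0 from congrArg Subtype.val e]; exact map_zero _)
      exact ⟨_, ⟨y, y.2, rfl⟩, (map_mul _ _ _).symm.trans ((congrArg _ (congrArg Subtype.val hy)).trans (map_one _))⟩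
  have hle : ∀ h ∈ H, ∀ x ∈ K, mat h * x * mat h⁻¹ ∈ K := by
    rintro h hh _ ⟨ε, hε, rfl⟩
    obtain ⟨j₁, l₁, hne⟩ := blk_ne_exists hd hk (X := h)
    obtain ⟨α, hα⟩ := isUnit_blk hb hn hh hne
    have hαg : ∀ g ∈ N, a j₀ (h * g * h⁻¹) * (α : Matrix (Fin d) (Fin d) F) = (α : Matrix (Fin d) (Fin d) F) * a j₀ g := fun g hg => by
      rw [hα, ← hone j₁ _ (hn h hh g hg), ← hone l₁ g hg]
      exact intertw hb hn hh j₁ l₁ ⟨g, hg⟩
    have hblk : ∀ j l, (↑α⁻¹ : Matrix (Fin d) (Fin d) F) * blk (mat h) j l ∈ C := by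
      intro j l g hg
      have e1 := intertw hb hn hh j l ⟨g, hg⟩
      rw [hone l g hg, hone j _ (hn h hh g hg)] at e1
      have e2 : a j₀ g * (↑α⁻¹ : Matrix (Fin d) (Fin d) F) = (↑α⁻¹ : Matrix (Fin d) (Fin d) F) * a j₀ (h * g * h⁻¹) := by
        rw [Units.eq_inv_mul_iff_mul_eq, ← mul_assoc, ← hαg g hg, mul_assoc, Units.mul_inv, mul_one]
      rw [← mul_assoc (a j₀ g), e2, mul_assoc, mul_assoc, e1]
    refine ⟨(α : Matrix (Fin d) (Fin d) F) * ε * (↑α⁻¹ : Matrix (Fin d) (Fin d) F), fun g hg => ?_, ?_⟩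
    · have h1 := hαg _ (hn.conj' hh hg)
      simp only [show h * (h⁻¹ * g * h) * h⁻¹ = g by group] at h1
      calc (α : Matrix (Fin d) (Fin d) F) * ε * (↑α⁻¹ : Matrix (Fin d) (Fin d) F) * a j₀ g = (α : Matrix (Fin d) (Fin d) F) * ε * ((↑α⁻¹ : Matrix (Fin d) (Fin d) F) * (a j₀ g * (α : Matrix (Fin d) (Fin d) F))) * (↑α⁻¹ : Matrix (Fin d) (Fin d) F) := by
            simp only [mul_assoc, Units.mul_inv, mul_one]
        _ = (α : Matrix (Fin d) (Fin d) F) * (ε * a j₀ (h⁻¹ * g * h)) * (↑α⁻¹ : Matrix (Fin d) (Fin d) F) := by rw [h1, Units.inv_mul_cancel_left]; simp only [mul_assoc]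
        _ = a j₀ g * ((α : Matrix (Fin d) (Fin d) F) * ε * (↑α⁻¹ : Matrix (Fin d) (Fin d) F)) := by
            rw [hε _ (hn.conj' hh hg)]; simp only [← mul_assoc, h1]
    · have key : mat h * diagHom d k ε = diagHom d k ((α : Matrix (Fin d) (Fin d) F) * ε * (↑α⁻¹ : Matrix (Fin d) (Fin d) F)) * mat h := by
        refine blk_ext fun j l => ?_
        rw [diagHom_apply, diagHom_apply, blk_mul_bd, blk_bd_mul]
        have h2 : blk (mat h) j l = (α : Matrix (Fin d) (Fin d) F) * ((↑α⁻¹ : Matrix (Fin d) (Fin d) F) * blk (mat h) j l) := (Units.mul_inv_cancel_left _ _).symm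
        have h3 := congrArg Subtype.val (hfield.mul_comm ⟨_, hblk j l⟩ (⟨ε, hε⟩ : C))
        simp only [MulMemClass.coe_mul] at h3
        conv_lhs => rw [h2, mul_assoc, h3]
        simp only [mul_assoc]
      show diagHom d k ((α : Matrix (Fin d) (Fin d) F) * ε * (↑α⁻¹ : Matrix (Fin d) (Fin d) F)) = mat h * diagHom d k ε * mat h⁻¹
      rw [key, mul_assoc _ (mat h) (mat h⁻¹), mat_mul_inv, mul_one]
  have hnorm : H ≤ subalgebraNormalizer K := fun h hh x => ⟨fun hx => hle h hh x hx, fun hx => by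
    have h1 := hle h⁻¹ (inv_mem hh) _ hx
    rw [inv_inv] at h1
    rw [show mat h⁻¹ * (mat h * x * mat h⁻¹) * mat h = x by
      simp only [mul_assoc, mat_inv_mul, mul_one]; rw [← mul_assoc, mat_inv_mul, one_mul]] at h1
    exact h1⟩
  have hpos : 0 < Module.finrank F C := Module.finrank_pos
  obtain ⟨K', hK', hle'⟩ := exists_subfield_deg hK hpos (Nat.minFac_dvd _)
  exact ⟨_, K', Nat.minFac_prime hone', hK', hnorm.trans hle'⟩

/-- With scalar commutant the group is a group of Kronecker products. -/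
theorem kron_of_scalar (hd : 0 < d) (hk : 0 < k) (hb : IsBlockFrame N a) (hn : Normalised H N) (j₀ : Fin k)
    (hone : ∀ j, ∀ g ∈ N, a j g = a j₀ g)
    (hsc : ∀ ε : Matrix (Fin d) (Fin d) F, (∀ g ∈ N, ε * a j₀ g = a j₀ g * ε) →
      ∃ c : F, ε = c • (1 : Matrix (Fin d) (Fin d) F)) : H ≤ kroneckerSubgroup d k F := by
  intro h hh
  obtain ⟨j₁, l₁, hne⟩ := blk_ne_exists hd hk (X := h)
  obtain ⟨α, hα⟩ := isUnit_blk hb hn hh hne
  have hαg : ∀ g ∈ N, a j₀ (h * g * h⁻¹) * (α : Matrix (Fin d) (Fin d) F) = (α : Matrix (Fin d) (Fin d) F) * a j₀ g := fun g hg => by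
    rw [hα, ← hone j₁ _ (hn h hh g hg), ← hone l₁ g hg]
    exact intertw hb hn hh j₁ l₁ ⟨g, hg⟩
  have hblk : ∀ j l, ∃ c : F, blk (mat h) j l = c • (α : Matrix (Fin d) (Fin d) F) := by
    intro j l
    obtain ⟨c, hc⟩ := hsc ((↑α⁻¹ : Matrix (Fin d) (Fin d) F) * blk (mat h) j l) fun g hg => by
      have e1 := intertw hb hn hh j l ⟨g, hg⟩
      rw [hone l g hg, hone j _ (hn h hh g hg)] at e1
      have e2 : a j₀ g * (↑α⁻¹ : Matrix (Fin d) (Fin d) F) = (↑α⁻¹ : Matrix (Fin d) (Fin d) F) * a j₀ (h * g * h⁻¹) := by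
        rw [Units.eq_inv_mul_iff_mul_eq, ← mul_assoc, ← hαg g hg, mul_assoc, Units.mul_inv, mul_one]
      rw [← mul_assoc (a j₀ g), e2, mul_assoc, mul_assoc, e1]
    exact ⟨c, by rw [← Units.mul_inv_cancel_left α (blk (mat h) j l), hc, Matrix.mul_smul, mul_one]⟩
  choose B hB using hblk
  have hmat : mat h = (α : Matrix (Fin d) (Fin d) F) ⊗ₖ Matrix.of B := by
    ext ⟨i, j⟩ ⟨i', l⟩
    rw [← blk_apply (mat h) j l, hB j l, Matrix.smul_apply, smul_eq_mul, Matrix.kronecker_apply, Matrix.of_apply,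
      mul_comm]
  have hdet : (Matrix.of B).det ≠ 0 := by
    intro e
    have h1 := (Matrix.isUnit_iff_isUnit_det _).1 h.isUnit
    rw [show (h : Matrix (Fin d × Fin k) (Fin d × Fin k) F) = (α : Matrix (Fin d) (Fin d) F) ⊗ₖ Matrix.of B from hmat, Matrix.det_kronecker, e, zero_pow (by simp; omega), mul_zero] at h1
    exact not_isUnit_zero h1
  exact ⟨α, Matrix.GeneralLinearGroup.mkOfDetNeZero _ hdet, hmat⟩

/-- One copy: absolute irreducibility. -/
theorem abs_of_scalar {a : Fin 1 → GL (Fin d × Fin 1) F → Matrix (Fin d) (Fin d) F}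
    {N : Subgroup (GL (Fin d × Fin 1) F)} (hb : IsBlockFrame N a)
    (hsc : ∀ ε : Matrix (Fin d) (Fin d) F, (∀ g ∈ N, ε * a 0 g = a 0 g * ε) →
      ∃ c : F, ε = c • (1 : Matrix (Fin d) (Fin d) F)) : ActsAbsolutelyIrreducibly (matrixSet N) := by
  refine abs_iff.2 ⟨fun W hW => ?_, fun A hA => ?_⟩
  · let L : (Fin d → F) ≃ₗ[F] (Fin d × Fin 1 → F) := LinearEquiv.funCongrLeft F F (Equiv.prodUnique (Fin d) (Fin 1))
    have hL : ∀ g ∈ N, ∀ x, mat g *ᵥ L x = L (a 0 g *ᵥ x) := by
      intro g hg x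
      rw [hb.block g hg]
      funext ⟨i, j⟩
      obtain rfl : j = 0 := Subsingleton.elim _ _
      simp [L, Matrix.mulVec, dotProduct, Fintype.sum_prod_type, blockDiagonal_apply', LinearEquiv.funCongrLeft_apply,
        LinearMap.funLeft_apply]
    rcases hb.irr 0 (W.comap L.toLinearMap) (fun g w hw => by
      rw [Submodule.mem_comap, LinearEquiv.coe_coe, ← hL g.1 g.2]
      exact hW _ g.2 _ hw) with h | h
    · refine Or.inl ?_
      rw [← Submodule.map_comap_eq_of_surjective L.surjective W, h, Submodule.map_bot]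
    · refine Or.inr ?_
      rw [← Submodule.map_comap_eq_of_surjective L.surjective W, h, Submodule.map_top,
        LinearMap.range_eq_top.2 L.surjective]
  · obtain ⟨c, hc⟩ := hsc (blk A 0 0) fun g hg => by
      have h1 := congrArg (fun X => blk X 0 0) (hA g hg)
      rw [hb.block g hg] at h1
      simpa only [blk_mul_bd, blk_bd_mul] using h1
    refine ⟨c, blk_ext fun j l => ?_⟩
    obtain rfl : j = 0 := Subsingleton.elim _ _
    obtain rfl : l = 0 := Subsingleton.elim _ _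
    rw [hc]
    ext i i'
    simp [blk, Matrix.one_apply]

end

/-- The Clifford alternatives. -/
theorem clifford [Nonempty ι] {H N : Subgroup (GL ι F)} (hH : Irr H) (hn : Normalised H N) (hns : ¬ N ≤ scalars ι F) :
    Imprim H ∨ FieldNorm H ∨ TensorTwo H ∨ ActsAbsolutelyIrreducibly (matrixSet N) := by
  obtain ⟨d, k, e, P, a, hd, hk, hb⟩ := exists_frame hH hn
  have hn' := normalised_comap e P hn
  rcases imprim_or_isotypic hd hk hb hn' (irr_comap e P hH) with ⟨t, m, D, hD, hle⟩ | hiso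
  · refine Or.inl ⟨t, m, fun c => (D c).map (frL e P).toLinearMap, ⟨hD.two_le, hD.pos, fun c => ?_, ?_, ?_⟩, fun g hg => ?_⟩
    · rw [LinearEquiv.finrank_map_eq]; exact hD.finrank_eq c
    · exact hD.indep.map_orderIso (Submodule.orderIsoMapComap (frL e P))
    · rw [← Submodule.map_iSup, hD.iSup_eq_top, Submodule.map_top, LinearMap.range_eq_top.2 (frL e P).surjective]
    · obtain ⟨g', rfl⟩ := (fr e P).surjective g
      obtain ⟨σ, hσ⟩ := hle (show g' ∈ H.comap (fr e P).toMonoidHom from hg)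
      refine ⟨σ, fun c => ?_⟩
      show ((D c).map (frL e P).toLinearMap).map (Matrix.toLin' (mat (fr e P g'))) = (D (σ c)).map (frL e P).toLinearMap
      rw [← hσ c, ← Submodule.map_comp, ← Submodule.map_comp]
      congr 1
      exact LinearMap.ext fun x => fr_mulVec e P g' x
  have j₀ : Fin k := ⟨0, hk⟩
  rcases field_or_scalar hd hk hb hn' j₀ (fun j g hg => hiso j j₀ g hg) with ⟨r, K, hr, hK, hle⟩ | hsc
  · refine Or.inr (Or.inl ⟨r, K.map (frM e P).toAlgHom, hr, ⟨?_, ?_, ?_⟩, fun g hg => ?_⟩)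
    · rintro _ ⟨x, hx, rfl⟩ _ ⟨y, hy, rfl⟩
      rw [← map_mul, ← map_mul, hK.comm x hx y hy]
    · rintro _ ⟨x, hx, rfl⟩ h0
      obtain ⟨y, hy, hxy⟩ := hK.inv x hx fun e' => h0 (by rw [e']; exact map_zero _)
      exact ⟨_, ⟨y, hy, rfl⟩, by rw [← map_mul, hxy, map_one]⟩
    · exact ((Subalgebra.equivMapOfInjective K _ (frM e P).injective).toLinearEquiv.finrank_eq).symm.trans hK.finrank_eq
    · obtain ⟨g', rfl⟩ := (fr e P).surjective g
      intro x
      obtain ⟨x', rfl⟩ := (frM e P).surjective x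
      have h1 := hle (show g' ∈ H.comap (fr e P).toMonoidHom from hg) x'
      rw [← map_inv]
      show _ ↔ mat (fr e P g') * frM e P x' * mat (fr e P g'⁻¹) ∈ _
      rw [← frM_mat, ← frM_mat, ← map_mul, ← map_mul]
      exact ((Subalgebra.mem_map).trans ⟨fun ⟨z, hz, hz'⟩ => (frM e P).injective hz' ▸ hz, fun h => ⟨_, h, rfl⟩⟩).trans
        (h1.trans ((Subalgebra.mem_map).trans ⟨fun ⟨z, hz, hz'⟩ => (frM e P).injective hz' ▸ hz, fun h => ⟨_, h, rfl⟩⟩).symm)
  refine Or.inr (Or.inr ?_)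
  rcases (show k = 1 ∨ 2 ≤ k by omega) with rfl | hk2
  · refine Or.inr (abs_of_comap e P (abs_of_scalar hb fun ε hε => hsc ε fun g hg => ?_))
    rw [show j₀ = 0 from Subsingleton.elim _ _]
    exact hε g hg
  rcases (show d = 1 ∨ 2 ≤ d by omega) with rfl | hd2
  · refine absurd ((comap_scalars e P).1 fun g hg => ?_) hns
    haveI : Nonempty (Fin 1 × Fin k) := ⟨(0, j₀)⟩
    refine mem_scalars_of_smul (c := a j₀ g 0 0) ?_
    rw [hb.block g hg]
    ext ⟨i, j⟩ ⟨i', l⟩
    obtain rfl : i = 0 := Subsingleton.elim _ _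
    obtain rfl : i' = 0 := Subsingleton.elim _ _
    simp [blockDiagonal_apply', Matrix.one_apply, hiso j j₀ g hg]
  exact Or.inl ⟨d, k, e, P, hd2, hk2, (le_map_of_comap_le e P (kron_of_scalar hd hk hb hn' j₀
    (fun j g hg => hiso j j₀ g hg) hsc)).trans (map_fr_eq_tensor e P).le⟩

end Cfsg.Agent.Asch
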