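import Cfsg.Agent.Asch.Clifford

/-!
Pairwise commuting groups that together act absolutely irreducibly give a tensor frame: a basis indexed by tuples in
which each of the groups acts on its own coordinate only.
-/

set_option autoImplicit false
set_option linter.unusedSectionVars false

namespace Cfsg.Agent.Asch

open Matrix Cfsg.Geo Cfsg.Agent.PrimeDim
open scoped MatrixGroups

variable {F : Type*} [Field F] {k : ℕ}

/-- The action on one coordinate of the tuples. -/
def slot {d : Fin k → ℕ} (i : Fin k) (A : Matrix (Fin (d i)) (Fin (d i)) F) :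
    Matrix ((j : Fin k) → Fin (d j)) ((j : Fin k) → Fin (d j)) F :=
  Matrix.of fun x y => if ∀ j, j ≠ i → x j = y j then A (x i) (y i) else 0

theorem mul_slot {d : Fin k → ℕ} (i : Fin k) (A : Matrix (Fin (d i)) (Fin (d i)) F)
    (M : Matrix ((j : Fin k) → Fin (d j)) ((j : Fin k) → Fin (d j)) F) (x y : (j : Fin k) → Fin (d j)) :
    (M * slot i A) x y = ∑ a, M x (Function.update y i a) * A a (y i) := by
  classical
  rw [Matrix.mul_apply]
  refine (Fintype.sum_of_injective (Function.update y i) (Function.update_injective y i) _ _ (fun z hz => ?_)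
    fun a => ?_).symm
  · simp only [slot, Matrix.of_apply]
    rw [if_neg fun h => hz ⟨z i, funext fun j => ?_⟩, mul_zero]
    rcases eq_or_ne j i with rfl | hj
    · exact Function.update_self ..
    · rw [Function.update_of_ne hj, h j hj]
  · simp only [slot, Matrix.of_apply]
    rw [if_pos fun j hj => Function.update_of_ne hj .., Function.update_self]

theorem slot_mul {d : Fin k → ℕ} (i : Fin k) (A : Matrix (Fin (d i)) (Fin (d i)) F)
    (M : Matrix ((j : Fin k) → Fin (d j)) ((j : Fin k) → Fin (d j)) F) (x y : (j : Fin k) → Fin (d j)) :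
    (slot i A * M) x y = ∑ b, A (x i) b * M (Function.update x i b) y := by
  classical
  rw [Matrix.mul_apply]
  refine (Fintype.sum_of_injective (Function.update x i) (Function.update_injective x i) _ _ (fun z hz => ?_)
    fun a => ?_).symm
  · simp only [slot, Matrix.of_apply]
    rw [if_neg fun h => hz ⟨z i, funext fun j => ?_⟩, zero_mul]
    rcases eq_or_ne j i with rfl | hj
    · exact Function.update_self ..
    · rw [Function.update_of_ne hj, h j hj]
  · simp only [slot, Matrix.of_apply]
    rw [if_pos fun j hj => (Function.update_of_ne hj ..).symm, Function.update_self]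

variable [Finite F] {ι : Type} [Fintype ι] [DecidableEq ι]

/-- The matrices of a group that commute with a given matrix. -/
def commG (A : Matrix ι ι F) : Subgroup (GL ι F) where
  carrier := {g | Commute A (mat g)}
  mul_mem' := fun {a b} ha hb => Commute.mul_right ha hb
  one_mem' := Commute.one_right A
  inv_mem' := fun {a} ha => Commute.units_inv_right ha

theorem frM_mulVec {κ : Type} [Fintype κ] [DecidableEq κ] (e : ι ≃ κ) (P : GL ι F) (X : Matrix κ κ F) (x : κ → F) :
    frM e P X *ᵥ frL e P x = frL e P (X *ᵥ x) := by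
  show (mat P * X.submatrix e e * mat P⁻¹) *ᵥ (mat P *ᵥ (x ∘ e)) = mat P *ᵥ ((X *ᵥ x) ∘ e)
  rw [Matrix.mulVec_mulVec, mul_assoc _ (mat P⁻¹), mat_inv_mul, mul_one, ← Matrix.mulVec_mulVec,
    Matrix.submatrix_mulVec_equiv, Function.comp_assoc, Equiv.self_comp_symm, Function.comp_id]

set_option maxHeartbeats 1000000 in
/-- A group whose centraliser completes it to an absolutely irreducible group: a matrix algebra containing it. -/
theorem exists_phi [Nonempty ι] {Pg N : Subgroup (GL ι F)} (hP : ActsAbsolutelyIrreducibly (matrixSet Pg))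
    (hn : Normalised Pg N) (hgen : Pg ≤ N ⊔ Subgroup.centralizer (N : Set (GL ι F))) :
    ∃ (d : ℕ) (φ : Matrix (Fin d) (Fin d) F →ₐ[F] Matrix ι ι F) (X : N → Matrix (Fin d) (Fin d) F), 0 < d ∧
      Function.Injective φ ∧ (∀ A : Matrix ι ι F, (∀ x ∈ N, Commute A (mat x)) → ∀ Y, Commute A (φ Y)) ∧
      (∀ x : N, φ (X x) = mat x.1) ∧ IrrFam X := by
  classical
  obtain ⟨d, k, e, P, a, hd, hk, hb⟩ := exists_frame (abs_iff.1 hP).1 hn
  haveI : Nonempty (Fin d) := ⟨⟨0, hd⟩⟩
  haveI : Nonempty (Fin k) := ⟨⟨0, hk⟩⟩
  let j₀ : Fin k := ⟨0, hk⟩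
  set N' := N.comap (fr e P).toMonoidHom with hN'
  -- the scalar test
  have htest : ∀ E : Matrix (Fin d × Fin k) (Fin d × Fin k) F, (∀ g ∈ N', Commute E (mat g)) →
      (∀ g : GL (Fin d × Fin k) F, (∀ x ∈ N', g * x = x * g) → Commute E (mat g)) → ∃ c : F, E = c • 1 := by
    intro E h1 h2
    have h3 : Pg ≤ commG (frM e P E) := by
      refine hgen.trans (sup_le (fun g hg => ?_) fun g hg => ?_)
      all_goals obtain ⟨g', rfl⟩ := (fr e P).surjective g
      all_goals show frM e P E * mat (fr e P g') = mat (fr e P g') * frM e P E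
      all_goals rw [← frM_mat, ← map_mul, ← map_mul]
      · exact congrArg _ (h1 g' hg)
      · refine congrArg _ (h2 g' fun x hx => (fr e P).injective ?_)
        rw [map_mul, map_mul]
        exact ((Subgroup.mem_centralizer_iff.1 hg) _ hx).symm
    obtain ⟨c, hc⟩ := (abs_iff.1 hP).2 (frM e P E) fun g hg => (h3 hg : Commute _ _)
    exact ⟨c, (frM e P).injective (by rw [hc, map_smul, map_one])⟩
  have hint : ∀ (A : Matrix (Fin d × Fin k) (Fin d × Fin k) F), (∀ g ∈ N', Commute A (mat g)) →
      ∀ (j l : Fin k), ∀ g ∈ N', blk A j l * a l g = a j g * blk A j l := by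
    intro A hA j l g hg
    have h1 := congrArg (fun Y => blk Y j l) (hA g hg)
    rw [hb.block g hg] at h1
    simpa only [blk_mul_bd, blk_bd_mul] using h1
  -- one class
  have hone : ∀ j, ∀ g ∈ N', a j g = a j₀ g := by
    let c : Fin k → F := fun j => if ∀ g ∈ N', a j g = a j₀ g then 1 else 0
    obtain ⟨t, ht⟩ := htest (blockDiagonal fun j => c j • (1 : Matrix (Fin d) (Fin d) F)) (fun g hg => by
        rw [hb.block g hg]
        show _ * _ = _ * _
        rw [← blockDiagonal_mul, ← blockDiagonal_mul]
        simp) fun g hg => by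
        refine blk_ext fun j l => ?_
        rw [blk_bd_mul, blk_mul_bd, Matrix.smul_mul, Matrix.mul_smul, one_mul, mul_one]
        by_cases h0 : blk (mat g) j l = 0
        · rw [h0, smul_zero, smul_zero]
        have he : ∀ x ∈ N', a j x = a l x := hb.reduced j l _ h0 fun x hx =>
          (hint (mat g) (fun y hy => congrArg mat (hg y hy)) j l x hx).symm
        congr 1
        simp only [c]
        exact if_congr (forall₂_congr fun x hx => by rw [he x hx]) rfl rfl
    intro j
    by_contra hj
    have hv : ∀ l, c l • (1 : Matrix (Fin d) (Fin d) F) = t • 1 := fun l => by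
      have h1 := congrArg (fun Y => blk Y l l) ht
      simp only [blk_bd, if_true] at h1
      rw [h1]
      ext i i'
      simp [blk, Matrix.one_apply]
    have hc0 : c j₀ = 1 := if_pos fun _ _ => rfl
    have hcj : c j = 0 := if_neg hj
    have h1 := (hv j₀).trans (hv j).symm
    rw [hc0, hcj, zero_smul, one_smul] at h1
    exact one_ne_zero h1
  -- scalar commutant
  let C : Subalgebra F (Matrix (Fin d) (Fin d) F) :=
    { carrier := {A | ∀ g ∈ N', A * a j₀ g = a j₀ g * A}
      mul_mem' := fun {A B} hA hB g hg => by rw [mul_assoc, hB g hg, ← mul_assoc, hA g hg, mul_assoc]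
      add_mem' := fun {A B} hA hB g hg => by rw [add_mul, mul_add, hA g hg, hB g hg]
      algebraMap_mem' := fun c g _ => Algebra.commutes c (a j₀ g) }
  haveI : NoZeroDivisors C := ⟨fun {A B} hAB => by
    by_cases hA : (A : Matrix (Fin d) (Fin d) F) = 0
    · exact Or.inl (Subtype.ext hA)
    · refine Or.inr (Subtype.ext ((isUnit_of_schur (hb.irr j₀) (hb.irr j₀) hA fun g => (A.2 g.1 g.2).symm).mul_left_cancel ?_))
      rw [ZeroMemClass.coe_zero, mul_zero]
      exact congrArg Subtype.val hAB⟩
  haveI : IsDomain C := NoZeroDivisors.to_isDomain C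
  haveI : Finite C := Subtype.finite
  have hfield : IsField C := Finite.isDomain_to_isField C
  have hblkC : ∀ A, (∀ g ∈ N', Commute A (mat g)) → ∀ j l, blk A j l ∈ C := by
    intro A hA j l g hg
    have h1 := hint A hA j l g hg
    rwa [hone j g hg, hone l g hg] at h1
  have hscal : ∀ ε ∈ C, ∃ c : F, ε = c • (1 : Matrix (Fin d) (Fin d) F) := by
    intro ε hε
    obtain ⟨t, ht⟩ := htest (diagHom d k ε) (fun g hg => by
        show _ * _ = _ * _
        rw [diagHom_apply, hb.block g hg, ← blockDiagonal_mul, ← blockDiagonal_mul]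
        exact congrArg _ (funext fun j => by rw [hone j g hg]; exact hε g hg)) fun g hg => by
        refine blk_ext fun j l => ?_
        rw [diagHom_apply, blk_bd_mul, blk_mul_bd]
        exact congrArg Subtype.val (hfield.mul_comm (⟨ε, hε⟩ : C)
          ⟨_, hblkC (mat g) (fun y hy => congrArg mat (hg y hy)) j l⟩)
    refine ⟨t, ?_⟩
    have h1 := congrArg (fun Y => blk Y j₀ j₀) ht
    simp only [diagHom_apply, blk_bd, if_true] at h1
    rw [h1]
    ext i i'
    simp [blk, Matrix.one_apply]
  let φ : Matrix (Fin d) (Fin d) F →ₐ[F] Matrix ι ι F := (frM e P).toAlgHom.comp (diagHom d k)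
  let X : N → Matrix (Fin d) (Fin d) F := fun x => a j₀ ((fr e P).symm x.1)
  have hinj : Function.Injective φ := by
    intro y z h
    have h1 : diagHom d k y = diagHom d k z := (frM e P).injective h
    rw [diagHom_apply, diagHom_apply] at h1
    exact congrFun (blockDiagonal_injective h1) j₀
  refine ⟨d, φ, X, hd, hinj, ?_, ?_, ?_⟩
  · intro A hA Y
    obtain ⟨A', rfl⟩ := (frM e P).surjective A
    have hA' : ∀ g ∈ N', Commute A' (mat g) := fun g hg => (frM e P).injective (by
      rw [map_mul, map_mul, frM_mat]; exact hA _ hg)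
    show frM e P A' * frM e P (diagHom d k Y) = frM e P (diagHom d k Y) * frM e P A'
    rw [← map_mul, ← map_mul]
    refine congrArg _ (blk_ext fun j l => ?_)
    obtain ⟨c, hc⟩ := hscal _ (hblkC A' hA' j l)
    rw [diagHom_apply, blk_bd_mul, blk_mul_bd, hc, Matrix.smul_mul, Matrix.mul_smul, one_mul, mul_one]
  · intro x
    have hx : (fr e P).symm x.1 ∈ N' := by
      show fr e P ((fr e P).symm x.1) ∈ N
      rw [MulEquiv.apply_symm_apply]; exact x.2
    show frM e P (diagHom d k (a j₀ _)) = _
    rw [diagHom_apply, show (fun _ : Fin k => a j₀ ((fr e P).symm x.1)) = fun j => a j ((fr e P).symm x.1) from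
      funext fun j => (hone j _ hx).symm, ← hb.block _ hx, frM_mat, MulEquiv.apply_symm_apply]
  · intro W hW
    refine hb.irr j₀ W fun g w hw => ?_
    have h1 := hW ⟨fr e P g.1, g.2⟩ w hw
    simpa [X] using h1

set_option maxHeartbeats 1000000 in
/-- The tensor frame of commuting groups. -/
theorem exists_slots [Nonempty ι] {Q : Fin k → Subgroup (GL ι F)}
    (hcomm : ∀ i j, i ≠ j → ∀ x ∈ Q i, ∀ y ∈ Q j, x * y = y * x)
    (habs : ActsAbsolutelyIrreducibly (matrixSet (⨆ i, Q i : Subgroup (GL ι F)))) :
    ∃ (d : Fin k → ℕ) (e : ι ≃ ((i : Fin k) → Fin (d i))) (P : GL ι F)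
      (X : (i : Fin k) → Q i → Matrix (Fin (d i)) (Fin (d i)) F),
      (∀ i, 0 < d i) ∧ (∀ i (x : Q i), frM e P (slot i (X i x)) = mat x.1) ∧ ∀ i, IrrFam (X i) := by
  classical
  set Pg := (⨆ i, Q i : Subgroup (GL ι F)) with hPg
  have hcen : ∀ i, Pg ≤ Q i ⊔ Subgroup.centralizer (Q i : Set (GL ι F)) := fun i => iSup_le fun j => by
    by_cases h : j = i
    · rw [h]; exact le_sup_left
    · exact le_trans (fun y hy => Subgroup.mem_centralizer_iff.2 fun x hx => hcomm i j (Ne.symm h) x hx y hy)
        le_sup_right
  have hnorm : ∀ i, Normalised Pg (Q i) := fun i g hg x hx => by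
    have hle : Pg ≤ Subgroup.normalizer (Q i : Set (GL ι F)) := (hcen i).trans
      (sup_le Subgroup.le_normalizer (Subgroup.centralizer_le_normalizer _))
    exact (Subgroup.mem_normalizer_iff.1 (hle hg) x).1 hx
  choose d φ X hd hφinj hφc hφX hXirr using fun i => exists_phi habs (hnorm i) (hcen i)
  haveI : ∀ i, Nonempty (Fin (d i)) := fun i => ⟨⟨0, hd i⟩⟩
  have hpair : Pairwise fun i j => ∀ (A : Matrix (Fin (d i)) (Fin (d i)) F) (B : Matrix (Fin (d j)) (Fin (d j)) F),
      Commute ((φ i).toRingHom.toMonoidHom A) ((φ j).toRingHom.toMonoidHom B) := by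
    intro i j hij A B
    refine hφc j (φ i A) (fun y hy => (hφc i (mat y) (fun x hx => ?_) A).symm) B
    exact congrArg mat (hcomm j i (Ne.symm hij) y hy x hx)
  let Φ := MonoidHom.noncommPiCoprod (fun i => (φ i).toRingHom.toMonoidHom) hpair
  have hsingle : ∀ i A, Φ (Pi.mulSingle i A) = φ i A := fun i A =>
    MonoidHom.noncommPiCoprod_mulSingle (fun i => (φ i).toRingHom.toMonoidHom) (hcomm := hpair) i A
  have hupd : ∀ (f : (i : Fin k) → Matrix (Fin (d i)) (Fin (d i)) F) i A,
      Φ (Function.update f i A) = φ i A * Φ (Function.update f i 1) := fun f i A => by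
    rw [← hsingle, ← map_mul]
    refine congrArg _ (funext fun j => ?_)
    rcases eq_or_ne j i with rfl | hj
    · simp
    · simp [Pi.mulSingle_eq_of_ne hj, Function.update_of_ne hj]
  let z : (i : Fin k) → Fin (d i) := fun i => ⟨0, hd i⟩
  let E : ((i : Fin k) → Fin (d i)) → (i : Fin k) → Matrix (Fin (d i)) (Fin (d i)) F := fun x i =>
    Matrix.single (x i) (z i) 1
  -- the idempotent
  have hp : Φ (E z) ≠ 0 := by
    suffices h : ∀ s : Finset (Fin k), Φ (fun i => if i ∈ s then E z i else 1) ≠ 0 by
      simpa using h Finset.univ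
    intro s
    induction s using Finset.induction_on with
    | empty =>
      simp only [Finset.notMem_empty, if_false]
      rw [show (fun i : Fin k => (1 : Matrix (Fin (d i)) (Fin (d i)) F)) = 1 from rfl, map_one]
      exact one_ne_zero
    | insert i s his ih =>
      intro h0
      refine ih ?_
      set f := fun j => if j ∈ s then E z j else (1 : Matrix (Fin (d j)) (Fin (d j)) F) with hf
      have hfi : f i = 1 := if_neg his
      have h1 : φ i (E z i) * Φ f = 0 := by
        rw [← h0]
        conv_lhs => rw [show f = Function.update f i 1 by rw [← hfi, Function.update_eq_self]]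
        rw [← hupd]
        refine congrArg _ (funext fun j => ?_)
        rcases eq_or_ne j i with rfl | hj
        · simp
        · simp [Function.update_of_ne hj, hf, hj]
      have hc : ∀ A, Commute (φ i A) (Φ f) := fun A => by
        rw [← hsingle]
        refine Commute.map ?_ Φ
        refine funext fun j => ?_
        rcases eq_or_ne j i with rfl | hj
        · simp [hfi]
        · simp [Pi.mulSingle_eq_of_ne hj]
      have h2 : ∀ a, φ i (Matrix.single a a 1) * Φ f = 0 := fun a => by
        rw [show Matrix.single a a (1 : F) = Matrix.single a (z i) 1 * E z i * Matrix.single (z i) a 1 by simp [E],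
          map_mul, map_mul, mul_assoc, (hc _).eq, ← mul_assoc, mul_assoc _ (φ i (E z i)), h1, mul_zero, zero_mul]
      rw [← one_mul (Φ f), ← map_one (φ i), show (1 : Matrix (Fin (d i)) (Fin (d i)) F) = ∑ a, Matrix.single a a 1 by
        ext p q
        rcases eq_or_ne p q with rfl | hpq
        · simp [Matrix.sum_apply, Matrix.single_apply, Finset.sum_ite_eq', Matrix.one_apply]
        · rw [Matrix.one_apply_ne hpq, Matrix.sum_apply]
          refine (Finset.sum_eq_zero fun a _ => ?_).symm
          rw [Matrix.single_apply, if_neg]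
          exact fun h => hpq (h.1.symm.trans h.2), map_sum, Finset.sum_mul]
      exact Finset.sum_eq_zero fun a _ => h2 a
  obtain ⟨v, hv⟩ : ∃ v, Φ (E z) *ᵥ v ≠ 0 := by
    by_contra hcon
    push Not at hcon
    exact hp (Matrix.mulVec_injective (funext fun v => by rw [hcon v, Matrix.zero_mulVec]))
  set u := Φ (E z) *ᵥ v with hu
  let w : ((i : Fin k) → Fin (d i)) → ι → F := fun x => Φ (E x) *ᵥ u
  have hEz : w z = u := by
    show Φ (E z) *ᵥ u = u
    rw [hu, Matrix.mulVec_mulVec, ← map_mul]
    congr 2
    exact funext fun i => by simp [E]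
  have hmove : ∀ i A y, φ i A *ᵥ w y = ∑ a, A a (y i) • w (Function.update y i a) := by
    intro i A y
    have h1 : ∀ a, w (Function.update y i a) =
        (φ i (Matrix.single a (z i) 1) * Φ (Function.update (E y) i 1)) *ᵥ u := fun a => by
      rw [← hupd]
      show Φ _ *ᵥ u = _
      congr 2
      refine funext fun j => ?_
      rcases eq_or_ne j i with rfl | hj
      · simp [E]
      · simp [E, Function.update_of_ne hj]
    have h2 : φ i A * Φ (E y) = φ i (A * Matrix.single (y i) (z i) 1) * Φ (Function.update (E y) i 1) := by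
      rw [map_mul, mul_assoc, ← hupd]
      congr 2
      exact (Function.update_eq_self i (E y)).symm
    show φ i A *ᵥ (Φ (E y) *ᵥ u) = _
    rw [Matrix.mulVec_mulVec, h2, show A * Matrix.single (y i) (z i) (1 : F) = ∑ a, A a (y i) • Matrix.single a (z i) 1 by
      ext p q
      simp [Matrix.mul_apply, Matrix.sum_apply, Matrix.single_apply, eq_comm, ite_and], map_sum, Finset.sum_mul,
      Matrix.sum_mulVec]
    refine Finset.sum_congr rfl fun a _ => ?_
    rw [map_smul, Matrix.smul_mul, Matrix.smul_mulVec, h1]
  have hli : LinearIndependent F w := by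
    refine Fintype.linearIndependent_iff.2 fun g hg y => ?_
    let R : (i : Fin k) → Matrix (Fin (d i)) (Fin (d i)) F := fun i => Matrix.single (z i) (y i) 1
    have h1 := congrArg (Φ R *ᵥ ·) hg
    simp only [Matrix.mulVec_sum, Matrix.mulVec_zero, Matrix.mulVec_smul] at h1
    have h2 : ∀ x, Φ R *ᵥ w x = if x = y then u else 0 := by
      intro x
      show Φ R *ᵥ (Φ (E x) *ᵥ u) = _
      rw [Matrix.mulVec_mulVec, ← map_mul]
      split_ifs with h
      · subst h
        conv_rhs => rw [← hEz]
        show _ = Φ (E z) *ᵥ u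
        congr 2
        exact funext fun i => by simp [R, E]
      · obtain ⟨i, hi⟩ := Function.ne_iff.1 h
        have h3 : R * E x = Function.update (R * E x) i 0 := funext fun j => by
          rcases eq_or_ne j i with rfl | hj
          · rw [Function.update_self]
            exact Matrix.single_mul_single_of_ne _ _ _ _ (Ne.symm hi) _
          · rw [Function.update_of_ne hj]
        rw [h3, hupd, map_zero, zero_mul, Matrix.zero_mulVec]
    simp only [h2, smul_ite, smul_zero, Finset.sum_ite_eq', Finset.mem_univ, if_true] at h1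
    exact (smul_eq_zero.1 h1).resolve_right hv
  have hspan : Submodule.span F (Set.range w) = ⊤ := by
    refine ((abs_iff.1 habs).1 _ ?_).resolve_left fun e => hv ?_
    · intro g hg x hx
      refine Subgroup.iSup_induction (C := fun g => ∀ x ∈ Submodule.span F (Set.range w),
        mat g *ᵥ x ∈ Submodule.span F (Set.range w)) Q hg ?_ ?_ ?_ x hx
      · intro i g hgi x hx
        rw [← hφX i ⟨g, hgi⟩]
        induction hx using Submodule.span_induction with
        | mem x hx =>
          obtain ⟨y, rfl⟩ := hx
          rw [hmove]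
          exact Submodule.sum_mem _ fun a _ => Submodule.smul_mem _ _ (Submodule.subset_span ⟨_, rfl⟩)
        | zero => rw [Matrix.mulVec_zero]; exact zero_mem _
        | add x y _ _ hx hy => rw [Matrix.mulVec_add]; exact add_mem hx hy
        | smul c x _ hx => rw [Matrix.mulVec_smul]; exact Submodule.smul_mem _ _ hx
      · intro x hx
        simpa [mat] using hx
      · intro a b ha hb x hx
        rw [mat, Units.val_mul, ← Matrix.mulVec_mulVec]
        exact ha _ (hb _ hx)
    · rw [← hEz]
      exact (Submodule.mem_bot F).1 (e ▸ Submodule.subset_span ⟨z, rfl⟩)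
  have hcard : Fintype.card ι = Fintype.card ((i : Fin k) → Fin (d i)) := by
    rw [← finrank_span_eq_card hli, hspan, finrank_top, Module.finrank_fintype_fun_eq_card]
  let e : ι ≃ ((i : Fin k) → Fin (d i)) := Fintype.equivOfCardEq hcard
  obtain ⟨P₀, hP₀⟩ : IsUnit (Matrix.of fun x i => w (e i) x : Matrix ι ι F) := by
    refine Matrix.linearIndependent_cols_iff_isUnit.1 ?_
    exact hli.comp e e.injective
  have hfr : ∀ x, frL e P₀ (Pi.single x 1) = w x := fun x => by
    show mat P₀ *ᵥ ((Pi.single x (1 : F) : ((i : Fin k) → Fin (d i)) → F) ∘ e) = w x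
    rw [show (Pi.single x (1 : F) : ((i : Fin k) → Fin (d i)) → F) ∘ e = Pi.single (e.symm x) 1 by
      funext i; simp [Pi.single_apply, Equiv.eq_symm_apply]]
    rw [mat, hP₀, Matrix.mulVec_single_one]
    funext i
    simp
  refine ⟨d, e, P₀, X, hd, fun i x => ?_, hXirr⟩
  rw [← hφX i x]
  refine ((frM e P₀).symm_apply_eq.1 (Matrix.ext_of_mulVec_single fun y => (frL e P₀).injective ?_)).symm
  rw [← frM_mulVec, AlgEquiv.apply_symm_apply, hfr, hmove]
  symm
  have hsum : slot i (X i x) *ᵥ Pi.single y 1 =
      ∑ a, X i x a (y i) • (Pi.single (Function.update y i a) 1 : ((i : Fin k) → Fin (d i)) → F) := by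
    funext p
    have h1 := mul_slot i (X i x) 1 p y
    rw [one_mul] at h1
    rw [Matrix.mulVec_single_one, Matrix.col_apply, h1]
    simp [Matrix.one_apply, Pi.single_apply]
  rw [hsum, map_sum]
  exact Finset.sum_congr rfl fun a _ => by rw [map_smul, hfr]

end Cfsg.Agent.Asch
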