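import Cfsg.Agent.Asch.Transport
import Cfsg.Agent.PrimeDim.Tools
import Cfsg.Agent.PrimeDim.Rational

/-!
A non-zero form fixed by an absolutely irreducible normal subgroup puts the group inside a similarity group.
-/

set_option autoImplicit false
set_option linter.unusedSectionVars false

namespace Cfsg.Agent.Asch

open Matrix Cfsg.Geo Cfsg.Agent.PrimeDim
open scoped MatrixGroups

variable {F : Type*} [Field F] [Finite F] {ι : Type} [Fintype ι] [DecidableEq ι]

/-- The group consists of similitudes of a symplectic, unitary or quadratic form. -/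
def InSim (H : Subgroup (GL ι F)) : Prop :=
  (∃ f : (ι → F) → (ι → F) → F, IsSymplecticForm f ∧ Even (Fintype.card ι) ∧ H ≤ similarityGroup f) ∨
  (∃ (σ : F ≃+* F) (f : (ι → F) → (ι → F) → F), IsUnitaryForm σ f ∧ H ≤ similarityGroup f) ∨
  (∃ Q : (ι → F) → F, IsNondegenerateQuadraticForm Q ∧ (2 : F) ≠ 0 ∧ H ≤ quadSimilarityGroup Q)

theorem det_ne_of_fixes {σ : F ≃+* F} {N : Subgroup (GL ι F)} (hN : ActsAbsolutelyIrreducibly (matrixSet N))
    {G : Matrix ι ι F} (hG : G ≠ 0) (h : Fixes σ N G) : G.det ≠ 0 := by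
  intro hdet
  obtain ⟨v, hv0, hv⟩ := Matrix.exists_vecMul_eq_zero_iff.2 hdet
  let W : Submodule F (ι → F) := LinearMap.ker (G.vecMulLinear)
  have hW : Inv N W := by
    intro g hg u hu
    rw [LinearMap.mem_ker, Matrix.vecMulLinear_apply] at hu ⊢
    have e1 : (mat g *ᵥ u) ᵥ* G ᵥ* (mat g).map σ = 0 := by
      rw [← Matrix.vecMul_transpose, Matrix.vecMul_vecMul, Matrix.vecMul_vecMul]
      rw [← mul_assoc, show (mat g)ᵀ * G * (mat g).map σ = G from h g hg, hu]
    exact (Matrix.vecMul_injective_iff_isUnit.2 (map_isUnit σ g)) (e1.trans (Matrix.zero_vecMul _).symm)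
  rcases (abs_iff.1 hN).1 W hW with e | e
  · exact hv0 ((Submodule.mem_bot F).1 (e ▸ (LinearMap.mem_ker.2 hv : v ∈ W)))
  · refine hG (Matrix.ext fun i j => ?_)
    have h1 : (Pi.single i (1 : F)) ᵥ* G = 0 := LinearMap.mem_ker.1 (e ▸ Submodule.mem_top : Pi.single i (1 : F) ∈ W)
    simpa [Matrix.single_one_vecMul] using congrFun h1 j

theorem le_similarity {σ : F ≃+* F} {N H : Subgroup (GL ι F)} (hN : ActsAbsolutelyIrreducibly (matrixSet N))
    (hn : Normalised H N) {G : Matrix ι ι F} (hG : G.det ≠ 0) (h : Fixes σ N G) :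
    H ≤ similarityGroup (formG σ G) := by
  intro g hg
  obtain ⟨c, hc⟩ := similar hN hn hG h g hg
  exact (isSesq_formG σ G).mem_similarity (c := c) (by rw [gram_formG]; exact hc)

/-- A non-zero fixed bilinear form. -/
theorem sim_of_bilinear (h2 : 2 ≤ Fintype.card ι) {N H : Subgroup (GL ι F)}
    (hN : ActsAbsolutelyIrreducibly (matrixSet N)) (hn : Normalised H N) {G : Matrix ι ι F} (hG0 : G ≠ 0)
    (h : Fixes (RingEquiv.refl F) N G) : InSim H := by
  classical
  haveI : Fintype F := Fintype.ofFinite F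
  haveI : Nonempty ι := Fintype.card_pos_iff.1 (by omega)
  have hG := det_ne_of_fixes hN hG0 h
  have hs := isSesq_formG (RingEquiv.refl F) G
  have hle := le_similarity hN hn hG h
  have hid : ∀ X : Matrix ι ι F, X.map (RingEquiv.refl F) = X := fun X => by ext i j; rfl
  have hT : Fixes (RingEquiv.refl F) N Gᵀ := fun g hg => by
    conv_rhs => rw [← h g hg]
    simp only [act, hid, Matrix.transpose_mul, Matrix.transpose_transpose, mul_assoc]
  obtain ⟨c, hc⟩ := unique_form hN hG h hT
  have hcc : c * c = 1 := by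
    obtain ⟨i, j, hij⟩ : ∃ i j, G i j ≠ 0 := by
      by_contra hcon
      push Not at hcon
      exact hG0 (Matrix.ext hcon)
    have e1 := congrFun (congrFun hc i) j
    have e2 := congrFun (congrFun hc j) i
    simp only [Matrix.transpose_apply, Matrix.smul_apply, smul_eq_mul] at e1 e2
    refine mul_right_cancel₀ hij ?_
    rw [one_mul, mul_assoc, ← e1, ← e2]
  have hnd : IsNondegenerateForm (formG (RingEquiv.refl F) G) := by
    intro v hv
    have hl : v ᵥ* G ≠ 0 := fun e => hG (Matrix.exists_vecMul_eq_zero_iff.1 ⟨v, hv, e⟩)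
    have hr : G *ᵥ v ≠ 0 := fun e => hG (Matrix.exists_mulVec_eq_zero_iff.1 ⟨v, hv, e⟩)
    obtain ⟨j, hj⟩ := Function.ne_iff.1 hl
    obtain ⟨i, hi⟩ := Function.ne_iff.1 hr
    refine ⟨⟨Pi.single i 1, ?_⟩, ⟨Pi.single j 1, ?_⟩⟩
    · rw [formG, single_dotProduct, one_mul]; exact hi
    · rw [formG, single_comp, Matrix.dotProduct_mulVec, dotProduct_single, mul_one]; exact hj
  have hflip : ∀ u v, formG (RingEquiv.refl F) G u v = c * formG (RingEquiv.refl F) G v u := fun u v => by
    show u ⬝ᵥ (G *ᵥ v) = c * (v ⬝ᵥ (G *ᵥ u))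
    rw [← smul_eq_mul c, ← dotProduct_smul, ← Matrix.smul_mulVec, ← hc, Matrix.mulVec_transpose,
      Matrix.dotProduct_mulVec, dotProduct_comm]
  have symp : c = -1 → (∀ v, formG (RingEquiv.refl F) G v v = 0) → InSim H := by
    intro hc' halt
    refine Or.inl ⟨_, ⟨⟨hs.add_left, hs.smul_left, hs.add_right, fun a v x => hs.smul_right a v x⟩,
      fun v w => by rw [hflip, hc', neg_one_mul], halt, hnd⟩, ?_, hle⟩
    by_contra hodd
    refine hG (det_eq_zero_of_alt (Nat.not_even_iff_odd.1 hodd) (by rw [hc, hc', neg_one_smul]) fun i => ?_)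
    rw [← formG_single (RingEquiv.refl F) G i i]
    exact halt _
  rcases eq_or_ne (2 : F) 0 with h20 | h20
  · have hc1 : c = 1 := by
      have : (c - 1) * (c - 1) = 0 := by linear_combination hcc - (c - 1) * h20
      exact sub_eq_zero.1 (mul_self_eq_zero.1 this)
    refine symp (by rw [hc1]; linear_combination h20) ?_
    -- the diagonal is invariant
    have hadd : ∀ u v, formG (RingEquiv.refl F) G (u + v) (u + v) =
        formG (RingEquiv.refl F) G u u + formG (RingEquiv.refl F) G v v := fun u v => by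
      rw [hs.add_left, hs.add_right, hs.add_right, hflip v u, hc1]
      linear_combination formG (RingEquiv.refl F) G u v * h20
    let W : Submodule F (ι → F) :=
      { carrier := {v | formG (RingEquiv.refl F) G v v = 0}
        add_mem' := fun {u v} hu hv => by
          show formG (RingEquiv.refl F) G (u + v) (u + v) = 0
          rw [hadd, hu, hv, add_zero]
        zero_mem' := by
          show formG (RingEquiv.refl F) G 0 0 = 0
          simp [formG]
        smul_mem' := fun a v hv => by
          show formG (RingEquiv.refl F) G (a • v) (a • v) = 0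
          rw [hs.smul_left, hs.smul_right, show formG (RingEquiv.refl F) G v v = 0 from hv, mul_zero, mul_zero] }
    have hW : Inv N W := fun g hg v hv => by
      show formG (RingEquiv.refl F) G (mat g *ᵥ v) (mat g *ᵥ v) = 0
      rw [formG_mulVec, h g hg]; exact hv
    haveI : CharP F 2 := CharTwo.of_one_ne_zero_of_two_eq_zero one_ne_zero h20
    rcases (abs_iff.1 hN).1 W hW with e | e
    swap
    · exact fun v => (e ▸ Submodule.mem_top : v ∈ W)
    exfalso
    obtain ⟨i, j, hij⟩ := Fintype.one_lt_card_iff.1 (show 1 < Fintype.card ι by omega)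
    have hsqrt : ∀ x : F, ∃ y, y * y = x := fun x => by
      obtain ⟨y, hy⟩ := (Finite.injective_iff_surjective (f := frobenius F 2)).1 (frobenius_inj F 2) x
      exact ⟨y, by rw [← hy, frobenius_def, pow_two]⟩
    obtain ⟨a, ha⟩ := hsqrt (G j j)
    obtain ⟨b, hb⟩ := hsqrt (G i i)
    have key : ∀ (x : F) (k : ι), formG (RingEquiv.refl F) G (x • Pi.single k 1) (x • Pi.single k 1) = x * (x * G k k) :=
      fun x k => by rw [hs.smul_left, hs.smul_right, formG_single]; rfl
    by_cases h0 : a = 0 ∧ b = 0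
    · have hmem : (Pi.single i 1 : ι → F) ∈ W := by
        show formG (RingEquiv.refl F) G _ _ = 0
        rw [formG_single, ← hb, h0.2, mul_zero]
      rw [e, Submodule.mem_bot] at hmem
      simpa using congrFun hmem i
    · have hmem : (a • Pi.single i 1 + b • Pi.single j 1 : ι → F) ∈ W := by
        show formG (RingEquiv.refl F) G _ _ = 0
        rw [hadd, key, key, ← ha, ← hb]
        linear_combination (a * a * b * b) * h20
      rw [e, Submodule.mem_bot] at hmem
      refine h0 ⟨?_, ?_⟩
      · simpa [hij] using congrFun hmem i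
      · simpa [Ne.symm hij] using congrFun hmem j
  rcases (mul_self_eq_one_iff.1 hcc) with hc1 | hc1
  · refine Or.inr (Or.inr ⟨_, isQuad_formG h20 hG (by rw [hc, hc1, one_smul]), h20, fun g hg => ?_⟩)
    obtain ⟨a, ha⟩ := hle hg
    exact ⟨a, fun v => ha v v⟩
  · refine symp hc1 fun v => ?_
    have h1 := hflip v v
    rw [hc1, neg_one_mul] at h1
    exact (mul_eq_zero.1 (show (2 : F) * formG (RingEquiv.refl F) G v v = 0 by linear_combination h1)).resolve_left h20

/-- A non-zero fixed sesquilinear form. -/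
theorem sim_of_sesq {σ : F ≃+* F} (hσ : IsBar σ) {N H : Subgroup (GL ι F)} [Nonempty ι]
    (hN : ActsAbsolutelyIrreducibly (matrixSet N)) (hn : Normalised H N) {G : Matrix ι ι F} (hG0 : G ≠ 0)
    (h : Fixes σ N G) : InSim H := by
  have hG := det_ne_of_fixes hN hG0 h
  have hmm : ∀ X : Matrix ι ι F, (X.map σ).map σ = X := fun X => by ext i j; exact hσ.involutive _
  have hT : Fixes σ N (G.map σ)ᵀ := fun g hg => by
    conv_rhs => rw [← h g hg]
    simp only [act, Matrix.map_mul, hmm, Matrix.transpose_mul, Matrix.transpose_transpose, Matrix.transpose_map, mul_assoc]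
  obtain ⟨c, hc⟩ := unique_form hN hG h hT
  obtain ⟨i, j, hij⟩ : ∃ i j, G i j ≠ 0 := by
    by_contra hcon
    push Not at hcon
    exact hG0 (Matrix.ext hcon)
  have hcc : c * σ c = 1 := by
    have e1 := congrFun (congrFun hc i) j
    have e2 := congrFun (congrFun hc j) i
    simp only [Matrix.transpose_apply, Matrix.map_apply, Matrix.smul_apply, smul_eq_mul] at e1 e2
    have e3 := congrArg σ e2
    rw [map_mul, hσ.involutive] at e3
    refine mul_right_cancel₀ hij ?_
    calc c * σ c * G i j = σ c * (c * G i j) := by ring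
      _ = σ c * σ (G j i) := by rw [e1]
      _ = 1 * G i j := by rw [one_mul, ← e3]
  obtain ⟨x, hx⟩ : ∃ x : F, x + c * σ x ≠ 0 := by
    by_contra hcon
    push Not at hcon
    obtain ⟨a, ha⟩ := hσ.exists_moved
    have h1 := hcon 1
    rw [map_one, mul_one] at h1
    refine ha ?_
    linear_combination σ a * h1 - hcon a
  set lam := x + c * σ x with hlam
  have hlc : σ lam * c = lam := by
    rw [hlam, map_add, map_mul, hσ.involutive]
    linear_combination x * hcc
  have hG' : (lam • G).det ≠ 0 := by rw [Matrix.det_smul]; exact mul_ne_zero (pow_ne_zero _ hx) hG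
  refine Or.inr (Or.inl ⟨σ, _, isUnitaryForm_formG hσ hG' ?_, le_similarity hN hn hG' fun g hg => by
    rw [act_smul, h g hg]⟩)
  have hs' : Gᵀ = σ c • G.map σ := by
    ext a b
    have e := congrArg σ (congrFun (congrFun hc a) b)
    simp only [Matrix.transpose_apply, Matrix.map_apply, Matrix.smul_apply, smul_eq_mul, map_mul, hσ.involutive] at e ⊢
    exact e
  have e : lam * σ c = σ lam := by
    calc lam * σ c = σ lam * c * σ c := by rw [hlc]
      _ = σ lam := by rw [mul_assoc, hcc, mul_one]
  rw [Matrix.transpose_smul, hs', smul_smul, e]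
  ext a b
  simp only [Matrix.smul_apply, Matrix.map_apply, smul_eq_mul, map_mul]

end Cfsg.Agent.Asch
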