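import Cfsg.Agent.Asch.Transport

/-!
A minimal normal subgroup that is not abelian modulo scalars: a simple one, or commuting conjugate factors.
-/

set_option autoImplicit false
set_option linter.unusedSectionVars false

namespace Cfsg.Agent.Asch

open Matrix Cfsg.Geo Cfsg.Agent.PrimeDim
open scoped MatrixGroups

variable {F : Type*} [Field F] [Finite F] {ι : Type} [Fintype ι] [DecidableEq ι] [Nonempty ι]

/-- The core of a group. -/
structure IsCore (H P : Subgroup (GL ι F)) : Prop where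
  le : P ≤ H
  normalised : Normalised H P
  nonscalar : ¬ P ≤ scalars ι F
  abs : ActsAbsolutelyIrreducibly (matrixSet P)
  perfect : ⁅P, P⁆ = P
  simple : IsSimpleGroup (P ⧸ (scalars ι F).subgroupOf P)
  nonabelian : ¬ IsMulCommutative (P ⧸ (scalars ι F).subgroupOf P)

/-- Commuting conjugate factors. -/
structure IsFactors (H : Subgroup (GL ι F)) {k : ℕ} (Q : Fin k → Subgroup (GL ι F)) : Prop where
  two_le : 2 ≤ k
  nonscalar : ∀ i, ¬ Q i ≤ scalars ι F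
  perfect : ∀ i, ⁅Q i, Q i⁆ = Q i
  commute : ∀ i j, i ≠ j → ∀ x ∈ Q i, ∀ y ∈ Q j, x * y = y * x
  abs : ActsAbsolutelyIrreducibly (matrixSet (⨆ i, Q i : Subgroup (GL ι F)))
  perm : ∀ h ∈ H, ∃ π : Equiv.Perm (Fin k), ∀ i, ∀ x ∈ Q i, h * x * h⁻¹ ∈ Q (π i)
  transitive : ∀ i j, ∃ h ∈ H, ∀ x ∈ Q i, h * x * h⁻¹ ∈ Q j
  le : ∀ i, Q i ≤ H

/-- A group all of whose normalised subgroups are scalar or total is simple modulo scalars. -/
theorem simple_quot {P : Subgroup (GL ι F)} (hns : ¬ P ≤ scalars ι F)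
    (h : ∀ M : Subgroup (GL ι F), M ≤ P → Normalised P M → ¬ M ≤ scalars ι F → M = P) :
    IsSimpleGroup (P ⧸ (scalars ι F).subgroupOf P) := by
  let q : P →* P ⧸ (scalars ι F).subgroupOf P := QuotientGroup.mk' _
  haveI : Nontrivial (P ⧸ (scalars ι F).subgroupOf P) :=
    (QuotientGroup.nontrivial_iff).2 fun h1 => hns (Subgroup.subgroupOf_eq_top.1 h1)
  refine ⟨fun K hK => ?_⟩
  let M : Subgroup (GL ι F) := (K.comap q).map P.subtype
  have hM : Normalised P M := by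
    rintro g hg _ ⟨x, hx, rfl⟩
    have hn : (K.comap q).Normal := hK.comap q
    exact ⟨(⟨g, hg⟩ : P) * x * (⟨g, hg⟩ : P)⁻¹, hn.conj_mem x hx ⟨g, hg⟩, rfl⟩
  by_cases hMZ : M ≤ scalars ι F
  · left
    rw [eq_bot_iff]
    intro y hy
    obtain ⟨x, rfl⟩ := QuotientGroup.mk'_surjective _ y
    rw [Subgroup.mem_bot, QuotientGroup.mk'_apply, QuotientGroup.eq_one_iff, Subgroup.mem_subgroupOf]
    exact hMZ ⟨x, hy, rfl⟩
  · right
    have hMP : M = P := h M (Subgroup.map_subtype_le _) hM hMZ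
    rw [eq_top_iff]
    intro y _
    obtain ⟨x, rfl⟩ := QuotientGroup.mk'_surjective _ y
    obtain ⟨x', hx', he⟩ := (hMP.ge x.2 : x.1 ∈ M)
    have e : x' = x := Subtype.ext he
    rw [← e]
    exact hx'

set_option maxHeartbeats 1000000 in
/-- The core or the commuting factors. -/
theorem core_or_factors {H : Subgroup (GL ι F)} (hgood : Good H) (hns : ¬ H ≤ scalars ι F)
    (hno : ∀ N : Subgroup (GL ι F), N ≤ H → Normalised H N → ¬ N ≤ scalars ι F →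
      ¬ ∀ x ∈ N, ∀ y ∈ N, x * y * x⁻¹ * y⁻¹ ∈ scalars ι F) :
    (∃ P, IsCore H P) ∨ ∃ (k : ℕ) (Q : Fin k → Subgroup (GL ι F)), IsFactors H Q := by
  classical
  set Z := scalars ι F with hZ
  haveI hZn : Z.Normal := inferInstance
  have hcomm_iff : ∀ A : Subgroup (GL ι F), ⁅A, A⁆ ≤ Z ↔ ∀ x ∈ A, ∀ y ∈ A, x * y * x⁻¹ * y⁻¹ ∈ Z := fun A =>
    Subgroup.commutator_le
  let T : Set ℕ := {m | ∃ N : Subgroup (GL ι F), N ≤ H ∧ Normalised H N ∧ ¬ N ≤ Z ∧ Nat.card N = m}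
  obtain ⟨P, hPH, hPn, hPns, hPc⟩ := Nat.sInf_mem (s := T) ⟨_, H, le_rfl, normalised_self H, hns, rfl⟩
  have hPmin : ∀ N, N ≤ P → Normalised H N → ¬ N ≤ Z → N = P := fun N h1 h2 h3 =>
    Subgroup.eq_of_le_of_card_ge h1 (hPc.le.trans (Nat.sInf_le ⟨N, h1.trans hPH, h2, h3, rfl⟩))
  have hPperf : ⁅P, P⁆ = P := hPmin _ commutator_le_of_sub (normalised_commutator hPn)
    fun h => hno P hPH hPn hPns ((hcomm_iff P).1 h)
  have hPabs := hgood P hPH hPn hPns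
  let T' : Set ℕ := {m | ∃ N : Subgroup (GL ι F), N ≤ P ∧ Normalised P N ∧ ¬ N ≤ Z ∧ Nat.card N = m}
  obtain ⟨A, hAP, hAn, hAns, hAc⟩ := Nat.sInf_mem (s := T') ⟨_, P, le_rfl, normalised_self P, hPns, rfl⟩
  have hAmin : ∀ N, N ≤ P → Normalised P N → ¬ N ≤ Z → Nat.card A ≤ Nat.card N := fun N h1 h2 h3 =>
    hAc.le.trans (Nat.sInf_le ⟨N, h1, h2, h3, rfl⟩)
  let C : GL ι F → Subgroup (GL ι F) := fun g => A.map (MulAut.conj g).toMonoidHom
  let 𝒞 : Set (Subgroup (GL ι F)) := C '' (H : Set (GL ι F))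
  have hC1 : C 1 = A := by
    ext x; simp [C]
  have hA𝒞 : A ∈ 𝒞 := ⟨1, one_mem H, hC1⟩
  have hCP : ∀ B ∈ 𝒞, B ≤ P := by
    rintro _ ⟨g, hg, rfl⟩ _ ⟨a, ha, rfl⟩
    exact hPn g hg a (hAP ha)
  have hCn : ∀ B ∈ 𝒞, Normalised P B := by
    rintro _ ⟨g, hg, rfl⟩ x hx _ ⟨a, ha, rfl⟩
    exact ⟨(g⁻¹ * x * g) * a * (g⁻¹ * x * g)⁻¹, hAn _ (hPn.conj' hg hx) a ha, by simp [mul_assoc]⟩
  have hCns : ∀ B ∈ 𝒞, ¬ B ≤ Z := by
    rintro _ ⟨g, hg, rfl⟩ h
    refine hAns fun a ha => ?_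
    have h2 := hZn.conj_mem _ (h ⟨a, ha, rfl⟩) g⁻¹
    simpa [mul_assoc] using h2
  have hCcard : ∀ B ∈ 𝒞, Nat.card B = Nat.card A := by
    rintro _ ⟨g, -, rfl⟩
    exact (Nat.card_congr (A.equivMapOfInjective _ (MulAut.conj g).injective).toEquiv).symm
  have hdist : ∀ B ∈ 𝒞, ∀ B' ∈ 𝒞, B ≠ B' → ∀ x ∈ B, ∀ y ∈ B', x * y * x⁻¹ * y⁻¹ ∈ Z := by
    intro B hB B' hB' hne x hx y hy
    have hmem : x * y * x⁻¹ * y⁻¹ ∈ B ⊓ B' := by
      refine Subgroup.mem_inf.2 ⟨?_, mul_mem (hCn B' hB' x (hCP B hB hx) y hy) (inv_mem hy)⟩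
      rw [show x * y * x⁻¹ * y⁻¹ = x * (y * x⁻¹ * y⁻¹) by group]
      exact mul_mem hx (hCn B hB y (hCP B' hB' hy) _ (inv_mem hx))
    by_contra hnot
    have hle := hAmin (B ⊓ B') (inf_le_left.trans (hCP B hB)) (fun g hg z hz =>
      ⟨hCn B hB g hg z hz.1, hCn B' hB' g hg z hz.2⟩) fun h => hnot (h hmem)
    have e1 : B ⊓ B' = B := Subgroup.eq_of_le_of_card_ge inf_le_left ((hCcard B hB).le.trans hle)
    have e2 : B ⊓ B' = B' := Subgroup.eq_of_le_of_card_ge inf_le_right ((hCcard B' hB').le.trans hle)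
    exact hne (e1.symm.trans e2)
  have hgen : sSup 𝒞 = P := by
    refine hPmin _ (sSup_le hCP) (fun h hh x hx => ?_) fun h => hCns A hA𝒞 ((le_sSup hA𝒞).trans h)
    have hmap : (sSup 𝒞).map (MulAut.conj h).toMonoidHom ≤ sSup 𝒞 := by
      rw [Subgroup.map_le_iff_le_comap]
      refine sSup_le ?_
      rintro _ ⟨g, hg, rfl⟩
      rw [← Subgroup.map_le_iff_le_comap]
      refine le_trans (le_of_eq ?_) (le_sSup ⟨h * g, mul_mem hh hg, rfl⟩)
      show (A.map (MulAut.conj g).toMonoidHom).map (MulAut.conj h).toMonoidHom = A.map (MulAut.conj (h * g)).toMonoidHom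
      rw [Subgroup.map_map]
      congr 1
      ext x; simp [mul_assoc]
    exact hmap ⟨x, hx, rfl⟩
  -- the factor is perfect
  have hAperf : ⁅A, A⁆ = A := by
    refine Subgroup.eq_of_le_of_card_ge commutator_le_of_sub
      (hAmin _ (commutator_le_of_sub.trans hAP) (normalised_commutator hAn) fun h => hPns ?_)
    have hC : ∀ B ∈ 𝒞, ∀ B' ∈ 𝒞, ∀ x ∈ B, ∀ y ∈ B', x * y * x⁻¹ * y⁻¹ ∈ Z := by
      intro B hB B' hB' x hx y hy
      by_cases hne : B = B'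
      · subst hne
        obtain ⟨g, hg, rfl⟩ := hB
        obtain ⟨a, ha, rfl⟩ := hx
        obtain ⟨b, hb, rfl⟩ := hy
        have h1 := hZn.conj_mem _ ((hcomm_iff A).1 h a ha b hb) g
        simpa [mul_assoc] using h1
      · exact hdist B hB B' hB' hne x hx y hy
    have hP2 : ⁅P, P⁆ ≤ Z := by
      rw [← hgen]
      have hZle : ∀ B ∈ 𝒞, ∀ x ∈ B, ∀ y ∈ sSup 𝒞, x * y * x⁻¹ * y⁻¹ ∈ Z := by
        intro B hB x hx
        let K : Subgroup (GL ι F) :=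
          { carrier := {y | x * y * x⁻¹ * y⁻¹ ∈ Z}
            mul_mem' := fun {a b} ha hb => by
              show x * (a * b) * x⁻¹ * (a * b)⁻¹ ∈ Z
              rw [show x * (a * b) * x⁻¹ * (a * b)⁻¹ = (x * a * x⁻¹ * a⁻¹) * (a * (x * b * x⁻¹ * b⁻¹) * a⁻¹) by group]
              exact mul_mem ha (hZn.conj_mem _ hb a)
            one_mem' := by
              show x * 1 * x⁻¹ * 1⁻¹ ∈ Z
              simp
            inv_mem' := fun {a} ha => by
              show x * a⁻¹ * x⁻¹ * a⁻¹⁻¹ ∈ Z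
              rw [show x * a⁻¹ * x⁻¹ * a⁻¹⁻¹ = a⁻¹ * (x * a * x⁻¹ * a⁻¹)⁻¹ * a⁻¹⁻¹ by group]
              exact hZn.conj_mem _ (inv_mem ha) _ }
        exact fun y hy => (sSup_le (fun B' hB' y hy => hC B hB B' hB' x hx y hy) : sSup 𝒞 ≤ K) hy
      rw [hcomm_iff]
      intro x hx y hy
      let K : Subgroup (GL ι F) :=
        { carrier := {x | x * y * x⁻¹ * y⁻¹ ∈ Z}
          mul_mem' := fun {a b} ha hb => by
            show a * b * y * (a * b)⁻¹ * y⁻¹ ∈ Z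
            rw [show a * b * y * (a * b)⁻¹ * y⁻¹ = (a * (b * y * b⁻¹ * y⁻¹) * a⁻¹) * (a * y * a⁻¹ * y⁻¹) by group]
            exact mul_mem (hZn.conj_mem _ hb a) ha
          one_mem' := by
            show 1 * y * 1⁻¹ * y⁻¹ ∈ Z
            simp
          inv_mem' := fun {a} ha => by
            show a⁻¹ * y * a⁻¹⁻¹ * y⁻¹ ∈ Z
            rw [show a⁻¹ * y * a⁻¹⁻¹ * y⁻¹ = a⁻¹ * (a * y * a⁻¹ * y⁻¹)⁻¹ * a⁻¹⁻¹ by group]
            exact hZn.conj_mem _ (inv_mem ha) _ }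
      exact (sSup_le (fun B hB z hz => hZle B hB z hz y hy) : sSup 𝒞 ≤ K) hx
    rwa [hPperf] at hP2
  have hCperf : ∀ B ∈ 𝒞, ⁅B, B⁆ = B := by
    rintro _ ⟨g, -, rfl⟩
    show ⁅A.map _, A.map _⁆ = _
    rw [← Subgroup.map_commutator, hAperf]
  by_cases hone : ∀ B ∈ 𝒞, B = A
  · -- simple
    left
    have hAPeq : A = P := le_antisymm hAP (hgen ▸ sSup_le fun B hB => (hone B hB).le)
    refine ⟨P, hPH, hPn, hPns, hPabs, hPperf, ?_, ?_⟩
    · exact simple_quot hPns fun M hMP hM hMZ => Subgroup.eq_of_le_of_card_ge hMP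
        (by have := hAmin M hMP hM hMZ; rwa [hAPeq] at this)
    · intro hc
      refine hno P hPH hPn hPns fun a ha b hb => ?_
      let aa : P := ⟨a, ha⟩
      let bb : P := ⟨b, hb⟩
      have h2 : QuotientGroup.mk' (Z.subgroupOf P) (aa * bb * aa⁻¹ * bb⁻¹) = 1 := by
        rw [map_mul, map_mul, map_mul, map_inv, map_inv,
          hc.is_comm.comm (QuotientGroup.mk' (Z.subgroupOf P) aa) (QuotientGroup.mk' (Z.subgroupOf P) bb),
          mul_inv_cancel_right, mul_inv_cancel]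
      rwa [QuotientGroup.mk'_apply, QuotientGroup.eq_one_iff, Subgroup.mem_subgroupOf] at h2
  -- several factors
  right
  haveI : Finite 𝒞 := Subtype.finite
  haveI : Fintype 𝒞 := Fintype.ofFinite _
  let eq : Fin (Fintype.card 𝒞) ≃ 𝒞 := (Fintype.equivFin 𝒞).symm
  have hk : 2 ≤ Fintype.card 𝒞 := by
    push Not at hone
    obtain ⟨B, hB, hne⟩ := hone
    exact Fintype.one_lt_card_iff.2 ⟨⟨B, hB⟩, ⟨A, hA𝒞⟩, fun e => hne (congrArg Subtype.val e)⟩
  refine ⟨_, fun i => (eq i).1, hk, fun i => hCns _ (eq i).2, fun i => hCperf _ (eq i).2, ?_, ?_, ?_, ?_,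
    fun i => (hCP _ (eq i).2).trans hPH⟩
  · intro i j hij x hx y hy
    have hne : (eq i).1 ≠ (eq j).1 := fun e => hij (eq.injective (Subtype.ext e))
    exact (comm_of_perfect (hCperf _ (eq j).2) (h := x)
      (fun z hz => hdist _ (eq i).2 _ (eq j).2 hne x hx z hz) y hy)
  · rw [show (⨆ i, (eq i).1) = P by rw [← hgen, sSup_eq_iSup', eq.iSup_comp (g := fun B : 𝒞 => B.1)]]
    exact hPabs
  · intro h hh
    have hmove : ∀ B : 𝒞, B.1.map (MulAut.conj h).toMonoidHom ∈ 𝒞 := by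
      rintro ⟨_, g, hg, rfl⟩
      refine ⟨h * g, mul_mem hh hg, ?_⟩
      show _ = (A.map (MulAut.conj g).toMonoidHom).map (MulAut.conj h).toMonoidHom
      rw [Subgroup.map_map]
      show A.map (MulAut.conj (h * g)).toMonoidHom = _
      congr 1
      ext x; simp [mul_assoc]
    let f : 𝒞 → 𝒞 := fun B => ⟨_, hmove B⟩
    have hf : Function.Injective f := fun B B' e =>
      Subtype.ext (Subgroup.map_injective (MulAut.conj h).injective (congrArg Subtype.val e))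
    refine ⟨(eq.trans (Equiv.ofBijective f (Finite.injective_iff_bijective.1 hf))).trans eq.symm, fun i x hx => ?_⟩
    show h * x * h⁻¹ ∈ (eq (eq.symm (f (eq i)))).1
    rw [Equiv.apply_symm_apply]
    exact ⟨x, hx, rfl⟩
  · intro i j
    obtain ⟨g, hg, hgi⟩ := (eq i).2
    obtain ⟨g', hg', hgj⟩ := (eq j).2
    refine ⟨g' * g⁻¹, mul_mem hg' (inv_mem hg), fun x hx => ?_⟩
    rw [← hgi] at hx
    obtain ⟨a, ha, rfl⟩ := hx
    rw [← hgj]
    exact ⟨a, ha, by simp [mul_assoc]⟩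

end Cfsg.Agent.Asch
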