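import Cfsg.Agent.Asch.Slots
import Cfsg.Agent.Asch.Forms
import Cfsg.Agent.Asch.Perfect

/-!
Commuting conjugate factors: the group is a group of tensor products with permuted factors, or a group of similitudes.
-/

set_option autoImplicit false
set_option linter.unusedSectionVars false

namespace Cfsg.Agent.Asch

open Matrix Cfsg.Geo Cfsg.Agent.PrimeDim
open scoped MatrixGroups

variable {F : Type*} [Field F] {k m : ℕ}

/-- The Kronecker product of several square matrices. -/
def pureM (gs : Fin k → Matrix (Fin m) (Fin m) F) : Matrix (Fin k → Fin m) (Fin k → Fin m) F :=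
  Matrix.of fun x y => ∏ j, gs j (x j) (y j)

theorem pureM_mul (gs gs' : Fin k → Matrix (Fin m) (Fin m) F) : pureM gs * pureM gs' = pureM (gs * gs') := by
  ext x y
  simp only [pureM, Matrix.mul_apply, Matrix.of_apply, Pi.mul_apply, ← Finset.prod_mul_distrib]
  exact (Fintype.prod_sum fun j a => gs j (x j) a * gs' j a (y j)).symm

theorem pureM_one : pureM (1 : Fin k → Matrix (Fin m) (Fin m) F) = 1 := by
  ext x y
  simp only [pureM, Matrix.of_apply, Pi.one_apply, Matrix.one_apply, Finset.prod_boole, funext_iff, Finset.mem_univ,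
    true_imp_iff]

/-- The Kronecker product of several invertible matrices. -/
def pureU (gs : Fin k → GL (Fin m) F) : GL (Fin k → Fin m) F where
  val := pureM fun j => mat (gs j)
  inv := pureM fun j => mat (gs j)⁻¹
  val_inv := by
    rw [pureM_mul, show ((fun j => mat (gs j)) * fun j => mat (gs j)⁻¹) = 1 from funext fun j => mat_mul_inv (gs j),
      pureM_one]
  inv_val := by
    rw [pureM_mul, show ((fun j => mat (gs j)⁻¹) * fun j => mat (gs j)) = 1 from funext fun j => mat_inv_mul (gs j),
      pureM_one]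

/-- A permutation of the factors. -/
def permM (σ : Equiv.Perm (Fin k)) : Matrix (Fin k → Fin m) (Fin k → Fin m) F :=
  Matrix.of fun x y => if y = x ∘ σ then 1 else 0

theorem permM_mul (σ τ : Equiv.Perm (Fin k)) : (permM σ * permM τ : Matrix (Fin k → Fin m) (Fin k → Fin m) F) = permM (σ * τ) := by
  ext x y
  simp only [permM, Matrix.mul_apply, Matrix.of_apply, ite_mul, one_mul, zero_mul, Finset.sum_ite_eq', Finset.mem_univ,
    if_true]
  rfl

theorem permM_one : (permM 1 : Matrix (Fin k → Fin m) (Fin k → Fin m) F) = 1 := by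
  ext x y
  simp [permM, Matrix.one_apply, eq_comm]

/-- A permutation of the factors, as a unit. -/
def permU (σ : Equiv.Perm (Fin k)) : GL (Fin k → Fin m) F where
  val := permM σ
  inv := permM σ⁻¹
  val_inv := by rw [permM_mul, mul_inv_cancel, permM_one]
  inv_val := by rw [permM_mul, inv_mul_cancel, permM_one]

theorem pureU_mul_permU_mem (gs : Fin k → GL (Fin m) F) (σ : Equiv.Perm (Fin k)) :
    pureU gs * permU σ ∈ tensorWreathStandard m k F :=
  mul_mem (Subgroup.subset_closure (Or.inl ⟨gs, fun _ _ => rfl⟩)) (Subgroup.subset_closure (Or.inr ⟨σ, fun _ _ => rfl⟩))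

theorem pureU_mul_permU_apply (gs : Fin k → GL (Fin m) F) (σ : Equiv.Perm (Fin k)) (x y : Fin k → Fin m) :
    mat (pureU gs * permU σ) x y = ∏ i, mat (gs (σ i)) (x (σ i)) (y i) := by
  show (pureM (fun j => mat (gs j)) * permM σ : Matrix _ _ F) x y = _
  rw [Matrix.mul_apply, Finset.sum_eq_single (y ∘ σ.symm)]
  · simp only [pureM, permM, Matrix.of_apply, Function.comp_assoc, Equiv.symm_comp_self, Function.comp_id, if_true,
      mul_one, Function.comp_apply]
    rw [← Equiv.prod_comp σ]
    simp
  · intro z _ hz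
    simp only [permM, Matrix.of_apply]
    rw [if_neg fun h => hz (by rw [h, Function.comp_assoc, Equiv.self_comp_symm, Function.comp_id]), mul_zero]
  · exact fun h => absurd (Finset.mem_univ _) h

theorem slot_mul_slot {d : Fin k → ℕ} (i : Fin k) (A B : Matrix (Fin (d i)) (Fin (d i)) F) :
    slot i A * slot i B = slot i (A * B) := by
  ext x y
  rw [mul_slot]
  simp only [slot, Matrix.of_apply, Matrix.mul_apply, Function.update_self, ite_mul, zero_mul]
  split_ifs with h
  · exact Finset.sum_congr rfl fun a _ => if_pos fun j hj => by rw [Function.update_of_ne hj, h j hj]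
  · exact Finset.sum_eq_zero fun a _ => if_neg fun h' => h fun j hj => by
      have h2 := h' j hj
      rwa [Function.update_of_ne hj] at h2

theorem slot_injective {d : Fin k → ℕ} (hd : ∀ i, 0 < d i) (i : Fin k) {A B : Matrix (Fin (d i)) (Fin (d i)) F}
    (h : slot i A = slot i B) : A = B := by
  ext a b
  have h1 := congrFun (congrFun h (Function.update (fun j => ⟨0, hd j⟩) i a)) (Function.update (fun j => ⟨0, hd j⟩) i b)
  simp only [slot, Matrix.of_apply, Function.update_self] at h1
  rwa [if_pos fun j hj => by rw [Function.update_of_ne hj, Function.update_of_ne hj],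
    if_pos fun j hj => by rw [Function.update_of_ne hj, Function.update_of_ne hj]] at h1

variable [Finite F] {ι : Type} [Fintype ι] [DecidableEq ι]

/-- The intertwiner between two factors given by a conjugation. -/
theorem exists_intertw {d : Fin k → ℕ} {Q : Fin k → Subgroup (GL ι F)} {e : ι ≃ ((i : Fin k) → Fin (d i))} {P : GL ι F}
    {X : (i : Fin k) → Q i → Matrix (Fin (d i)) (Fin (d i)) F} (hX : ∀ i (x : Q i), frM e P (slot i (X i x)) = mat x.1)
    (hirr : ∀ i, IrrFam (X i)) [Nonempty ι] {i j : Fin k} {h : GL ι F} (hij : ∀ x ∈ Q i, h * x * h⁻¹ ∈ Q j)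
    (hcard : Nat.card (Q j) ≤ Nat.card (Q i)) :
    ∃ α : Matrix (Fin (d j)) (Fin (d i)) F, α ≠ 0 ∧ d i = d j ∧
      ∀ x : Q i, X j ⟨h * x.1 * h⁻¹, hij _ x.2⟩ * α = α * X i x := by
  classical
  obtain ⟨M, hM⟩ := (frM e P).surjective (mat h)
  obtain ⟨z, w, hzw⟩ : ∃ z w, M z w ≠ 0 := by
    by_contra hcon
    push Not at hcon
    have h0 : M = 0 := Matrix.ext hcon
    rw [h0, map_zero] at hM
    exact h.isUnit.ne_zero hM.symm
  let α : Matrix (Fin (d j)) (Fin (d i)) F := Matrix.of fun b a => M (Function.update z j b) (Function.update w i a)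
  have hα0 : α ≠ 0 := fun h0 => hzw (by
    have h1 := congrFun (congrFun h0 (z j)) (w i)
    simpa [α] using h1)
  have hrel : ∀ x : Q i, X j ⟨h * x.1 * h⁻¹, hij _ x.2⟩ * α = α * X i x := by
    intro x
    have h1 : slot j (X j ⟨h * x.1 * h⁻¹, hij _ x.2⟩) * M = M * slot i (X i x) := (frM e P).injective (by
      rw [map_mul, map_mul, hX, hX, hM]
      simp only [mat]
      rw [← Units.val_mul, ← Units.val_mul]
      congr 1
      group)
    ext b a
    have h2 := congrFun (congrFun h1 (Function.update z j b)) (Function.update w i a)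
    rw [slot_mul, mul_slot] at h2
    simpa [α, Matrix.mul_apply] using h2
  have hsurj : ∀ y : Q j, ∃ x : Q i, (⟨h * x.1 * h⁻¹, hij _ x.2⟩ : Q j) = y := by
    intro y
    have h1 : (Q i).map (MulAut.conj h).toMonoidHom = Q j := Subgroup.eq_of_le_of_card_ge
      (by rintro _ ⟨x, hx, rfl⟩; exact hij x hx)
      (hcard.trans (Nat.card_congr ((Q i).equivMapOfInjective _ (MulAut.conj h).injective).toEquiv).le)
    obtain ⟨x, hx, hxy⟩ := (h1.ge y.2 : y.1 ∈ (Q i).map _)
    exact ⟨⟨x, hx⟩, Subtype.ext hxy⟩
  have hirr' : IrrFam fun x : Q i => X j ⟨h * x.1 * h⁻¹, hij _ x.2⟩ := fun W hW => hirr j W fun y v hv => by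
    obtain ⟨x, rfl⟩ := hsurj y
    exact hW x v hv
  refine ⟨α, hα0, ?_, hrel⟩
  have h3 := card_eq_of_schur (hirr i) hirr' hα0 hrel
  rwa [Fintype.card_fin, Fintype.card_fin] at h3

/-- The orders of conjugate factors agree. -/
theorem IsFactors.card_le {H : Subgroup (GL ι F)} {Q : Fin k → Subgroup (GL ι F)} [Nonempty ι] (hQ : IsFactors H Q)
    (i j : Fin k) : Nat.card (Q i) ≤ Nat.card (Q j) := by
  obtain ⟨g, hg, hij⟩ := hQ.transitive i j
  refine Nat.card_le_card_of_injective (fun x : Q i => (⟨g * x.1 * g⁻¹, hij _ x.2⟩ : Q j)) fun x y h => Subtype.ext ?_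
  exact mul_left_cancel (mul_right_cancel (congrArg Subtype.val h))

set_option maxHeartbeats 1000000 in
/-- In a frame adapted to the factors the group is inside the wreath product. -/
theorem wreath_of_slots [Nonempty ι] {H : Subgroup (GL ι F)} {Q : Fin k → Subgroup (GL ι F)} (hQ : IsFactors H Q)
    {m : ℕ} (hm0 : 0 < m) {e : ι ≃ (Fin k → Fin m)} {P : GL ι F} {X : (i : Fin k) → Q i → Matrix (Fin m) (Fin m) F}
    (hX : ∀ i (x : Q i), frM e P (slot (d := fun _ : Fin k => m) i (X i x)) = mat x.1) (hirr : ∀ i, IrrFam (X i)) :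
    H ≤ tensorWreathSubgroup m k e P := by
  classical
  have hcardle := hQ.card_le
  have i₀ : Fin k := ⟨0, by have := hQ.two_le; omega⟩
  refine (le_map_of_comap_le e P ?_).trans (map_fr_eq_wreath e P).le
  intro h hh
  obtain ⟨π, hπ⟩ := hQ.perm (fr e P h) hh
  choose α hα0 hdim hα using fun i => exists_intertw hX hirr (hπ i) (hcardle _ _)
  have hu : ∀ i, IsUnit (α i) := fun i => by
    refine isUnit_of_schur (hirr i) (b := fun x : Q i => X (π i) ⟨fr e P h * x.1 * (fr e P h)⁻¹, hπ i _ x.2⟩) ?_ (hα0 i) (hα i)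
    intro W hW
    refine hirr (π i) W fun y v hv => ?_
    have h1 : (Q i).map (MulAut.conj (fr e P h)).toMonoidHom = Q (π i) := Subgroup.eq_of_le_of_card_ge
      (by rintro _ ⟨x, hx, rfl⟩; exact hπ i x hx)
      ((hcardle _ _).trans (Nat.card_congr ((Q i).equivMapOfInjective _ (MulAut.conj (fr e P h)).injective).toEquiv).le)
    obtain ⟨x, hx, hxy⟩ := (h1.ge y.2 : y.1 ∈ (Q i).map _)
    rw [← (Subtype.ext hxy : (⟨fr e P h * x * (fr e P h)⁻¹, hπ i x hx⟩ : Q (π i)) = y)]
    exact hW ⟨x, hx⟩ v hv
  let gs : Fin k → GL (Fin m) F := fun j => (hu (π.symm j)).unit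
  let K : GL (Fin k → Fin m) F := pureU gs * permU π
  have hK : ∀ x y, mat K x y = ∏ i, α i (x (π i)) (y i) := fun x y => by
    rw [pureU_mul_permU_apply]
    refine Finset.prod_congr rfl fun i _ => ?_
    show (α (π.symm (π i))) _ _ = _
    rw [Equiv.symm_apply_apply]
  have hKrel : ∀ i (x : Q i), slot (π i) (X (π i) ⟨fr e P h * x.1 * (fr e P h)⁻¹, hπ i _ x.2⟩) * mat K =
      mat K * slot i (X i x) := by
    intro i x
    ext p q
    rw [slot_mul, mul_slot]
    have h1 : ∀ b, mat K (Function.update p (π i) b) q = α i b (q i) * ∏ l ∈ Finset.univ.erase i, α l (p (π l)) (q l) := by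
      intro b
      rw [hK, ← Finset.mul_prod_erase _ _ (Finset.mem_univ i), Function.update_self]
      exact congrArg _ (Finset.prod_congr rfl fun l hl => by
        rw [Function.update_of_ne (π.injective.ne (Finset.ne_of_mem_erase hl))])
    have h2 : ∀ a, mat K p (Function.update q i a) = α i (p (π i)) a * ∏ l ∈ Finset.univ.erase i, α l (p (π l)) (q l) := by
      intro a
      rw [hK, ← Finset.mul_prod_erase _ _ (Finset.mem_univ i), Function.update_self]
      exact congrArg _ (Finset.prod_congr rfl fun l hl => by rw [Function.update_of_ne (Finset.ne_of_mem_erase hl)])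
    have h3 := congrFun (congrFun (hα i x) (p (π i))) (q i)
    simp only [Matrix.mul_apply] at h3
    simp only [h1, h2, ← mul_assoc, ← Finset.sum_mul]
    rw [h3, Finset.sum_mul]
    exact Finset.sum_congr rfl fun a _ => by ring
  obtain ⟨c, hc⟩ : ∃ c : F, mat (K⁻¹ * h) = c • 1 := by
    obtain ⟨c, hc⟩ := (abs_iff.1 hQ.abs).2 (frM e P (mat (K⁻¹ * h))) fun g hg => by
      have hle : (⨆ i, Q i : Subgroup (GL ι F)) ≤ commG (frM e P (mat (K⁻¹ * h))) := iSup_le fun i x hx => by
        show Commute _ (mat x)
        rw [← hX i ⟨x, hx⟩]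
        show _ * _ = _ * _
        rw [← map_mul, ← map_mul]
        refine congrArg _ ?_
        have h1 : slot (π i) (X (π i) ⟨fr e P h * x * (fr e P h)⁻¹, hπ i _ hx⟩) * mat h =
            mat h * slot i (X i ⟨x, hx⟩) := (frM e P).injective (by
          rw [map_mul, map_mul, hX, hX, frM_mat]
          simp only [mat]
          rw [← Units.val_mul, ← Units.val_mul]
          congr 1
          group)
        calc mat (K⁻¹ * h) * slot i (X i ⟨x, hx⟩) = mat K⁻¹ * (mat h * slot i (X i ⟨x, hx⟩)) := by
              rw [mat, Units.val_mul, mul_assoc]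
          _ = mat K⁻¹ * (slot (π i) (X (π i) ⟨fr e P h * x * (fr e P h)⁻¹, hπ i _ hx⟩) * mat K) * mat K⁻¹ * mat h := by
              rw [← h1]; simp only [mul_assoc]; rw [← mul_assoc (mat K) (mat K⁻¹), mat_mul_inv, one_mul]
          _ = mat K⁻¹ * (mat K * slot i (X i ⟨x, hx⟩)) * mat K⁻¹ * mat h := by rw [hKrel i ⟨x, hx⟩]
          _ = slot i (X i ⟨x, hx⟩) * mat (K⁻¹ * h) := by
              rw [← mul_assoc (mat K⁻¹), mat_inv_mul, one_mul, mul_assoc]; rfl
      exact (hle hg : Commute _ _)
    exact ⟨c, (frM e P).injective (by rw [hc, map_smul, map_one])⟩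
  have hc0 : c ≠ 0 := by
    intro e0
    rw [e0, zero_smul] at hc
    haveI : Nonempty (Fin m) := ⟨⟨0, hm0⟩⟩
    exact (K⁻¹ * h).isUnit.ne_zero hc
  let cs : Fin k → GL (Fin m) F := Function.update 1 i₀ (sc c hc0)
  have hcs : mat (pureU cs) = c • 1 := by
    show pureM (fun j => mat (cs j)) = _
    ext p q
    rw [Matrix.smul_apply, ← pureM_one]
    simp only [pureM, Matrix.of_apply, Pi.one_apply, smul_eq_mul]
    rw [← Finset.mul_prod_erase _ _ (Finset.mem_univ i₀), ← Finset.mul_prod_erase _ _ (Finset.mem_univ i₀),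
      show mat (cs i₀) = c • (1 : Matrix (Fin m) (Fin m) F) by simp only [cs, Function.update_self]; exact mat_sc hc0,
      Matrix.smul_apply, smul_eq_mul, mul_assoc]
    exact congrArg _ (congrArg _ (Finset.prod_congr rfl fun j hj => by
      simp [cs, Function.update_of_ne (Finset.ne_of_mem_erase hj), mat]))
  have he : h = K * pureU cs := by
    have h1 : K⁻¹ * h = pureU cs := Units.ext (hc.trans hcs.symm)
    rw [← h1, mul_inv_cancel_left]
  rw [he]
  exact mul_mem (pureU_mul_permU_mem gs π) (Subgroup.subset_closure (Or.inl ⟨cs, fun _ _ => rfl⟩))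

set_option maxHeartbeats 1000000 in
/-- The factors give a wreath product or a form. -/
theorem wreath_or_sim [Nonempty ι] {H : Subgroup (GL ι F)} {Q : Fin k → Subgroup (GL ι F)} (hQ : IsFactors H Q) :
    InSim H ∨ ∃ (m : ℕ) (e : ι ≃ (Fin k → Fin m)) (P : GL ι F), 3 ≤ m ∧ H ≤ tensorWreathSubgroup m k e P := by
  classical
  obtain ⟨d, e, P, X, hd, hX, hirr⟩ := exists_slots hQ.commute hQ.abs
  have hcardle : ∀ i j, Nat.card (Q i) ≤ Nat.card (Q j) := fun i j => by
    obtain ⟨g, hg, hij⟩ := hQ.transitive i j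
    refine Nat.card_le_card_of_injective (fun x : Q i => (⟨g * x.1 * g⁻¹, hij _ x.2⟩ : Q j)) fun x y h => Subtype.ext ?_
    exact mul_left_cancel (mul_right_cancel (congrArg Subtype.val h))
  have i₀ : Fin k := ⟨0, by have := hQ.two_le; omega⟩
  obtain ⟨m, hm⟩ : ∃ m, ∀ i, d i = m := ⟨d i₀, fun i => by
    obtain ⟨g, hg, hij⟩ := hQ.transitive i i₀
    exact (exists_intertw hX hirr hij (hcardle _ _)).choose_spec.2.1⟩
  obtain rfl : d = fun _ => m := funext hm
  have hm0 : 0 < m := hd i₀
  have hmul : ∀ i (x y : Q i), X i (x * y) = X i x * X i y := fun i x y => by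
    refine slot_injective hd i ((frM e P).injective ?_)
    rw [hX, ← slot_mul_slot, map_mul, hX, hX, Subgroup.coe_mul]
    exact Units.val_mul _ _
  have hnorm : Normalised H (⨆ i, Q i : Subgroup (GL ι F)) := by
    intro g hg x hx
    obtain ⟨π, hπ⟩ := hQ.perm g hg
    have hle : (⨆ i, Q i : Subgroup (GL ι F)).map (MulAut.conj g).toMonoidHom ≤ ⨆ i, Q i := by
      rw [Subgroup.map_iSup]
      refine iSup_le fun i => ?_
      rintro _ ⟨y, hy, rfl⟩
      exact le_iSup Q (π i) (hπ i y hy)
    exact hle ⟨x, hx, rfl⟩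
  have hcardι : Fintype.card ι = m ^ k := by
    rw [Fintype.card_congr e, Fintype.card_fun, Fintype.card_fin, Fintype.card_fin]
  rcases (show m = 1 ∨ m = 2 ∨ 3 ≤ m by omega) with rfl | rfl | hm3
  · exfalso
    haveI : Subsingleton ι := Fintype.card_le_one_iff_subsingleton.1 (by rw [hcardι, one_pow])
    obtain ⟨o⟩ := (inferInstance : Nonempty ι)
    refine hQ.nonscalar i₀ fun g _ => mem_scalars_of_smul (c := mat g o o) ?_
    ext a b
    rw [Subsingleton.elim a o, Subsingleton.elim b o]
    simp
  · left
    -- the product of the alternating forms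
    let J : Matrix (Fin 2) (Fin 2) F := !![0, 1; -1, 0]
    have hJ : ∀ A : Matrix (Fin 2) (Fin 2) F, Aᵀ * J * A = A.det • J := fun A => by
      ext a b
      fin_cases a <;> fin_cases b <;> simp [J, Matrix.mul_apply, Matrix.det_fin_two] <;> ring
    let G : Matrix (Fin k → Fin 2) (Fin k → Fin 2) F := pureM fun _ => J
    have hfix : ∀ i (A : Matrix (Fin 2) (Fin 2) F), A.det = 1 →
        (slot (d := fun _ : Fin k => 2) i A)ᵀ * G * slot (d := fun _ : Fin k => 2) i A = G := by
      intro i A hA
      ext x y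
      rw [mul_slot]
      have h1 : ∀ z, ((slot (d := fun _ : Fin k => 2) i A)ᵀ * G) x z = ∑ a, A a (x i) * G (Function.update x i a) z := by
        intro z
        have h2 := slot_mul (d := fun _ : Fin k => 2) i Aᵀ G x z
        rw [show (slot (d := fun _ : Fin k => 2) i A)ᵀ = slot (d := fun _ : Fin k => 2) i Aᵀ from ?_, h2]
        · rfl
        · ext p q
          simp only [slot, Matrix.transpose_apply, Matrix.of_apply]
          exact if_congr ⟨fun h j hj => (h j hj).symm, fun h j hj => (h j hj).symm⟩ rfl rfl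
      simp only [h1]
      have h3 : ∀ a b, G (Function.update x i a) (Function.update y i b) =
          J a b * ∏ j ∈ Finset.univ.erase i, J (x j) (y j) := fun a b => by
        simp only [G, pureM, Matrix.of_apply]
        rw [← Finset.mul_prod_erase _ _ (Finset.mem_univ i), Function.update_self, Function.update_self]
        exact congrArg _ (Finset.prod_congr rfl fun j hj => by
          rw [Function.update_of_ne (Finset.ne_of_mem_erase hj), Function.update_of_ne (Finset.ne_of_mem_erase hj)])
      simp only [h3]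
      have h4 := congrFun (congrFun (hJ A) (x i)) (y i)
      rw [hA, one_smul] at h4
      simp only [Matrix.mul_apply, Matrix.transpose_apply] at h4
      simp only [G, pureM, Matrix.of_apply]
      rw [← Finset.mul_prod_erase _ _ (Finset.mem_univ i), ← h4, Finset.sum_mul]
      refine Finset.sum_congr rfl fun b _ => ?_
      simp only [Finset.sum_mul]
      exact Finset.sum_congr rfl fun a _ => by ring
    have hdet : ∀ i (x : Q i), (X i x).det = 1 := by
      intro i x
      let f : Q i →* F :=
        { toFun := fun y => (X i y).det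
          map_one' := by
            have h1 := congrArg Matrix.det (hmul i 1 1)
            rw [mul_one, Matrix.det_mul] at h1
            rcases eq_or_ne (X i 1).det 0 with h0 | h0
            · exfalso
              obtain ⟨v, hv, hv'⟩ := Matrix.exists_mulVec_eq_zero_iff.2 h0
              refine hv ((Submodule.mem_bot F).1 ?_)
              have h2 : ∀ y : Q i, ∀ w ∈ LinearMap.ker (X i 1).mulVecLin, X i y *ᵥ w ∈ LinearMap.ker (X i 1).mulVecLin := by
                intro y w hw
                rw [LinearMap.mem_ker, Matrix.mulVecLin_apply] at hw ⊢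
                have h3 := hmul i y 1
                rw [mul_one] at h3
                rw [h3, ← Matrix.mulVec_mulVec, hw, Matrix.mulVec_zero, Matrix.mulVec_zero]
              rcases hirr i _ h2 with h3 | h3
              · exact h3 ▸ LinearMap.mem_ker.2 hv'
              · exfalso
                have h4 : X i 1 = 0 := Matrix.mulVec_injective (funext fun w => by
                  rw [Matrix.zero_mulVec]
                  exact LinearMap.mem_ker.1 (h3 ▸ Submodule.mem_top : w ∈ LinearMap.ker (X i 1).mulVecLin))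
                have h5 := hX i 1
                rw [h4, show slot (d := fun _ : Fin k => 2) i (0 : Matrix (Fin 2) (Fin 2) F) = 0 by
                  ext p q; simp [slot], map_zero] at h5
                exact (1 : GL ι F).isUnit.ne_zero h5.symm
            · exact mul_left_cancel₀ h0 (h1.symm.trans (mul_one _).symm)
          map_mul' := fun y z => by rw [hmul, Matrix.det_mul] }
      have h1 := congrArg Units.val (inv_eq_one_of_hom (hQ.perfect i) f.toHomUnits x)
      simpa [f] using h1
    let G₀ : Matrix ι ι F := (mat P⁻¹)ᵀ * G.submatrix e e * mat P⁻¹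
    have hG₀ : G₀ ≠ 0 := by
      intro h0
      have h1 : G.submatrix e e = (mat P)ᵀ * G₀ * mat P := by
        simp only [G₀, ← mul_assoc, ← Matrix.transpose_mul, mat_inv_mul, Matrix.transpose_one, one_mul]
        rw [mul_assoc, mat_inv_mul, mul_one]
      rw [h0, mul_zero, zero_mul] at h1
      have h2 := congrFun (congrFun h1 (e.symm fun _ => 0)) (e.symm fun _ => 1)
      simp [G, pureM, J] at h2
    refine sim_of_bilinear ?_ hQ.abs hnorm hG₀ ?_
    · rw [hcardι]
      exact le_trans (by norm_num) (Nat.pow_le_pow_right two_pos (show 1 ≤ k from i₀.pos))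
    intro g hg
    refine Subgroup.iSup_induction (C := fun g => act (RingEquiv.refl F) G₀ (mat g) = G₀) Q hg ?_ ?_ ?_
    · intro i x hx
      have hs := congrArg (fun Y : Matrix (Fin k → Fin 2) (Fin k → Fin 2) F => Y.submatrix e e)
        (hfix i (X i ⟨x, hx⟩) (hdet i _))
      have hx' : mat x = mat P * (slot (d := fun _ : Fin k => 2) i (X i ⟨x, hx⟩)).submatrix e e * mat P⁻¹ :=
        (hX i ⟨x, hx⟩).symm
      simp only [← Matrix.submatrix_mul_equiv _ _ e e e, ← Matrix.transpose_submatrix] at hs
      have hid : ∀ A : Matrix ι ι F, A.map (RingEquiv.refl F) = A := fun A => by ext a b; rfl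
      simp only [act, hid, hx', G₀, Matrix.transpose_mul]
      set S := (slot (d := fun _ : Fin k => 2) i (X i ⟨x, hx⟩)).submatrix e e
      conv_rhs => rw [← hs]
      simp only [mul_assoc]
      rw [← mul_assoc (mat P⁻¹) (mat P), mat_inv_mul, one_mul, ← mul_assoc (mat P)ᵀ, ← Matrix.transpose_mul,
        mat_inv_mul, Matrix.transpose_one, one_mul]
    · simp [act, mat]
    · intro a b ha hb
      rw [mat, Units.val_mul]
      simp only [act, mat] at ha hb ⊢
      rw [Matrix.map_mul, Matrix.transpose_mul]
      simp only [← mul_assoc]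
      rw [mul_assoc _ _ G₀, mul_assoc _ _ ((a : Matrix ι ι F).map (RingEquiv.refl F)), ha, hb]
  exact Or.inr ⟨m, e, P, hm3, wreath_of_slots hQ hm0 hX hirr⟩

end Cfsg.Agent.Asch
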