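import Cfsg.Agent.Asch.SympCases
import Cfsg.Agent.Asch.Wreath
import Cfsg.Agent.PrimeDim.SLCases

/-!
Every linear group in dimension at least three lies in a geometric member or is almost simple modulo scalars.
-/

set_option autoImplicit false
set_option linter.unusedSectionVars false

namespace Cfsg.Agent.Asch

open Matrix Cfsg.Geo Cfsg.Agent.PrimeDim
open scoped MatrixGroups Kronecker commutatorElement

variable {F : Type*} [Field F] [Fintype F] {ι : Type} [Fintype ι] [DecidableEq ι]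

/-- A symplectic form lives in even dimension. -/
theorem even_of_symp {f : (ι → F) → (ι → F) → F} (hf : IsSymplecticForm f) : Even (Fintype.card ι) := by
  by_contra hodd
  refine (isSesq_of_bilinear hf.bilinear).det_ne_zero hf.nondegenerate
    (det_eq_zero_of_alt (Nat.not_even_iff_odd.1 hodd) ?_ fun i => hf.alternating _)
  ext a b
  exact hf.skew _ _

/-- In characteristic two the polar form of a non-degenerate quadratic form is symplectic. -/
theorem symp_polar {Q : (ι → F) → F} (hQ : IsNondegenerateQuadraticForm Q) (h2 : (2 : F) = 0) :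
    IsSymplecticForm (QuadraticMap.polar Q) := by
  refine ⟨hQ.polar_bilinear, fun v w => ?_, fun v => ?_, hQ.nondegenerate⟩
  · rw [QuadraticMap.polar_comm Q v w]
    linear_combination QuadraticMap.polar Q w v * h2
  · have h1 : Q (v + v) = 0 := by
      rw [← two_smul F v, h2, hQ.smul, zero_pow two_ne_zero, zero_mul]
    rw [QuadraticMap.polar, h1]
    linear_combination -Q v * h2

/-- Forms fixed by an absolutely irreducible normal subgroup. -/
theorem sim_of_fixed_form {N H : Subgroup (GL ι F)} (hN : ActsAbsolutelyIrreducibly (matrixSet N))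
    (hn : Normalised H N)
    (h : (∃ Q : (ι → F) → F, IsNondegenerateQuadraticForm Q ∧ FixesQuadForm (matrixSet N) Q) ∨
      (∃ f : (ι → F) → (ι → F) → F, IsSymplecticForm f ∧ FixesForm (matrixSet N) f) ∨
      (∃ (σ : F ≃+* F) (f : (ι → F) → (ι → F) → F), IsUnitaryForm σ f ∧ FixesForm (matrixSet N) f)) : InSim H := by
  have hbil : ∀ (σ : F ≃+* F) (f : (ι → F) → (ι → F) → F), IsSesq σ f → IsNondegenerateForm f →
      FixesForm (matrixSet N) f → H ≤ similarityGroup f := by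
    intro σ f hs hnd hfix g hg
    obtain ⟨c, hc⟩ := similar hN hn (hs.det_ne_zero hnd) (fun x hx => (hs.fixes_iff x).1 (hfix _ ⟨x, hx, rfl⟩)) g hg
    exact hs.mem_similarity hc
  rcases h with ⟨Q, hQ, hfix⟩ | ⟨f, hf, hfix⟩ | ⟨σ, f, hf, hfix⟩
  · have hfix' : FixesForm (matrixSet N) (QuadraticMap.polar Q) := fun s hs u v => by
      simp only [QuadraticMap.polar, ← Matrix.mulVec_add, hfix s hs]
    have hle := hbil (RingEquiv.refl F) _ (isSesq_of_bilinear hQ.polar_bilinear) hQ.nondegenerate hfix'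
    rcases eq_or_ne (2 : F) 0 with h2 | h2
    · exact Or.inl ⟨_, symp_polar hQ h2, even_of_symp (symp_polar hQ h2), hle⟩
    · refine Or.inr (Or.inr ⟨Q, hQ, h2, fun g hg => ?_⟩)
      obtain ⟨c, hc⟩ := hle hg
      refine ⟨c, fun v => mul_left_cancel₀ h2 ?_⟩
      rw [quad_eq_half hQ, hc, ← quad_eq_half hQ]
      ring
  · exact Or.inl ⟨f, hf, even_of_symp hf, hbil _ f (isSesq_of_bilinear hf.bilinear) hf.nondegenerate hfix⟩
  · exact Or.inr (Or.inl ⟨σ, f, hf, hbil σ f (isSesq_of_unitary hf) hf.nondegenerate hfix⟩)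

theorem glReindex_symm_apply {α β : Type} [Fintype α] [DecidableEq α] [Fintype β] [DecidableEq β] (f : α ≃ β)
    (X : GL α F) : glReindex f.symm (glReindex f X) = X := by
  ext i j
  show mat X (f.symm (f i)) (f.symm (f j)) = mat X i j
  rw [Equiv.symm_apply_apply, Equiv.symm_apply_apply]

theorem tensor_swap {d k : ℕ} (e : ι ≃ Fin d × Fin k) (P : GL ι F) :
    tensorProductSubgroup d k e P ≤ tensorProductSubgroup k d (e.trans (Equiv.prodComm _ _)) P := by
  rw [← map_fr_eq_tensor, ← map_fr_eq_tensor]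
  rintro _ ⟨X, ⟨A, B, hX⟩, rfl⟩
  refine ⟨glReindex (Equiv.prodComm (Fin d) (Fin k)) X, ⟨B, A, ?_⟩, ?_⟩
  · show (mat X).submatrix (Equiv.prodComm (Fin d) (Fin k)).symm (Equiv.prodComm (Fin d) (Fin k)).symm = _
    rw [show mat X = (A : Matrix (Fin d) (Fin d) F) ⊗ₖ (B : Matrix (Fin k) (Fin k) F) from hX]
    ext ⟨i, j⟩ ⟨i', j'⟩
    simp [Matrix.kronecker_apply, mul_comm]
  · show fr (e.trans (Equiv.prodComm (Fin d) (Fin k))) P _ = fr e P X
    rw [← fr_reindex]
    exact congrArg _ (glReindex_symm_apply _ X)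

theorem tensor_le_wreath {d : ℕ} (e : ι ≃ Fin d × Fin d) (P : GL ι F) :
    tensorProductSubgroup d d e P ≤ tensorWreathSubgroup d 2 (e.trans (finTwoArrowEquiv (Fin d)).symm) P := by
  rw [← map_fr_eq_tensor, ← map_fr_eq_wreath]
  rintro _ ⟨X, ⟨A, B, hX⟩, rfl⟩
  refine ⟨glReindex (finTwoArrowEquiv (Fin d)).symm X, Subgroup.subset_closure (Or.inl ⟨![A, B], fun x y => ?_⟩), ?_⟩
  · show mat X (finTwoArrowEquiv (Fin d) x) (finTwoArrowEquiv (Fin d) y) = _
    rw [show mat X = (A : Matrix (Fin d) (Fin d) F) ⊗ₖ (B : Matrix (Fin d) (Fin d) F) from hX, Fin.prod_univ_two]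
    simp [Matrix.kronecker_apply]
  · show fr (e.trans (finTwoArrowEquiv (Fin d)).symm) P _ = fr e P X
    rw [← fr_reindex]
    exact congrArg _ (glReindex_symm_apply _ X)

/-- Two tensor factors of dimension two: an orthogonal geometry. -/
theorem sim_of_two_two {H : Subgroup (GL ι F)} (e : ι ≃ Fin 2 × Fin 2) (P : GL ι F)
    (hH : H ≤ tensorProductSubgroup 2 2 e P) : InSim H := by
  let L := (frL e P).symm
  let q : (Fin 2 × Fin 2 → F) → F := fun x => x (0, 0) * x (1, 1) - x (0, 1) * x (1, 0)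
  let Q : (ι → F) → F := fun v => q (L v)
  let b : (Fin 2 × Fin 2 → F) → (Fin 2 × Fin 2 → F) → F := fun x y =>
    x (0, 0) * y (1, 1) + x (1, 1) * y (0, 0) - x (0, 1) * y (1, 0) - x (1, 0) * y (0, 1)
  have hpol : ∀ u v, QuadraticMap.polar Q u v = b (L u) (L v) := fun u v => by
    simp only [QuadraticMap.polar, Q, q, b, map_add, Pi.add_apply]
    ring
  have hQ : IsNondegenerateQuadraticForm Q := by
    refine ⟨fun c v => by simp only [Q, q, map_smul, Pi.smul_apply, smul_eq_mul]; ring, ⟨?_, ?_, ?_, ?_⟩, ?_⟩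
    · intro x y v; simp only [hpol, b, map_add, Pi.add_apply]; ring
    · intro c x v; simp only [hpol, b, map_smul, Pi.smul_apply, smul_eq_mul]; ring
    · intro v x y; simp only [hpol, b, map_add, Pi.add_apply]; ring
    · intro c v x; simp only [hpol, b, map_smul, Pi.smul_apply, smul_eq_mul]; ring
    intro v hv
    obtain ⟨⟨i, j⟩, hij⟩ := Function.ne_iff.1 (show L v ≠ 0 from fun h => hv (L.map_eq_zero_iff.1 h))
    refine ⟨⟨L.symm (Pi.single (1 - i, 1 - j) 1), ?_⟩, ⟨L.symm (Pi.single (1 - i, 1 - j) 1), ?_⟩⟩ <;>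
    · rw [hpol, LinearEquiv.apply_symm_apply]
      simp only [b]
      fin_cases i <;> fin_cases j <;> simp_all [Pi.single_apply]
  have hmem : ∀ g ∈ H, ∃ c : Fˣ, ∀ v, Q (mat g *ᵥ v) = c * Q v := by
    intro g hg
    obtain ⟨X, ⟨A, B, hX⟩, rfl⟩ := (map_fr_eq_tensor e P).ge (hH hg)
    refine ⟨Matrix.GeneralLinearGroup.det A * Matrix.GeneralLinearGroup.det B, fun v => ?_⟩
    have hL : L (mat (fr e P X) *ᵥ v) = mat X *ᵥ L v := (frL e P).injective (by
      rw [← fr_mulVec, LinearEquiv.apply_symm_apply, LinearEquiv.apply_symm_apply])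
    show q (L (mat (fr e P X) *ᵥ v)) = _ * q (L v)
    rw [hL, Units.val_mul, Matrix.GeneralLinearGroup.val_det_apply, Matrix.GeneralLinearGroup.val_det_apply,
      show mat X = (A : Matrix (Fin 2) (Fin 2) F) ⊗ₖ (B : Matrix (Fin 2) (Fin 2) F) from hX]
    simp only [q, Matrix.mulVec, dotProduct, Fintype.sum_prod_type, Fin.sum_univ_two, Matrix.kronecker_apply,
      Matrix.det_fin_two]
    ring
  rcases eq_or_ne (2 : F) 0 with h2 | h2
  · refine Or.inl ⟨_, symp_polar hQ h2, even_of_symp (symp_polar hQ h2), fun g hg => ?_⟩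
    obtain ⟨c, hc⟩ := hmem g hg
    refine ⟨c, fun u v => ?_⟩
    simp only [QuadraticMap.polar, ← Matrix.mulVec_add]
    rw [hc, hc, hc]
    ring
  · exact Or.inr (Or.inr ⟨Q, hQ, h2, fun g hg => hmem g hg⟩)

/-- The outcomes of Aschbacher's division. -/
def Outcome {n : ℕ} (Hp : Subgroup (GL (Fin n) F)) : Prop :=
  (∃ W : Submodule F (Fin n → F), W ≠ ⊥ ∧ W ≠ ⊤ ∧ Hp ≤ subspaceStabilizer W) ∨ Imprim Hp ∨ FieldNorm Hp ∨
  (∃ (d k : ℕ) (e : Fin n ≃ Fin d × Fin k) (P : GL (Fin n) F), 2 ≤ d ∧ d < k ∧ Hp ≤ tensorProductSubgroup d k e P) ∨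
  SubfieldIn Hp ∨ ClassSix Hp ∨
  (∃ (m t : ℕ) (e : Fin n ≃ (Fin t → Fin m)) (P : GL (Fin n) F), 3 ≤ m ∧ 2 ≤ t ∧ Hp ≤ tensorWreathSubgroup m t e P) ∨
  InSim Hp

set_option maxHeartbeats 1000000 in
/-- The division into outcomes and the residual class. -/
theorem linear_cases {n : ℕ} (hn : 3 ≤ n) (H : Subgroup (GL (Fin n) F)) :
    Outcome (H ⊔ scalars (Fin n) F) ∨ InLinearResidualClass H := by
  classical
  haveI : Nonempty (Fin n) := ⟨⟨0, by omega⟩⟩
  let Hp := H ⊔ scalars (Fin n) F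
  have hHle : H ≤ Hp := le_sup_left
  haveI : (scalars (Fin n) F).Normal := inferInstance
  have hcomm : ∀ x ∈ Hp, ∀ y ∈ Hp, ⁅x, y⁆ ∈ H := by
    intro x hx y hy
    obtain ⟨a, ha, z, hz, rfl⟩ := Subgroup.mem_sup_of_normal_right.1 hx
    obtain ⟨b, hb, w, hw, rfl⟩ := Subgroup.mem_sup_of_normal_right.1 hy
    have e1 : ⁅a * z, b * w⁆ = ⁅a, b⁆ := by
      simp only [commutatorElement_def, _root_.mul_inv_rev]
      calc a * z * (b * w) * (z⁻¹ * a⁻¹) * (w⁻¹ * b⁻¹) = a * (z * (b * w) * z⁻¹) * a⁻¹ * (w⁻¹ * b⁻¹) := by group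
        _ = a * b * (w * a⁻¹ * w⁻¹) * b⁻¹ := by rw [scalar_comm' hz (b * w)]; group
        _ = a * b * a⁻¹ * b⁻¹ := by rw [scalar_comm' hw a⁻¹]; group
    rw [e1, commutatorElement_def]
    exact mul_mem (mul_mem (mul_mem ha hb) (inv_mem ha)) (inv_mem hb)
  have hsim : InSim Hp → Outcome Hp := fun h => by
    iterate 7 right
    exact h
  have hsubf : SubfieldIn Hp → Outcome Hp := fun h => by
    iterate 4 right
    exact Or.inl h
  have hsix : ClassSix Hp → Outcome Hp := fun h => by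
    iterate 5 right
    exact Or.inl h
  have hwr : (∃ (m t : ℕ) (e : Fin n ≃ (Fin t → Fin m)) (P : GL (Fin n) F), 3 ≤ m ∧ 2 ≤ t ∧
      Hp ≤ tensorWreathSubgroup m t e P) → Outcome Hp := fun h => by
    iterate 6 right
    exact Or.inl h
  by_cases hirr : Irr Hp
  swap
  · obtain ⟨W, hb, ht, hW⟩ := exists_inv_of_not_irr hirr
    exact Or.inl (Or.inl ⟨W, hb, ht, le_stab hW⟩)
  by_cases hgeo : Imprim Hp ∨ FieldNorm Hp ∨ TensorTwo Hp
  · left
    rcases hgeo with h | h | ⟨d, k, e, P, hd, hk, hle⟩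
    · exact Or.inr (Or.inl h)
    · exact Or.inr (Or.inr (Or.inl h))
    · rcases lt_trichotomy d k with hlt | heq | hgt
      · exact Or.inr (Or.inr (Or.inr (Or.inl ⟨d, k, e, P, hd, hlt, hle⟩)))
      · subst heq
        rcases (show d = 2 ∨ 3 ≤ d by omega) with rfl | hd3
        · exact hsim (sim_of_two_two e P hle)
        · exact hwr ⟨d, 2, _, P, hd3, le_rfl, hle.trans (tensor_le_wreath e P)⟩
      · exact Or.inr (Or.inr (Or.inr (Or.inl ⟨k, d, _, P, hk, hgt, hle.trans (tensor_swap e P)⟩)))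
  have hgood : Good Hp := fun N _ hnorm hns => by
    rcases clifford hirr hnorm hns with h | h | h | h
    exacts [absurd (Or.inl h) hgeo, absurd (Or.inr (Or.inl h)) hgeo, absurd (Or.inr (Or.inr h)) hgeo, h]
  by_cases hab : ∃ N : Subgroup (GL (Fin n) F), N ≤ Hp ∧ Normalised Hp N ∧ ¬ N ≤ scalars (Fin n) F ∧
      ∀ x ∈ N, ∀ y ∈ N, x * y * x⁻¹ * y⁻¹ ∈ scalars (Fin n) F
  · left
    obtain ⟨N, h1, h2, h3, h4⟩ := hab
    obtain ⟨r, R, hR⟩ := exists_symp le_sup_right hgood h1 h2 h3 h4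
    rcases symp_cases (by rw [Fintype.card_fin]; exact hn) hR with h | h | h
    · exact hsix h
    · exact hsubf h
    · exact hsim h
  have hns : ¬ Hp ≤ scalars (Fin n) F := by
    intro hle
    obtain ⟨i⟩ := (inferInstance : Nonempty (Fin n))
    let W : Submodule F (Fin n → F) := Submodule.span F {Pi.single i (1 : F)}
    have hW : Inv Hp W := fun g hg v hv => by
      obtain ⟨c, hc⟩ := (Cfsg.Geo.mem_scalars_iff g).1 (hle hg)
      rw [mat, hc, smul_one_mulVec]
      exact Submodule.smul_mem _ _ hv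
    have hne : (Pi.single i (1 : F) : Fin n → F) ≠ 0 := by simp
    rcases hirr W hW with h | h
    · exact hne ((Submodule.mem_bot F).1 (h ▸ Submodule.subset_span rfl))
    · have h1 : Module.finrank F W = 1 := finrank_span_singleton hne
      rw [h, finrank_top, Module.finrank_fintype_fun_eq_card, Fintype.card_fin] at h1
      omega
  rcases core_or_factors hgood hns (fun N h1 h2 h3 h4 => hab ⟨N, h1, h2, h3, h4⟩) with ⟨P, hP⟩ | ⟨t, Q, hQ⟩
  swap
  · left
    rcases wreath_or_sim hQ with h | ⟨m, e, P, hm, hle⟩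
    · exact hsim h
    · exact hwr ⟨m, t, e, P, hm, hQ.two_le, hle⟩
  by_cases hreal : ∃ F₀ : Subfield F, F₀ ≠ ⊤ ∧ RealisableOver F₀ (matrixSet P)
  · obtain ⟨F₀, hF₀, hr⟩ := hreal
    obtain ⟨B, hB⟩ := realisable_mat.1 hr
    obtain ⟨F₁, l, hl, hcard, -, hle⟩ := le_subfield hP.abs hP.normalised hF₀ hB
    exact Or.inl (hsubf ⟨F₁, l, B⁻¹, hl, hcard, hle⟩)
  by_cases hform : (∃ Q : (Fin n → F) → F, IsNondegenerateQuadraticForm Q ∧ FixesQuadForm (matrixSet P) Q) ∨
      (∃ f : (Fin n → F) → (Fin n → F) → F, IsSymplecticForm f ∧ FixesForm (matrixSet P) f) ∨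
      (∃ (σ : F ≃+* F) (f : (Fin n → F) → (Fin n → F) → F), IsUnitaryForm σ f ∧ FixesForm (matrixSet P) f)
  · exact Or.inl (hsim (sim_of_fixed_form hP.abs hP.normalised hform))
  right
  have hPH : P ≤ H := by
    rw [← hP.perfect, Subgroup.commutator_le]
    exact fun x hx y hy => hcomm x (hP.le hx) y (hP.le hy)
  refine ⟨P, ⟨hPH, fun h hh x hx => hP.normalised h (hHle hh) x hx, hP.perfect, hP.simple, hP.nonabelian,
    fun h _ hc => comm_of_abs hP.abs (comm_of_perfect hP.perfect hc), hP.abs, fun F₀ h0 h1 => hreal ⟨F₀, h0, h1⟩⟩,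
    fun h => hform (Or.inl h), fun h => hform (Or.inr (Or.inl h)), fun h => hform (Or.inr (Or.inr h))⟩

/-- The general linear statement. -/
theorem linear_structure {n : ℕ} (hn : 3 ≤ n) (H : Subgroup (GL (Fin n) F)) :
    (∃ M : Subgroup (GL (Fin n) F), InLinearClass n F M ∧ H ≤ M) ∨ InLinearResidualClass H := by
  refine (linear_cases hn H).imp_left fun hout => ?_
  have hle' : H ≤ H ⊔ scalars (Fin n) F := le_sup_left
  rcases hout with ⟨W, hb, ht, hle⟩ | ⟨t, m, D, hD, hle⟩ | ⟨r, K, hr, hK, hle⟩ | ⟨d, k, e, P, hd, hlt, hle⟩ |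
    ⟨F₀, l, P, hl, hcard, hle⟩ | ⟨r, R, hd, hR, -⟩ | ⟨m, t, e, P, hm, ht, hle⟩ |
    ⟨f, hf, hev, hle⟩ | ⟨σ, f, hf, hle⟩ | ⟨Q, hQ, h2, hle⟩
  · exact ⟨_, Or.inl ⟨W, hb, ht, rfl⟩, hle'.trans hle⟩
  · refine ⟨_, ?_, hle'.trans hle⟩
    iterate 3 right
    exact Or.inl ⟨t, m, D, hD, rfl⟩
  · refine ⟨_, ?_, hle'.trans hle⟩
    iterate 4 right
    exact Or.inl ⟨r, K, hr, hK, rfl⟩
  · refine ⟨_, ?_, hle'.trans hle⟩
    iterate 5 right
    exact Or.inl ⟨d, k, e, P, hd, hlt, rfl⟩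
  · refine ⟨_, ?_, hle'.trans hle⟩
    iterate 6 right
    exact Or.inl ⟨F₀, l, P, hl, hcard, rfl⟩
  · refine ⟨_, ?_, hle'.trans (le_normalizer hR.normalised)⟩
    iterate 7 right
    exact Or.inl ⟨r, R, hd, rfl⟩
  · refine ⟨_, ?_, hle'.trans hle⟩
    iterate 8 right
    exact Or.inl ⟨m, t, e, P, hm, ht, rfl⟩
  · rw [Fintype.card_fin] at hev
    refine ⟨_, ?_, hle'.trans hle⟩
    iterate 9 right
    exact Or.inl ⟨f, hf, hev, by obtain ⟨l, hl⟩ := hev; omega, rfl⟩
  · refine ⟨_, ?_, hle'.trans hle⟩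
    iterate 10 right
    exact Or.inl ⟨σ, f, hf, hn, rfl⟩
  · refine ⟨_, ?_, hle'.trans hle⟩
    iterate 11 right
    exact ⟨Q, hQ, odd_of_two_ne_zero h2, hn, rfl⟩

end Cfsg.Agent.Asch
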