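import Cfsg.Agent.Asch.FormSlots
import Cfsg.Agent.PrimeDim.OmegaProper
import Cfsg.Agent.Asch.Main

/-!
Elements moving few vectors lie in few stabilisers of geometric structures.
-/

set_option autoImplicit false
set_option linter.unusedSectionVars false

namespace Cfsg.Agent.Asch

open Matrix Cfsg.Geo Cfsg.Agent.PrimeDim
open scoped MatrixGroups Kronecker

variable {F : Type*} [Field F] {ι κ : Type} [Fintype ι] [DecidableEq ι] [Fintype κ] [DecidableEq κ]

/-- The fixed vectors have codimension at most `d`. -/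
def Small (d : ℕ) (g : GL ι F) : Prop :=
  Fintype.card ι ≤ Module.finrank F (LinearMap.ker (Matrix.toLin' (mat g - 1))) + d

theorem mem_fixed {g : GL ι F} {v : ι → F} :
    v ∈ LinearMap.ker (Matrix.toLin' (mat g - 1)) ↔ mat g *ᵥ v = v := by
  rw [LinearMap.mem_ker, Matrix.toLin'_apply, Matrix.sub_mulVec, Matrix.one_mulVec, sub_eq_zero]

theorem small_of_image {d : ℕ} {g : GL ι F} (S : Submodule F (ι → F)) (hS : Module.finrank F S ≤ d)
    (h : ∀ x, mat g *ᵥ x - x ∈ S) : Small d g := by
  have h1 := LinearMap.finrank_range_add_finrank_ker (Matrix.toLin' (mat g - 1))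
  have h2 : Module.finrank F (LinearMap.range (Matrix.toLin' (mat g - 1))) ≤ d := le_trans (Submodule.finrank_mono (by
    rintro _ ⟨x, rfl⟩
    rw [Matrix.toLin'_apply, Matrix.sub_mulVec, Matrix.one_mulVec]
    exact h x)) hS
  rw [Module.finrank_fintype_fun_eq_card] at h1
  show Fintype.card ι ≤ _ + d
  omega

theorem Small.le_of_disjoint {d : ℕ} {g : GL ι F} (h : Small d g) (S : Submodule F (ι → F))
    (hS : ∀ v ∈ S, mat g *ᵥ v = v → v = 0) : Module.finrank F S ≤ d := by
  have h1 := Submodule.finrank_sup_add_finrank_inf_eq S (LinearMap.ker (Matrix.toLin' (mat g - 1)))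
  have h2 : S ⊓ LinearMap.ker (Matrix.toLin' (mat g - 1)) = ⊥ := by
    rw [eq_bot_iff]
    exact fun v hv => (Submodule.mem_bot F).2 (hS v hv.1 (mem_fixed.1 hv.2))
  have h3 := Submodule.finrank_le (S ⊔ LinearMap.ker (Matrix.toLin' (mat g - 1)))
  rw [h2, finrank_bot] at h1
  rw [Module.finrank_fintype_fun_eq_card] at h3
  have h4 : Fintype.card ι ≤ Module.finrank F (LinearMap.ker (Matrix.toLin' (mat g - 1))) + d := h
  omega

theorem small_fr {d : ℕ} {e : ι ≃ κ} {P : GL ι F} {X : GL κ F} (h : Small d (fr e P X)) : Small d X := by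
  let L := frL e P
  have hle : (LinearMap.ker (Matrix.toLin' (mat (fr e P X) - 1))).map L.symm.toLinearMap ≤
      LinearMap.ker (Matrix.toLin' (mat X - 1)) := by
    rintro _ ⟨v, hv, rfl⟩
    rw [SetLike.mem_coe, mem_fixed] at hv
    rw [mem_fixed]
    refine L.injective ?_
    rw [← fr_mulVec, LinearEquiv.coe_coe, LinearEquiv.apply_symm_apply, hv]
  have h1 := Submodule.finrank_mono hle
  rw [LinearEquiv.finrank_map_eq] at h1
  have h4 : Fintype.card ι ≤ Module.finrank F (LinearMap.ker (Matrix.toLin' (mat (fr e P X) - 1))) + d := h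
  show Fintype.card κ ≤ _ + d
  rw [← Fintype.card_congr e]
  omega

/-- A coordinate subspace. -/
theorem finrank_coords {γ : Type} [Fintype γ] (j : γ → κ) (hj : Function.Injective j) :
    Module.finrank F (Submodule.span F (Set.range fun i => (Pi.single (j i) 1 : κ → F))) = Fintype.card γ :=
  finrank_span_eq_card (R := F) (by
    have h := (Pi.basisFun F κ).linearIndependent.comp j hj
    simpa [Function.comp_def] using h)

theorem coords_eq {γ : Type} [Fintype γ] {j : γ → κ} {v : κ → F}
    (hv : v ∈ Submodule.span F (Set.range fun i => (Pi.single (j i) 1 : κ → F))) {p : κ} (hp : ∀ i, j i ≠ p) :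
    v p = 0 := by
  obtain ⟨c, rfl⟩ := (Submodule.mem_span_range_iff_exists_fun F).1 hv
  simp only [Finset.sum_apply, Pi.smul_apply, smul_eq_mul]
  exact Finset.sum_eq_zero fun i _ => by rw [Pi.single_eq_of_ne (hp i).symm, mul_zero]

theorem Small.kron_diag {d a b : ℕ} {X : GL (Fin a × Fin b) F} {A : GL (Fin a) F} {B : GL (Fin b) F}
    (hX : mat X = (A : Matrix (Fin a) (Fin a) F) ⊗ₖ (B : Matrix (Fin b) (Fin b) F)) (h : Small d X) (hb : d < b)
    {i i' : Fin a} (hne : i ≠ i') : mat A i i' = 0 := by
  by_contra h0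
  let S : Submodule F (Fin a × Fin b → F) :=
    Submodule.span F (Set.range fun j : Fin b => (Pi.single (i', j) 1 : Fin a × Fin b → F))
  have h1 := h.le_of_disjoint S fun v hv hfix => ?_
  · rw [finrank_coords (fun j : Fin b => (i', j)) (fun _ _ e => congrArg Prod.snd e), Fintype.card_fin] at h1
    omega
  have hoff : ∀ p : Fin a × Fin b, p.1 ≠ i' → v p = 0 := fun p hp => coords_eq hv fun j e => hp (e ▸ rfl)
  have hw : mat B *ᵥ (fun j => v (i', j)) = 0 := funext fun j => by
    have h2 := congrFun hfix (i, j)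
    rw [hoff (i, j) hne] at h2
    rw [hX, Matrix.mulVec, dotProduct, Fintype.sum_prod_type, Finset.sum_eq_single i'] at h2
    · simp only [Matrix.kronecker_apply, mul_assoc, ← Finset.mul_sum] at h2
      exact (mul_eq_zero.1 h2).resolve_left h0
    · exact fun l _ hl => Finset.sum_eq_zero fun j' _ => by rw [hoff (l, j') hl, mul_zero]
    · simp
  have hz := mulVec_injective B (hw.trans (Matrix.mulVec_zero _).symm)
  funext p
  by_cases hp : p.1 = i'
  · obtain ⟨p, q⟩ := p
    obtain rfl : p = i' := hp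
    exact congrFun hz q
  · exact hoff p hp

theorem Small.kron_eq_one {d a b : ℕ} (ha : d < a) (hb : d < b) {e : ι ≃ Fin a × Fin b} {P g : GL ι F}
    (hg : g ∈ tensorProductSubgroup a b e P) (h : Small d g) : g = 1 := by
  classical
  obtain ⟨X, ⟨A, B, hX⟩, rfl⟩ := (map_fr_eq_tensor e P).ge hg
  replace h := small_fr h
  suffices hX1 : X = 1 by rw [hX1, map_one]
  have hA : ∀ i i', i ≠ i' → mat A i i' = 0 := fun i i' hne => h.kron_diag hX hb hne
  have hB : ∀ j j', j ≠ j' → mat B j j' = 0 := fun j j' hne => by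
    obtain ⟨X', hX'⟩ := (fr (Equiv.prodComm (Fin a) (Fin b)) (1 : GL (Fin a × Fin b) F)).surjective X
    have hm : mat X' = (B : Matrix (Fin b) (Fin b) F) ⊗ₖ (A : Matrix (Fin a) (Fin a) F) := by
      ext ⟨q, p⟩ ⟨q', p'⟩
      have h1 := congrFun (congrFun (congrArg mat hX') (p, q)) (p', q')
      rw [mat_fr, show mat X = (A : Matrix (Fin a) (Fin a) F) ⊗ₖ (B : Matrix (Fin b) (Fin b) F) from hX] at h1
      simpa [mat, mul_comm] using h1
    exact (small_fr (hX'.symm ▸ h)).kron_diag hm ha hne
  set α : Fin a → F := fun i => mat A i i with hα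
  set β : Fin b → F := fun j => mat B j j with hβ
  have hdiag : ∀ p q, mat X p q = if p = q then α p.1 * β p.2 else 0 := by
    rintro ⟨i, j⟩ ⟨i', j'⟩
    rw [show mat X = (A : Matrix (Fin a) (Fin a) F) ⊗ₖ (B : Matrix (Fin b) (Fin b) F) from hX, Matrix.kronecker_apply]
    split_ifs with he
    · obtain ⟨rfl, rfl⟩ := Prod.ext_iff.1 he
      rfl
    · rcases (not_and_or.1 fun e' : i = i' ∧ j = j' => he (Prod.ext e'.1 e'.2)) with e | e
      · rw [show (A : Matrix (Fin a) (Fin a) F) i i' = 0 from hA i i' e, zero_mul]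
      · rw [show (B : Matrix (Fin b) (Fin b) F) j j' = 0 from hB j j' e, mul_zero]
  have hmul : ∀ v p, (mat X *ᵥ v) p = α p.1 * β p.2 * v p := fun v p => by
    simp [Matrix.mulVec, dotProduct, hdiag]
  let T := {p : Fin a × Fin b // α p.1 * β p.2 ≠ 1}
  have hT : Fintype.card T ≤ d := by
    have h1 := h.le_of_disjoint (Submodule.span F (Set.range fun t : T => (Pi.single t.1 1 : Fin a × Fin b → F)))
      fun v hv hfix => funext fun p => ?_
    · rwa [finrank_coords (fun t : T => t.1) Subtype.val_injective] at h1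
    · by_cases hp : α p.1 * β p.2 = 1
      · exact coords_eq hv fun t e => t.2 (e ▸ hp)
      · have h2 := congrFun hfix p
        rw [hmul] at h2
        exact (mul_eq_zero.1 (show (α p.1 * β p.2 - 1) * v p = 0 by linear_combination h2)).resolve_left
          (sub_ne_zero.2 hp)
  have hgood : ∀ {c : ℕ}, d < c → ∀ f g : Fin c → Fin a × Fin b, Function.Injective f → Function.Injective g →
      (∀ x y, f x ≠ g y ∨ x = y) → ∃ x, α (f x).1 * β (f x).2 = 1 ∧ α (g x).1 * β (g x).2 = 1 := by
    intro c hc f g hf hg hfg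
    by_contra hcon
    let φ : Fin c → T := fun x => if hx : α (f x).1 * β (f x).2 = 1
      then ⟨g x, fun e => hcon ⟨x, hx, e⟩⟩ else ⟨f x, hx⟩
    have hφ : Function.Injective φ := fun x y e => by
      have e' := congrArg Subtype.val e
      simp only [φ] at e'
      split_ifs at e' with hx hy hy
      · exact hg e'
      · exact ((hfg y x).resolve_left (fun n => n e'.symm)).symm
      · exact (hfg x y).resolve_left (fun n => n e')
      · exact hf e'
    have := Fintype.card_le_of_injective φ hφ
    rw [Fintype.card_fin] at this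
    omega
  have hα' : ∀ i i', α i = α i' := fun i i' => by
    obtain ⟨j, h1, h2⟩ := hgood hb (fun j => (i, j)) (fun j => (i', j)) (fun _ _ e => congrArg Prod.snd e)
      (fun _ _ e => congrArg Prod.snd e) fun x y => (ne_or_eq x y).imp_left fun n e => n (congrArg Prod.snd e)
    exact mul_right_cancel₀ (right_ne_zero_of_mul_eq_one h1) (h1.trans h2.symm)
  have hβ' : ∀ j j', β j = β j' := fun j j' => by
    obtain ⟨i, h1, h2⟩ := hgood ha (fun i => (i, j)) (fun i => (i, j')) (fun _ _ e => congrArg Prod.fst e)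
      (fun _ _ e => congrArg Prod.fst e) fun x y => (ne_or_eq x y).imp_left fun n e => n (congrArg Prod.fst e)
    exact mul_left_cancel₀ (left_ne_zero_of_mul_eq_one h1) (h1.trans h2.symm)
  obtain ⟨j, h1, -⟩ := hgood hb (fun j => ((⟨0, by omega⟩ : Fin a), j)) (fun j => ((⟨0, by omega⟩ : Fin a), j))
    (fun _ _ e => congrArg Prod.snd e) (fun _ _ e => congrArg Prod.snd e)
    fun x y => (ne_or_eq x y).imp_left fun n e => n (congrArg Prod.snd e)
  refine Units.ext (Matrix.ext fun p q => ?_)
  show mat X p q = (1 : Matrix (Fin a × Fin b) (Fin a × Fin b) F) p q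
  rw [hdiag, Matrix.one_apply, hα' p.1 ⟨0, by omega⟩, hβ' p.2 j, h1]

/-- A small element normalising a large field is trivial. -/
theorem Small.field_eq_one {d r : ℕ} {K : Subalgebra F (Matrix ι ι F)} (hK : IsFieldSubalgebra r K) (hr : d < r)
    (hn : 2 * d < Fintype.card ι) {g : GL ι F} (hg : g ∈ subalgebraNormalizer K) (h : Small d g) : g = 1 := by
  classical
  set N := mat g - 1 with hN
  by_cases hcomm : ∀ x ∈ K, mat g * x * mat g⁻¹ = x
  · by_contra hne
    obtain ⟨u, hu⟩ : ∃ u, N *ᵥ u ≠ 0 := by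
      by_contra hcon
      push Not at hcon
      exact hne (Units.ext (sub_eq_zero.1 (Matrix.mulVec_injective (funext fun u => (hcon u).trans (Matrix.zero_mulVec u).symm))))
    let L : K →ₗ[F] LinearMap.range (Matrix.toLin' N) :=
      { toFun := fun x => ⟨(x : Matrix ι ι F) *ᵥ (N *ᵥ u), ⟨(x : Matrix ι ι F) *ᵥ u, by
          have hc : mat g * x.1 = x.1 * mat g := by
            conv_rhs => rw [← hcomm x.1 x.2, mul_assoc, mat_inv_mul, mul_one]
          rw [Matrix.toLin'_apply, Matrix.mulVec_mulVec, Matrix.mulVec_mulVec]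
          congr 1
          rw [hN, sub_mul, one_mul, mul_sub, mul_one, hc]⟩⟩
        map_add' := fun x y => Subtype.ext (Matrix.add_mulVec _ _ _)
        map_smul' := fun c x => Subtype.ext (Matrix.smul_mulVec c _ _) }
    have hL : Function.Injective L := by
      refine (injective_iff_map_eq_zero L).2 fun x hx => Subtype.ext ?_
      by_contra h0
      obtain ⟨y, hy, hxy⟩ := hK.inv x.1 x.2 h0
      have h1 := congrArg (y *ᵥ ·) (congrArg Subtype.val hx)
      simp only [L, LinearMap.coe_mk, AddHom.coe_mk, Matrix.mulVec_mulVec, ZeroMemClass.coe_zero,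
        Matrix.mulVec_zero] at h1
      rw [← mul_assoc, hK.comm y hy x.1 x.2, hxy, one_mul] at h1
      exact hu h1
    have h1 := LinearMap.finrank_le_finrank_of_injective hL
    have h2 := LinearMap.finrank_range_add_finrank_ker (Matrix.toLin' N)
    have h4 : Fintype.card ι ≤ Module.finrank F (LinearMap.ker (Matrix.toLin' N)) + d := h
    rw [hK.finrank_eq] at h1
    rw [Module.finrank_fintype_fun_eq_card] at h2
    omega
  · exfalso
    push Not at hcomm
    obtain ⟨x, hx, hne⟩ := hcomm
    set y := mat g * x * mat g⁻¹ with hy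
    have hyK : y ∈ K := (hg x).1 hx
    obtain ⟨z, -, hz⟩ := hK.inv (x - y) (sub_mem hx hyK) (sub_ne_zero.2 (Ne.symm hne))
    obtain ⟨z', -, hz'⟩ := hK.inv x hx fun e => hne (by rw [hy, e, mul_zero, zero_mul])
    set W := LinearMap.ker (Matrix.toLin' N) with hW
    have hinj : Function.Injective (Matrix.toLin' x) := fun v w e => by
      have h1 := congrArg (z' *ᵥ ·) (show x *ᵥ v = x *ᵥ w by simpa [Matrix.toLin'_apply] using e)
      simp only [Matrix.mulVec_mulVec, mul_eq_one_comm.1 hz', Matrix.one_mulVec] at h1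
      exact h1
    have hdis : W ⊓ W.map (Matrix.toLin' x) = ⊥ := by
      rw [eq_bot_iff]
      rintro _ ⟨hw, v, hv, rfl⟩
      rw [SetLike.mem_coe, hW, hN, mem_fixed] at hv hw
      rw [Matrix.toLin'_apply] at hw ⊢
      have h1 : y *ᵥ v = x *ᵥ v := by
        conv_rhs => rw [← hw, Matrix.mulVec_mulVec]
        conv_lhs => rw [hy, ← hv, Matrix.mulVec_mulVec, mul_assoc, mat_inv_mul, mul_one]
      have h3 : (x - y) *ᵥ v = 0 := by rw [Matrix.sub_mulVec, h1, sub_self]
      have h4 := congrArg (z *ᵥ ·) h3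
      simp only [Matrix.mulVec_mulVec, mul_eq_one_comm.1 hz, Matrix.one_mulVec, Matrix.mulVec_zero] at h4
      rw [h4, Matrix.mulVec_zero]
      exact zero_mem _
    have h1 := Submodule.finrank_sup_add_finrank_inf_eq W (W.map (Matrix.toLin' x))
    rw [hdis, finrank_bot, ← (Submodule.equivMapOfInjective _ hinj W).finrank_eq] at h1
    have h2 := Submodule.finrank_le (W ⊔ W.map (Matrix.toLin' x))
    rw [Module.finrank_fintype_fun_eq_card] at h2
    have h4 : Fintype.card ι ≤ Module.finrank F W + d := h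
    omega

/-- A small element fixes every member of a decomposition into large members. -/
theorem Small.fixes_blocks {d t m : ℕ} {D : Fin t → Submodule F (ι → F)} (hD : IsMDecomposition m D) (hm : d < m)
    {g : GL ι F} (hg : g ∈ decompositionStabilizer D) (h : Small d g) (i : Fin t) :
    (D i).map (Matrix.toLin' (mat g)) = D i := by
  obtain ⟨τ, hτ⟩ := hg
  by_cases hi : τ i = i
  · conv_rhs => rw [← hi]
    exact hτ i
  exfalso
  have h1 := h.le_of_disjoint (D i) fun v hv hfix => ?_
  · rw [hD.finrank_eq] at h1; omega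
  have h2 : v ∈ D (τ i) := by
    rw [← hτ i]
    exact ⟨v, hv, by rw [Matrix.toLin'_apply]; exact hfix⟩
  exact (Submodule.mem_bot F).1 (disjoint_iff.1 (hD.indep.pairwiseDisjoint (Ne.symm hi)) ▸ Submodule.mem_inf.2 ⟨hv, h2⟩)

/-- Small elements of a subfield group have their entries in the subfield. -/
theorem Small.entries [Finite F] {d : ℕ} {F₁ : Subfield F} {P g : GL ι F} (hn : 2 * d < Fintype.card ι)
    (hg : g ∈ subfieldSubgroup F₁ P) (h : Small d g) : Entries F₁ (mat (P⁻¹ * g * P)) := by
  classical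
  haveI : Fintype F := Fintype.ofFinite F
  obtain ⟨c, X, hX, hcX⟩ := exists_of_mem_subfieldSubgroup hg
  obtain ⟨τ, hτ, -⟩ := exists_powHom F₁
  set Y := mat (P⁻¹ * g * P) with hY
  have hY1 : Small d (P⁻¹ * g * P) := by
    refine small_fr (e := Equiv.refl ι) (P := P) ?_
    rw [show fr (Equiv.refl ι) P (P⁻¹ * g * P) = g from Units.ext (by
      rw [show (fr (Equiv.refl ι) P (P⁻¹ * g * P) : Matrix ι ι F) = mat (fr (Equiv.refl ι) P (P⁻¹ * g * P)) from rfl,
        mat_fr, Equiv.coe_refl, Matrix.submatrix_id_id]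
      simp only [mat, ← Units.val_mul]
      congr 1
      group)]
    exact h
  have hc : c ≠ 0 := by
    intro e
    rw [e, zero_smul] at hcX
    haveI : Nonempty ι := Fintype.card_pos_iff.1 (by omega)
    exact (P⁻¹ * g * P).isUnit.ne_zero hcX
  set W := LinearMap.ker (Matrix.toLin' (Y - 1)) with hW
  have hWX : ∀ v ∈ W, X *ᵥ v = c⁻¹ • v := fun v hv => by
    rw [hW, hY, mem_fixed] at hv
    conv_rhs => rw [← hv]
    rw [show mat (P⁻¹ * g * P) = c • X from hcX, Matrix.smul_mulVec, smul_smul, inv_mul_cancel₀ hc, one_smul]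
  have hfix : τ c⁻¹ = c⁻¹ := by
    by_contra hne
    let b := Module.finBasis F W
    let v : Fin (Module.finrank F W) → ι → F := fun i a => τ ((b i).1 a)
    have hXv : ∀ i, X *ᵥ v i = τ c⁻¹ • v i := fun i => by
      funext a
      have h1 := congrArg τ (congrFun (hWX _ (b i).2) a)
      rw [RingHom.map_mulVec] at h1
      rw [show X.map τ = X from Matrix.ext fun p q => (hτ _).1 (hX p q)] at h1
      rw [Pi.smul_apply, smul_eq_mul] at h1 ⊢
      rw [map_mul] at h1
      exact h1
    have hτs : Function.Surjective τ := Finite.surjective_of_injective τ.injective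
    have hli : LinearIndependent F v := by
      refine Fintype.linearIndependent_iff.2 fun s hs i => ?_
      choose s' hs' using fun i => hτs (s i)
      have h1 : ∑ i, s' i • (b i).1 = 0 := funext fun a => τ.injective (by
        have h2 := congrFun hs a
        simp only [Finset.sum_apply, Pi.smul_apply, smul_eq_mul, map_sum, map_mul, Pi.zero_apply, map_zero, hs', v] at h2 ⊢
        exact h2)
      have h3 := Fintype.linearIndependent_iff.1 (b.linearIndependent.map' _ (LinearMap.ker_eq_bot.2 W.subtype_injective)) s'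
        h1 i
      rw [← hs', h3, map_zero]
    have h1 := hY1.le_of_disjoint (Submodule.span F (Set.range v)) fun w hw hfix => ?_
    · rw [finrank_span_eq_card hli, Fintype.card_fin] at h1
      have h4 : Fintype.card ι ≤ Module.finrank F W + d := hY1
      omega
    have hXw : X *ᵥ w = τ c⁻¹ • w := by
      have key : ∀ z ∈ Submodule.span F (Set.range v), X *ᵥ z = τ c⁻¹ • z := by
        intro z hz
        induction hz using Submodule.span_induction with
        | mem x hx => obtain ⟨i, rfl⟩ := hx; exact hXv i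
        | zero => simp
        | add x y _ _ hx hy => rw [Matrix.mulVec_add, hx, hy, smul_add]
        | smul s x _ hx => rw [Matrix.mulVec_smul, hx, smul_comm]
      exact key w hw
    have h2 := hWX w (by rw [hW, hY, mem_fixed]; exact hfix)
    rw [hXw] at h2
    exact (smul_eq_zero.1 (show (τ c⁻¹ - c⁻¹) • w = 0 by rw [sub_smul, h2, sub_self])).resolve_left (sub_ne_zero.2 hne)
  intro p q
  show Y p q ∈ F₁
  rw [show Y = c • X from hcX, Matrix.smul_apply, smul_eq_mul]
  exact mul_mem (inv_inv c ▸ inv_mem ((hτ _).2 hfix)) (hX p q)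

/-- The square of a small element of a tensor square lies among the products. -/
theorem sq_mem_kron [Fintype F] {m : ℕ} {e : ι ≃ (Fin 2 → Fin m)} {P h : GL ι F} (hh : h ∈ tensorWreathSubgroup m 2 e P) :
    h * h ∈ tensorProductSubgroup m m (e.trans (finTwoArrowEquiv (Fin m))) P := by
  obtain ⟨X, hX, rfl⟩ := (map_fr_eq_wreath e P).ge hh
  obtain ⟨gs, π, hgs⟩ := mem_standard (mul_mem hX hX)
  obtain ⟨as, ρ, rfl⟩ := mem_standard hX
  have key : pureU as * permU ρ * (pureU as * permU ρ) = pureU (as * fun j => as (ρ.symm j)) := by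
    refine Units.ext ?_
    have hswap : (permM ρ * pureM (fun j => mat (as j)) : Matrix (Fin 2 → Fin m) (Fin 2 → Fin m) F) =
        pureM (fun j => mat (as (ρ.symm j))) * permM ρ := by
      refine Matrix.ext fun x y => ?_
      have h1 := pureU_mul_permU_apply (fun j => as (ρ.symm j)) ρ x y
      rw [show mat (pureU (fun j => as (ρ.symm j)) * permU ρ) =
        pureM (fun j => mat (as (ρ.symm j))) * permM ρ from rfl] at h1
      rw [h1, Matrix.mul_apply, Finset.sum_eq_single (x ∘ ρ)]
      · simp only [permM, pureM, Matrix.of_apply, if_true, one_mul, Equiv.symm_apply_apply, Function.comp_apply]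
      · intro z _ hz
        simp [permM, hz]
      · simp
    show pureM (fun j => mat (as j)) * permM ρ * (pureM (fun j => mat (as j)) * permM ρ) =
      pureM (fun j => mat ((as * fun j => as (ρ.symm j)) j))
    rw [mul_assoc, ← mul_assoc (permM ρ), hswap, mul_assoc, permM_mul, ← mul_assoc, pureM_mul,
      show ρ * ρ = 1 from (show ∀ ρ : Equiv.Perm (Fin 2), ρ * ρ = 1 by decide) ρ, permM_one, mul_one]
    rfl
  rw [← map_fr_eq_tensor]
  set bs := as * fun j => as (ρ.symm j) with hbs
  refine ⟨glReindex (finTwoArrowEquiv (Fin m)) (pureU bs), ⟨bs 0, bs 1, ?_⟩, ?_⟩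
  · ext p q
    show mat (pureU bs) ((finTwoArrowEquiv (Fin m)).symm p) ((finTwoArrowEquiv (Fin m)).symm q) = _
    show pureM (fun j => mat (bs j)) _ _ = _
    simp [pureM, Fin.prod_univ_two, Matrix.kronecker_apply]
  · rw [← map_mul, key]
    show fr (e.trans (finTwoArrowEquiv (Fin m))) P _ = fr e P (pureU bs)
    rw [← fr_reindex]
    exact congrArg _ (glReindex_symm_apply _ _)

end Cfsg.Agent.Asch
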