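import Cfsg.Agent.NotMax.Parts
import Cfsg.Agent.Asch.SmallMove
import Cfsg.Agent.Asch.Slots
import Cfsg.Agent.NotMax.Basic
import Cfsg.Agent.ClassicalMax.RootPlanes

/-!
Subgroups containing all Siegel transformations lie in none of the geometric members.
-/

set_option autoImplicit false
set_option linter.unusedSectionVars false

namespace Cfsg.Agent.Asch

open Matrix Cfsg.Geo Cfsg.Agent.PrimeDim QuadraticMap
open scoped MatrixGroups Kronecker commutatorElement
open Cfsg.Agent.Classical Cfsg.Agent.Classical.Quad Cfsg.Agent.ClassicalMax.RootPlanes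

variable {F : Type*} [Field F] [Fintype F] {ι : Type} [Fintype ι] [DecidableEq ι]
  {Q : QuadraticForm F (ι → F)} {A : Subgroup (GL ι F)}

/-- The subgroup contains every Siegel transformation. -/
def HasSg (Q : QuadraticForm F (ι → F)) (A : Subgroup (GL ι F)) : Prop :=
  ∀ p w : ι → F, Q p = 0 → polar Q p w = 0 → ∃ g ∈ A, ∀ x, mat g *ᵥ x =
    x + polar Q x w • p + (-polar Q x p) • w + (-(Q w * polar Q x p)) • p

theorem hasSg_omega (hQ : (polarBilin Q).Nondegenerate) (hn : 5 ≤ Fintype.card ι) : HasSg Q (omegaGL ⇑Q) :=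
  fun _ _ hp hpw => NotMax.exists_siegel hQ hn hp hpw

theorem sg_sub_mem {p w : ι → F} {g : GL ι F} (hg : ∀ x, mat g *ᵥ x =
    x + polar Q x w • p + (-polar Q x p) • w + (-(Q w * polar Q x p)) • p) (x : ι → F) :
    mat g *ᵥ x - x ∈ Submodule.span F ({p, w} : Set (ι → F)) := by
  rw [hg, show x + polar Q x w • p + (-polar Q x p) • w + (-(Q w * polar Q x p)) • p - x =
    (polar Q x w - Q w * polar Q x p) • p + (-polar Q x p) • w by module]
  exact add_mem (Submodule.smul_mem _ _ (Submodule.subset_span (by simp)))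
    (Submodule.smul_mem _ _ (Submodule.subset_span (by simp)))

theorem rank_pair_le (p w : ι → F) : Module.finrank F (Submodule.span F ({p, w} : Set (ι → F))) ≤ 2 := by
  classical
  have h3 := finrank_span_le_card (R := F) ({p, w} : Set (ι → F))
  have h4 : ({p, w} : Set (ι → F)).toFinset.card ≤ 2 := by simpa using Finset.card_le_two (a := p) (b := w)
  omega

theorem sg_small {p w : ι → F} {g : GL ι F} (hg : ∀ x, mat g *ᵥ x =
    x + polar Q x w • p + (-polar Q x p) • w + (-(Q w * polar Q x p)) • p) : Small 2 g :=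
  small_of_image _ (rank_pair_le p w) (sg_sub_mem hg)

theorem rank_line_le (p : ι → F) : Module.finrank F (Submodule.span F ({p} : Set (ι → F))) ≤ 1 :=
  (finrank_span_le_card ({p} : Set (ι → F))).trans (by simp)

/-- Such a subgroup is irreducible. -/
theorem sg_irr (hQ : (polarBilin Q).Nondegenerate) (hn : 7 ≤ Fintype.card ι) (hA : HasSg Q A) : Irr A := by
  intro W hW
  by_contra hcon
  push Not at hcon
  obtain ⟨hb, ht⟩ := hcon
  have hfr : Module.finrank F (ι → F) = Fintype.card ι := Module.finrank_fintype_fun_eq_card F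
  have step : ∀ v ∈ W, ∀ x, Q x = 0 → polar Q v x = 0 → v ∉ Submodule.span F ({x} : Set (ι → F)) → x ∈ W := by
    intro v hv x hx hvx hne
    obtain ⟨c, hc, hcx, hvc⟩ := exists_sing_sep hQ (Submodule.span F ({x} : Set (ι → F)))
      (by have := rank_line_le x; omega) hne
    have hcx' : polar Q x c = 0 := hcx x (Submodule.mem_span_singleton_self x)
    obtain ⟨g, hg, hgm⟩ := hA c x hc (by rwa [polar_comm])
    have h1 : mat g *ᵥ v - v ∈ W := W.sub_mem (hW g hg v hv) hv
    rw [hgm, hvx, hvc, hx, zero_mul, neg_zero, zero_smul, add_zero, add_zero, neg_one_smul,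
      add_sub_cancel_left] at h1
    exact neg_mem_iff.1 h1
  obtain ⟨v, hv, hv0⟩ := W.exists_mem_ne_zero_of_ne_bot hb
  obtain ⟨w, hw, hwv, hwp⟩ := exists_sing_perp (Q := Q) (Submodule.span F ({v} : Set (ι → F)))
    (by have := rank_line_le v; omega)
  have hwW : w ∈ W := step v hv w hw (hwp v (Submodule.mem_span_singleton_self v)) fun h => by
    obtain ⟨t, ht'⟩ := Submodule.mem_span_singleton.1 h
    rcases eq_or_ne t 0 with rfl | ht0
    · exact hv0 (by rw [← ht', zero_smul])
    · exact hwv (Submodule.mem_span_singleton.2 ⟨t⁻¹, by rw [← ht', smul_smul, inv_mul_cancel₀ ht0, one_smul]⟩)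
  have hw0 : w ≠ 0 := fun e => hwv (e ▸ zero_mem _)
  have hall : ∀ x, Q x = 0 → x ∈ W := by
    intro x hx
    by_cases hxs : w ∈ Submodule.span F ({x} : Set (ι → F))
    · obtain ⟨t, rfl⟩ := Submodule.mem_span_singleton.1 hxs
      have ht0 : t ≠ 0 := fun e => hw0 (by rw [e, zero_smul])
      exact (W.smul_mem_iff ht0).1 hwW
    by_cases hwx : polar Q w x = 0
    · exact step w hwW x hx hwx hxs
    obtain ⟨c, hc, hcU, hcp⟩ := exists_sing_perp (Q := Q) (Submodule.span F ({w, x} : Set (ι → F)))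
      (by have := rank_pair_le w x; omega)
    have hc0 : c ≠ 0 := fun e => hcU (e ▸ zero_mem _)
    have hcW : c ∈ W := step w hwW c hc (hcp w (Submodule.subset_span (by simp))) fun h => by
      obtain ⟨t, ht'⟩ := Submodule.mem_span_singleton.1 h
      rcases eq_or_ne t 0 with rfl | ht0
      · exact hw0 (by rw [← ht', zero_smul])
      · exact hcU (Submodule.smul_mem_iff _ ht0 |>.1 (ht'.symm ▸ Submodule.subset_span (by simp)))
    refine step c hcW x hx ?_ fun h => hcU ?_
    · rw [polar_comm]; exact hcp x (Submodule.subset_span (by simp))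
    · exact Submodule.span_mono (by simp) h
  obtain ⟨e, he0, he⟩ := exists_singular Q (by omega)
  obtain ⟨f, hf, hef⟩ := exists_hyp_pair hQ he0 he
  refine ht (Submodule.eq_top_iff'.2 fun y => ?_)
  set u := y - polar Q y f • e - polar Q y e • f with hu
  have hue : polar Q e u = 0 := by
    rw [hu, polar_sub_right, polar_sub_right, polar_smul_right, polar_smul_right, hef, polar_self', he, polar_comm Q e y]
    simp
  have hfu : polar Q u f = 0 := by
    rw [hu, polar_sub_left, polar_sub_left, polar_smul_left, polar_smul_left, hef, polar_self', hf]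
    simp
  have hs : Q (e + u + (-Q u) • f) = 0 := by
    rw [map_add_smul, map_add' e u, he, hue, hf, polar_add_left, hef, hfu]
    ring
  have huW : u ∈ W := by
    have h1 := W.sub_mem (W.sub_mem (hall _ hs) (hall e he)) (W.smul_mem (-Q u) (hall f hf))
    rwa [show e + u + (-Q u) • f - e - (-Q u) • f = u by abel] at h1
  rw [show y = u + polar Q y f • e + polar Q y e • f by rw [hu]; abel]
  exact add_mem (add_mem huW (W.smul_mem _ (hall e he))) (W.smul_mem _ (hall f hf))

/-- Only scalars commute with such a subgroup. -/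
theorem sg_comm (hQ : (polarBilin Q).Nondegenerate) (hn : 7 ≤ Fintype.card ι) (hA : HasSg Q A) {X : Matrix ι ι F}
    (hX : ∀ g ∈ A, X * mat g = mat g * X) : ∃ c : F, X = c • 1 := by
  have hfr : Module.finrank F (ι → F) = Fintype.card ι := Module.finrank_fintype_fun_eq_card F
  obtain ⟨p, hp0, hp⟩ := exists_singular Q (show 3 ≤ Module.finrank F (ι → F) by omega)
  have key : ∀ w, Q w = 0 → polar Q p w = 0 → w ∉ Submodule.span F ({p} : Set (ι → F)) →
      X *ᵥ p ∈ Submodule.span F ({p, w} : Set (ι → F)) := by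
    intro w hw hpw hne
    obtain ⟨x, hxp, hxw⟩ := exists_perp hQ hne
    obtain ⟨g, hg, hgm⟩ := hA p w hp hpw
    have h1 : polar Q x p = 0 := by rw [polar_comm]; exact hxp p (Submodule.mem_span_singleton_self p)
    have h2 : polar Q x w = 1 := by rw [polar_comm]; exact hxw
    have h3 : mat g *ᵥ x - x = p := by
      rw [hgm, h1, h2]
      simp
    rw [← h3, Matrix.mulVec_sub, Matrix.mulVec_mulVec, hX g hg, ← Matrix.mulVec_mulVec, h3]
    exact sg_sub_mem hgm _
  have hw : ∃ w, Q w = 0 ∧ w ∉ Submodule.span F ({p} : Set (ι → F)) ∧ polar Q p w = 0 := by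
    obtain ⟨w, h1, h2, h3⟩ := exists_sing_perp (Q := Q) (Submodule.span F ({p} : Set (ι → F)))
      (by have := rank_line_le p; omega)
    exact ⟨w, h1, h2, h3 p (Submodule.mem_span_singleton_self p)⟩
  obtain ⟨w, hw, hwp, hpw⟩ := hw
  obtain ⟨w', hw', hw'U, hw'p⟩ := exists_sing_perp (Q := Q) (Submodule.span F ({p, w} : Set (ι → F)))
    (by have := rank_pair_le p w; omega)
  obtain ⟨a, b, hab⟩ := Submodule.mem_span_pair.1 (key w hw hpw hwp)
  obtain ⟨c, d, hcd⟩ := Submodule.mem_span_pair.1 (key w' hw' (hw'p p (Submodule.subset_span (by simp)))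
    fun h => hw'U (Submodule.span_mono (by simp) h))
  have hd : d = 0 := by
    by_contra hd
    refine hw'U ((Submodule.smul_mem_iff _ hd).1 ?_)
    rw [show d • w' = (a - c) • p + b • w by
      have h1 := hab.trans hcd.symm
      rw [sub_smul]
      linear_combination (norm := module) -h1]
    exact add_mem (Submodule.smul_mem _ _ (Submodule.subset_span (by simp)))
      (Submodule.smul_mem _ _ (Submodule.subset_span (by simp)))
  rw [hd, zero_smul, add_zero] at hcd
  refine ⟨c, ?_⟩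
  rcases sg_irr hQ hn hA (LinearMap.ker (X - c • 1).mulVecLin) (fun g hg v hv => by
    rw [LinearMap.mem_ker, Matrix.mulVecLin_apply, Matrix.sub_mulVec, smul_one_mulVec, sub_eq_zero] at hv ⊢
    rw [Matrix.mulVec_mulVec, hX g hg, ← Matrix.mulVec_mulVec, hv, Matrix.mulVec_smul]) with h | h
  · exfalso
    refine hp0 ((Submodule.mem_bot F).1 (h ▸ ?_))
    rw [LinearMap.mem_ker, Matrix.mulVecLin_apply, Matrix.sub_mulVec, smul_one_mulVec, sub_eq_zero, hcd]
  · refine Matrix.mulVec_injective (funext fun v => ?_)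
    have h1 : v ∈ LinearMap.ker (X - c • 1).mulVecLin := h ▸ Submodule.mem_top
    rw [LinearMap.mem_ker, Matrix.mulVecLin_apply, Matrix.sub_mulVec, sub_eq_zero] at h1
    exact h1

/-- The commutator subgroup of the orthogonal group is perfect in dimension at least five. -/
theorem omega_perfect (hQ : (polarBilin Q).Nondegenerate) (hn : 5 ≤ Fintype.card ι) :
    ⁅omegaGL ⇑Q, omegaGL ⇑Q⁆ = omegaGL ⇑Q := by
  have h5 : 5 ≤ Module.finrank F (ι → F) := by rw [Module.finrank_fintype_fun_eq_card]; omega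
  have heq := eo_eq_commutator hQ (by omega) (Or.inr (by omega))
  let φ : oG Q →* GL ι F := (ClassicalMax.glEquiv ι F).symm.toMonoidHom.comp (oG Q).subtype
  have hmap : omegaGL ⇑Q = (commutator (oG Q)).map φ := by
    ext g
    constructor
    · intro hg
      obtain ⟨k, hk, hkg⟩ := ClassicalMax.Subfield.RootOrth.exists_oG_of_omega Q hg
      refine ⟨k, hk, ?_⟩
      show (ClassicalMax.glEquiv ι F).symm k.1 = g
      rw [hkg, MulEquiv.symm_apply_apply]
    · rintro ⟨k, hk, rfl⟩
      exact NotMax.mem_omega_of k hk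
  rw [hmap, ← Subgroup.map_commutator]
  refine congrArg (Subgroup.map φ) (le_antisymm ((Subgroup.commutator_mono le_top le_top).trans ?_) ?_)
  · exact (_root_.commutator_def (oG Q)).ge
  · have h1 := eo_le_commutator_eo hQ h5
    rwa [heq] at h1

/-- A perfect group normalising a field of matrices centralises it. -/
theorem perfect_field_comm [Nonempty ι] {N : Subgroup (GL ι F)} (hN : ⁅N, N⁆ = N) {r : ℕ} (hr : 0 < r)
    {K : Subalgebra F (Matrix ι ι F)} (hK : IsFieldSubalgebra r K) (hle : N ≤ subalgebraNormalizer K) {g : GL ι F}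
    (hg : g ∈ N) {x : Matrix ι ι F} (hx : x ∈ K) : Commute x (mat g) := by
  classical
  letI cK : CommRing K := { (inferInstance : Ring K) with
    mul_comm := fun a b => Subtype.ext (hK.comm a.1 a.2 b.1 b.2) }
  haveI : Nontrivial K := Module.nontrivial_of_finrank_pos (R := F) (hK.finrank_eq.symm ▸ hr)
  have hfield : IsField K :=
    { exists_pair_ne := exists_pair_ne K
      mul_comm := mul_comm
      mul_inv_cancel := fun {a} ha => by
        obtain ⟨b, hb, hab⟩ := hK.inv a.1 a.2 fun e => ha (Subtype.ext e)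
        exact ⟨⟨b, hb⟩, Subtype.ext hab⟩ }
  letI : Field K := hfield.toField
  haveI : Finite K := Subtype.finite
  obtain ⟨θ, hθ⟩ := IsCyclic.exists_generator (α := Kˣ)
  have hgen : ∀ y ∈ K, y ≠ 0 → ∃ j : ℕ, y = (θ : K).1 ^ j := by
    intro y hy hy0
    obtain ⟨j, hj⟩ := ((isOfFinOrder_of_finite θ).mem_powers_iff_mem_zpowers).2
      (hθ (Units.mk0 (⟨y, hy⟩ : K) fun e => hy0 (congrArg Subtype.val e)))
    refine ⟨j, ?_⟩
    have h1 : θ ^ j = Units.mk0 (⟨y, hy⟩ : K) fun e => hy0 (congrArg Subtype.val e) := hj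
    have h2 := congrArg (fun u : Kˣ => ((u : K) : Matrix ι ι F)) h1
    simp only [Units.val_pow_eq_pow_val, SubmonoidClass.coe_pow, Units.val_mk0] at h2
    exact h2.symm
  set t : Matrix ι ι F := (θ : K).1 with ht
  have ht0 : t ≠ 0 := fun e => θ.ne_zero (Subtype.ext e)
  have hconj : ∀ a ∈ N, ∃ j : ℕ, mat a * t * mat a⁻¹ = t ^ j := fun a ha =>
    hgen _ ((hle ha t).1 (θ : K).2) fun e => ht0 (by
      have h1 := congrArg (fun z => mat a⁻¹ * z * mat a) e
      simpa [mul_assoc, mat_inv_mul, ← mul_assoc (mat a⁻¹) (mat a)] using h1)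
  have hcom : ∀ a ∈ N, ∀ b ∈ N, ⁅a⁻¹, b⁻¹⁆ ∈ commG t := by
    intro a ha b hb
    obtain ⟨i, hi⟩ := hconj a ha
    obtain ⟨j, hj⟩ := hconj b hb
    have h1 : mat a * (mat b * t * mat b⁻¹) * mat a⁻¹ = mat b * (mat a * t * mat a⁻¹) * mat b⁻¹ := by
      rw [hi, hj, ← mat_conj_pow, ← mat_conj_pow, hi, hj, ← pow_mul, ← pow_mul, mul_comm i j]
    have h2 := congrArg (fun z => mat a⁻¹ * (mat b⁻¹ * z) * (mat a * mat b)) h1
    simp only [← mul_assoc, mat_inv_mul, one_mul] at h2
    show t * mat ⁅a⁻¹, b⁻¹⁆ = mat ⁅a⁻¹, b⁻¹⁆ * t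
    rw [commutatorElement_def, inv_inv, inv_inv, mat, Units.val_mul, Units.val_mul, Units.val_mul]
    simp only [mat, mul_assoc, Units.inv_mul_cancel_left, Units.inv_mul, mul_one] at h2 ⊢
    exact h2.symm
  have hg' : g ∈ commG t := Subgroup.commutator_le.2
    (fun a ha b hb => by simpa using hcom a⁻¹ (inv_mem ha) b⁻¹ (inv_mem hb)) (hN.symm ▸ hg)
  by_cases hx0 : x = 0
  · rw [hx0]; exact Commute.zero_left _
  · obtain ⟨j, rfl⟩ := hgen x hx hx0
    exact Commute.pow_left hg' j

/-- Not in the normaliser of a field. -/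
theorem omega_not_field (hQ : (polarBilin Q).Nondegenerate) (hn : 7 ≤ Fintype.card ι) {r : ℕ} (hr : 2 ≤ r)
    {K : Subalgebra F (Matrix ι ι F)} (hK : IsFieldSubalgebra r K) : ¬ omegaGL ⇑Q ≤ subalgebraNormalizer K := by
  intro hle
  haveI : Nonempty ι := Fintype.card_pos_iff.1 (by omega)
  have hall : ∀ x ∈ K, ∃ c : F, x = c • (1 : Matrix ι ι F) := fun x hx =>
    sg_comm hQ hn (hasSg_omega hQ (by omega)) fun g hg =>
      (perfect_field_comm (omega_perfect hQ (by omega)) (by omega) hK hle hg hx).eq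
  have h1 : Module.finrank F K ≤ 1 := by
    refine finrank_le_one (⟨1, one_mem K⟩ : K) fun y => ?_
    obtain ⟨c, hc⟩ := hall y.1 y.2
    exact ⟨c, Subtype.ext hc.symm⟩
  rw [hK.finrank_eq] at h1
  omega

/-- Not in the stabiliser of a proper subspace. -/
theorem omega_not_subspace (hQ : (polarBilin Q).Nondegenerate) (hn : 7 ≤ Fintype.card ι) {W : Submodule F (ι → F)}
    (hb : W ≠ ⊥) (ht : W ≠ ⊤) : ¬ omegaGL ⇑Q ≤ subspaceStabilizer W := fun hle =>
  (sg_irr hQ hn (hasSg_omega hQ (by omega)) W fun _ hg v hv => (hle hg v).1 hv).elim hb ht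

/-- Not in a subfield group. -/
theorem sg_not_subfield (hQ : (polarBilin Q).Nondegenerate) (hn : 7 ≤ Fintype.card ι) (hA : HasSg Q A)
    {F₁ : Subfield F} (hF₁ : F₁ ≠ ⊤) (P : GL ι F) : ¬ A ≤ subfieldSubgroup F₁ P := by
  intro hle
  refine hF₁ (eq_top_iff.2 fun a _ => ?_)
  have hfr : Module.finrank F (ι → F) = Fintype.card ι := Module.finrank_fintype_fun_eq_card F
  obtain ⟨p, hp0, hp⟩ := exists_singular Q (show 3 ≤ Module.finrank F (ι → F) by omega)
  obtain ⟨w, hw, hwp, hpw⟩ := exists_sing_perp (Q := Q) (Submodule.span F ({p} : Set (ι → F)))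
    (by have := rank_line_le p; omega)
  replace hpw : polar Q p w = 0 := hpw p (Submodule.mem_span_singleton_self p)
  have hsc : ∀ c : F, ∃ g ∈ A, Entries F₁ (mat (P⁻¹ * g * P)) ∧
      ∀ x, mat g *ᵥ x - x = c • (polar Q x w • p - polar Q x p • w) := by
    intro c
    obtain ⟨g, hg, hgm⟩ := hA p (c • w) hp (by rw [polar_smul_right, hpw, smul_zero])
    refine ⟨g, hg, (sg_small hgm).entries (by omega) (hle hg), fun x => ?_⟩
    rw [hgm, map_smul' c w, hw, polar_smul_right, smul_eq_mul]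
    module
  obtain ⟨g, -, hgE, hgm⟩ := hsc a
  obtain ⟨g₁, -, hgE₁, hgm₁⟩ := hsc 1
  have hN : mat (P⁻¹ * g * P) - 1 = a • (mat (P⁻¹ * g₁ * P) - 1) := by
    have h0 : mat g - 1 = a • (mat g₁ - 1) := Matrix.mulVec_injective (funext fun x => by
      rw [Matrix.smul_mulVec, Matrix.sub_mulVec, Matrix.sub_mulVec, Matrix.one_mulVec, hgm, hgm₁, one_smul])
    have h1 := congrArg (fun z => mat P⁻¹ * z * mat P) h0
    simp only [mul_sub, sub_mul, mul_one, mat_inv_mul, Matrix.mul_smul, Matrix.smul_mul] at h1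
    simpa [mat, mul_assoc] using h1
  obtain ⟨i, j, hij⟩ : ∃ i j, (mat (P⁻¹ * g₁ * P) - 1) i j ≠ 0 := by
    by_contra hcon
    push Not at hcon
    have h1 : mat (P⁻¹ * g₁ * P) = 1 := sub_eq_zero.1 (Matrix.ext hcon)
    have h2 : g₁ = 1 := by
      have h3 : P⁻¹ * g₁ * P = 1 := Units.ext h1
      have h4 := congrArg (fun z => P * z * P⁻¹) h3
      simpa [mul_assoc] using h4
    obtain ⟨x, hxp, hxw⟩ := exists_perp hQ hwp
    have h5 := hgm₁ x
    rw [h2, show polar Q x p = 0 by rw [polar_comm]; exact hxp p (Submodule.mem_span_singleton_self p),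
      show polar Q x w = 1 by rw [polar_comm]; exact hxw] at h5
    simp [mat] at h5
    exact hp0 h5.symm
  have hone : ∀ i j : ι, (1 : Matrix ι ι F) i j ∈ F₁ := fun i j => by
    rw [Matrix.one_apply]
    split_ifs
    · exact one_mem _
    · exact zero_mem _
  have h1 := congrFun (congrFun hN i) j
  rw [Matrix.smul_apply, smul_eq_mul] at h1
  rw [show a = (mat (P⁻¹ * g * P) - 1) i j / (mat (P⁻¹ * g₁ * P) - 1) i j by rw [h1, mul_div_cancel_right₀ _ hij]]
  exact div_mem (sub_mem (hgE i j) (hone i j)) (sub_mem (hgE₁ i j) (hone i j))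

/-- Not in the stabiliser of a decomposition into members of dimension at least three. -/
theorem sg_not_blocks (hQ : (polarBilin Q).Nondegenerate) (hn : 7 ≤ Fintype.card ι) (hA : HasSg Q A) {t m : ℕ}
    {D : Fin t → Submodule F (ι → F)} (hD : IsMDecomposition m D) (hm : 3 ≤ m) : ¬ A ≤ decompositionStabilizer D := by
  intro hle
  let i₀ : Fin t := ⟨0, by have := hD.two_le; omega⟩
  have hA' : HasSg Q (A ⊓ subspaceStabilizer (D i₀)) := by
    intro p w hp hpw
    obtain ⟨g, hg, hgm⟩ := hA p w hp hpw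
    refine ⟨g, ⟨hg, fun v => ?_⟩, hgm⟩
    have h1 := (sg_small hgm).fixes_blocks hD (show 2 < m by omega) (hle hg) i₀
    show v ∈ D i₀ ↔ mat g *ᵥ v ∈ D i₀
    refine ⟨fun hv => h1 ▸ ⟨v, hv, Matrix.toLin'_apply _ _⟩, fun hv => ?_⟩
    obtain ⟨u, hu, he⟩ : mat g *ᵥ v ∈ (D i₀).map (Matrix.toLin' (mat g)) := h1.symm ▸ hv
    rw [Matrix.toLin'_apply] at he
    exact mulVec_injective g he ▸ hu
  have h1 := hD.finrank_eq i₀
  rcases sg_irr hQ hn hA' (D i₀) (fun g hg v hv => (hg.2 v).1 hv) with e | e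
  · rw [e, finrank_bot] at h1
    omega
  · rw [e, finrank_top, Module.finrank_fintype_fun_eq_card] at h1
    have h3 := NotMax.mul_card_eq' hD
    have h4 := hD.two_le
    rw [← h1] at h3
    have : 2 * Fintype.card ι ≤ t * Fintype.card ι := Nat.mul_le_mul_right _ h4
    omega

/-- Not in the stabiliser of a decomposition into small members. -/
theorem sg_not_small_blocks (hQ : (polarBilin Q).Nondegenerate) (hA : HasSg Q A) {t m : ℕ}
    {D : Fin t → Submodule F (ι → F)} (hD : IsMDecomposition m D) (hn : 2 * (m + 1) + 3 ≤ Fintype.card ι) :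
    ¬ A ≤ decompositionStabilizer D := by
  classical
  intro hle
  have hfr : Module.finrank F (ι → F) = Fintype.card ι := Module.finrank_fintype_fun_eq_card F
  let i₀ : Fin t := ⟨0, by have := hD.two_le; omega⟩
  have hrk := hD.finrank_eq i₀
  obtain ⟨u, hu, hu0⟩ := (D i₀).exists_mem_ne_zero_of_ne_bot fun e => by
    rw [e, finrank_bot] at hrk
    exact hD.pos.ne hrk
  obtain ⟨p, hp, hpD, hpp⟩ := exists_sing_perp (Q := Q) (D i₀) (by omega)
  have hrk' : Module.finrank F ↥(D i₀ ⊔ Submodule.span F ({p} : Set (ι → F))) ≤ m + 1 := by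
    have h1 := Submodule.finrank_add_le_finrank_add_finrank (D i₀) (Submodule.span F ({p} : Set (ι → F)))
    have := rank_line_le p
    omega
  obtain ⟨p', hp', hpD', hpp'⟩ := exists_sing_perp (Q := Q) (D i₀ ⊔ Submodule.span F ({p} : Set (ι → F))) (by omega)
  have hpp0 : polar Q p p' = 0 := hpp' p (Submodule.mem_sup_right (Submodule.mem_span_singleton_self p))
  have hin : ∀ x, Q x = 0 → x ∉ D i₀ → polar Q u x = 0 → ∃ j, j ≠ i₀ ∧ u + x ∈ D j := by
    intro x hx hxD hux
    have hne : u ∉ Submodule.span F ({x} : Set (ι → F)) := fun h => by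
      obtain ⟨s, rfl⟩ := Submodule.mem_span_singleton.1 h
      exact hxD ((Submodule.smul_mem_iff _ fun e => hu0 (by rw [e, zero_smul])).1 hu)
    obtain ⟨w, hwx, huw⟩ := exists_perp hQ hne
    obtain ⟨g, hg, hgm⟩ := hA x w hx (hwx x (Submodule.mem_span_singleton_self x))
    obtain ⟨τ, hτ⟩ := hle hg
    have h1 : u + x ∈ D (τ i₀) := by
      rw [← hτ i₀]
      refine ⟨u, hu, ?_⟩
      rw [Matrix.toLin'_apply, hgm, hux, huw]
      simp
    refine ⟨τ i₀, fun e => hxD ?_, h1⟩
    rw [e] at h1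
    exact (Submodule.add_mem_iff_right _ hu).1 h1
  have hpD2 : p' ∉ D i₀ := fun h => hpD' (Submodule.mem_sup_left h)
  have hsum : p + p' ∉ D i₀ := fun h => hpD' (by
    rw [show p' = (p + p') + (-1 : F) • p by module]
    exact add_mem (Submodule.mem_sup_left h) (Submodule.smul_mem _ _
      (Submodule.mem_sup_right (Submodule.mem_span_singleton_self p))))
  have hup : polar Q u p = 0 := hpp u hu
  have hup' : polar Q u p' = 0 := hpp' u (Submodule.mem_sup_left hu)
  obtain ⟨j, hj, hju⟩ := hin p hp hpD hup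
  obtain ⟨k, hk, hku⟩ := hin p' hp' hpD2 hup'
  obtain ⟨l, hl, hlu⟩ := hin (p + p') (by rw [map_add' p p', hp, hp', hpp0, add_zero, add_zero]) hsum
    (by rw [polar_add_right, hup, hup', add_zero])
  have hmem : ∀ {c x}, c ≠ i₀ → x ∈ D c → x ∈ ⨆ (c : Fin t) (_ : c ≠ i₀), D c := fun {c x} hc hx =>
    Submodule.mem_iSup_of_mem c (Submodule.mem_iSup_of_mem hc hx)
  have h1 : u ∈ ⨆ (c : Fin t) (_ : c ≠ i₀), D c := by
    rw [show u = (u + p) + (u + p') - (u + (p + p')) by abel]
    exact sub_mem (add_mem (hmem hj hju) (hmem hk hku)) (hmem hl hlu)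
  exact hu0 ((Submodule.disjoint_def.1 (hD.indep i₀)) u hu h1)

end Cfsg.Agent.Asch
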