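import Cfsg.Agent.Asch.SympSix
import Cfsg.Agent.NotMax.DecompForm
import Cfsg.Agent.NotMax.TensorCases

/-!
Maximal subgroups of the symplectic groups in small dimension: the members that can occur.
-/

set_option autoImplicit false
set_option linter.unusedSectionVars false

namespace Cfsg.Agent.Asch

open Matrix Cfsg.Geo Cfsg.Agent.PrimeDim
open scoped MatrixGroups Kronecker

variable {F : Type*} [Field F] {ι : Type} [Fintype ι] [DecidableEq ι] {G : Matrix ι ι F}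

/-- A self-adjoint field has degree dividing half the dimension. -/
theorem field_two_dvd [Finite F] (hG : IsRG (RingEquiv.refl F) (-1) G) {r : ℕ} {K : Subalgebra F (Matrix ι ι F)}
    (hK : IsFieldSubalgebra r K) (hsa : IsSelfAdjointFor (formG (RingEquiv.refl F) G) K)
    (halt : ∀ k ∈ K, ∀ v, formG (RingEquiv.refl F) G (k *ᵥ v) v = 0) : 2 * r ∣ Fintype.card ι := by
  classical
  have hs := isSesq_formG (RingEquiv.refl F) G
  suffices key : ∀ (n : ℕ) (W : Submodule F (ι → F)), Module.finrank F W = n → (∀ k ∈ K, ∀ w ∈ W, k *ᵥ w ∈ W) →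
      IsNondegenerateOn (formG (RingEquiv.refl F) G) W → 2 * r ∣ n by
    refine key _ ⊤ (by rw [finrank_top, Module.finrank_fintype_fun_eq_card]) (fun _ _ _ _ => Submodule.mem_top)
      fun w _ hw => ⟨?_, ?_⟩
    · by_contra hcon; push Not at hcon
      exact hw (hG.nondeg_right fun u => hcon u Submodule.mem_top)
    · by_contra hcon; push Not at hcon
      exact hw (nondeg_left (σ := RingEquiv.refl F) hG.det fun u => hcon u Submodule.mem_top)
  intro n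
  induction n using Nat.strong_induction_on with
  | _ n ih =>
  intro W hn hinv hnd
  by_cases hb : W = ⊥
  · rw [hb, finrank_bot] at hn; rw [← hn]; exact dvd_zero _
  obtain ⟨v, hv, hv0⟩ := W.exists_mem_ne_zero_of_ne_bot hb
  obtain ⟨⟨w, hw, hwv⟩, -⟩ := hnd v hv hv0
  have hw0 : w ≠ 0 := fun e => hwv (by rw [e]; simp [formG])
  let orb : (ι → F) → (K →ₗ[F] (ι → F)) := fun u =>
    { toFun := fun x => (x : Matrix ι ι F) *ᵥ u
      map_add' := fun x y => Matrix.add_mulVec _ _ _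
      map_smul' := fun c x => Matrix.smul_mulVec c _ _ }
  have hinj : ∀ u, u ≠ 0 → Function.Injective (orb u) := by
    intro u hu
    refine (injective_iff_map_eq_zero _).2 fun x hx => Subtype.ext ?_
    by_contra h0
    obtain ⟨y, hy, hxy⟩ := hK.inv x.1 x.2 h0
    have h1 := congrArg (y *ᵥ ·) (show x.1 *ᵥ u = 0 from hx)
    simp only [Matrix.mulVec_mulVec, Matrix.mulVec_zero] at h1
    rw [hK.comm y hy x.1 x.2, hxy, Matrix.one_mulVec] at h1
    exact hu h1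
  have hrk : ∀ u, u ≠ 0 → Module.finrank F (LinearMap.range (orb u)) = r := fun u hu =>
    (LinearMap.finrank_range_of_inj (hinj u hu)).trans hK.finrank_eq
  have hdis : LinearMap.range (orb v) ⊓ LinearMap.range (orb w) = ⊥ := by
    rw [eq_bot_iff]
    rintro a ⟨⟨x, hxe⟩, ⟨y, rfl⟩⟩
    rw [Submodule.mem_bot]
    by_contra ha
    obtain ⟨y', hy', hyy⟩ := hK.inv y.1 y.2 fun e => ha (show y.1 *ᵥ w = 0 by rw [e, Matrix.zero_mulVec])
    refine hwv ?_
    have h1 : w = (y' * x.1) *ᵥ v := by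
      rw [← Matrix.mulVec_mulVec, show x.1 *ᵥ v = y.1 *ᵥ w from hxe, Matrix.mulVec_mulVec, hK.comm y' hy' y.1 y.2, hyy,
        Matrix.one_mulVec]
    rw [h1]
    exact hG.zero_swap (hG.zero_swap (halt _ (mul_mem hy' x.2) v))
  set Y := LinearMap.range (orb v) ⊔ LinearMap.range (orb w) with hY
  have hYrk : Module.finrank F Y = 2 * r := by
    have h1 := Submodule.finrank_sup_add_finrank_inf_eq (LinearMap.range (orb v)) (LinearMap.range (orb w))
    rw [hdis, finrank_bot, hrk v hv0, hrk w hw0, add_zero] at h1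
    rw [hY, h1]; omega
  have hYW : Y ≤ W := sup_le (by rintro _ ⟨x, rfl⟩; exact hinv _ x.2 v hv) (by rintro _ ⟨x, rfl⟩; exact hinv _ x.2 w hw)
  have hYinv : ∀ k ∈ K, ∀ a ∈ Y, k *ᵥ a ∈ Y := by
    intro k hk a ha
    obtain ⟨p, ⟨x, rfl⟩, q, ⟨y, rfl⟩, rfl⟩ := Submodule.mem_sup.1 ha
    rw [Matrix.mulVec_add]
    exact add_mem (Submodule.mem_sup_left ⟨⟨k * x.1, mul_mem hk x.2⟩, (Matrix.mulVec_mulVec _ _ _).symm⟩)
      (Submodule.mem_sup_right ⟨⟨k * y.1, mul_mem hk y.2⟩, (Matrix.mulVec_mulVec _ _ _).symm⟩)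
  have hYnd : Y ⊓ perpG (RingEquiv.refl F) G Y = ⊥ := by
    rw [eq_bot_iff]
    rintro a ⟨ha, hperp⟩
    rw [Submodule.mem_bot]
    obtain ⟨p, ⟨x, rfl⟩, q, ⟨y, rfl⟩, rfl⟩ := Submodule.mem_sup.1 ha
    change x.1 *ᵥ v + y.1 *ᵥ w = 0
    have hpv : ∀ k ∈ K, formG (RingEquiv.refl F) G (x.1 *ᵥ v + y.1 *ᵥ w) (k *ᵥ v) = 0 := fun k hk =>
      hperp _ (Submodule.mem_sup_left ⟨⟨k, hk⟩, rfl⟩)
    have hpw : ∀ k ∈ K, formG (RingEquiv.refl F) G (x.1 *ᵥ v + y.1 *ᵥ w) (k *ᵥ w) = 0 := fun k hk =>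
      hperp _ (Submodule.mem_sup_right ⟨⟨k, hk⟩, rfl⟩)
    have hy0 : y.1 = 0 := by
      by_contra h0
      obtain ⟨k, hk, hyk⟩ := hK.inv y.1 y.2 h0
      have h1 := hpv k hk
      rw [hs.add_left, ← hsa k hk, ← hsa k hk, Matrix.mulVec_mulVec, Matrix.mulVec_mulVec, halt _ (mul_mem hk x.2),
        hK.comm k hk y.1 y.2, hyk, Matrix.one_mulVec, zero_add] at h1
      exact hwv h1
    rw [hy0, Matrix.zero_mulVec, add_zero] at hpw ⊢
    by_contra hne
    obtain ⟨k, hk, hxk⟩ := hK.inv x.1 x.2 fun e => hne (by rw [e, Matrix.zero_mulVec])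
    have h1 := hpw k hk
    rw [← hsa k hk, Matrix.mulVec_mulVec, hK.comm k hk x.1 x.2, hxk, Matrix.one_mulVec] at h1
    exact hwv (hG.zero_swap h1)
  have hYtop : Y ⊔ perpG (RingEquiv.refl F) G Y = ⊤ := by
    refine Submodule.eq_top_of_finrank_eq ?_
    have h1 := Submodule.finrank_sup_add_finrank_inf_eq Y (perpG (RingEquiv.refl F) G Y)
    rw [hYnd, finrank_bot, add_zero] at h1
    have h3 := Submodule.finrank_le (Y ⊔ perpG (RingEquiv.refl F) G Y)
    have h4 := finrank_perp (RingEquiv.refl F) G Y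
    rw [Module.finrank_fintype_fun_eq_card] at h3 ⊢
    omega
  set W' := W ⊓ perpG (RingEquiv.refl F) G Y with hW'
  have hsplit : Y ⊔ W' = W := by
    rw [hW', inf_comm, ← sup_inf_assoc_of_le _ hYW, hYtop, top_inf_eq]
  have hdim : 2 * r + Module.finrank F W' = n := by
    have h1 := Submodule.finrank_sup_add_finrank_inf_eq Y W'
    rw [hsplit, show Y ⊓ W' = ⊥ from le_bot_iff.1 ((inf_le_inf_left _ inf_le_right).trans hYnd.le), finrank_bot,
      hn, hYrk, add_zero] at h1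
    omega
  have hr : 0 < r := by
    rw [← hrk v hv0, pos_iff_ne_zero, ne_eq, Submodule.finrank_eq_zero]
    intro e
    exact hv0 ((Submodule.mem_bot F).1 (e ▸ ⟨⟨1, one_mem K⟩, Matrix.one_mulVec v⟩))
  have h5 : 2 * r ∣ Module.finrank F W' := by
    refine ih _ (by omega) W' rfl (fun k hk a ha => ⟨hinv k hk a ha.1, fun b hb => ?_⟩) fun a ha ha0 => ?_
    · rw [hsa k hk]
      exact ha.2 _ (hYinv k hk b hb)
    · obtain ⟨-, c, hc, hne⟩ := hnd a ha.1 ha0
      rw [← hsplit] at hc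
      obtain ⟨p, hp, q, hq, rfl⟩ := Submodule.mem_sup.1 hc
      rw [hs.add_right, ha.2 p hp, zero_add] at hne
      exact ⟨⟨q, hq, fun e => hne (hG.zero_swap e)⟩, ⟨q, hq, hne⟩⟩
  rw [← hdim]
  exact dvd_add dvd_rfl h5

variable [Fintype F]

/-- The members that can contain a maximal subgroup. -/
def SympMaxMember (m : ℕ) (H : Subgroup (GL (Fin m ⊕ Fin m) F)) : Prop :=
  let f := Cfsg.sympForm m F
  let I := Cfsg.spGL m F
  (∃ W : Submodule F (Fin m ⊕ Fin m → F), W ≠ ⊥ ∧ IsTotallySingularFor f W ∧ H = subspaceStabilizer W ⊓ I) ∨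
  (∃ W : Submodule F (Fin m ⊕ Fin m → F), W ≠ ⊥ ∧ IsNondegenerateOn f W ∧ Module.finrank F W < m ∧
    Even (Module.finrank F W) ∧ H = subspaceStabilizer W ⊓ I) ∨
  (∃ (t k : ℕ) (D : Fin t → Submodule F (Fin m ⊕ Fin m → F)), IsNondegenerateMDecomposition f k D ∧ 2 ≤ t ∧
    t * k = 2 * m ∧ Even k ∧ (3 ≤ t → k = 2 → 3 ≤ Fintype.card F) ∧ H = decompositionStabilizer D ⊓ I) ∨
  (∃ (D : Fin 2 → Submodule F (Fin m ⊕ Fin m → F)), Odd (Fintype.card F) ∧ IsMDecomposition m D ∧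
    (∀ i, IsTotallySingularFor f (D i)) ∧ H = decompositionStabilizer D ⊓ I) ∨
  (∃ (F₀ : Subfield F) (r : ℕ) (P : GL (Fin m ⊕ Fin m) F) (ζ : F), r.Prime ∧ Fintype.card F = Nat.card F₀ ^ r ∧
    ζ ≠ 0 ∧ IsFormRationalStructure f F₀ ζ P ∧ H = subfieldSubgroup F₀ P ⊓ I) ∨
  (∃ (R : Subgroup (GL (Fin m ⊕ Fin m) F)) (p k : ℕ), IsSymplecticTypeGroup 2 R ∧
    ActsAbsolutelyIrreducibly (matrixSet R) ∧ R ≤ similarityGroup f ∧ p.Prime ∧ Odd p ∧ Fintype.card F = p ∧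
    Nat.card R = 2 ^ (1 + 2 * k) ∧ Nat.card (Subgroup.center R) = 2 ∧ IsOfMinusType k R ∧ 2 * m = 2 ^ k ∧
    H = subgroupNormalizer R ⊓ I) ∨
  (∃ Q : (Fin m ⊕ Fin m → F) → F, ¬ Odd (Fintype.card F) ∧ IsNondegenerateQuadraticForm Q ∧
    (∀ u v, QuadraticMap.polar Q u v = f u v) ∧ H = quadSimilarityGroup Q ⊓ I) ∨
  (∃ (r : ℕ) (K : Subalgebra F (Matrix (Fin m ⊕ Fin m) (Fin m ⊕ Fin m) F)), r.Prime ∧ r ∣ m ∧ IsFieldSubalgebra r K ∧
    IsSelfAdjointFor f K ∧ (∀ k ∈ K, ∀ v, f (k *ᵥ v) v = 0) ∧ H = subalgebraNormalizer K ⊓ I) ∨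
  (∃ K : Subalgebra F (Matrix (Fin m ⊕ Fin m) (Fin m ⊕ Fin m) F), Odd (Fintype.card F) ∧ IsFieldSubalgebra 2 K ∧
    IsAdjointClosedFor f K ∧ ¬ IsSelfAdjointFor f K ∧ H = subalgebraNormalizer K ⊓ I) ∨
  (∃ (n₁ n₂ : ℕ) (e : (Fin m ⊕ Fin m) ≃ Fin n₁ × Fin n₂) (P : GL (Fin m ⊕ Fin m) F)
    (f₁ : (Fin n₁ → F) → (Fin n₁ → F) → F) (f₂ : (Fin n₂ → F) → (Fin n₂ → F) → F),
    Odd (Fintype.card F) ∧ 2 ≤ n₁ ∧ Even n₁ ∧ 3 ≤ n₂ ∧ n₁ * n₂ = 2 * m ∧ (n₂ = 3 → 5 ≤ Fintype.card F) ∧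
      IsSymplecticForm f₁ ∧ IsSymmetricForm f₂ ∧ IsTensorFormStructure id f f₁ f₂ e P ∧
      H = tensorProductSubgroup n₁ n₂ e P ⊓ I) ∨
  (∃ (k t : ℕ) (e : (Fin m ⊕ Fin m) ≃ (Fin t → Fin k)) (P : GL (Fin m ⊕ Fin m) F)
    (f₁ : (Fin k → F) → (Fin k → F) → F),
    Odd (Fintype.card F) ∧ Odd t ∧ 3 ≤ t ∧ ¬ (Fintype.card F = 3 ∧ k = 2) ∧ 2 ≤ k ∧ Even k ∧ k ^ t = 2 * m ∧
      IsSymplecticForm f₁ ∧ IsTensorPowerFormStructure id f f₁ e P ∧ H ≤ tensorWreathSubgroup k t e P)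

/-- A maximal subgroup fills the member containing it. -/
theorem eq_of_max {A H M : Subgroup (GL ι F)} (hH : IsMaximalIn A H) (hle : H ≤ M) (hne : ¬ A ≤ M) : H = M ⊓ A := by
  rcases hH.2 (M ⊓ A) (le_inf hle hH.1.le) inf_le_right with e | e
  · exact e.symm
  · exact absurd (e ▸ inf_le_left) hne

theorem not_max_between {A H M K : Subgroup (GL ι F)} (hH : IsMaximalIn A H) (hle : H ≤ M) (h1 : M ⊓ A < K)
    (h2 : K < A) : False := by
  have hHK : H < K := lt_of_le_of_lt (le_inf hle hH.1.le) h1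
  rcases hH.2 K hHK.le h2.le with e | e
  · exact hHK.ne e.symm
  · exact h2.ne e

theorem sympForm_bilinear {m : ℕ} : IsBilinearForm (Cfsg.sympForm m F) := by
  rw [sympForm_eq_formG]
  have hs := isSesq_formG (RingEquiv.refl F) (Matrix.J (Fin m) F)
  exact ⟨hs.add_left, hs.smul_left, hs.add_right, fun c v x => hs.smul_right c v x⟩

set_option maxHeartbeats 1000000 in
/-- A maximal subgroup is a member or residual. -/
theorem symp_max {m : ℕ} (hm : 2 ≤ m) {H : Subgroup (GL (Fin m ⊕ Fin m) F)}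
    (hH : IsMaximalIn (Cfsg.spGL m F) H) : SympMaxMember m H ∨ InSymplecticResidualClass H := by
  classical
  have hset := symp_setting hm hH.1.le
  have hG := hset.rg
  have hA := hasTv_spGL (F := F) (m := m)
  have hcard : Fintype.card (Fin m ⊕ Fin m) = 2 * m := by simp; omega
  refine (symp_structure hset).imp_left fun hmem => ?_
  simp only [SympMaxMember, sympForm_eq_formG]
  rcases hmem with ⟨W, hb, hts, hle⟩ | ⟨W, hb, hnd, hlt, hle⟩ | ⟨t, k, D, hD, hle⟩ |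
    ⟨k, D, hodd, hk, hD, hts, hle⟩ | ⟨F₀, r, P, ζ, hr, hc, hζ, hrat, hle⟩ |
    ⟨R, p, k, hst, hab, hRH, hRn, hp, hpo, hq, hcard', hcen, hmin, hpm⟩ | ⟨Q, h2, hQ, hpol, hinv⟩ |
    ⟨r, K, hr, hK, hsa, halt, hle⟩ | ⟨K, hodd, hK, hadj, hnsa, hle⟩ |
    ⟨n₁, n₂, e, P, f₁, f₂, hodd, h3, hf₁, hf₂, hst, hle⟩ | ⟨k, t, e, P, f₁, hodd, hto, ht3, hex, hf₁, hst, hle⟩
  · refine Or.inl ⟨W, hb, hts, eq_of_max hH hle (tv_not_subspace hG hA hb fun e => hb ?_)⟩
    refine (Submodule.eq_bot_iff _).2 fun v hv => nondeg_left (σ := RingEquiv.refl F) hG.det fun u => hts v hv u ?_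
    rw [e]; exact Submodule.mem_top
  · refine Or.inr (Or.inl ⟨W, hb, hnd, by omega, even_rank hset.alt hnd,
      eq_of_max hH hle (tv_not_subspace hG hA hb fun e => ?_)⟩)
    rw [e, finrank_top, Module.finrank_fintype_fun_eq_card] at hlt
    omega
  · have hev : Even k := hD.decomp.finrank_eq ⟨0, by have := hD.decomp.two_le; omega⟩ ▸
      even_rank hset.alt (hD.nondegenerate _)
    have htk := NotMax.mul_card_eq' hD.decomp
    rw [hcard] at htk
    have hk2 : 2 ≤ k := by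
      obtain ⟨l, rfl⟩ := hev
      have := hD.decomp.pos
      omega
    refine Or.inr (Or.inr (Or.inl ⟨t, k, D, hD, hD.decomp.two_le, htk, hev, fun ht hk => ?_,
      eq_of_max hH hle (tv_not_blocks hG hA hD.decomp hk2)⟩))
    by_contra hq
    subst hk
    have hq2 : Fintype.card F = 2 := by have := Fintype.one_lt_card (α := F); omega
    obtain ⟨K, hK1, hK2⟩ := NotMax.symp_two_not_max (Cfsg.sympForm m F) sympForm_bilinear
      (fun v => sympForm_alt_std v) hq2 (by rw [sympForm_eq_formG]; exact hD) ht (Cfsg.spGL m F) fun g hg => hg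
    exact not_max_between hH hle hK1 hK2
  · obtain rfl : k = m := by omega
    exact Or.inr (Or.inr (Or.inr (Or.inl ⟨D, hodd, hD, hts, eq_of_max hH hle (tv_not_blocks hG hA hD hm)⟩)))
  · exact Or.inr (Or.inr (Or.inr (Or.inr (Or.inl ⟨F₀, r, P, ζ, hr, hc, hζ, hrat,
      eq_of_max hH hle (tv_not_subfield hG hA (by omega) hr hc)⟩))))
  · have hdata : TwoData R k := ⟨PrimeDim.two_ne_zero_of_odd (hq ▸ hpo), hab, hcard', hcen, hpm⟩
    have hdeg := hdata.degree (by omega)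
    rw [hcard] at hdeg
    exact Or.inr (Or.inr (Or.inr (Or.inr (Or.inr (Or.inl ⟨R, p, k, hst, hab,
      hRH.trans (le_similarity_of_iso (G := Matrix.J (Fin m) F) hset.fix), hp, hpo, hq, hcard', hcen, hmin, hdeg,
      eq_of_max hH (le_normalizer hRn) (tv_not_six hG hset.alt hA hdata (by omega) fun g hg => hset.fix g (hRH hg))⟩)))))
  · refine Or.inr (Or.inr (Or.inr (Or.inr (Or.inr (Or.inr (Or.inl ⟨Q, fun ho => PrimeDim.two_ne_zero_of_odd ho h2, hQ,
      hpol, eq_of_max hH (fun g hg => ⟨1, fun v => ?_⟩) (tv_not_quad h2 hG hA (by omega) hQ hpol)⟩))))))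
    rw [Units.val_one, one_mul]
    exact hinv g hg v
  · have hdvd := field_two_dvd hG hK hsa halt
    rw [hcard] at hdvd
    exact Or.inr (Or.inr (Or.inr (Or.inr (Or.inr (Or.inr (Or.inr (Or.inl ⟨r, K, hr,
      Nat.dvd_of_mul_dvd_mul_left two_pos hdvd, hK, hsa, halt,
      eq_of_max hH hle (tv_not_field hG hA (by omega) hK hr.two_le)⟩)))))))
  · exact Or.inr (Or.inr (Or.inr (Or.inr (Or.inr (Or.inr (Or.inr (Or.inr (Or.inl ⟨K, hodd, hK, hadj, hnsa,
      eq_of_max hH hle (tv_not_field hG hA (by omega) hK le_rfl)⟩))))))))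
  · have hev : Even n₁ := by simpa using even_of_symp hf₁
    have hprod : n₁ * n₂ = 2 * m := by
      rw [← hcard, Fintype.card_congr e, Fintype.card_prod, Fintype.card_fin, Fintype.card_fin]
    have hn₁ : 2 ≤ n₁ := by
      rcases Nat.eq_zero_or_pos n₁ with h0 | h0
      · rw [h0, zero_mul] at hprod; omega
      · obtain ⟨l, rfl⟩ := hev; omega
    refine Or.inr (Or.inr (Or.inr (Or.inr (Or.inr (Or.inr (Or.inr (Or.inr (Or.inr (Or.inl ⟨n₁, n₂, e, P, f₁, f₂, hodd,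
      hn₁, hev, h3, hprod, fun h23 => ?_, hf₁, hf₂, hst,
      eq_of_max hH hle (tv_not_tensor hG hA hn₁ (by omega) e P)⟩)))))))))
    by_contra hq
    subst h23
    have hq3 : Fintype.card F = 3 := by
      have := Fintype.one_lt_card (α := F)
      obtain ⟨l, hl⟩ := hodd
      omega
    obtain ⟨K, hK1, hK2⟩ := NotMax.symp_tensor_not_max hq3 (f := Cfsg.sympForm m F) sympForm_bilinear
      (fun v => sympForm_alt_std v) (Cfsg.spGL m F) (fun g => Iff.rfl) (by omega) e P hf₁ hf₂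
      (by rw [sympForm_eq_formG]; exact hst)
    exact not_max_between hH hle hK1 hK2
  · have hev : Even k := by simpa using even_of_symp hf₁
    have hpow : k ^ t = 2 * m := by
      rw [← hcard, Fintype.card_congr e, Fintype.card_fun, Fintype.card_fin, Fintype.card_fin]
    have hk2 : 2 ≤ k := by
      rcases Nat.eq_zero_or_pos k with h0 | h0
      · rw [h0, zero_pow (by omega)] at hpow; omega
      · obtain ⟨l, rfl⟩ := hev; omega
    exact Or.inr (Or.inr (Or.inr (Or.inr (Or.inr (Or.inr (Or.inr (Or.inr (Or.inr (Or.inr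
      ⟨k, t, e, P, f₁, hodd, hto, ht3, hex, hk2, hev, hpow, hf₁, hst, hle⟩)))))))))

end Cfsg.Agent.Asch
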