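import Cfsg.Agent.Asch.EvenStructure
import Cfsg.Agent.Asch.EvenBase
import Cfsg.Agent.Asch.SympMax
import Cfsg.Agent.NotMax.OrthPoint

/-!
Maximal subgroups of the orthogonal groups in small even dimension: common facts.
-/

set_option autoImplicit false
set_option linter.unusedSectionVars false

namespace Cfsg.Agent.Asch

open Matrix Cfsg.Geo Cfsg.Agent.PrimeDim QuadraticMap
open scoped MatrixGroups Kronecker
open Cfsg.Agent.Classical Cfsg.Agent.Classical.Quad

variable {F : Type*} [Field F] [Fintype F] {ι : Type} [Fintype ι] [DecidableEq ι]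
  {Q : QuadraticForm F (ι → F)} {H : Subgroup (GL ι F)}

/-- The division for a maximal subgroup. -/
theorem even_max (hQ : (polarBilin Q).Nondegenerate) (hev : Even (Fintype.card ι)) (h8 : 8 ≤ Fintype.card ι)
    (hH : IsMaximalIn (omegaGL ⇑Q) H) : EvenMember Q H ∨ InOrthogonalResidualClass H :=
  even_structure (even_setting hQ (fun g hg => NotMax.omega_map g (hH.1.le hg)) hev h8)

theorem not_odd_of_two (h2 : (2 : F) = 0) : ¬ Odd (Fintype.card F) :=
  fun ho => PrimeDim.two_ne_zero_of_odd ho h2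

theorem ts_ne_top (hQ : (polarBilin Q).Nondegenerate) [Nonempty ι] {W : Submodule F (ι → F)}
    (hts : IsTotallySingularQuad ⇑Q W) : W ≠ ⊤ := by
  intro e
  obtain ⟨i⟩ := (inferInstance : Nonempty ι)
  refine (by simp : (Pi.single i 1 : ι → F) ≠ 0) (eq_zero_of_polar hQ fun u => ?_)
  have h0 : ∀ v, Q v = 0 := fun v => hts v (e ▸ Submodule.mem_top)
  simp [polar, h0]

/-- A maximal subgroup fixing a subspace is its stabiliser. -/
theorem eq_stab (hQ : (polarBilin Q).Nondegenerate) (h7 : 7 ≤ Fintype.card ι) (hH : IsMaximalIn (omegaGL ⇑Q) H)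
    {W : Submodule F (ι → F)} (hb : W ≠ ⊥) (ht : W ≠ ⊤) (hle : H ≤ subspaceStabilizer W) :
    H = subspaceStabilizer W ⊓ omegaGL ⇑Q := eq_of_max hH hle (omega_not_subspace hQ h7 hb ht)

theorem ne_of_rank {W : Submodule F (ι → F)} (h0 : 0 < Module.finrank F W)
    (h1 : Module.finrank F W < Fintype.card ι) : W ≠ ⊥ ∧ W ≠ ⊤ := by
  refine ⟨fun e => ?_, fun e => ?_⟩
  · rw [e, finrank_bot] at h0; omega
  · rw [e, finrank_top, Module.finrank_fintype_fun_eq_card] at h1; omega

/-- A plane of plus type over at most three elements has no maximal stabiliser. -/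
theorem plane_small (hQ : (polarBilin Q).Nondegenerate) (h5 : 5 ≤ Fintype.card ι) (hH : IsMaximalIn (omegaGL ⇑Q) H)
    {W : Submodule F (ι → F)} (hd : Module.finrank F W = 2) (hnd : IsNondegenerateOn (polar ⇑Q) W)
    (hplus : IsPlusTypeOn ⇑Q W) (hle : H ≤ subspaceStabilizer W) : 4 ≤ Fintype.card F := by
  by_contra hq
  obtain ⟨K, hK1, hK2⟩ := NotMax.plane_not_max hQ h5 (by omega) W hd hnd hplus
  exact not_max_between hH hle hK1 hK2

theorem subfield_proper {F₀ : Subfield F} {r : ℕ} (hr : r.Prime) (hc : Fintype.card F = Nat.card F₀ ^ r) : F₀ ≠ ⊤ := by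
  intro e
  rw [e, Nat.card_congr (Equiv.subtypeUnivEquiv fun x => Subfield.mem_top x), Nat.card_eq_fintype_card] at hc
  have h1 : 1 < Fintype.card F := Fintype.one_lt_card
  have h3 := Nat.pow_lt_pow_right h1 hr.one_lt
  rw [pow_one, ← hc] at h3
  omega

/-- A pair of totally singular halves. -/
theorem plus_of_pair {k : ℕ} (hk : 2 * k = Fintype.card ι) {D : Fin 2 → Submodule F (ι → F)} (hD : IsMDecomposition k D)
    (hts : ∀ i, IsTotallySingularQuad ⇑Q (D i)) : IsPlusTypeOn ⇑Q ⊤ :=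
  plus_top (U := D 0) (hts 0) (by rw [hD.finrank_eq 0]; exact hk)

/-- A tensor product of a symplectic plane and a symplectic space has plus type. -/
theorem plus_of_symp_tensor {k : ℕ} {e : ι ≃ Fin 2 × Fin k} {P : GL ι F} {f₁ : (Fin 2 → F) → (Fin 2 → F) → F}
    {f₂ : (Fin k → F) → (Fin k → F) → F} (h₁ : IsSymplecticForm f₁)
    (hst : IsTensorFormStructure id (polar ⇑Q) f₁ f₂ e P)
    (hpure : ∀ (x₁ : Fin 2 → F) (x₂ : Fin k → F),
      Q ((P : Matrix ι ι F) *ᵥ ((fun a : Fin 2 × Fin k => x₁ a.1 * x₂ a.2) ∘ e)) = 0) : IsPlusTypeOn ⇑Q ⊤ := by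
  classical
  obtain ⟨c, -, hc⟩ := hst
  let v : Fin k → ι → F := fun j => frL e P (Pi.single ((0 : Fin 2), j) 1)
  refine plus_of_family v ?_ (fun j => ?_) (fun i j _ => ?_) ?_
  · have h1 := ((Pi.basisFun F (Fin 2 × Fin k)).linearIndependent.comp (fun j : Fin k => ((0 : Fin 2), j))
      (fun i j h => congrArg Prod.snd h)).map' (frL e P : (Fin 2 × Fin k → F) →ₗ[F] (ι → F))
      (LinearEquiv.ker (frL e P))
    simpa [Function.comp_def, v] using h1
  · have h1 := hpure (Pi.single 0 1) (Pi.single j 1)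
    rwa [show (fun a : Fin 2 × Fin k => (Pi.single (0 : Fin 2) (1 : F) : Fin 2 → F) a.1 *
        (Pi.single j (1 : F) : Fin k → F) a.2) = Pi.single ((0 : Fin 2), j) 1 from funext fun a => by
      obtain ⟨a, b⟩ := a
      rcases eq_or_ne a 0 with rfl | ha <;> rcases eq_or_ne b j with rfl | hb <;> simp [*]] at h1
  · show polar Q ((P : Matrix ι ι F) *ᵥ ((Pi.single ((0 : Fin 2), i) (1 : F)) ∘ e))
      ((P : Matrix ι ι F) *ᵥ ((Pi.single ((0 : Fin 2), j) (1 : F)) ∘ e)) = 0
    rw [hc]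
    have h0 : gramMatrix f₁ 0 0 = 0 := h₁.alternating _
    refine mul_eq_zero_of_right _ ?_
    rw [formOfGram, Finset.sum_eq_single ((0 : Fin 2), i) (fun a _ ha => by simp [Pi.single_eq_of_ne ha]) (by simp),
      Finset.sum_eq_single ((0 : Fin 2), j) (fun b _ hb => by simp [Pi.single_eq_of_ne hb]) (by simp)]
    simp [Matrix.kronecker_apply, h0]
  · have h1 := Fintype.card_congr e
    rw [Fintype.card_prod, Fintype.card_fin, Fintype.card_fin] at h1
    rw [Fintype.card_fin]; omega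

end Cfsg.Agent.Asch
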