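import Cfsg.Agent.Asch.EvenTen
import Cfsg.Agent.Classical.QuadFamily

/-!
Types of the members of orthogonal decompositions of a space of plus type.
-/

set_option autoImplicit false
set_option linter.unusedSectionVars false

namespace Cfsg.Agent.Asch

open Matrix Cfsg.Geo Cfsg.Agent.PrimeDim QuadraticMap
open scoped MatrixGroups
open Cfsg.Agent.Classical Cfsg.Agent.Classical.Quad

section General

variable {F : Type*} [Field F] [Finite F] {V : Type*} [AddCommGroup V] [Module F V] [FiniteDimensional F V]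

/-- A space with singular subspaces of half the dimension is hyperbolic. -/
theorem iso_hyp_of_plus {q : QuadraticForm F V} {m : ℕ} (hp : PlusSpace q m) : Iso (hyp (zeroForm F) m) q := by
  classical
  rcases even_cases hp.nd hp.dim with h | ⟨hm, h⟩
  · exact h
  exfalso
  obtain ⟨ζ, hζ⟩ := exists_rootfree (F := F)
  obtain ⟨e, he⟩ := h 1 ζ (rootfree_aniso hζ)
  obtain ⟨U, hUd, hU⟩ := hp.max
  let L : (Fin (m - 1) → F) →ₗ[F] V :=
    e.toLinearMap ∘ₗ (LinearMap.inl F _ (F × F)) ∘ₗ (LinearMap.inl F (Fin (m - 1) → F) (Fin (m - 1) → F))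
  have hL : ∀ x, L x = e ((x, 0), 0) := fun x => rfl
  have hW : ∀ w ∈ LinearMap.range L, q w = 0 := by
    rintro _ ⟨x, rfl⟩
    rw [hL, he, hyp_apply]
    simp
  have hWd : Module.finrank F (LinearMap.range L) = m - 1 := by
    rw [LinearMap.finrank_range_of_inj (fun x y hxy => ?_), Module.finrank_fin_fun]
    rw [hL, hL] at hxy
    exact congrArg (fun p => p.1.1) (e.injective hxy)
  have hmax : ∀ W : Submodule F V, LinearMap.range L ≤ W → (∀ w ∈ W, q w = 0) → W = LinearMap.range L := by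
    intro W hle hW0
    refine le_antisymm (fun w hw => ?_) hle
    obtain ⟨⟨⟨x, y⟩, z⟩, rfl⟩ := e.surjective w
    have hy : y = 0 := funext fun i => by
      have h1 := hW0 _ (add_mem hw (hle ⟨Pi.single i 1, rfl⟩))
      have h2 := hW0 _ hw
      rw [hL, ← map_add, he, hyp_apply] at h1
      rw [he, hyp_apply] at h2
      simp only [Prod.mk_add_mk, add_zero, Pi.add_apply, add_mul, Finset.sum_add_distrib] at h1 h2
      simp only [Pi.single_apply, ite_mul, one_mul, zero_mul, Finset.sum_ite_eq', Finset.mem_univ, if_true] at h1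
      show y i = 0
      linear_combination h1 - h2
    have hz : z = 0 := by
      by_contra hne
      have h2 := hW0 _ hw
      rw [he, hyp_apply, hy] at h2
      simp at h2
      exact binForm_ne_zero (rootfree_aniso hζ) hne h2
    exact ⟨x, by rw [hL, hy, hz]⟩
  have h1 := finrank_eq_of_maximal hp.nd hW hU hmax (by rw [hWd, hUd]; omega)
  rw [hWd, hUd] at h1
  omega

end General

variable {F : Type*} [Field F] [Fintype F] {ι : Type} [Fintype ι] [DecidableEq ι]
  {Q : QuadraticForm F (ι → F)}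

theorem piece_nondeg {W : Submodule F (ι → F)} (hW : IsNondegenerateOn (polar ⇑Q) W) :
    (polarBilin (Q.comp W.subtype)).Nondegenerate := nondeg_of fun x hx => by
  by_contra hne
  obtain ⟨-, y, hy, hxy⟩ := hW x x.2 fun e => hne (Subtype.ext e)
  exact hxy (hx ⟨y, hy⟩)

theorem iso_hyp_of_piece {W : Submodule F (ι → F)} (hW : IsNondegenerateOn (polar ⇑Q) W) {m : ℕ}
    (hd : Module.finrank F W = 2 * m) (hp : IsPlusTypeOn ⇑Q W) : Iso (hyp (zeroForm F) m) (Q.comp W.subtype) := by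
  obtain ⟨U, hUW, hU, hUd⟩ := hp
  refine iso_hyp_of_plus ⟨piece_nondeg hW, hd, U.comap W.subtype, ?_, fun w hw => hU _ hw⟩
  rw [(Submodule.comapSubtypeEquivOfLe hUW).finrank_eq]
  omega

theorem piece_of_iso_hyp {W : Submodule F (ι → F)} {m : ℕ} (hd : Module.finrank F W = 2 * m)
    (h : Iso (hyp (zeroForm F) m) (Q.comp W.subtype)) : IsPlusTypeOn ⇑Q W := by
  obtain ⟨e, he⟩ := h
  let L : (Fin m → F) →ₗ[F] (ι → F) :=
    W.subtype ∘ₗ e.toLinearMap ∘ₗ (LinearMap.inl F _ (Fin 0 → F)) ∘ₗ (LinearMap.inl F (Fin m → F) (Fin m → F))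
  have hL : ∀ x, L x = (e ((x, 0), 0) : ι → F) := fun x => rfl
  refine ⟨LinearMap.range L, ?_, ?_, ?_⟩
  · rintro _ ⟨x, rfl⟩; exact (e _).2
  · rintro _ ⟨x, rfl⟩
    rw [hL]
    have h1 := he ((x, 0), 0)
    rw [hyp_apply] at h1
    simpa [zeroForm] using h1
  · rw [LinearMap.finrank_range_of_inj (fun x y hxy => ?_), Module.finrank_fin_fun, hd]
    rw [hL, hL] at hxy
    exact congrArg (fun p => p.1.1) (e.injective (Subtype.ext hxy))

/-- The type is an isometry invariant. -/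
theorem plus_transfer {A B : Submodule F (ι → F)} (h : AreIsometricFor ⇑Q A B) (hp : IsPlusTypeOn ⇑Q A) :
    IsPlusTypeOn ⇑Q B := by
  obtain ⟨U, hU, hUs, hUd⟩ := hp
  obtain ⟨e, he⟩ := h
  let ψ : U →ₗ[F] (ι → F) := B.subtype ∘ₗ e.toLinearMap ∘ₗ Submodule.inclusion hU
  have hψ : Function.Injective ψ := fun x y h =>
    Submodule.inclusion_injective hU (e.injective (Subtype.ext h))
  refine ⟨LinearMap.range ψ, ?_, ?_, ?_⟩
  · rintro _ ⟨x, rfl⟩; exact (e _).2
  · rintro _ ⟨x, rfl⟩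
    show Q (e (Submodule.inclusion hU x) : ι → F) = 0
    rw [he]
    exact hUs _ x.2
  · rw [LinearMap.finrank_range_of_inj hψ, hUd, e.finrank_eq]

/-- What is orthogonal to a singular subspace in a space of plus type. -/
theorem plus_piece (hQ : (polarBilin Q).Nondegenerate) (hplus : IsPlusTypeOn ⇑Q ⊤) {W D : Submodule F (ι → F)}
    (hW : ∀ w ∈ W, Q w = 0) (hWD : ∀ w ∈ W, ∀ d ∈ D, polar Q w d = 0) (hdis : W ⊓ D = ⊥)
    (hdim : 2 * Module.finrank F W + Module.finrank F D = Fintype.card ι) : IsPlusTypeOn ⇑Q D := by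
  obtain ⟨U₀, -, hU₀, hU₀d⟩ := hplus
  rw [finrank_top, Module.finrank_fintype_fun_eq_card] at hU₀d
  have hps : PlusSpace Q (Module.finrank F U₀) :=
    ⟨hQ, by rw [Module.finrank_fintype_fun_eq_card]; omega, U₀, rfl, hU₀⟩
  obtain ⟨U, hWU, hUd, hU⟩ := hps.extend hW
  have horth : LinearMap.BilinForm.orthogonal (polarBilin Q) W = W ⊔ D := by
    refine (Submodule.eq_of_le_of_finrank_le (sup_le (fun u hu => ten_mem_orth.2 fun w hw =>
      polar_eq_zero_of_singular hW hw hu) fun d hd => ten_mem_orth.2 fun w hw => hWD w hw d hd) ?_).symm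
    have h1 := Submodule.finrank_sup_add_finrank_inf_eq W D
    rw [hdis, finrank_bot] at h1
    rw [ten_orth_rank hQ]
    omega
  have hUeq : W ⊔ D ⊓ U = U := by
    rw [← sup_inf_assoc_of_le D hWU, inf_eq_right, ← horth]
    exact fun u hu => ten_mem_orth.2 fun w hw => polar_eq_zero_of_singular hU (hWU hw) hu
  refine ⟨D ⊓ U, inf_le_left, fun v hv => hU v hv.2, ?_⟩
  have h1 := Submodule.finrank_sup_add_finrank_inf_eq W (D ⊓ U)
  rw [hUeq, show W ⊓ (D ⊓ U) = ⊥ by rw [← inf_assoc, hdis, bot_inf_eq], finrank_bot] at h1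
  omega

/-- Two orthogonal halves of even dimension in a space of plus type are isometric. -/
theorem plus_halves_iso (hQ : (polarBilin Q).Nondegenerate) (hplus : IsPlusTypeOn ⇑Q ⊤) {m : ℕ}
    (hn : Fintype.card ι = 2 * (2 * m)) {D : Fin 2 → Submodule F (ι → F)}
    (hD : IsNondegenerateMDecomposition (polar ⇑Q) (2 * m) D) : IsOrthogonalMDecomposition ⇑Q (2 * m) D := by
  classical
  have hne : ∀ i : Fin 2, i ≠ 1 - i := by decide
  have hswap : ∀ i, IsPlusTypeOn ⇑Q (D i) → IsPlusTypeOn ⇑Q (D (1 - i)) := fun i hp => by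
    obtain ⟨W, hWD, hW, hWd⟩ := hp
    refine plus_piece hQ hplus hW (fun w hw d hd => hD.orthogonal i (1 - i) (hne i) w (hWD hw) d hd)
      (le_bot_iff.1 ((inf_le_inf_right _ hWD).trans ((hD.decomp.indep.pairwiseDisjoint (hne i)).le_bot))) ?_
    rw [hWd, hD.decomp.finrank_eq, hD.decomp.finrank_eq, hn]; ring
  have hiso : Iso (Q.comp (D 0).subtype) (Q.comp (D 1).subtype) := by
    have hd := fun i => hD.decomp.finrank_eq i
    by_cases hp : IsPlusTypeOn ⇑Q (D 0)
    · exact (iso_hyp_of_piece (hD.nondegenerate 0) (hd 0) hp).symm.trans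
        (iso_hyp_of_piece (hD.nondegenerate 1) (hd 1) (hswap 0 hp))
    · have hp1 : ¬ IsPlusTypeOn ⇑Q (D 1) := fun h => hp (hswap 1 h)
      obtain ⟨ζ, hζ⟩ := exists_rootfree (F := F)
      rcases even_cases (piece_nondeg (hD.nondegenerate 0)) (hd 0) with h | ⟨-, h0⟩
      · exact absurd (piece_of_iso_hyp (hd 0) h) hp
      rcases even_cases (piece_nondeg (hD.nondegenerate 1)) (hd 1) with h | ⟨-, h1⟩
      · exact absurd (piece_of_iso_hyp (hd 1) h) hp1
      exact (h0 1 ζ (rootfree_aniso hζ)).symm.trans (h1 1 ζ (rootfree_aniso hζ))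
  obtain ⟨e, he⟩ := hiso
  refine ⟨hD, fun i j => ?_⟩
  fin_cases i <;> fin_cases j
  · exact ⟨LinearEquiv.refl _ _, fun w => rfl⟩
  · exact ⟨e, he⟩
  · exact ⟨e.symm, fun w => by
      have h := he (e.symm w)
      rw [e.apply_symm_apply] at h
      exact h.symm⟩
  · exact ⟨LinearEquiv.refl _ _, fun w => rfl⟩

/-- Three isometric members of even dimension in a space of plus type. -/
theorem three_blocks_plus (hQ : (polarBilin Q).Nondegenerate) (hplus : IsPlusTypeOn ⇑Q ⊤) {l : ℕ}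
    {D : Fin 3 → Submodule F (ι → F)} (hD : IsOrthogonalMDecomposition ⇑Q (2 * l) D) (i : Fin 3) :
    IsPlusTypeOn ⇑Q (D i) := by
  classical
  refine plus_transfer (hD.isometric 2 i) ?_
  have hd := hD.decomp.decomp
  have hcard := NotMax.mul_card_eq' hd
  set q : QuadraticForm F (D 0) := Q.comp (D 0).subtype with hqdef
  obtain ⟨f, hf⟩ := iso_smul_even (piece_nondeg (hD.decomp.nondegenerate 0)) (hd.finrank_eq 0) (c := (-1 : F))
    (by norm_num)
  have hf' : ∀ x : D 0, Q (f x : ι → F) = -Q (x : ι → F) := fun x => by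
    have h2 := hf x
    simpa using h2
  obtain ⟨e, he⟩ := hD.isometric 0 1
  let Φ : D 0 →ₗ[F] (ι → F) := (D 0).subtype + (D 1).subtype ∘ₗ e.toLinearMap ∘ₗ f.toLinearMap
  have hΦ : ∀ x, Φ x = (x : ι → F) + (e (f x) : ι → F) := fun x => rfl
  have hort : ∀ {i j : Fin 3}, i ≠ j → ∀ {x y}, x ∈ D i → y ∈ D j → polar Q x y = 0 :=
    fun hij x y hx hy => hD.decomp.orthogonal _ _ hij _ hx _ hy
  have hinj : Function.Injective Φ := (injective_iff_map_eq_zero Φ).2 fun x hx => Subtype.ext (by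
    rw [hΦ, add_eq_zero_iff_eq_neg] at hx
    refine (Submodule.eq_bot_iff _).1 (disjoint_iff.1 (hd.indep.pairwiseDisjoint (by decide : (0 : Fin 3) ≠ 1))) _
      ⟨x.2, ?_⟩
    rw [hx]
    exact neg_mem (e _).2)
  have hΦorth : ∀ x, ∀ d ∈ D 2, polar Q (Φ x) d = 0 := fun x d hd' => by
    rw [hΦ, polar_add_left, hort (by decide : (0 : Fin 3) ≠ 2) x.2 hd',
      hort (by decide : (1 : Fin 3) ≠ 2) (e _).2 hd', add_zero]
  refine plus_piece hQ hplus (W := LinearMap.range Φ) ?_ ?_ ?_ ?_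
  · rintro _ ⟨x, rfl⟩
    rw [hΦ, map_add', he, hf', hort (by decide : (0 : Fin 3) ≠ 1) x.2 (e _).2]
    ring
  · rintro _ ⟨x, rfl⟩ d hd'; exact hΦorth x d hd'
  · rw [eq_bot_iff]
    rintro u ⟨⟨x, rfl⟩, hu⟩
    rw [Submodule.mem_bot]
    by_contra hne
    obtain ⟨-, d, hd', hne'⟩ := hD.decomp.nondegenerate 2 _ hu hne
    exact hne' (hΦorth x d hd')
  · rw [LinearMap.finrank_range_of_inj hinj, hd.finrank_eq, hd.finrank_eq, ← hcard]; ring

end Cfsg.Agent.Asch
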