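import Cfsg.Agent.Asch.FormFrame
import Cfsg.Agent.Asch.Wreath

/-!
The form fixed by commuting factors is a tensor product of forms of the factors.
-/

set_option autoImplicit false
set_option linter.unusedSectionVars false

namespace Cfsg.Agent.Asch

open Matrix Cfsg.Geo Cfsg.Agent.PrimeDim
open scoped MatrixGroups Kronecker

variable {F : Type*} [Field F] {k m : ℕ}

theorem slot_eq_pureM (i : Fin k) (A : Matrix (Fin m) (Fin m) F) :
    slot (d := fun _ : Fin k => m) i A = pureM (Function.update 1 i A) := by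
  ext x y
  simp only [slot, pureM, Matrix.of_apply]
  rw [← Finset.mul_prod_erase _ _ (Finset.mem_univ i), Function.update_self]
  by_cases h : ∀ j, j ≠ i → x j = y j
  · rw [if_pos h, Finset.prod_eq_one fun j hj => ?_, mul_one]
    have hj' := Finset.ne_of_mem_erase hj
    rw [Function.update_of_ne hj', Pi.one_apply, h j hj', Matrix.one_apply_eq]
  · push Not at h
    obtain ⟨j, hj, hne⟩ := h
    rw [if_neg fun h => hne (h j hj), Finset.prod_eq_zero (i := j) (Finset.mem_erase.2 ⟨hj, Finset.mem_univ j⟩) ?_,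
      mul_zero]
    rw [Function.update_of_ne hj, Pi.one_apply, Matrix.one_apply_ne hne]

theorem slot_one (i : Fin k) : slot (d := fun _ : Fin k => m) i (1 : Matrix (Fin m) (Fin m) F) = 1 := by
  rw [slot_eq_pureM, show (1 : Matrix (Fin m) (Fin m) F) = (1 : Fin k → Matrix (Fin m) (Fin m) F) i from rfl,
    Function.update_eq_self, pureM_one]

theorem pureM_transpose (A : Fin k → Matrix (Fin m) (Fin m) F) : (pureM A)ᵀ = pureM fun i => (A i)ᵀ := rfl

theorem pureM_map (σ : F ≃+* F) (A : Fin k → Matrix (Fin m) (Fin m) F) :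
    (pureM A).map σ = pureM fun i => (A i).map σ := by
  ext x y
  simp [pureM, map_prod]

theorem act_pureM (σ : F ≃+* F) (c : F) (Gs A : Fin k → Matrix (Fin m) (Fin m) F) :
    act σ (c • pureM Gs) (pureM A) = c • pureM fun i => act σ (Gs i) (A i) := by
  rw [act_smul, act, pureM_transpose, pureM_map, pureM_mul, pureM_mul]
  rfl

theorem slot_transpose (i : Fin k) (A : Matrix (Fin m) (Fin m) F) :
    (slot (d := fun _ : Fin k => m) i A)ᵀ = slot (d := fun _ : Fin k => m) i Aᵀ := by
  rw [slot_eq_pureM, slot_eq_pureM, pureM_transpose]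
  congr 1
  funext j
  rcases eq_or_ne j i with rfl | h
  · simp
  · simp [Function.update_of_ne h]

theorem slot_map (σ : F ≃+* F) (i : Fin k) (A : Matrix (Fin m) (Fin m) F) :
    (slot (d := fun _ : Fin k => m) i A).map σ = slot (d := fun _ : Fin k => m) i (A.map σ) := by
  rw [slot_eq_pureM, slot_eq_pureM, pureM_map]
  congr 1
  funext j
  rcases eq_or_ne j i with rfl | h
  · simp
  · simp [Function.update_of_ne h]

theorem slot_commute {i j : Fin k} (hij : i ≠ j) (A B : Matrix (Fin m) (Fin m) F) :
    Commute (slot (d := fun _ : Fin k => m) i A) (slot (d := fun _ : Fin k => m) j B) := by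
  show _ = _
  rw [slot_eq_pureM, slot_eq_pureM, pureM_mul, pureM_mul]
  congr 1
  funext l
  rcases eq_or_ne l i with rfl | h
  · simp [Function.update_of_ne hij]
  · simp [Function.update_of_ne h]

/-- The slice of a matrix along one coordinate. -/
def slice (M : Matrix (Fin k → Fin m) (Fin k → Fin m) F) (i : Fin k) (z w : Fin k → Fin m) :
    Matrix (Fin m) (Fin m) F := Matrix.of fun a b => M (Function.update z i a) (Function.update w i b)

theorem slice_fixed (σ : F ≃+* F) (M : Matrix (Fin k → Fin m) (Fin k → Fin m) F) (i : Fin k)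
    (A : Matrix (Fin m) (Fin m) F) (h : act σ M (slot (d := fun _ : Fin k => m) i A) = M) (z w : Fin k → Fin m) :
    Aᵀ * slice M i z w * A.map σ = slice M i z w := by
  ext a b
  have h1 := congrFun (congrFun h (Function.update z i a)) (Function.update w i b)
  rw [act, slot_transpose, slot_map, mul_slot] at h1
  simp only [slot_mul, Function.update_self, Function.update_idem] at h1
  simp only [slice, Matrix.mul_apply, Matrix.of_apply]
  exact h1

/-- Elements of the standard wreath product. -/
theorem mem_standard {g : GL (Fin k → Fin m) F} (hg : g ∈ tensorWreathStandard m k F) :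
    ∃ (gs : Fin k → GL (Fin m) F) (π : Equiv.Perm (Fin k)), g = pureU gs * permU π := by
  have hperm : ∀ π τ : Equiv.Perm (Fin k), (permU π * permU τ : GL (Fin k → Fin m) F) = permU (π * τ) := fun π τ =>
    Units.ext (permM_mul π τ)
  have hpure : ∀ a b : Fin k → GL (Fin m) F, pureU a * pureU b = pureU (a * b) := fun a b => Units.ext (pureM_mul _ _)
  have hswap : ∀ (π : Equiv.Perm (Fin k)) (a : Fin k → GL (Fin m) F),
      permU π * pureU a = pureU (fun j => a (π.symm j)) * permU π := by
    intro π a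
    refine Units.ext (Matrix.ext fun x y => ?_)
    show _ = mat (pureU (fun j => a (π.symm j)) * permU π) x y
    rw [pureU_mul_permU_apply]
    show (permM π * pureM (fun j => mat (a j)) : Matrix _ _ F) x y = _
    rw [Matrix.mul_apply, Finset.sum_eq_single (x ∘ π)]
    · simp only [permM, pureM, Matrix.of_apply, if_true, one_mul, Equiv.symm_apply_apply, Function.comp_apply]
    · intro z _ hz
      simp [permM, hz]
    · simp
  induction hg using Subgroup.closure_induction with
  | mem g hg =>
    rcases hg with ⟨gs, hgs⟩ | ⟨π, hπ⟩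
    · refine ⟨gs, 1, ?_⟩
      rw [show (permU 1 : GL (Fin k → Fin m) F) = 1 from Units.ext permM_one, mul_one]
      exact Units.ext (Matrix.ext hgs)
    · refine ⟨1, π, ?_⟩
      rw [show (pureU (1 : Fin k → GL (Fin m) F)) = 1 from Units.ext pureM_one, one_mul]
      exact Units.ext (Matrix.ext hπ)
  | one =>
    refine ⟨1, 1, ?_⟩
    rw [show (permU 1 : GL (Fin k → Fin m) F) = 1 from Units.ext permM_one,
      show (pureU (1 : Fin k → GL (Fin m) F)) = 1 from Units.ext pureM_one, one_mul]
  | mul g g' _ _ ih ih' =>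
    obtain ⟨a, π, rfl⟩ := ih
    obtain ⟨b, τ, rfl⟩ := ih'
    refine ⟨a * fun j => b (π.symm j), π * τ, ?_⟩
    rw [← hpure, ← hperm, mul_assoc, ← mul_assoc (permU π), hswap]
    simp only [mul_assoc]
  | inv g _ ih =>
    obtain ⟨a, π, rfl⟩ := ih
    refine ⟨fun j => a⁻¹ (π⁻¹.symm j), π⁻¹, ?_⟩
    rw [← hswap, _root_.mul_inv_rev]
    congr 1

variable {ι : Type} [Fintype ι] [DecidableEq ι] {σ : F ≃+* F} {ε : F} {G : Matrix ι ι F}

theorem frL_change {κ : Type} [Fintype κ] [DecidableEq κ] (e : ι ≃ κ) (P : GL ι F) (U : GL κ F) (x : κ → F) :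
    frL e (fr e P U * P) x = frL e P (mat U *ᵥ x) := by
  rw [← fr_mulVec]
  show mat (fr e P U * P) *ᵥ (x ∘ e) = mat (fr e P U) *ᵥ (mat P *ᵥ (x ∘ e))
  rw [mulVec_mul]

theorem frG_change {κ : Type} [Fintype κ] [DecidableEq κ] (e : ι ≃ κ) (P : GL ι F) (U : GL κ F) :
    frG σ e (fr e P U * P) G = act σ (frG σ e P G) (mat U) :=
  formG_ext (σ := σ) fun x y => by rw [formG_frL, frL_change, frL_change, ← formG_frL, formG_mulVec]

theorem wreath_change {H : Subgroup (GL ι F)} {e : ι ≃ (Fin k → Fin m)} {P : GL ι F} {U : GL (Fin k → Fin m) F}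
    (hU : U ∈ tensorWreathStandard m k F) (hH : H ≤ tensorWreathSubgroup m k e P) :
    H ≤ tensorWreathSubgroup m k e (fr e P U * P) := by
  intro g hg
  obtain ⟨X, hX, rfl⟩ := (map_fr_eq_wreath e P).ge (hH hg)
  refine (map_fr_eq_wreath e _).le ⟨U⁻¹ * X * U, mul_mem (mul_mem (inv_mem hU) hX) hU, ?_⟩
  show fr e (fr e P U * P) (U⁻¹ * X * U) = fr e P X
  rw [← fr_conj]
  congr 1
  group

theorem tensorFormStructure_of_eq {n₁ n₂ : ℕ} {e : ι ≃ Fin n₁ × Fin n₂} {P : GL ι F}
    {G₁ : Matrix (Fin n₁) (Fin n₁) F} {G₂ : Matrix (Fin n₂) (Fin n₂) F} (h : frG σ e P G = G₁ ⊗ₖ G₂) :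
    IsTensorFormStructure (fun x => σ x) (formG σ G) (formG σ G₁) (formG σ G₂) e P := by
  refine ⟨1, one_ne_zero, fun x y => ?_⟩
  show formG σ G (frL e P x) (frL e P y) = _
  rw [← formG_frL, h, gram_formG, gram_formG, one_mul]
  simp only [formG, formOfGram, dotProduct, Matrix.mulVec, Finset.mul_sum, mul_assoc]

theorem powerFormStructure_of_eq {e : ι ≃ (Fin k → Fin m)} {P : GL ι F} {c : F} (hc : c ≠ 0)
    {G₁ : Matrix (Fin m) (Fin m) F} (h : frG σ e P G = c • pureM fun _ => G₁) :
    IsTensorPowerFormStructure (fun x => σ x) (formG σ G) (formG σ G₁) e P := by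
  refine ⟨c, hc, fun x y => ?_⟩
  show formG σ G (frL e P x) (frL e P y) = _
  rw [← formG_frL, h, gram_formG, formG_smul]
  simp only [formG, dotProduct, Matrix.mulVec, Finset.mul_sum, pureM, Matrix.of_apply, mul_assoc]

variable [Finite F]

set_option maxHeartbeats 1000000 in
/-- The form of the factors. -/
theorem form_slots [Nonempty ι] {Q : Fin k → Subgroup (GL ι F)}
    (habs : ActsAbsolutelyIrreducibly (matrixSet (⨆ i, Q i : Subgroup (GL ι F)))) {e : ι ≃ (Fin k → Fin m)}
    {P : GL ι F} {X : (i : Fin k) → Q i → Matrix (Fin m) (Fin m) F}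
    (hX : ∀ i (x : Q i), frM e P (slot (d := fun _ : Fin k => m) i (X i x)) = mat x.1) (hirr : ∀ i, IrrFam (X i))
    (hm : 0 < m) (hG : IsRG σ ε G) (hN : Fixes σ (⨆ i, Q i : Subgroup (GL ι F)) G) :
    ∃ (c : F) (Gs : Fin k → Matrix (Fin m) (Fin m) F), c ≠ 0 ∧ frG σ e P G = c • pureM Gs ∧
      ∀ i, (Gs i).det ≠ 0 ∧ (∀ x : Q i, (X i x)ᵀ * Gs i * (X i x).map σ = Gs i) ∧
        ∃ s : F, (Gs i)ᵀ = s • (Gs i).map σ := by
  classical
  haveI : Nonempty (Fin m) := ⟨⟨0, hm⟩⟩
  have hu : ∀ i (x : Q i), IsUnit (X i x) := by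
    intro i x
    have h1 : X i x * X i x⁻¹ = 1 := slot_injective (fun _ => hm) i ((frM e P).injective (by
      rw [← slot_mul_slot, map_mul, hX, hX, slot_one, map_one]
      exact (mat_mul_inv x.1)))
    exact (Matrix.isUnit_iff_isUnit_det _).2 (Matrix.isUnit_det_of_right_inverse h1)
  have hsc : ∀ i (A : Matrix (Fin m) (Fin m) F), (∀ x, A * X i x = X i x * A) → ∃ c : F, A = c • 1 := by
    intro i A hA
    obtain ⟨c, hc⟩ := (abs_iff.1 habs).2 (frM e P (slot (d := fun _ : Fin k => m) i A)) fun g hg => by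
      have hle : (⨆ j, Q j : Subgroup (GL ι F)) ≤ commG (frM e P (slot (d := fun _ : Fin k => m) i A)) :=
        iSup_le fun j x hx => by
          show Commute _ (mat x)
          rw [← hX j ⟨x, hx⟩]
          refine Commute.map ?_ (frM e P)
          rcases eq_or_ne i j with rfl | hij
          · show _ = _
            rw [slot_mul_slot, slot_mul_slot, hA]
          · exact slot_commute hij _ _
      exact (hle hg : Commute _ _)
    refine ⟨c, slot_injective (fun _ => hm) i ?_⟩
    have h1 : slot (d := fun _ : Fin k => m) i A = c • 1 := (frM e P).injective (by rw [hc, map_smul, map_one])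
    rw [h1]
    ext x y
    simp only [slot, Matrix.of_apply, Matrix.smul_apply, Matrix.one_apply, smul_eq_mul]
    by_cases hxy : x = y
    · subst hxy; simp
    · rw [if_neg hxy, mul_zero]
      split_ifs with h2 h3
      · exact absurd (funext fun j => if hj : j = i then hj ▸ h3 else h2 j hj) hxy
      · rw [mul_zero]
      · rfl
  set G' := frG σ e P G with hG'def
  have hG' := hG.frame e P
  have hfix : ∀ i (x : Q i), act σ G' (slot (d := fun _ : Fin k => m) i (X i x)) = G' := by
    intro i x
    obtain ⟨g, hg⟩ := (fr e P).surjective x.1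
    have h1 := fixes_comap e P hN g (show fr e P g ∈ _ by rw [hg]; exact le_iSup Q i x.2)
    rwa [show mat g = slot (d := fun _ : Fin k => m) i (X i x) from (frM e P).injective (by rw [frM_mat, hg, hX])] at h1
  obtain ⟨z, w, hzw⟩ : ∃ z w, G' z w ≠ 0 := by
    by_contra hcon
    push Not at hcon
    exact ne_zero_of_det hG'.det (Matrix.ext hcon)
  set Gs : Fin k → Matrix (Fin m) (Fin m) F := fun i => (G' z w)⁻¹ • slice G' i z w with hGs
  have hsl : ∀ i x y, ∀ g : Q i, (X i g)ᵀ * slice G' i x y * (X i g).map σ = slice G' i x y := fun i x y g =>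
    slice_fixed σ G' i _ (hfix i g) x y
  have hdet : ∀ i, (slice G' i z w).det ≠ 0 := fun i =>
    det_block (hirr i) (hu i) (fun h0 => hzw (by
      have h1 := congrFun (congrFun h0 (z i)) (w i)
      simpa [slice] using h1)) (hsl i z w)
  have hsplit : ∀ i x y, G' x y = Gs i (x i) (y i) * G' (Function.update x i (z i)) (Function.update y i (w i)) := by
    intro i x y
    obtain ⟨c, hc⟩ := form_scalar (hu i) (hsc i) (hdet i) (hsl i z w) (hsl i x y)
    have e1 := congrFun (congrFun hc (x i)) (y i)
    have e2 := congrFun (congrFun hc (z i)) (w i)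
    simp only [slice, Matrix.of_apply, Matrix.smul_apply, smul_eq_mul, Function.update_eq_self] at e1 e2
    rw [e1, e2]
    simp only [hGs, slice, Matrix.of_apply, Matrix.smul_apply, smul_eq_mul]
    field_simp
  have hprod : ∀ (S : Finset (Fin k)) (x y : Fin k → Fin m), (∀ i ∉ S, x i = z i ∧ y i = w i) →
      G' x y = (∏ i ∈ S, Gs i (x i) (y i)) * G' z w := by
    intro S
    induction S using Finset.induction_on with
    | empty =>
      intro x y h
      rw [Finset.prod_empty, one_mul, funext fun i => (h i (Finset.notMem_empty i)).1,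
        funext fun i => (h i (Finset.notMem_empty i)).2]
    | insert i S hi ih =>
      intro x y h
      rw [hsplit i x y, ih _ _ fun j hj => ?_, Finset.prod_insert hi, mul_assoc]
      · congr 2
        refine Finset.prod_congr rfl fun j hj => ?_
        have hne : j ≠ i := fun e => hi (e ▸ hj)
        rw [Function.update_of_ne hne, Function.update_of_ne hne]
      · rcases eq_or_ne j i with rfl | hne
        · simp
        · rw [Function.update_of_ne hne, Function.update_of_ne hne]
          exact h j (by simp [hj, hne])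
  refine ⟨G' z w, Gs, hzw, Matrix.ext fun x y => ?_, fun i => ⟨?_, fun g => ?_, ?_⟩⟩
  · rw [hprod Finset.univ x y fun i hi => absurd (Finset.mem_univ i) hi]
    simp [pureM, mul_comm]
  · show ((G' z w)⁻¹ • slice G' i z w).det ≠ 0
    rw [Matrix.det_smul]
    exact mul_ne_zero (pow_ne_zero _ (inv_ne_zero hzw)) (hdet i)
  · show (X i g)ᵀ * ((G' z w)⁻¹ • slice G' i z w) * (X i g).map σ = (G' z w)⁻¹ • slice G' i z w
    rw [Matrix.mul_smul, Matrix.smul_mul, hsl i z w g]
  · obtain ⟨c, hc⟩ := form_scalar (hu i) (hsc i) (hdet i) (hsl i z w) (hsl i w z)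
    refine ⟨(G' z w)⁻¹ * ε * σ c * σ (G' z w), ?_⟩
    ext a b
    have h1 := congrFun (congrFun hG'.symm (Function.update w i a)) (Function.update z i b)
    have h2 := congrFun (congrFun hc a) b
    simp only [slice, Matrix.of_apply, Matrix.smul_apply, Matrix.transpose_apply, Matrix.map_apply, smul_eq_mul] at h1 h2
    simp only [hGs, slice, Matrix.of_apply, Matrix.smul_apply, Matrix.transpose_apply, Matrix.map_apply, smul_eq_mul,
      map_mul, map_inv₀]
    rw [← hG'def] at h1
    rw [h1, h2, map_mul]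
    have := (map_ne_zero σ).2 hzw
    field_simp

end Cfsg.Agent.Asch
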