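import Cfsg.Agent.Asch.Main
import Cfsg.Agent.NotMax.Parts

/-!
The special linear group lies in none of the geometric members.
-/

set_option autoImplicit false
set_option linter.unusedSectionVars false

namespace Cfsg.Agent.Asch

open Matrix Cfsg.Geo Cfsg.Agent.PrimeDim
open scoped MatrixGroups Kronecker

variable {F : Type*} [Field F] {ι : Type} [Fintype ι] [DecidableEq ι]

/-- Not in the stabiliser of a decomposition. -/
theorem sl_not_mdecomp {t m : ℕ} {D : Fin t → Submodule F (ι → F)} (hD : IsMDecomposition m D) :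
    ¬ specialLinear ι F ≤ decompositionStabilizer D := by
  intro hle
  obtain ⟨p, hp⟩ := NotMax.exists_parts hD
  have hne : ∀ i, ∃ v ∈ D i, v ≠ 0 := fun i => Submodule.exists_mem_ne_zero_of_ne_bot fun e => by
    have h1 := hD.finrank_eq i
    rw [e, finrank_bot] at h1
    exact hD.pos.ne h1
  have ht := hD.two_le
  set i : Fin t := ⟨0, by omega⟩ with hi
  set j : Fin t := ⟨1, by omega⟩ with hj
  have hij : i ≠ j := by simp [hi, hj]
  obtain ⟨v, hv, hv0⟩ := hne i
  obtain ⟨w, hw, hw0⟩ := hne j
  obtain ⟨ψ₀, hψ₀⟩ := Module.Projective.exists_dual_eq_one F hv0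
  have hφw : (ψ₀.comp (p i)) w = 0 := by
    rw [LinearMap.comp_apply, hp.other j i hij.symm w hw, map_zero]
  set g := (ClassicalMax.glEquiv ι F).symm (ClassicalMax.tvec (ψ₀.comp (p i)) w) with hg
  obtain ⟨σ, hσ⟩ := hle (ClassicalMax.tvec_mem_specialLinear (ψ₀.comp (p i)) w)
  have h1 : Matrix.toLin' (mat g) v ∈ D (σ i) := hσ i ▸ ⟨v, hv, rfl⟩
  rw [Matrix.toLin'_apply, mat, hg, ClassicalMax.symm_mulVec, ClassicalMax.tvec_apply hφw, LinearMap.comp_apply,
    hp.same i v hv, hψ₀, one_smul] at h1
  refine NotMax.notMem_of_parts hp hij ?_ ?_ (σ i) h1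
  · rw [map_add, hp.same i v hv, hp.other j i hij.symm w hw, add_zero]; exact hv0
  · rw [map_add, hp.same j w hw, hp.other i j hij v hv, zero_add]; exact hw0

/-- A transvection between two cells of a frame, inside the subgroup. -/
theorem el_frame {κ : Type} [Fintype κ] [DecidableEq κ] {e : ι ≃ κ} {P : GL ι F} {M : Subgroup (GL κ F)}
    (hle : specialLinear ι F ≤ M.map (fr e P).toMonoidHom) {x y : κ} (hxy : x ≠ y) : el x y hxy 1 ∈ M := by
  obtain ⟨X, hX, hX'⟩ := hle (mem_sl_conj (P := P) (el_mem (e.symm x) (e.symm y) (e.symm.injective.ne hxy) (1 : F)))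
  have h1 : fr e P X = fr e P (el x y hxy 1) := by
    show fr e P X = P * glReindex e.symm (el x y hxy 1) * P⁻¹
    refine Eq.trans hX' ?_
    congr 2
    refine Units.ext (Matrix.ext fun a b => ?_)
    show Matrix.transvection (e.symm x) (e.symm y) (1 : F) a b = Matrix.transvection x y (1 : F) (e a) (e b)
    simp [Matrix.transvection, Matrix.one_apply, Matrix.single_apply, Equiv.symm_apply_eq]
  exact (fr e P).injective h1 ▸ hX

/-- Not in the stabiliser of a tensor decomposition. -/
theorem sl_not_tensor {d k : ℕ} (hd : 2 ≤ d) (hk : 2 ≤ k) (e : ι ≃ Fin d × Fin k) (P : GL ι F) :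
    ¬ specialLinear ι F ≤ tensorProductSubgroup d k e P := by
  intro hle
  rw [← map_fr_eq_tensor] at hle
  set a₀ : Fin d := ⟨0, by omega⟩
  set a₁ : Fin d := ⟨1, by omega⟩
  set b₀ : Fin k := ⟨0, by omega⟩
  set b₁ : Fin k := ⟨1, by omega⟩
  have ha : a₀ ≠ a₁ := by simp [a₀, a₁]
  have hb : b₀ ≠ b₁ := by simp [b₀, b₁]
  have hne : (a₀, b₀) ≠ (a₁, b₁) := by simp [ha]
  obtain ⟨A, B, hX⟩ := el_frame hle hne
  have hent : ∀ p q, mat (el (a₀, b₀) (a₁, b₁) hne (1 : F)) p q =
      (A : Matrix (Fin d) (Fin d) F) p.1 q.1 * (B : Matrix (Fin k) (Fin k) F) p.2 q.2 := fun p q =>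
    congrFun (congrFun hX p) q
  have h1 := hent (a₀, b₀) (a₀, b₀)
  have h2 := hent (a₀, b₀) (a₁, b₁)
  have h3 := hent (a₀, b₀) (a₁, b₀)
  simp [mat_el, Matrix.transvection, ha, hb, Ne.symm ha, Ne.symm hb] at h1 h2 h3
  rcases h3 with h3 | h3
  · rw [h3, zero_mul] at h2; exact one_ne_zero h2
  · rw [h3, mul_zero] at h1; exact one_ne_zero h1

/-- Not in the stabiliser of a tensor power. -/
theorem sl_not_wreath [Finite F] {m t : ℕ} (hm : 2 ≤ m) (ht : 2 ≤ t) (e : ι ≃ (Fin t → Fin m)) (P : GL ι F) :
    ¬ specialLinear ι F ≤ tensorWreathSubgroup m t e P := by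
  intro hle
  rw [← map_fr_eq_wreath] at hle
  let S : Set ((Fin t → Fin m) → F) := {v | ∃ a : Fin t → Fin m → F, ∀ x, v x = ∏ j, a j (x j)}
  have hgen : tensorWreathStandard m t F ≤ Cfsg.stabilizing (Cfsg.glToMat (Fin t → Fin m) F) S := by
    refine (Subgroup.closure_le _).2 fun g hg => NotMax.mem_stabilizing S g ?_
    rintro v ⟨a, ha⟩
    rcases hg with ⟨gs, hgs⟩ | ⟨σ, hσ⟩
    · refine ⟨fun j => (gs j : Matrix (Fin m) (Fin m) F).mulVec (a j), fun x => ?_⟩
      simp only [Matrix.mulVec, dotProduct, hgs, ha, ← Finset.prod_mul_distrib]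
      exact (Fintype.prod_sum fun j l => (gs j : Matrix (Fin m) (Fin m) F) (x j) l * a j l).symm
    · refine ⟨fun j => a (σ.symm j), fun x => ?_⟩
      simp only [Matrix.mulVec, dotProduct, hσ, ite_mul, one_mul, zero_mul, Finset.sum_ite_eq', Finset.mem_univ, if_true,
        ha, Function.comp_apply]
      exact Fintype.prod_equiv σ _ _ fun j => by rw [Equiv.symm_apply_apply]
  set c₀ : Fin m := ⟨0, by omega⟩
  set c₁ : Fin m := ⟨1, by omega⟩
  have hc : c₀ ≠ c₁ := by simp [c₀, c₁]
  let x : Fin t → Fin m := fun _ => c₀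
  let y : Fin t → Fin m := fun _ => c₁
  have hxy : x ≠ y := fun h => hc (congrFun h ⟨0, by omega⟩)
  have hy : (Pi.single y 1 : (Fin t → Fin m) → F) ∈ S := ⟨fun _ => Pi.single c₁ 1, fun z => by
    simp only [Pi.single_apply, Finset.prod_boole, Finset.mem_univ, true_imp_iff, y, funext_iff]
    ⟩
  obtain ⟨a, ha⟩ := ((hgen (el_frame hle hxy)) _).1 hy
  have hv : mat (el x y hxy (1 : F)) *ᵥ Pi.single y 1 = (Pi.single y 1 : (Fin t → Fin m) → F) + Pi.single x 1 := by
    rw [el_mulVec, Pi.single_eq_same, mul_one, one_smul]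
  set j₀ : Fin t := ⟨0, by omega⟩
  have hx : ∏ j, a j c₀ = 1 := by
    rw [← ha x]
    show (mat (el x y hxy (1 : F)) *ᵥ Pi.single y 1) x = 1
    rw [hv, Pi.add_apply, Pi.single_eq_same, Pi.single_eq_of_ne hxy, zero_add]
  have hy' : ∏ j, a j c₁ = 1 := by
    rw [← ha y]
    show (mat (el x y hxy (1 : F)) *ᵥ Pi.single y 1) y = 1
    rw [hv, Pi.add_apply, Pi.single_eq_same, Pi.single_eq_of_ne hxy.symm, add_zero]
  let z : Fin t → Fin m := Function.update y j₀ c₀
  have hzy : z ≠ y := fun h => hc (by simpa [z, y] using congrFun h j₀)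
  have hzx : z ≠ x := fun h => hc.symm (by
    have h1 := congrFun h ⟨1, by omega⟩
    simpa [z, y, x, j₀] using h1)
  have hz : ∏ j, a j (z j) = 0 := by
    rw [← ha z]
    show (mat (el x y hxy (1 : F)) *ᵥ Pi.single y 1) z = 0
    rw [hv, Pi.add_apply, Pi.single_eq_of_ne hzy, Pi.single_eq_of_ne hzx, add_zero]
  obtain ⟨j, -, hj⟩ := Finset.prod_eq_zero_iff.1 hz
  rcases eq_or_ne j j₀ with rfl | hj'
  · simp [z] at hj
    exact one_ne_zero (hx.symm.trans (Finset.prod_eq_zero (Finset.mem_univ j₀) hj))
  · simp [z, hj'] at hj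
    exact one_ne_zero (hy'.symm.trans (Finset.prod_eq_zero (Finset.mem_univ j) hj))

/-- Not in the normaliser of a group of symplectic type. -/
theorem sl_not_symp_normalizer [Fintype F] [Nonempty ι] {r : ℕ} {H R : Subgroup (GL ι F)}
    (h3 : 3 ≤ Fintype.card ι) (hq : 4 ≤ Fintype.card F) (hR : IsSympNormal r H R) :
    ¬ specialLinear ι F ≤ subgroupNormalizer R := by
  classical
  intro hle
  obtain ⟨x, hx, hxs⟩ := SetLike.not_le_iff_exists.1 hR.nonscalar
  refine hxs ?_
  obtain ⟨c, hc⟩ := scalar_of_commute_el (A := mat x) fun i j hij a => by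
    by_contra hne
    have hcl : ∀ b : F, b ≠ 0 → mat x * mat (el i j hij b) ≠ mat (el i j hij b) * mat x := fun b hb h => hne (by
      have h1 : mat x * Matrix.single i j b = Matrix.single i j b * mat x := by
        simpa [mat_el, Matrix.transvection, mul_add, add_mul] using h
      have h2 : mat x * Matrix.single i j a = Matrix.single i j a * mat x := by
        rw [show Matrix.single i j a = (a / b) • Matrix.single i j b by
          rw [Matrix.smul_single, smul_eq_mul, div_mul_cancel₀ a hb], Matrix.mul_smul, Matrix.smul_mul, h1]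
      simp only [mat_el, Matrix.transvection, mul_add, add_mul, mul_one, one_mul, h2])
    have key : ∀ b : F, b ≠ 0 → (Fintype.card ι : F) = b ^ 2 * (mat x j i * mat x⁻¹ j i) := by
      intro b hb
      set s := el i j hij b with hs
      set g := s * x * s⁻¹ * x⁻¹ with hg
      have hgR : g ∈ R := mul_mem ((Subgroup.mem_normalizer_iff.1 (hle (el_mem i j hij b)) x).1 hx) (inv_mem hx)
      have hsm : mat s = 1 + Matrix.single i j b := rfl
      have hsi : mat s⁻¹ = 1 + Matrix.single i j (-b) := by rw [hs, el_inv]; rfl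
      have hgm : mat g = mat s * (mat x * mat s⁻¹ * mat x⁻¹) := by
        simp only [hg, mat, Units.val_mul, mul_assoc]
      have htr : (mat g).trace = (Fintype.card ι : F) - b ^ 2 * (mat x j i * mat x⁻¹ j i) := by
        have e2 : mat x * (1 + Matrix.single i j (-b)) * mat x⁻¹ = 1 + mat x * Matrix.single i j (-b) * mat x⁻¹ := by
          rw [mul_add, add_mul, mul_one, mat_mul_inv]
        rw [hgm, hsi, hsm, e2, add_mul, one_mul, mul_add, mul_one, Matrix.trace_add,
          Matrix.trace_add, Matrix.trace_add, Matrix.trace_one, Matrix.trace_mul_cycle (mat x), mat_inv_mul, one_mul,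
          Matrix.trace_single_eq_of_ne i j _ hij]
        have e1 : (Matrix.single i j b * (mat x * Matrix.single i j (-b) * mat x⁻¹)).trace =
            -(b ^ 2 * (mat x j i * mat x⁻¹ j i)) := by
          rw [Matrix.trace_single_mul, Matrix.mul_apply, Finset.sum_eq_single j (fun l _ hl => by
            rw [Matrix.mul_single_apply_of_ne (c := -b) (hbj := hl), zero_mul]) (by simp), Matrix.mul_single_apply_same]
          simp only [smul_eq_mul]
          ring
        rw [e1, Matrix.trace_single_eq_of_ne i j _ hij]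
        ring
      by_cases hgs : g ∈ scalars ι F
      · exfalso
        obtain ⟨c, hc⟩ := (Cfsg.Geo.mem_scalars_iff g).1 hgs
        refine hcl b hb ?_
        have hgx : mat g * mat x * mat s = mat s * mat x := by
          have h7 : g * x * s = s * x := by rw [hg]; group
          simpa only [mat, Units.val_mul] using congrArg mat h7
        rw [show mat g = (c : F) • (1 : Matrix ι ι F) from hc, Matrix.smul_mul, one_mul, Matrix.smul_mul] at hgx
        suffices hc1 : (c : F) = 1 by rw [hc1, one_smul] at hgx; exact hgx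
        have h1 : ∀ v : ι → F, v j = 0 → (mat x *ᵥ v) j = 0 → (c : F) • (mat x *ᵥ v) = mat x *ᵥ v := by
          intro v hv hv'
          have h2 := congrArg (· *ᵥ v) hgx
          simp only [Matrix.smul_mulVec, ← Matrix.mulVec_mulVec] at h2
          rwa [el_mulVec, el_mulVec, hv, mul_zero, zero_smul, add_zero, hv', mul_zero, zero_smul, add_zero] at h2
        by_contra hc1
        let L : (ι → F) →ₗ[F] F × F := (LinearMap.proj j).prod ((LinearMap.proj j).comp (mat x).mulVecLin)
        have hker : LinearMap.ker L = ⊥ := by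
          rw [eq_bot_iff]
          intro v hv
          replace hv : v j = 0 ∧ (mat x *ᵥ v) j = 0 := Prod.mk_eq_zero.1 (LinearMap.mem_ker.1 hv)
          have h2 := h1 v hv.1 hv.2
          nth_rewrite 2 [← one_smul F (mat x *ᵥ v)] at h2
          rw [← sub_eq_zero, ← sub_smul, smul_eq_zero, sub_eq_zero] at h2
          exact (Submodule.mem_bot F).2 (mulVec_injective x ((h2.resolve_left hc1).trans (Matrix.mulVec_zero _).symm))
        have h4 := LinearMap.finrank_le_finrank_of_injective (LinearMap.ker_eq_bot.1 hker)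
        rw [Module.finrank_fintype_fun_eq_card, Module.finrank_prod, Module.finrank_self] at h4
        omega
      · have h0 := hR.trace_eq_zero hgR hgs
        rw [htr, sub_eq_zero] at h0
        exact h0
    have hn0 := hR.degree_ne_zero
    have h1 := key 1 one_ne_zero
    rw [one_pow, one_mul] at h1
    have hsq : ∀ b : F, b ≠ 0 → b = 1 ∨ b = -1 := fun b hb => by
      have h2 := key b hb
      rw [← h1] at h2
      exact sq_eq_one_iff.1 ((mul_eq_right₀ hn0).1 h2.symm)
    have hsub : (Finset.univ : Finset F) ⊆ {0, 1, -1} := fun b _ => by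
      by_cases hb : b = 0
      · simp [hb]
      · rcases hsq b hb with h | h <;> simp [h]
    have h5 := Finset.card_le_card hsub
    have h6 : ({0, 1, -1} : Finset F).card ≤ 3 := Finset.card_le_three
    rw [Finset.card_univ] at h5
    omega
  exact mem_scalars_of_smul hc

/-- The degree of a field of matrices divides the size. -/
theorem field_dvd [Finite F] [Nonempty ι] {r : ℕ} {K : Subalgebra F (Matrix ι ι F)} (hK : IsFieldSubalgebra r K) :
    r ∣ Fintype.card ι := by
  classical
  have hfield : IsField K :=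
    { exists_pair_ne := ⟨0, 1, zero_ne_one⟩
      mul_comm := fun a b => Subtype.ext (hK.comm a.1 a.2 b.1 b.2)
      mul_inv_cancel := fun {a} ha => by
        obtain ⟨y, hy, hxy⟩ := hK.inv a.1 a.2 fun h => ha (Subtype.ext h)
        exact ⟨⟨y, hy⟩, Subtype.ext hxy⟩ }
  letI : Field K := hfield.toField
  letI : Module K (ι → F) :=
    { smul := fun k v => (k : Matrix ι ι F) *ᵥ v
      one_smul := Matrix.one_mulVec
      mul_smul := fun a b v => (Matrix.mulVec_mulVec v _ _).symm
      smul_zero := fun a => Matrix.mulVec_zero _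
      smul_add := fun a u v => Matrix.mulVec_add _ _ _
      add_smul := fun a b v => Matrix.add_mulVec _ _ _
      zero_smul := fun v => Matrix.zero_mulVec v }
  haveI : IsScalarTower F K (ι → F) := ⟨fun c k v => Matrix.smul_mulVec c (k : Matrix ι ι F) v⟩
  have h := Module.finrank_mul_finrank F K (ι → F)
  rw [hK.finrank_eq, Module.finrank_fintype_fun_eq_card] at h
  exact ⟨_, h.symm⟩

end Cfsg.Agent.Asch
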