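import Cfsg.Agent.Asch.FormPairs
import Cfsg.Agent.Asch.FormSlots
import Cfsg.Agent.Asch.Proper
import Cfsg.Agent.GraphForms.Classify
import Cfsg.Agent.PrimeDim.OmegaCases

/-!
Subgroups of the orthogonal groups in odd dimension: a geometric member, or almost simple modulo scalars.
-/

set_option autoImplicit false
set_option linter.unusedSectionVars false

namespace Cfsg.Agent.Asch

open Matrix Cfsg.Geo Cfsg.Agent.PrimeDim
open scoped MatrixGroups Kronecker

variable {F : Type*} [Field F] {ι : Type} [Fintype ι] [DecidableEq ι]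

local notation "rf" => RingEquiv.refl F

theorem map_refl {κ μ : Type} (A : Matrix κ μ F) : A.map (RingEquiv.refl F) = A := Matrix.ext fun _ _ => rfl

/-- A self-transposed up to sign matrix of odd degree is symmetric. -/
theorem symm_of_odd {n : ℕ} (hn : Odd n) {A : Matrix (Fin n) (Fin n) F} (hA : A.det ≠ 0) {s : F}
    (hs : Aᵀ = s • A.map (RingEquiv.refl F)) : Aᵀ = A := by
  rw [map_refl] at hs
  suffices h : s = 1 by rwa [h, one_smul] at hs
  have h2 : s * s = 1 := by
    have h1 : A = (s * s) • A := by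
      conv_lhs => rw [← Matrix.transpose_transpose A, hs, Matrix.transpose_smul, hs, smul_smul]
    haveI : Nonempty (Fin n) := ⟨⟨0, hn.pos⟩⟩
    exact smul_mat_cancel (ne_zero_of_det hA) (h1.symm.trans (one_smul F A).symm)
  obtain ⟨l, hl⟩ := hn
  have h3 := congrArg Matrix.det hs
  rw [Matrix.det_transpose, Matrix.det_smul, Fintype.card_fin,
    show s ^ n = s by rw [hl, pow_succ, pow_mul, pow_two, h2, one_pow, one_mul]] at h3
  exact mul_right_cancel₀ hA (h3.symm.trans (one_mul _).symm)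

theorem symmetricForm_formG {κ : Type} [Fintype κ] [DecidableEq κ] {A : Matrix κ κ F} (hA : A.det ≠ 0)
    (hs : Aᵀ = A) : IsSymmetricForm (formG (RingEquiv.refl F) A) := by
  have hG : IsRG (RingEquiv.refl F) 1 A := ⟨hA, fun _ => rfl, by rw [one_smul, map_refl, hs]⟩
  have hf := isSesq_formG (RingEquiv.refl F) A
  refine ⟨⟨hf.add_left, hf.smul_left, hf.add_right, fun c v x => hf.smul_right c v x⟩,
    fun u v => by rw [hG.swap v u, one_mul]; rfl, fun v hv => ⟨?_, ?_⟩⟩
  · by_contra hcon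
    push Not at hcon
    exact hv (hG.nondeg_right hcon)
  · by_contra hcon
    push Not at hcon
    exact hv (nondeg_left hA hcon)

/-- In odd degree every symmetric matrix is similar to the identity. -/
theorem congr_one [Finite F] (h2 : (2 : F) ≠ 0) {n : ℕ} (hn : Odd n) {A : Matrix (Fin n) (Fin n) F} (hA : A.det ≠ 0)
    (hs : Aᵀ = A) : ∃ (P : GL (Fin n) F) (c : F), c ≠ 0 ∧
      act (RingEquiv.refl F) A (mat P) = c • (1 : Matrix (Fin n) (Fin n) F) := by
  obtain ⟨P, hP⟩ := GraphForms.exists_congr_sym h2 hs (J' := A.det • (1 : Matrix (Fin n) (Fin n) F))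
    (by rw [Matrix.transpose_smul, Matrix.transpose_one]) hA
    (by rw [Matrix.det_smul, Matrix.det_one, mul_one]; exact pow_ne_zero _ hA) (by
      rw [Matrix.det_smul, Matrix.det_one, mul_one, Fintype.card_fin]
      obtain ⟨l, rfl⟩ := hn
      exact ⟨A.det ^ (l + 1), by ring⟩)
  exact ⟨P, A.det, hA, by rw [act, map_refl]; exact hP⟩

variable [Fintype F]

/-- In the field with three elements a similitude of three orthonormal vectors is monomial. -/
theorem mono_three (h3 : Fintype.card F = 3) {A : Matrix (Fin 3) (Fin 3) F} {ν : F}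
    (h : Aᵀ * A = ν • (1 : Matrix (Fin 3) (Fin 3) F)) (hA : A.det ≠ 0) (j : Fin 3) :
    ∃ i, ∀ i', i' ≠ i → A i' j = 0 := by
  have hall : ∀ x : F, x = 0 ∨ x = 1 ∨ x = -1 := fun x => by
    have hx := FiniteField.pow_card x
    rw [h3] at hx
    rcases mul_eq_zero.1 (show x * ((x - 1) * (x + 1)) = 0 by linear_combination hx) with h | h
    · exact Or.inl h
    rcases mul_eq_zero.1 h with h | h
    · exact Or.inr (Or.inl (sub_eq_zero.1 h))
    · exact Or.inr (Or.inr (eq_neg_of_add_eq_zero_left h))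
  have hsq : ∀ x : F, x ≠ 0 → x * x = 1 := fun x hx => by
    rcases hall x with h | h | h
    · exact absurd h hx
    all_goals rw [h]; ring
  have h30 : (3 : F) = 0 := by
    have := FiniteField.cast_card_eq_zero F
    rw [h3] at this
    exact_mod_cast this
  have hν : ν = 1 := by
    have h1 := congrArg Matrix.det h
    rw [Matrix.det_mul, Matrix.det_transpose, Matrix.det_smul, Matrix.det_one, mul_one, Fintype.card_fin, hsq _ hA] at h1
    rcases hall ν with e | e | e
    · rw [e] at h1; simp at h1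
    · exact e
    · rw [e] at h1 ⊢; linear_combination -h1
  have h1 : A 0 j * A 0 j + A 1 j * A 1 j + A 2 j * A 2 j = 1 := by
    have h1 := congrFun (congrFun h j) j
    simpa [Matrix.mul_apply, Fin.sum_univ_three, hν] using h1
  by_cases a : A 0 j = 0
  · by_cases b : A 1 j = 0
    · exact ⟨2, fun i hi => by fin_cases i <;> simp_all⟩
    · by_cases c : A 2 j = 0
      · exact ⟨1, fun i hi => by fin_cases i <;> simp_all⟩
      · rw [a, hsq _ b, hsq _ c] at h1
        exact absurd (by linear_combination h1) (one_ne_zero (α := F))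
  · by_cases b : A 1 j = 0
    · by_cases c : A 2 j = 0
      · exact ⟨0, fun i hi => by fin_cases i <;> simp_all⟩
      · rw [b, hsq _ a, hsq _ c] at h1
        exact absurd (by linear_combination h1) (one_ne_zero (α := F))
    · by_cases c : A 2 j = 0
      · rw [c, hsq _ a, hsq _ b] at h1
        exact absurd (by linear_combination h1) (one_ne_zero (α := F))
      · rw [hsq _ a, hsq _ b, hsq _ c] at h1
        exact absurd (by linear_combination h30 - h1) (one_ne_zero (α := F))

/-- Pure tensors determine their factors up to scalars. -/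
theorem pureM_cancel {k m : ℕ} {A B : Fin k → Matrix (Fin m) (Fin m) F} (hB : ∀ i, B i ≠ 0)
    (h : pureM A = pureM B) (i : Fin k) : ∃ c : F, A i = c • B i := by
  classical
  have hex : ∀ j, ∃ p : Fin m × Fin m, B j p.1 p.2 ≠ 0 := fun j => by
    by_contra hcon
    push Not at hcon
    exact hB j (Matrix.ext fun a b => hcon (a, b))
  choose p hp using hex
  set z : Fin k → Fin m := fun j => (p j).1
  set w : Fin k → Fin m := fun j => (p j).2
  have hpos : ∏ j ∈ Finset.univ.erase i, B j (z j) (w j) ≠ 0 := Finset.prod_ne_zero_iff.2 fun j _ => hp j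
  have key : ∀ a b, A i a b * ∏ j ∈ Finset.univ.erase i, A j (z j) (w j) =
      B i a b * ∏ j ∈ Finset.univ.erase i, B j (z j) (w j) := by
    intro a b
    have h1 := congrFun (congrFun h (Function.update z i a)) (Function.update w i b)
    simp only [pureM, Matrix.of_apply] at h1
    have hr : ∀ C : Fin k → Matrix (Fin m) (Fin m) F, ∏ j, C j (Function.update z i a j) (Function.update w i b j) =
        C i a b * ∏ j ∈ Finset.univ.erase i, C j (z j) (w j) := fun C => by
      rw [← Finset.mul_prod_erase _ _ (Finset.mem_univ i), Function.update_self, Function.update_self]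
      exact congrArg _ (Finset.prod_congr rfl fun j hj => by
        rw [Function.update_of_ne (Finset.ne_of_mem_erase hj), Function.update_of_ne (Finset.ne_of_mem_erase hj)])
    rwa [hr A, hr B] at h1
  have hA : ∏ j ∈ Finset.univ.erase i, A j (z j) (w j) ≠ 0 := fun e => by
    have h1 := key (z i) (w i)
    rw [e, mul_zero] at h1
    exact mul_ne_zero (hp i) hpos h1.symm
  refine ⟨(∏ j ∈ Finset.univ.erase i, B j (z j) (w j)) / ∏ j ∈ Finset.univ.erase i, A j (z j) (w j),
    Matrix.ext fun a b => ?_⟩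
  rw [Matrix.smul_apply, smul_eq_mul]
  field_simp
  linear_combination key a b

/-- The hypotheses on an odd orthogonal geometry and a group of isometries of determinant one. -/
structure OddSetting (Q : (ι → F) → F) (G : Matrix ι ι F) (H : Subgroup (GL ι F)) : Prop where
  two : (2 : F) ≠ 0
  odd : Odd (Fintype.card ι)
  seven : 7 ≤ Fintype.card ι
  rg : IsRG (RingEquiv.refl F) 1 G
  fix : Fixes (RingEquiv.refl F) H G
  det_one : ∀ g ∈ H, (mat g).det = 1
  half : ∀ v, formG (RingEquiv.refl F) G v v = 2 * Q v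
  detF : ∀ F₁ : Subfield F, G.det ∈ F₁

/-- The geometric members containing the group. -/
def OddMember (Q : (ι → F) → F) (G : Matrix ι ι F) (H : Subgroup (GL ι F)) : Prop :=
  (∃ W : Submodule F (ι → F), W ≠ ⊥ ∧ IsTotallySingularQuad Q W ∧ H ≤ subspaceStabilizer W) ∨
  (∃ W : Submodule F (ι → F), W ≠ ⊥ ∧ W ≠ ⊤ ∧ IsNondegenerateOn (formG (RingEquiv.refl F) G) W ∧
    H ≤ subspaceStabilizer W) ∨
  (∃ (t k : ℕ) (D : Fin t → Submodule F (ι → F)), (1 < k ∨ k = 1 ∧ (Fintype.card F).Prime) ∧
    IsNondegenerateMDecomposition (formG (RingEquiv.refl F) G) k D ∧ (∀ i j, AreIsometricFor Q (D i) (D j)) ∧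
    H ≤ decompositionStabilizer D) ∨
  (∃ (r : ℕ) (K : Subalgebra F (Matrix ι ι F)), r.Prime ∧ Fintype.card ι ≠ r ∧ IsFieldSubalgebra r K ∧
    IsSelfAdjointFor (formG (RingEquiv.refl F) G) K ∧ H ≤ subalgebraNormalizer K) ∨
  (∃ (n₁ n₂ : ℕ) (e : ι ≃ Fin n₁ × Fin n₂) (P : GL ι F) (f₁ : (Fin n₁ → F) → (Fin n₁ → F) → F)
    (f₂ : (Fin n₂ → F) → (Fin n₂ → F) → F), 3 ≤ n₁ ∧ n₁ < n₂ ∧ IsSymmetricForm f₁ ∧ IsSymmetricForm f₂ ∧
      IsTensorFormStructure id (formG (RingEquiv.refl F) G) f₁ f₂ e P ∧ H ≤ tensorProductSubgroup n₁ n₂ e P) ∨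
  (∃ (F₀ : Subfield F) (r : ℕ) (P : GL ι F), r.Prime ∧ Fintype.card F = Nat.card F₀ ^ r ∧
      IsQuadFormRationalStructure Q F₀ P ∧ H ≤ subfieldSubgroup F₀ P) ∨
  (∃ (k t : ℕ) (e : ι ≃ (Fin t → Fin k)) (P : GL ι F) (f₁ : (Fin k → F) → (Fin k → F) → F), 3 ≤ k ∧ 2 ≤ t ∧
      ¬ (Fintype.card F = 3 ∧ k = 3) ∧ IsSymmetricForm f₁ ∧
      IsTensorPowerFormStructure id (formG (RingEquiv.refl F) G) f₁ e P ∧ H ≤ tensorWreathSubgroup k t e P)

variable {Q : (ι → F) → F} {G : Matrix ι ι F} {H : Subgroup (GL ι F)}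

theorem OddSetting.iso (h : OddSetting Q G H) {g : GL ι F} (hg : g ∈ H) (u v : ι → F) :
    formG (RingEquiv.refl F) G (mat g *ᵥ u) (mat g *ᵥ v) = formG (RingEquiv.refl F) G u v := iso_apply h.fix hg u v

theorem OddSetting.quad_iso (h : OddSetting Q G H) {g : GL ι F} (hg : g ∈ H) (v : ι → F) :
    Q (mat g *ᵥ v) = Q v := mul_left_cancel₀ h.two (by rw [← h.half, ← h.half, h.iso hg])

theorem OddSetting.member_subfield (h : OddSetting Q G H) {F₁ : Subfield F} {l : ℕ} {P : GL ι F} (hl : l.Prime)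
    (hc : Fintype.card F = Nat.card F₁ ^ l) (hent : Entries F₁ (act (RingEquiv.refl F) G (mat P)))
    (hle : H ≤ subfieldSubgroup F₁ P) : OddMember Q G H := by
  refine Or.inr (Or.inr (Or.inr (Or.inr (Or.inr (Or.inl ⟨F₁, l, P, hl, hc, fun u hu => ?_, hle⟩)))))
  have h1 : formG (RingEquiv.refl F) G (mat P *ᵥ u) (mat P *ᵥ u) ∈ F₁ := by
    rw [formG_mulVec]
    simp only [formG, dotProduct, Matrix.mulVec, RingEquiv.refl_apply]
    exact Subfield.sum_mem _ fun a _ => mul_mem (hu a) (Subfield.sum_mem _ fun c _ => mul_mem (hent a c) (hu c))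
  rw [h.half] at h1
  have h3 := div_mem h1 (natCast_mem F₁ 2)
  rwa [Nat.cast_ofNat, mul_div_assoc, mul_comm, div_mul_cancel₀ _ h.two] at h3

/-- The lines of an invariant orthogonal basis with equal norms. -/
theorem OddSetting.lines_decomp (h : OddSetting Q G H) (b : Module.Basis ι F (ι → F))
    (hperm : ∀ g ∈ H, ∀ i, ∃ (j : ι) (c : F), mat g *ᵥ b i = c • b j)
    (hoff : ∀ i j, i ≠ j → formG (RingEquiv.refl F) G (b i) (b j) = 0) {a : F} (ha : a ≠ 0)
    (hdiag : ∀ i, formG (RingEquiv.refl F) G (b i) (b i) = a) :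
    ∃ D : Fin (Fintype.card ι) → Submodule F (ι → F), IsNondegenerateMDecomposition (formG (RingEquiv.refl F) G) 1 D ∧
      (∀ i j, AreIsometricFor Q (D i) (D j)) ∧ H ≤ decompositionStabilizer D := by
  classical
  have hbf := isSesq_formG (RingEquiv.refl F) G
  let ee : Fin (Fintype.card ι) ≃ ι := (Fintype.equivFin ι).symm
  refine ⟨fun l => Submodule.span F {b (ee l)},
    ⟨lines_decomposition (by have := h.seven; omega) b ee, fun l w hw hw0 => ?_, fun i j hij u hu v hv => ?_⟩,
    fun i j => ?_, le_decomposition b ee hperm⟩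
  · obtain ⟨t, rfl⟩ := Submodule.mem_span_singleton.1 hw
    have ht : t ≠ 0 := fun e0 => hw0 (by rw [e0, zero_smul])
    refine ⟨⟨b (ee l), Submodule.subset_span rfl, ?_⟩, ⟨b (ee l), Submodule.subset_span rfl, ?_⟩⟩
    · rw [hbf.smul_right, hdiag]; exact mul_ne_zero ht ha
    · rw [hbf.smul_left, hdiag]; exact mul_ne_zero ht ha
  · obtain ⟨t, rfl⟩ := Submodule.mem_span_singleton.1 hu
    obtain ⟨t', rfl⟩ := Submodule.mem_span_singleton.1 hv
    rw [hbf.smul_left, hbf.smul_right, hoff _ _ (fun e0 => hij (ee.injective e0)), mul_zero, mul_zero]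
  · refine ⟨(LinearEquiv.toSpanNonzeroSingleton F _ _ (b.ne_zero (ee i))).symm.trans
      (LinearEquiv.toSpanNonzeroSingleton F _ _ (b.ne_zero (ee j))), fun w => ?_⟩
    obtain ⟨t, rfl⟩ := (LinearEquiv.toSpanNonzeroSingleton F _ _ (b.ne_zero (ee i))).surjective w
    rw [LinearEquiv.trans_apply, LinearEquiv.symm_apply_apply]
    show Q (t • b (ee j)) = Q (t • b (ee i))
    apply mul_left_cancel₀ h.two
    rw [← h.half, ← h.half, hbf.smul_left, hbf.smul_right, hbf.smul_left, hbf.smul_right, hdiag, hdiag]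

/-- An invariant orthogonal basis with equal norms. -/
theorem OddSetting.orth_lines (h : OddSetting Q G H) (b : Module.Basis ι F (ι → F))
    (hperm : ∀ g ∈ H, ∀ i, ∃ (j : ι) (c : F), mat g *ᵥ b i = c • b j)
    (hoff : ∀ i j, i ≠ j → formG (RingEquiv.refl F) G (b i) (b j) = 0) {a : F} (ha : a ≠ 0)
    (hdiag : ∀ i, formG (RingEquiv.refl F) G (b i) (b i) = a) : OddMember Q G H := by
  classical
  have hbf := isSesq_formG (RingEquiv.refl F) G
  by_cases hqp : (Fintype.card F).Prime
  · obtain ⟨D, hD, hiso, hle⟩ := h.lines_decomp b hperm hoff ha hdiag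
    exact Or.inr (Or.inr (Or.inl ⟨_, 1, D, Or.inr ⟨rfl, hqp⟩, hD, hiso, hle⟩))
  · obtain ⟨p, n, hp, hcp, -, hn⟩ := prime_card_pow (F := F)
    haveI := Fact.mk hp
    rw [Nat.card_eq_fintype_card] at hn
    let F₀ : Subfield F := RingHom.eqLocusField (powHom p 1) (RingHom.id F)
    have hmem : ∀ x, x ∈ F₀ ↔ x ^ p = x := fun x => by
      show powHom p 1 x = x ↔ _
      rw [powHom_apply, pow_one]
    have hn2 : 1 < n := by
      by_contra hle
      rcases (show n = 0 ∨ n = 1 by omega) with rfl | rfl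
      · exact absurd hn (Fintype.one_lt_card (α := F)).ne'
      · exact hqp (by rw [hn, pow_one]; exact hp)
    have hF₀ : F₀ ≠ ⊤ := by
      intro htop
      have h1 := card_fixed_le (E := F) p hp.one_lt
      rw [Nat.card_congr (Equiv.subtypeUnivEquiv fun x => (hmem x).1 (htop ▸ Subfield.mem_top x)),
        Nat.card_eq_fintype_card, hn] at h1
      have h3 := Nat.pow_lt_pow_right hp.one_lt hn2
      rw [pow_one] at h3
      omega
    obtain ⟨F₁, l, hl, hcl, hle01⟩ := exists_prime_index hF₀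
    set P₀ := ofBasis b with hP₀
    have hgram : act (RingEquiv.refl F) G (mat P₀) = a • (1 : Matrix ι ι F) := by
      ext i j
      rw [← formG_single (RingEquiv.refl F) (act (RingEquiv.refl F) G (mat P₀)) i j, ← formG_mulVec, ofBasis_single,
        ofBasis_single, Matrix.smul_apply, smul_eq_mul, Matrix.one_apply]
      by_cases hij : i = j
      · subst hij; rw [if_pos rfl, mul_one, hdiag]
      · rw [if_neg hij, mul_zero, hoff i j hij]
    obtain ⟨k, hk⟩ := h.odd
    set δ := (mat P₀).det with hδ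
    have hδ0 : δ ≠ 0 := ((Matrix.isUnit_iff_isUnit_det _).1 P₀.isUnit).ne_zero
    have hdeteq : a ^ (2 * k + 1) = δ * G.det * δ := by
      have h1 := congrArg Matrix.det hgram
      rw [det_act, RingEquiv.refl_apply, Matrix.det_smul, Matrix.det_one, mul_one, hk] at h1
      exact h1.symm
    have hc0' : a ^ k / δ ≠ 0 := div_ne_zero (pow_ne_zero _ ha) hδ0
    refine h.member_subfield hl hcl (P := sc _ hc0' * P₀) ?_ ?_
    · rw [show mat (sc _ hc0' * P₀) = (a ^ k / δ) • mat P₀ by
        rw [mat, Units.val_mul, show ((sc _ hc0' : GL ι F) : Matrix ι ι F) = (a ^ k / δ) • 1 from mat_sc _,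
          Matrix.smul_mul, one_mul], act_sc, hgram, smul_smul, RingEquiv.refl_apply,
        show a ^ k / δ * (a ^ k / δ) * a = G.det by field_simp; linear_combination hdeteq]
      intro i j
      rw [Matrix.smul_apply, smul_eq_mul, Matrix.one_apply]
      exact mul_mem (h.detF F₁) (by split_ifs <;> simp [one_mem, zero_mem])
    · rw [subfieldSubgroup_scalar_mul (sc_mem _)]
      intro g hg
      refine mem_subfieldSubgroup (c := 1) (X := mat (P₀⁻¹ * g * P₀)) ?_ (one_smul _ _).symm
      refine entries_of_mono b fun i => ?_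
      obtain ⟨j, d, hd⟩ := hperm g hg i
      refine ⟨j, d, hle01 ?_, hd⟩
      have h1 := h.iso hg (b i) (b i)
      rw [hd, hbf.smul_left, hbf.smul_right, hdiag, hdiag, RingEquiv.refl_apply, ← mul_assoc] at h1
      have h3 : d * d = 1 := (mul_left_eq_self₀.1 h1).resolve_right ha
      rcases mul_self_eq_one_iff.1 h3 with rfl | rfl
      · exact one_mem _
      · exact neg_mem (one_mem _)

/-- A tensor power of symmetric forms. -/
theorem OddSetting.power_member (h : OddSetting Q G H) {k t : ℕ} (hk3 : 3 ≤ k) (hko : Odd k) (ht : 2 ≤ t)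
    (e : ι ≃ (Fin t → Fin k)) (P : GL ι F) (hle : H ≤ tensorWreathSubgroup k t e P) {c : F} (hc : c ≠ 0)
    {Gs : Fin t → Matrix (Fin k) (Fin k) F} (hGs : ∀ i, (Gs i).det ≠ 0) (hsy : ∀ i, (Gs i)ᵀ = Gs i)
    (hfr : frG (RingEquiv.refl F) e P G = c • pureM Gs) : OddMember Q G H := by
  classical
  choose Ps cs hcs hPs using fun i => congr_one h.two hko (hGs i) (hsy i)
  set U : GL (Fin t → Fin k) F := pureU Ps with hU
  have hUmem : U ∈ tensorWreathStandard k t F := Subgroup.subset_closure (Or.inl ⟨Ps, fun _ _ => rfl⟩)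
  set P' := fr e P U * P with hP'
  have hle' := wreath_change hUmem hle
  rw [← hP'] at hle'
  have hc' : c * ∏ i, cs i ≠ 0 := mul_ne_zero hc (Finset.prod_ne_zero_iff.2 fun i _ => hcs i)
  have hone : pureM (fun _ : Fin t => (1 : Matrix (Fin k) (Fin k) F)) = 1 := pureM_one
  have hfr' : frG (RingEquiv.refl F) e P' G =
      (c * ∏ i, cs i) • pureM fun _ : Fin t => (1 : Matrix (Fin k) (Fin k) F) := by
    rw [hP', frG_change, hfr, show mat U = pureM fun i => mat (Ps i) from rfl, act_pureM, ← smul_smul]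
    congr 1
    ext x y
    simp [pureM, hPs, Finset.prod_mul_distrib]
  by_cases hexc : Fintype.card F = 3 ∧ k = 3
  swap
  · exact Or.inr (Or.inr (Or.inr (Or.inr (Or.inr (Or.inr ⟨k, t, e, P', formG (RingEquiv.refl F) 1, hk3, ht, hexc,
      symmetricForm_formG (by rw [Matrix.det_one]; exact one_ne_zero) Matrix.transpose_one,
      powerFormStructure_of_eq hc' hfr', hle'⟩)))))
  obtain ⟨hq3, rfl⟩ := hexc
  rw [hone] at hfr'
  let b : Module.Basis ι F (ι → F) := ((Pi.basisFun F (Fin t → Fin 3)).map (frL e P')).reindex e.symm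
  have hb : ∀ i, b i = frL e P' (Pi.single (e i) 1) := fun i => by simp [b]
  have hgram : ∀ i j, formG (RingEquiv.refl F) G (b i) (b j) =
      (c * ∏ l, cs l) * (1 : Matrix ι ι F) i j := by
    intro i j
    rw [hb, hb, ← formG_frL, formG_single, hfr', Matrix.smul_apply, smul_eq_mul]
    simp [Matrix.one_apply]
  refine h.orth_lines b (fun g hg i => ?_) (fun i j hij => by rw [hgram, Matrix.one_apply_ne hij, mul_zero]) hc'
    fun i => by rw [hgram, Matrix.one_apply_eq, mul_one]
  obtain ⟨X, hX, rfl⟩ := (map_fr_eq_wreath e P').ge (hle' hg)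
  obtain ⟨gs, π, rfl⟩ := mem_standard hX
  have hfix : act (RingEquiv.refl F) (1 : Matrix (Fin t → Fin 3) (Fin t → Fin 3) F) (mat (pureU gs * permU π)) = 1 := by
    have h1 := fixes_comap e P' h.fix (pureU gs * permU π) hg
    rw [hfr', act_smul] at h1
    exact smul_right_injective _ hc' h1
  have hperm : act (RingEquiv.refl F) (1 : Matrix (Fin t → Fin 3) (Fin t → Fin 3) F) (permM π⁻¹) = 1 := by
    rw [act, map_refl, mul_one, show (permM π⁻¹ : Matrix (Fin t → Fin 3) (Fin t → Fin 3) F)ᵀ = permM π from ?_,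
      permM_mul, mul_inv_cancel, permM_one]
    ext x y
    simp only [permM, Matrix.transpose_apply, Matrix.of_apply]
    congr 1
    refine propext ⟨fun e' => ?_, fun e' => ?_⟩ <;> subst e' <;> funext l <;> simp
  have hpure : pureM (fun l => (mat (gs l))ᵀ * mat (gs l)) = pureM fun _ : Fin t => (1 : Matrix (Fin 3) (Fin 3) F) := by
    rw [hone]
    have h1 : act (RingEquiv.refl F) (1 : Matrix (Fin t → Fin 3) (Fin t → Fin 3) F) (pureM fun l => mat (gs l)) = 1 := by
      have h2 := congrArg (fun M => act (RingEquiv.refl F) M (permM π⁻¹)) hfix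
      simp only [hperm] at h2
      rw [← act_mul, show mat (pureU gs * permU π) = (pureM fun l => mat (gs l)) * permM π from rfl, mul_assoc,
        permM_mul, mul_inv_cancel, permM_one, mul_one] at h2
      exact h2
    rw [act, map_refl, mul_one, pureM_transpose, pureM_mul] at h1
    exact h1
  have hcol : ∀ l j, ∃ r, ∀ r', r' ≠ r → mat (gs l) r' j = 0 := fun l j => by
    obtain ⟨ν, hν⟩ := pureM_cancel (fun _ => one_ne_zero) hpure l
    exact mono_three hq3 hν ((Matrix.isUnit_iff_isUnit_det _).1 (gs l).isUnit).ne_zero j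
  choose r hr using hcol
  refine ⟨e.symm fun l => r l (e i (π.symm l)), mat (pureU gs * permU π) (fun l => r l (e i (π.symm l))) (e i), ?_⟩
  show mat (fr e P' (pureU gs * permU π)) *ᵥ b i = _
  rw [hb, hb, fr_mulVec, Equiv.apply_symm_apply, ← map_smul]
  congr 1
  funext x
  rw [Matrix.mulVec_single_one, Matrix.col_apply, Pi.smul_apply, smul_eq_mul, Pi.single_apply]
  split_ifs with hx
  · rw [hx, mul_one]
  · rw [mul_zero, pureU_mul_permU_apply]
    obtain ⟨l, hl⟩ := Function.ne_iff.1 hx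
    refine Finset.prod_eq_zero (Finset.mem_univ (π.symm l)) ?_
    rw [Equiv.apply_symm_apply]
    exact hr _ _ _ hl

/-- A decomposition from Clifford theory. -/
theorem OddSetting.paired_member (h : OddSetting Q G H) (hH : Irr H) (hp : Paired (RingEquiv.refl F) G H) :
    OddMember Q G H := by
  classical
  haveI : Nonempty ι := Fintype.card_pos_iff.1 (by have := h.seven; omega)
  rcases paired_cases hH h.rg (fun g hg u v huv => by rw [h.iso hg, huv]) hp with
    ⟨t, m, D, hD, hle, htr⟩ | ⟨m, D, hm, -, -, -⟩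
  swap
  · exact absurd (hm ▸ even_two_mul m) (Nat.not_even_iff_odd.2 h.odd)
  have hinj : ∀ g : GL ι F, Function.Injective (Matrix.toLin' (mat g)) := fun g u v e =>
    mulVec_injective g (by simpa [Matrix.toLin'_apply] using e)
  have hiso : ∀ i j, AreIsometricFor Q (D i) (D j) := fun i j => by
    obtain ⟨g, hg, hgij⟩ := htr i j
    refine ⟨(Submodule.equivMapOfInjective _ (hinj g) (D i)).trans (LinearEquiv.ofEq _ _ hgij), fun w => ?_⟩
    rw [LinearEquiv.trans_apply, LinearEquiv.coe_ofEq_apply, Submodule.coe_equivMapOfInjective_apply,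
      Matrix.toLin'_apply]
    exact h.quad_iso hg _
  have hm0 := hD.decomp.pos
  rcases (show m = 1 ∨ 1 < m by omega) with rfl | hm1
  swap
  · exact Or.inr (Or.inr (Or.inl ⟨t, m, D, Or.inl hm1, hD, hiso, hle⟩))
  have i₀ : Fin t := ⟨0, by have := hD.decomp.two_le; omega⟩
  obtain ⟨v₀, hv₀, hv₀0⟩ := (D i₀).exists_mem_ne_zero_of_ne_bot fun e => by
    have h1 := hD.decomp.finrank_eq i₀
    rw [e, finrank_bot] at h1
    exact absurd h1 zero_ne_one
  choose g hgH hg using htr i₀
  set v : Fin t → ι → F := fun i => mat (g i) *ᵥ v₀ with hv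
  have hvD : ∀ i, v i ∈ D i := fun i => hg i ▸ ⟨v₀, hv₀, Matrix.toLin'_apply _ _⟩
  have hv0 : ∀ i, v i ≠ 0 := fun i e => hv₀0 (mulVec_injective (g i) (e.trans (Matrix.mulVec_zero _).symm))
  have hspan : ∀ i, D i = Submodule.span F {v i} := fun i =>
    (Submodule.eq_of_le_of_finrank_le ((Submodule.span_singleton_le_iff_mem _ _).2 (hvD i))
      (by rw [finrank_span_singleton (hv0 i), hD.decomp.finrank_eq])).symm
  have hli : LinearIndependent F v := hD.decomp.indep.linearIndependent _ hvD hv0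
  have htop : Submodule.span F (Set.range v) = ⊤ := by
    rw [Submodule.span_range_eq_iSup, ← hD.decomp.iSup_eq_top]
    exact iSup_congr fun i => (hspan i).symm
  let b₀ : Module.Basis (Fin t) F (ι → F) := Module.Basis.mk hli htop.ge
  let ee : Fin t ≃ ι := Fintype.equivOfCardEq (by
    rw [← Module.finrank_fintype_fun_eq_card F (η := ι), Module.finrank_eq_card_basis b₀])
  have hb : ∀ i, b₀.reindex ee i = v (ee.symm i) := fun i => by simp [b₀]
  have hdiag : ∀ i, formG (RingEquiv.refl F) G (v i) (v i) = formG (RingEquiv.refl F) G v₀ v₀ := fun i =>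
    h.iso (hgH i) v₀ v₀
  refine h.orth_lines (b₀.reindex ee) (fun x hx i => ?_) (fun i j hij => ?_) (a := formG (RingEquiv.refl F) G v₀ v₀) ?_
    fun i => by rw [hb, hdiag]
  · obtain ⟨τ, hτ⟩ := hle hx
    have h1 : Matrix.toLin' (mat x) (v (ee.symm i)) ∈ D (τ (ee.symm i)) := hτ (ee.symm i) ▸ ⟨_, hvD _, rfl⟩
    rw [hspan, Submodule.mem_span_singleton] at h1
    obtain ⟨d, hd⟩ := h1
    exact ⟨ee (τ (ee.symm i)), d, by rw [hb, hb, Equiv.symm_apply_apply, hd, Matrix.toLin'_apply]⟩
  · rw [hb, hb]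
    exact hD.orthogonal _ _ (fun e => hij (ee.symm.injective e)) _ (hvD _) _ (hvD _)
  · obtain ⟨-, y, hy, hne⟩ := hD.nondegenerate i₀ v₀ hv₀ hv₀0
    rw [hspan i₀, Submodule.mem_span_singleton] at hy
    obtain ⟨s, rfl⟩ := hy
    intro e
    refine hne ?_
    rw [(isSesq_formG _ G).smul_right, show v₀ = mat (g i₀)⁻¹ *ᵥ v i₀ from (inv_mulVec_cancel _ _).symm]
    rw [hspan i₀] at hv₀
    obtain ⟨s', hs'⟩ := Submodule.mem_span_singleton.1 hv₀
    rw [inv_mulVec_cancel, ← hs', (isSesq_formG _ G).smul_left, hdiag, e, mul_zero, mul_zero]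

/-- An adjoint-closed field of odd degree is self-adjoint. -/
theorem selfAdjoint_of_odd (h2 : (2 : F) ≠ 0) (hG : IsRG (RingEquiv.refl F) 1 G) {r : ℕ}
    {K : Subalgebra F (Matrix ι ι F)} (hK : IsFieldSubalgebra r K) (hr : Odd r)
    (hadj : IsAdjointClosedFor (formG (RingEquiv.refl F) G) K) :
    IsSelfAdjointFor (formG (RingEquiv.refl F) G) K := by
  classical
  have hs := isSesq_formG (RingEquiv.refl F) G
  let mk : F → Submodule F (Matrix ι ι F) := fun s =>
    { carrier := {x | x ∈ K ∧ ∀ u v, formG (RingEquiv.refl F) G (x *ᵥ u) v = s * formG (RingEquiv.refl F) G u (x *ᵥ v)}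
      zero_mem' := ⟨zero_mem K, fun u v => by
        rw [Matrix.zero_mulVec, Matrix.zero_mulVec, formG_zero_right, mul_zero]
        simp [formG]⟩
      add_mem' := fun {x y} hx hy => ⟨add_mem hx.1 hy.1, fun u v => by
        rw [Matrix.add_mulVec, Matrix.add_mulVec, hs.add_left, hs.add_right, hx.2, hy.2]; ring⟩
      smul_mem' := fun c x hx => ⟨Subalgebra.smul_mem K hx.1 c, fun u v => by
        rw [Matrix.smul_mulVec, Matrix.smul_mulVec, hs.smul_left, hs.smul_right, hx.2, RingEquiv.refl_apply]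
        ring⟩ }
  have hmem : ∀ {s : F} {x}, x ∈ mk s ↔ x ∈ K ∧ ∀ u v, formG (RingEquiv.refl F) G (x *ᵥ u) v = s * formG (RingEquiv.refl F) G u (x *ᵥ v) := Iff.rfl
  by_contra hns
  have hsup : mk 1 ⊔ mk (-1) = Subalgebra.toSubmodule K := by
    refine le_antisymm (sup_le (fun x hx => hx.1) fun x hx => hx.1) fun x hx => ?_
    obtain ⟨y, hy, hxy⟩ := hadj x hx
    have hyx := adj_symm hG hxy
    have e : x = (2 : F)⁻¹ • (x + y) + (2 : F)⁻¹ • (x - y) := by
      rw [← smul_add, show x + y + (x - y) = (2 : F) • x by rw [two_smul]; abel, smul_smul, inv_mul_cancel₀ h2,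
        one_smul]
    rw [e]
    refine Submodule.add_mem_sup (Submodule.smul_mem _ _ ⟨add_mem hx hy, fun u v => ?_⟩)
      (Submodule.smul_mem _ _ ⟨sub_mem hx hy, fun u v => ?_⟩)
    · rw [Matrix.add_mulVec, Matrix.add_mulVec, hs.add_left, hs.add_right, hxy, hyx]; ring
    · rw [Matrix.sub_mulVec, Matrix.sub_mulVec, sub_eq_add_neg (x *ᵥ u), sub_eq_add_neg (x *ᵥ v),
        ← neg_one_smul F (y *ᵥ u), ← neg_one_smul F (y *ᵥ v), hs.add_left, hs.add_right, hs.smul_left,
        hs.smul_right, hxy, hyx, RingEquiv.refl_apply]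
      ring
  have hinf : mk 1 ⊓ mk (-1) = ⊥ := by
    rw [eq_bot_iff]
    rintro x ⟨hx, hx'⟩
    rw [Submodule.mem_bot]
    refine adj_unique hG fun u v => ?_
    have e1 := hx.2 u v
    have e2 := hx'.2 u v
    rw [Matrix.zero_mulVec, formG_zero_right]
    exact (mul_eq_zero.1 (show (2 : F) * formG (RingEquiv.refl F) G u (x *ᵥ v) = 0 by linear_combination e2 - e1)).resolve_left h2
  obtain ⟨θ, hθ, hθ0⟩ : ∃ θ ∈ mk (-1), θ ≠ 0 := by
    by_contra hcon
    push Not at hcon
    refine hns fun x hx u v => ?_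
    have hle : mk (-1) = ⊥ := (Submodule.eq_bot_iff _).2 hcon
    rw [hle, sup_bot_eq] at hsup
    have h1 : x ∈ mk 1 := hsup.ge hx
    rw [h1.2 u v, one_mul]
  obtain ⟨η, -, hη⟩ := hK.inv θ hθ.1 hθ0
  have hinj : Function.Injective (LinearMap.mulLeft F θ) := fun x y e => by
    have h1 := congrArg (η * ·) (show θ * x = θ * y from e)
    simp only [← mul_assoc, mul_eq_one_comm.1 hη, one_mul] at h1
    exact h1
  have hswap : ∀ s : F, Module.finrank F (mk s) ≤ Module.finrank F (mk (-s)) := by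
    intro s
    rw [← (Submodule.equivMapOfInjective _ hinj (mk s)).symm.finrank_eq]
    refine Submodule.finrank_mono ?_
    rintro _ ⟨x, hx, rfl⟩
    refine ⟨K.mul_mem hθ.1 hx.1, fun u v => ?_⟩
    show formG (RingEquiv.refl F) G ((θ * x) *ᵥ u) v = -s * formG (RingEquiv.refl F) G u ((θ * x) *ᵥ v)
    rw [← Matrix.mulVec_mulVec, hθ.2, hx.2, hK.comm θ hθ.1 x hx.1, ← Matrix.mulVec_mulVec]
    ring
  have h1 := hswap 1
  have h3 := hswap (-1)
  rw [neg_neg] at h3
  have h4 := Submodule.finrank_sup_add_finrank_inf_eq (mk 1) (mk (-1))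
  rw [hsup, hinf, finrank_bot, show Module.finrank F (Subalgebra.toSubmodule K) = r from hK.finrank_eq] at h4
  exact Nat.not_even_iff_odd.2 hr ⟨Module.finrank F (mk 1), by omega⟩

theorem mem_of_commute_full [Nonempty ι] {K : Subalgebra F (Matrix ι ι F)}
    (hK : IsFieldSubalgebra (Fintype.card ι) K) {A : Matrix ι ι F} (hA : ∀ x ∈ K, Commute x A) : A ∈ K := by
  obtain ⟨i⟩ := (inferInstance : Nonempty ι)
  let L : K →ₗ[F] ι → F :=
    { toFun := fun x => (x : Matrix ι ι F) *ᵥ Pi.single i 1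
      map_add' := fun x y => Matrix.add_mulVec _ _ _
      map_smul' := fun c x => Matrix.smul_mulVec c _ _ }
  have hinj : Function.Injective L := by
    refine (injective_iff_map_eq_zero L).2 fun x hx => Subtype.ext ?_
    by_contra h0
    obtain ⟨y, hy, hxy⟩ := hK.inv x.1 x.2 h0
    have h1 := congrArg (y *ᵥ ·) (show x.1 *ᵥ Pi.single i 1 = 0 from hx)
    simp only [Matrix.mulVec_mulVec, Matrix.mulVec_zero] at h1
    rw [hK.comm y hy x.1 x.2, hxy, Matrix.one_mulVec] at h1
    exact one_ne_zero (by simpa using congrFun h1 i : (1 : F) = 0)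
  have hsurj : Function.Surjective L := (LinearMap.injective_iff_surjective_of_finrank_eq_finrank
    (by rw [Module.finrank_fintype_fun_eq_card]; exact hK.finrank_eq)).1 hinj
  obtain ⟨x, hx⟩ := hsurj (A *ᵥ Pi.single i 1)
  suffices h : A = x.1 by rw [h]; exact x.2
  refine Matrix.mulVec_injective (funext fun u => ?_)
  obtain ⟨y, rfl⟩ := hsurj u
  show A *ᵥ (y.1 *ᵥ Pi.single i 1) = x.1 *ᵥ (y.1 *ᵥ Pi.single i 1)
  rw [Matrix.mulVec_mulVec, ← (hA y.1 y.2).eq, ← Matrix.mulVec_mulVec, ← hx]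
  show y.1 *ᵥ (x.1 *ᵥ Pi.single i 1) = _
  rw [Matrix.mulVec_mulVec, hK.comm y.1 y.2 x.1 x.2, Matrix.mulVec_mulVec]

theorem OddSetting.field_member (h : OddSetting Q G H) {N : Subgroup (GL ι F)} (hNH : N ≤ H)
    (hns : ¬ N ≤ scalars ι F) (hf : AdjField (RingEquiv.refl F) G H N) : OddMember Q G H := by
  haveI : Nonempty ι := Fintype.card_pos_iff.1 (by have := h.seven; omega)
  obtain ⟨r, K, hr, hK, hle, hadj, hcomm⟩ := hf
  have hro : Odd r := Odd.of_dvd_nat h.odd (field_dvd hK)
  have hsa := selfAdjoint_of_odd h.two h.rg hK hro hadj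
  refine Or.inr (Or.inr (Or.inr (Or.inl ⟨r, K, hr, fun he => hns fun g hg => ?_, hK, hsa, hle⟩)))
  have hgK : mat g ∈ K := mem_of_commute_full (he ▸ hK) fun x hx => hcomm g hg x hx
  have h1 : mat g * mat g = 1 := adj_unique h.rg fun u v => by
    rw [← Matrix.mulVec_mulVec, ← hsa _ hgK, h.iso (hNH hg), Matrix.one_mulVec]
  have h3 : (mat g - 1) * (mat g + 1) = 0 := by
    rw [sub_mul, mul_add, mul_one, one_mul, h1]; abel
  by_cases e : mat g - 1 = 0
  · exact mem_scalars_of_smul (c := (1 : F)) (by rw [one_smul]; exact sub_eq_zero.1 e)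
  · obtain ⟨y, hy, hy'⟩ := hK.inv _ (sub_mem hgK (one_mem K)) e
    rw [hK.comm _ (sub_mem hgK (one_mem K)) y hy] at hy'
    have h4 : mat g + 1 = 0 := by
      have h5 := congrArg (y * ·) h3
      simp only [← mul_assoc, hy', one_mul, mul_zero] at h5
      exact h5
    exact mem_scalars_of_smul (c := (-1 : F)) (by rw [neg_one_smul]; exact eq_neg_of_add_eq_zero_left h4)

theorem OddSetting.tensor_member (h : OddSetting Q G H) (hf : TensorForm (RingEquiv.refl F) 1 G H) :
    OddMember Q G H := by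
  obtain ⟨d, k, e, P, G₀, B, s, t, hd, hk, hle, hfr, hG₀, hB, hs, ht, -⟩ := hf
  have hodd : Odd (d * k) := by
    have h1 := Fintype.card_congr e
    rw [Fintype.card_prod, Fintype.card_fin, Fintype.card_fin] at h1
    exact h1 ▸ h.odd
  obtain ⟨hdo, hko⟩ := Nat.odd_mul.1 hodd
  have hd3 : 3 ≤ d := by obtain ⟨l, rfl⟩ := hdo; omega
  have hk3 : 3 ≤ k := by obtain ⟨l, rfl⟩ := hko; omega
  have hG₀s := symm_of_odd hdo hG₀ hs
  have hBs := symm_of_odd hko hB ht
  rcases lt_trichotomy d k with hlt | rfl | hgt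
  · exact Or.inr (Or.inr (Or.inr (Or.inr (Or.inl ⟨d, k, e, P, _, _, hd3, hlt, symmetricForm_formG hG₀ hG₀s,
      symmetricForm_formG hB hBs, tensorFormStructure_of_eq hfr, hle⟩))))
  · have hfr' : frG (RingEquiv.refl F) (e.trans (finTwoArrowEquiv (Fin d)).symm) P G = (1 : F) • pureM ![G₀, B] := by
      rw [show frG (RingEquiv.refl F) (e.trans (finTwoArrowEquiv (Fin d)).symm) P G =
        (frG (RingEquiv.refl F) e P G).submatrix (finTwoArrowEquiv (Fin d)) (finTwoArrowEquiv (Fin d)) from rfl, hfr,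
        one_smul]
      ext x y
      simp [pureM, Fin.prod_univ_two, Matrix.kronecker_apply]
    exact h.power_member hd3 hdo le_rfl _ P (hle.trans (tensor_le_wreath e P)) one_ne_zero
      (fun i => by fin_cases i <;> assumption) (fun i => by fin_cases i <;> assumption) hfr'
  · have hfr' : frG (RingEquiv.refl F) (e.trans (Equiv.prodComm _ _)) P G = B ⊗ₖ G₀ := by
      rw [show frG (RingEquiv.refl F) (e.trans (Equiv.prodComm _ _)) P G =
        (frG (RingEquiv.refl F) e P G).submatrix (Equiv.prodComm _ _).symm (Equiv.prodComm _ _).symm from rfl, hfr]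
      ext ⟨i, j⟩ ⟨i', j'⟩
      simp [Matrix.kronecker_apply, mul_comm]
    exact Or.inr (Or.inr (Or.inr (Or.inr (Or.inl ⟨k, d, _, P, _, _, hk3, hgt, symmetricForm_formG hB hBs,
      symmetricForm_formG hG₀ hG₀s, tensorFormStructure_of_eq hfr', hle.trans (tensor_swap e P)⟩))))

theorem OddSetting.factors_member (h : OddSetting Q G H) {t : ℕ} {Qs : Fin t → Subgroup (GL ι F)}
    (hQ : IsFactors H Qs) (hsub : (⨆ i, Qs i : Subgroup (GL ι F)) ≤ H) : OddMember Q G H := by
  classical
  haveI : Nonempty ι := Fintype.card_pos_iff.1 (by have := h.seven; omega)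
  obtain ⟨d, e, P, X, hd, hX, hirr⟩ := exists_slots hQ.commute hQ.abs
  have i₀ : Fin t := ⟨0, by have := hQ.two_le; omega⟩
  obtain ⟨m, hm⟩ : ∃ m, ∀ i, d i = m := ⟨d i₀, fun i => by
    obtain ⟨g, hg, hij⟩ := hQ.transitive i i₀
    exact (exists_intertw hX hirr hij (hQ.card_le _ _)).choose_spec.2.1⟩
  obtain rfl : d = fun _ => m := funext hm
  have hcard : Fintype.card ι = m ^ t := by
    rw [Fintype.card_congr e, Fintype.card_fun, Fintype.card_fin, Fintype.card_fin]
  have hmo : Odd m := (Nat.odd_pow_iff (by have := hQ.two_le; omega)).1 (hcard ▸ h.odd)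
  have hm3 : 3 ≤ m := by
    obtain ⟨l, rfl⟩ := hmo
    rcases l with _ | l
    · have := h.seven
      simp at hcard
      omega
    · omega
  obtain ⟨c, Gs, hc, hfr, hGs⟩ := form_slots hQ.abs hX hirr (hd i₀) h.rg fun g hg => h.fix g (hsub hg)
  exact h.power_member hm3 hmo hQ.two_le e P (wreath_of_slots hQ (hd i₀) hX hirr) hc (fun i => (hGs i).1)
    (fun i => symm_of_odd hmo (hGs i).1 (hGs i).2.2.choose_spec) hfr

set_option maxHeartbeats 1000000 in
/-- The division in odd dimension. -/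
theorem odd_structure (h : OddSetting Q G H) : OddMember Q G H ∨ InOrthogonalResidualClass H := by
  classical
  haveI : Nonempty ι := Fintype.card_pos_iff.1 (by have := h.seven; omega)
  by_cases hmem : OddMember Q G H
  · exact Or.inl hmem
  right
  have hirr : Irr H := by
    by_contra hirr
    obtain ⟨W, hb, ht, hW⟩ := exists_inv_of_not_irr hirr
    refine hmem ?_
    by_cases hI : W ⊓ perpG (RingEquiv.refl F) G W = ⊥
    · have hrefl : Reflexive' (RingEquiv.refl F) G := fun u v => by rw [h.rg.swap v u, one_mul]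
      obtain ⟨hnd, -, -⟩ := perp_cases h.rg.det hrefl hI
      exact Or.inr (Or.inl ⟨W, hb, ht, hnd, le_stab hW⟩)
    · refine Or.inl ⟨_, hI, fun v hv => ?_, le_stab fun g hg v hv => ⟨hW g hg v hv.1, inv_perp h.fix hW g hg v hv.2⟩⟩
      exact (mul_eq_zero.1 ((h.half v).symm.trans (hv.2 v hv.1))).resolve_left h.two
  have hgood : Good H := fun N hNH hn hns => by
    rcases clifford_form hirr hn hns h.rg (fun g hg => h.fix g (hNH hg)) with h1 | h1 | h1 | h1
    exacts [absurd (h.paired_member hirr h1) hmem, absurd (h.field_member hNH hns h1) hmem,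
      absurd (h.tensor_member h1) hmem, h1]
  have hnoscalar : ¬ H ≤ scalars ι F := by
    intro hle
    obtain ⟨i⟩ := (inferInstance : Nonempty ι)
    let W : Submodule F (ι → F) := Submodule.span F {Pi.single i (1 : F)}
    have hne : (Pi.single i (1 : F) : ι → F) ≠ 0 := by simp
    rcases hirr W (fun g hg v hv => by
      obtain ⟨c, hc⟩ := (Cfsg.Geo.mem_scalars_iff g).1 (hle hg)
      rw [mat, hc, smul_one_mulVec]
      exact Submodule.smul_mem _ _ hv) with h1 | h1
    · exact hne ((Submodule.mem_bot F).1 (h1 ▸ Submodule.subset_span rfl))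
    · have h3 : Module.finrank F W = 1 := finrank_span_singleton hne
      rw [h1, finrank_top, Module.finrank_fintype_fun_eq_card] at h3
      have := h.seven
      omega
  rcases core_or_factors hgood hnoscalar (fun N hNH hn hns hc => hns fun x hx => by
      refine comm_of_abs (hgood N hNH hn hns) fun y hy => ?_
      obtain ⟨c, hz⟩ := (Cfsg.Geo.mem_scalars_iff _).1 (hc x hx y hy)
      have hzH : x * y * x⁻¹ * y⁻¹ ∈ H :=
        mul_mem (mul_mem (mul_mem (hNH hx) (hNH hy)) (inv_mem (hNH hx))) (inv_mem (hNH hy))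
      have h1 := h.det_one _ hzH
      rw [mat, hz, Matrix.det_smul, Matrix.det_one, mul_one] at h1
      have h2 := h.fix _ hzH
      rw [mat, hz, act_sc, act, map_refl, Matrix.transpose_one, one_mul, mul_one, RingEquiv.refl_apply] at h2
      have h4 : (c : F) * c = 1 := smul_mat_cancel (ne_zero_of_det h.rg.det) (h2.trans (one_smul F G).symm)
      obtain ⟨l, hl⟩ := h.odd
      rw [hl, pow_succ, pow_mul, pow_two, h4, one_pow, one_mul] at h1
      rw [h1, one_smul] at hz
      have h3 : x * y * x⁻¹ * y⁻¹ = 1 := Units.ext hz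
      rwa [mul_inv_eq_one, mul_inv_eq_iff_eq_mul] at h3) with ⟨P, hP⟩ | ⟨t, Qs, hQ⟩
  swap
  · exact absurd (h.factors_member hQ (iSup_le hQ.le)) hmem
  · have hsub : ∀ F₀ : Subfield F, F₀ ≠ ⊤ → ¬ RealisableOver F₀ (matrixSet P) := fun F₀ hF₀ hreal => by
      obtain ⟨B, hB⟩ := realisable_mat.1 hreal
      obtain ⟨F₁, l, hl, hc, hB₁, hle⟩ := le_subfield hP.abs hP.normalised hF₀ hB
      obtain ⟨P', hP', hent⟩ := bilinear_rational h.odd hP.abs h.rg.det (fun g hg => h.fix g (hP.le hg)) (h.detF F₁) hB₁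
      exact hmem (h.member_subfield hl hc hent (hP' ▸ hle))
    refine ⟨P, ⟨hP.le, hP.normalised, hP.perfect, hP.simple, hP.nonabelian,
      fun x _ hc => comm_of_abs hP.abs (comm_of_perfect hP.perfect hc), hP.abs, hsub⟩, ?_⟩
    rintro ⟨σ, f', hf', hfix'⟩
    have hs' := isSesq_of_unitary hf'
    obtain ⟨F₀, h0, h1⟩ := realisable_of_two (isBar_of_involution hf'.involutive hf'.ne_refl) hP.abs
      (hs'.det_ne_zero hf'.nondegenerate) h.rg.det (fun g hg => (hs'.fixes_iff g).1 (hfix' _ ⟨g, hg, rfl⟩))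
      fun g hg => h.fix g (hP.le hg)
    exact hsub F₀ h0 h1

end Cfsg.Agent.Asch
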