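import Cfsg.Agent.Asch.FormCases
import Cfsg.Agent.ThreeInv.Quadratic

/-!
Shapes preserved by isometries of an alternating form.
-/

set_option autoImplicit false
set_option linter.unusedSectionVars false

namespace Cfsg.Agent.Asch

open Matrix Cfsg.Geo Cfsg.Agent.PrimeDim
open scoped MatrixGroups Kronecker commutatorElement

variable {F : Type*} [Field F] [Finite F] {ι : Type} [Fintype ι] [DecidableEq ι]

theorem map_refl_eq {κ μ : Type} (A : Matrix κ μ F) : A.map (RingEquiv.refl F) = A := Matrix.ext fun _ _ => rfl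

/-- A scalar relating a matrix with its transpose is a sign. -/
theorem sign_of_transpose {κ : Type} [Fintype κ] [DecidableEq κ] [Nonempty κ] {A : Matrix κ κ F} (hA : A.det ≠ 0)
    {s : F} (h : Aᵀ = s • A) : s = 1 ∨ s = -1 := by
  have h1 := congrArg Matrix.transpose h
  rw [Matrix.transpose_transpose, Matrix.transpose_smul, h, smul_smul] at h1
  exact mul_self_eq_one_iff.1 (smul_mat_cancel (ne_zero_of_det hA) ((one_smul F A).trans h1)).symm

theorem symplecticForm_formG {κ : Type} [Fintype κ] [DecidableEq κ] {A : Matrix κ κ F} (hA : A.det ≠ 0)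
    (hs : Aᵀ = -A) (ha : ∀ v, formG (RingEquiv.refl F) A v v = 0) :
    IsSymplecticForm (formG (RingEquiv.refl F) A) := by
  have hf := isSesq_formG (RingEquiv.refl F) A
  have hG : IsRG (RingEquiv.refl F) (-1) A := ⟨hA, fun _ => rfl, by rw [map_refl_eq, neg_one_smul, hs]⟩
  refine ⟨⟨hf.add_left, hf.smul_left, hf.add_right, fun c v x => hf.smul_right c v x⟩, fun v w => ?_, ha,
    fun v hv => ⟨?_, ?_⟩⟩
  · rw [hG.swap w v, RingEquiv.refl_apply, neg_one_mul]
  · by_contra hcon
    push Not at hcon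
    exact hv (hG.nondeg_right hcon)
  · by_contra hcon
    push Not at hcon
    exact hv (nondeg_left (σ := RingEquiv.refl F) hA hcon)

theorem alt_of_skew (h2 : (2 : F) ≠ 0) {κ : Type} [Fintype κ] [DecidableEq κ] {A : Matrix κ κ F} (hs : Aᵀ = -A)
    (v : κ → F) : formG (RingEquiv.refl F) A v v = 0 := by
  show v ⬝ᵥ (A *ᵥ v) = 0
  refine (mul_eq_zero.1 (show (2 : F) * (v ⬝ᵥ (A *ᵥ v)) = 0 from ?_)).resolve_left h2
  have h1 : v ⬝ᵥ (Aᵀ *ᵥ v) = v ⬝ᵥ (A *ᵥ v) := by
    rw [Matrix.mulVec_transpose, dotProduct_comm, ← Matrix.dotProduct_mulVec]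
  rw [hs, Matrix.neg_mulVec, dotProduct_neg] at h1
  linear_combination -h1

/-- An alternating matrix is a symmetrisation with alternating part zero on the diagonal. -/
theorem exists_tri {κ : Type} [Fintype κ] [DecidableEq κ] {A : Matrix κ κ F}
    (ha : ∀ v, formG (RingEquiv.refl F) A v v = 0) (hs : Aᵀ = A) : ∃ U : Matrix κ κ F, U + Uᵀ = A := by
  classical
  let o := Fintype.equivFin κ
  refine ⟨Matrix.of fun i j => if o i < o j then A i j else 0, Matrix.ext fun i j => ?_⟩
  have hsym : A j i = A i j := congrFun (congrFun hs i) j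
  simp only [Matrix.add_apply, Matrix.transpose_apply, Matrix.of_apply]
  rcases lt_trichotomy (o i) (o j) with h | h | h
  · rw [if_pos h, if_neg h.asymm, add_zero]
  · obtain rfl := o.injective h
    rw [if_neg (lt_irrefl _), add_zero]
    have h1 := ha (Pi.single i 1)
    rw [formG_single] at h1
    exact h1.symm
  · rw [if_neg h.asymm, if_pos h, zero_add, hsym]

/-- Two complementary subspaces of equal rank. -/
theorem pair_decomp {A B : Submodule F (ι → F)} {m : ℕ} (hm : 0 < m) (hA : Module.finrank F A = m)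
    (hB : Module.finrank F B = m) (hd : A ⊓ B = ⊥) (ht : A ⊔ B = ⊤) : IsMDecomposition m ![A, B] := by
  refine ⟨le_rfl, hm, fun i => by fin_cases i <;> assumption, fun i => ?_, ?_⟩
  · have key : ∀ (X : Submodule F (ι → F)) (i : Fin 2), (∀ j, j ≠ i → ![A, B] j = X) →
        (⨆ j, ⨆ _ : j ≠ i, ![A, B] j) ≤ X := fun X i h => iSup₂_le fun j hj => (h j hj).le
    fin_cases i
    · exact Disjoint.mono_right (key B _ fun j hj => by fin_cases j <;> simp_all) (disjoint_iff.2 hd)
    · exact Disjoint.mono_right (key A _ fun j hj => by fin_cases j <;> simp_all)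
        (disjoint_iff.2 (by rw [inf_comm]; exact hd))
  · rw [eq_top_iff, ← ht]
    exact sup_le (le_iSup ![A, B] 0) (le_iSup ![A, B] 1)

theorem map_eq_of_maps {A B : Submodule F (ι → F)} (g : GL ι F) (h : ∀ v ∈ A, mat g *ᵥ v ∈ B)
    (hrank : Module.finrank F B ≤ Module.finrank F A) : A.map (Matrix.toLin' (mat g)) = B := by
  have hinj : Function.Injective (Matrix.toLin' (mat g)) := fun u v e =>
    mulVec_injective g (by simpa [Matrix.toLin'_apply] using e)
  refine Submodule.eq_of_le_of_finrank_le ?_ (hrank.trans (Submodule.equivMapOfInjective _ hinj A).finrank_eq.le)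
  rintro _ ⟨v, hv, rfl⟩
  rw [Matrix.toLin'_apply]
  exact h v hv

theorem le_pair_stabilizer {A B : Submodule F (ι → F)} {H : Subgroup (GL ι F)}
    (hrank : Module.finrank F A = Module.finrank F B)
    (h : ∀ g ∈ H, ((∀ v ∈ A, mat g *ᵥ v ∈ A) ∧ ∀ v ∈ B, mat g *ᵥ v ∈ B) ∨
      ((∀ v ∈ A, mat g *ᵥ v ∈ B) ∧ ∀ v ∈ B, mat g *ᵥ v ∈ A)) :
    H ≤ decompositionStabilizer ![A, B] := by
  intro g hg
  rcases h g hg with ⟨h1, h2⟩ | ⟨h1, h2⟩
  · refine ⟨1, fun i => ?_⟩
    fin_cases i
    · exact map_eq_of_maps g h1 le_rfl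
    · exact map_eq_of_maps g h2 le_rfl
  · refine ⟨Equiv.swap 0 1, fun i => ?_⟩
    fin_cases i
    · simpa using map_eq_of_maps g h1 hrank.ge
    · simpa using map_eq_of_maps g h2 hrank.le

/-- A skew root of a scalar gives a pair of totally singular subspaces or an adjoint-closed quadratic field. -/
theorem pair_or_field (h2 : (2 : F) ≠ 0) {ε : F} {G : Matrix ι ι F} {H : Subgroup (GL ι F)} [Nonempty ι]
    (hG : IsRG (RingEquiv.refl F) ε G) {X : Matrix ι ι F} {δ : F} (hδ : δ ≠ 0) (hX : X * X = δ • 1)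
    (hskew : ∀ u v, formG (RingEquiv.refl F) G (X *ᵥ u) v = - formG (RingEquiv.refl F) G u (X *ᵥ v))
    (hn : ∀ g ∈ H, X * mat g = mat g * X ∨ X * mat g = -(mat g * X)) :
    (∃ (m : ℕ) (D : Fin 2 → Submodule F (ι → F)), 2 * m = Fintype.card ι ∧ IsMDecomposition m D ∧
      (∀ i, IsTotallySingularFor (formG (RingEquiv.refl F) G) (D i)) ∧ H ≤ decompositionStabilizer D) ∨
    (∃ K : Subalgebra F (Matrix ι ι F), IsFieldSubalgebra 2 K ∧ IsAdjointClosedFor (formG (RingEquiv.refl F) G) K ∧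
      ¬ IsSelfAdjointFor (formG (RingEquiv.refl F) G) K ∧ H ≤ subalgebraNormalizer K) := by
  classical
  have hs := isSesq_formG (RingEquiv.refl F) G
  have hneg : ∀ (u w : ι → F), formG (RingEquiv.refl F) G u (-w) = - formG (RingEquiv.refl F) G u w := fun u w => by
    rw [← neg_one_smul F w, hs.smul_right]; simp
  by_cases hsq : ∃ a : F, a * a = δ
  · left
    obtain ⟨a, ha⟩ := hsq
    have ha0 : a ≠ 0 := fun e => hδ (by rw [← ha, e, mul_zero])
    let E : F → Submodule F (ι → F) := fun c => LinearMap.ker (X - c • 1).mulVecLin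
    have hmem : ∀ {c v}, v ∈ E c ↔ X *ᵥ v = c • v := fun {c v} => by
      rw [LinearMap.mem_ker, Matrix.mulVecLin_apply, Matrix.sub_mulVec, smul_one_mulVec, sub_eq_zero]
    have hts : ∀ c, c ≠ 0 → IsTotallySingularFor (formG (RingEquiv.refl F) G) (E c) := fun c hc u hu v hv => by
      have h1 := hskew u v
      rw [hmem.1 hu, hmem.1 hv, hs.smul_left, hs.smul_right, RingEquiv.refl_apply] at h1
      exact (mul_eq_zero.1 (show (2 * c) * formG (RingEquiv.refl F) G u v = 0 by linear_combination h1)).resolve_left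
        (mul_ne_zero h2 hc)
    have hdis : E a ⊓ E (-a) = ⊥ := by
      rw [eq_bot_iff]
      rintro v ⟨h1, h3⟩
      rw [Submodule.mem_bot]
      have h4 : (2 * a) • v = 0 := by
        rw [two_mul, add_smul]
        nth_rw 1 [← hmem.1 h1]
        rw [hmem.1 h3, neg_smul, neg_add_cancel]
      exact (smul_eq_zero.1 h4).resolve_left (mul_ne_zero h2 ha0)
    have htop : E a ⊔ E (-a) = ⊤ := by
      rw [eq_top_iff]
      intro v _
      have hXX : X *ᵥ (X *ᵥ v) = δ • v := by rw [Matrix.mulVec_mulVec, hX, smul_one_mulVec]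
      refine Submodule.mem_sup.2 ⟨(2 * a)⁻¹ • (a • v + X *ᵥ v), hmem.2 ?_, (2 * a)⁻¹ • (a • v - X *ᵥ v), hmem.2 ?_, ?_⟩
      · rw [Matrix.mulVec_smul, Matrix.mulVec_add, Matrix.mulVec_smul, hXX, ← ha]
        module
      · rw [Matrix.mulVec_smul, Matrix.mulVec_sub, Matrix.mulVec_smul, hXX, ← ha]
        module
      · match_scalars <;> field_simp <;> ring
    have hle : ∀ c, c ≠ 0 → 2 * Module.finrank F (E c) ≤ Fintype.card ι := fun c hc => by
      by_contra hcon
      have h1 : E c ≤ perpG (RingEquiv.refl F) G (E c) := fun v hv w hw => hts c hc v hv w hw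
      have h3 : Module.finrank F (perpG (RingEquiv.refl F) G (E c)) + Module.finrank F (E c) ≤ Fintype.card ι := by
        obtain ⟨L, hL⟩ : ∃ L : Submodule F (ι → F), IsCompl (perpG (RingEquiv.refl F) G (E c)) L :=
          exists_isCompl _
        have e1 := Submodule.finrank_sup_add_finrank_inf_eq (perpG (RingEquiv.refl F) G (E c)) L
        rw [hL.sup_eq_top, hL.inf_eq_bot, finrank_top, finrank_bot, Module.finrank_fintype_fun_eq_card] at e1
        have e2 : perpG (RingEquiv.refl F) G L ⊓ perpG (RingEquiv.refl F) G (perpG (RingEquiv.refl F) G (E c)) = ⊥ := by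
          rw [eq_bot_iff]
          rintro v ⟨hv1, hv2⟩
          rw [Submodule.mem_bot]
          refine nondeg_left (σ := RingEquiv.refl F) hG.det fun u => ?_
          obtain ⟨p, hp, l, hl, rfl⟩ := Submodule.mem_sup.1 (hL.sup_eq_top ▸ Submodule.mem_top :
            u ∈ perpG (RingEquiv.refl F) G (E c) ⊔ L)
          rw [hs.add_right, hv2 p hp, hv1 l hl, add_zero]
        have e3 : E c ≤ perpG (RingEquiv.refl F) G (perpG (RingEquiv.refl F) G (E c)) := fun w hw v hv =>
          hG.zero_swap (hv w hw)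
        have e4 := Submodule.finrank_sup_add_finrank_inf_eq (perpG (RingEquiv.refl F) G L) (E c)
        rw [show perpG (RingEquiv.refl F) G L ⊓ E c = ⊥ from le_bot_iff.1 ((inf_le_inf_left _ e3).trans e2.le),
          finrank_bot] at e4
        have e5 := Submodule.finrank_le (perpG (RingEquiv.refl F) G L ⊔ E c)
        rw [Module.finrank_fintype_fun_eq_card] at e5
        have := finrank_perp (RingEquiv.refl F) G L
        omega
      have h4 := Submodule.finrank_mono h1
      omega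
    have hsum := Submodule.finrank_sup_add_finrank_inf_eq (E a) (E (-a))
    rw [hdis, htop, finrank_top, finrank_bot, Module.finrank_fintype_fun_eq_card, add_zero] at hsum
    have h1 := hle a ha0
    have h3 := hle (-a) (neg_ne_zero.2 ha0)
    have hrk : Module.finrank F (E (-a)) = Module.finrank F (E a) := by omega
    have hpos : 0 < Fintype.card ι := Fintype.card_pos
    refine ⟨_, ![E a, E (-a)], by omega, pair_decomp (by omega) rfl hrk hdis htop, fun i => ?_,
      le_pair_stabilizer hrk.symm fun g hg => ?_⟩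
    · fin_cases i
      · exact hts a ha0
      · exact hts _ (neg_ne_zero.2 ha0)
    rcases hn g hg with h | h
    · refine Or.inl ⟨?_, ?_⟩ <;>
        · intro v hv
          rw [hmem, Matrix.mulVec_mulVec, h, ← Matrix.mulVec_mulVec, hmem.1 hv, Matrix.mulVec_smul]
    · refine Or.inr ⟨?_, ?_⟩ <;>
        · intro v hv
          rw [hmem, Matrix.mulVec_mulVec, h, Matrix.neg_mulVec, ← Matrix.mulVec_mulVec, hmem.1 hv, Matrix.mulVec_smul]
          simp
  · right
    push Not at hsq
    let K : Subalgebra F (Matrix ι ι F) :=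
      { carrier := {Y | ∃ a b : F, Y = a • 1 + b • X}
        mul_mem' := by
          rintro _ _ ⟨a, b, rfl⟩ ⟨c, d, rfl⟩
          refine ⟨a * c + b * d * δ, a * d + b * c, ?_⟩
          simp only [add_mul, mul_add, Matrix.smul_mul, Matrix.mul_smul, one_mul, mul_one, hX, smul_smul, add_smul]
          match_scalars <;> ring
        add_mem' := by
          rintro _ _ ⟨a, b, rfl⟩ ⟨c, d, rfl⟩
          exact ⟨a + c, b + d, by rw [add_smul, add_smul]; abel⟩
        algebraMap_mem' := fun r => ⟨r, 0, by rw [zero_smul, add_zero, Algebra.algebraMap_eq_smul_one]⟩ }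
    have hXK : X ∈ K := ⟨0, 1, by rw [zero_smul, zero_add, one_smul]⟩
    have hone0 : (1 : Matrix ι ι F) ≠ 0 := one_ne_zero
    have hzero : ∀ a b : F, a • (1 : Matrix ι ι F) + b • X = 0 → a = 0 ∧ b = 0 := by
      intro a b e
      by_cases hb : b = 0
      · rw [hb, zero_smul, add_zero] at e
        exact ⟨(smul_eq_zero.1 e).resolve_right hone0, hb⟩
      · exfalso
        have h1 : X = (-(a / b)) • 1 := by
          have h3 := congrArg (b⁻¹ • ·) e
          simp only [smul_add, smul_smul, inv_mul_cancel₀ hb, one_smul, smul_zero] at h3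
          rw [eq_neg_of_add_eq_zero_right h3, ← neg_smul, div_eq_inv_mul]
        refine hsq (-(a / b)) (smul_mat_cancel hone0 ?_)
        rw [← hX, h1, Matrix.smul_mul, Matrix.mul_smul, one_mul, smul_smul]
    refine ⟨K, ⟨?_, ?_, ?_⟩, ?_, fun hsa => ?_, fun g hg => ?_⟩
    · rintro _ ⟨a, b, rfl⟩ _ ⟨c, d, rfl⟩
      simp only [add_mul, mul_add, Matrix.smul_mul, Matrix.mul_smul, one_mul, mul_one, smul_smul, hX]
      module
    · rintro _ ⟨a, b, rfl⟩ hne
      have hN : a * a - b * b * δ ≠ 0 := by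
        intro e
        by_cases hb : b = 0
        · exact hne (by rw [hb, show a = 0 by rw [hb] at e; simpa using e]; simp)
        · exact hsq (a / b) (by field_simp; linear_combination e)
      have hN' : a ^ 2 - b ^ 2 * δ ≠ 0 := by rw [pow_two, pow_two]; exact hN
      refine ⟨(a / (a * a - b * b * δ)) • 1 + (-b / (a * a - b * b * δ)) • X, ⟨_, _, rfl⟩, ?_⟩
      simp only [add_mul, mul_add, Matrix.smul_mul, Matrix.mul_smul, one_mul, mul_one, smul_smul, hX]
      match_scalars <;> field_simp <;> ring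
    · let L : (F × F) →ₗ[F] K :=
        { toFun := fun p => ⟨p.1 • 1 + p.2 • X, ⟨_, _, rfl⟩⟩
          map_add' := fun p p' => Subtype.ext (by
            show (p.1 + p'.1) • (1 : Matrix ι ι F) + (p.2 + p'.2) • X = _
            rw [add_smul, add_smul]
            show _ = p.1 • 1 + p.2 • X + (p'.1 • 1 + p'.2 • X)
            abel)
          map_smul' := fun c p => Subtype.ext (by
            show (c * p.1) • (1 : Matrix ι ι F) + (c * p.2) • X = c • (p.1 • 1 + p.2 • X)
            rw [smul_add, smul_smul, smul_smul]) }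
      have hL : Function.Bijective L := by
        refine ⟨(injective_iff_map_eq_zero L).2 fun p hp => ?_, ?_⟩
        · obtain ⟨e1, e2⟩ := hzero p.1 p.2 (congrArg Subtype.val hp)
          exact Prod.ext e1 e2
        · rintro ⟨_, a, b, rfl⟩
          exact ⟨(a, b), rfl⟩
      rw [← (LinearEquiv.ofBijective L hL).finrank_eq, Module.finrank_prod, Module.finrank_self]
    · rintro _ ⟨a, b, rfl⟩
      refine ⟨a • 1 + (-b) • X, ⟨_, _, rfl⟩, fun u v => ?_⟩
      simp only [Matrix.add_mulVec, Matrix.smul_mulVec, Matrix.one_mulVec, hs.add_left, hs.add_right, hs.smul_left,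
        hs.smul_right, hskew, RingEquiv.refl_apply]
      ring
    · have h3 : X = 0 := adj_unique hG (Y := X) (Y' := 0) fun u v => by
        have h1 := hsa X hXK u v
        rw [hskew u v] at h1
        rw [Matrix.zero_mulVec, formG_zero_right]
        exact (mul_eq_zero.1 (show (2 : F) * formG (RingEquiv.refl F) G u (X *ᵥ v) = 0 by
          linear_combination -h1)).resolve_left h2
      obtain ⟨-, h1⟩ := hzero 0 1 (by rw [zero_smul, zero_add, one_smul, h3])
      exact one_ne_zero h1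
    · have key : ∀ g ∈ H, ∀ Y ∈ K, mat g * Y * mat g⁻¹ ∈ K := by
        intro g hg Y hY
        obtain ⟨a, b, rfl⟩ := hY
        rcases hn g hg with h | h
        · refine ⟨a, b, ?_⟩
          rw [mul_add, add_mul, Matrix.mul_smul, Matrix.mul_smul, Matrix.smul_mul, Matrix.smul_mul, mul_one,
            mat_mul_inv, ← h, mul_assoc, mat_mul_inv, mul_one]
        · refine ⟨a, -b, ?_⟩
          rw [mul_add, add_mul, Matrix.mul_smul, Matrix.mul_smul, Matrix.smul_mul, Matrix.smul_mul, mul_one,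
            mat_mul_inv, ← neg_neg (mat g * X), ← h, neg_mul, mul_assoc, mat_mul_inv, mul_one, smul_neg, neg_smul]
      intro Y
      refine ⟨key g hg Y, fun hY => ?_⟩
      have h1 := key g⁻¹ (inv_mem hg) _ hY
      rwa [inv_inv, ← mul_assoc, ← mul_assoc, mat_inv_mul, one_mul, mul_assoc, mat_inv_mul, mul_one] at h1

/-- A symmetric binary factor gives a skew root of a scalar normalised by the group. -/
theorem skew_of_kron_two {G : Matrix ι ι F} {H : Subgroup (GL ι F)} (hfix : Fixes (RingEquiv.refl F) H G)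
    {d : ℕ} [Nonempty (Fin d)] (e : ι ≃ Fin d × Fin 2) (P : GL ι F) (hle : H ≤ tensorProductSubgroup d 2 e P)
    {G₀ : Matrix (Fin d) (Fin d) F} {B : Matrix (Fin 2) (Fin 2) F}
    (hfr : frG (RingEquiv.refl F) e P G = G₀ ⊗ₖ B) (hG₀ : G₀.det ≠ 0) (hB : B.det ≠ 0) (hBs : Bᵀ = B) :
    ∃ X : Matrix ι ι F, X * X = (-B.det) • 1 ∧
      (∀ u v, formG (RingEquiv.refl F) G (X *ᵥ u) v = - formG (RingEquiv.refl F) G u (X *ᵥ v)) ∧
      ∀ g ∈ H, X * mat g = mat g * X ∨ X * mat g = -(mat g * X) := by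
  classical
  set J : Matrix (Fin 2) (Fin 2) F := !![0, 1; -1, 0] with hJ
  set M : Matrix (Fin 2) (Fin 2) F := !![B 0 1, B 1 1; -(B 0 0), -(B 0 1)] with hM
  have hB10 : B 1 0 = B 0 1 := congrFun (congrFun hBs 0) 1
  have hBM : B * M = B.det • J := by
    rw [Matrix.det_fin_two]
    ext i j
    fin_cases i <;> fin_cases j <;> simp [hM, hJ, Matrix.mul_apply, Fin.sum_univ_two, hB10] <;> ring
  have hMM : M * M = (-B.det) • 1 := by
    rw [Matrix.det_fin_two]
    ext i j
    fin_cases i <;> fin_cases j <;> simp [hM, Matrix.mul_apply, Fin.sum_univ_two, hB10] <;> ring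
  have hBu : IsUnit B := (Matrix.isUnit_iff_isUnit_det _).2 (isUnit_iff_ne_zero.2 hB)
  have hMB : Mᵀ * B = -(B * M) := by
    conv_lhs => rw [← hBs]
    rw [← Matrix.transpose_mul, hBM, Matrix.transpose_smul, ← smul_neg]
    congr 1
    ext i j
    fin_cases i <;> fin_cases j <;> simp [hJ]
  set X := frM e P ((1 : Matrix (Fin d) (Fin d) F) ⊗ₖ M) with hX
  have hXX : X * X = (-B.det) • 1 := by
    rw [hX, ← map_mul, ← Matrix.mul_kronecker_mul, one_mul, hMM, Matrix.kronecker_smul, Matrix.one_kronecker_one,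
      map_smul, map_one]
  have hskew : ∀ u v, formG (RingEquiv.refl F) G (X *ᵥ u) v = - formG (RingEquiv.refl F) G u (X *ᵥ v) := by
    intro u v
    obtain ⟨x, rfl⟩ := (frL e P).surjective u
    obtain ⟨y, rfl⟩ := (frL e P).surjective v
    rw [hX, frM_mulVec, frM_mulVec, ← formG_frL, ← formG_frL, hfr]
    set K₁ := (1 : Matrix (Fin d) (Fin d) F) ⊗ₖ M
    have hk' : K₁ᵀ * (G₀ ⊗ₖ B) = -((G₀ ⊗ₖ B) * K₁) := by
      rw [← Matrix.kroneckerMap_transpose, Matrix.transpose_one, ← Matrix.mul_kronecker_mul, ← Matrix.mul_kronecker_mul,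
        one_mul, mul_one, hMB, ← neg_one_smul F (B * M), Matrix.kronecker_smul, neg_one_smul]
    show (K₁ *ᵥ x) ⬝ᵥ ((G₀ ⊗ₖ B) *ᵥ y) = -(x ⬝ᵥ ((G₀ ⊗ₖ B) *ᵥ (K₁ *ᵥ y)))
    rw [← Matrix.vecMul_transpose, ← Matrix.dotProduct_mulVec, Matrix.mulVec_mulVec, hk', Matrix.neg_mulVec,
      dotProduct_neg, Matrix.mulVec_mulVec]
  have hnorm : ∀ g ∈ H, X * mat g = mat g * X ∨ X * mat g = -(mat g * X) := by
    intro g hg
    obtain ⟨Y, ⟨A, C, hY⟩, rfl⟩ := (map_fr_eq_tensor e P).ge (hle hg)
    have h1 : act (RingEquiv.refl F) (G₀ ⊗ₖ B) (mat Y) = G₀ ⊗ₖ B := hfr ▸ fixes_comap e P hfix Y hg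
    rw [show mat Y = (A : Matrix (Fin d) (Fin d) F) ⊗ₖ (C : Matrix (Fin 2) (Fin 2) F) from hY, act, map_refl_eq,
      ← Matrix.kroneckerMap_transpose, ← Matrix.mul_kronecker_mul, ← Matrix.mul_kronecker_mul] at h1
    obtain ⟨a, b, -, -, hb⟩ := kron_prop (ne_zero_of_det hG₀) (ne_zero_of_det hB) h1
    have hCd : (C : Matrix (Fin 2) (Fin 2) F).det ≠ 0 := ((Matrix.isUnit_iff_isUnit_det _).1 C.isUnit).ne_zero
    set Cm := (C : Matrix (Fin 2) (Fin 2) F) with hCm
    have hdet := congrArg Matrix.det hb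
    rw [Matrix.det_mul, Matrix.det_mul, Matrix.det_transpose, Matrix.det_smul, Fintype.card_fin] at hdet
    have hsq : Cm.det * Cm.det = b * b := mul_left_cancel₀ hB (by linear_combination hdet)
    have hb0 : b ≠ 0 := fun e0 => hCd (mul_self_eq_zero.1 (by rw [hsq, e0, mul_zero]))
    have hJC : Cmᵀ * J * Cm = Cm.det • J := by
      rw [Matrix.det_fin_two]
      ext i j
      fin_cases i <;> fin_cases j <;> simp [hJ, Matrix.mul_apply, Fin.sum_univ_two] <;> ring
    obtain ⟨γ, hγ, hCM⟩ : ∃ γ : F, (γ = 1 ∨ γ = -1) ∧ M * Cm = γ • (Cm * M) := by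
      refine ⟨Cm.det / b, mul_self_eq_one_iff.1 (by field_simp; linear_combination hsq), ?_⟩
      have hu : IsUnit (Cmᵀ * B) := (isUnit_transpose C.isUnit).mul hBu
      refine hu.mul_left_cancel ?_
      rw [Matrix.mul_smul, ← mul_assoc (Cmᵀ * B) Cm, hb, Matrix.smul_mul, mul_assoc, ← mul_assoc B, hBM,
        Matrix.smul_mul, Matrix.mul_smul, ← mul_assoc, hJC, smul_smul, smul_smul, smul_smul]
      congr 1
      field_simp
    have hk' : ((1 : Matrix (Fin d) (Fin d) F) ⊗ₖ M) * mat Y = γ • (mat Y * ((1 : Matrix (Fin d) (Fin d) F) ⊗ₖ M)) := by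
      rw [show mat Y = (A : Matrix (Fin d) (Fin d) F) ⊗ₖ Cm from hY, ← Matrix.mul_kronecker_mul,
        ← Matrix.mul_kronecker_mul, one_mul, mul_one, hCM, Matrix.kronecker_smul]
    have h3 := congrArg (frM e P) hk'
    rw [map_mul, map_smul, map_mul, frM_mat, ← hX] at h3
    rcases hγ with rfl | rfl
    · exact Or.inl (h3.trans (one_smul _ _))
    · exact Or.inr (h3.trans (neg_one_smul _ _))
  exact ⟨X, hXX, hskew, hnorm⟩

/-- In characteristic two both factors of an alternating tensor product are alternating. -/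
theorem kron_alt (h2 : (2 : F) = 0) {G : Matrix ι ι F} {H : Subgroup (GL ι F)} (hirr : Irr H)
    (hfix : Fixes (RingEquiv.refl F) H G) {d k : ℕ} (hd : 0 < d) (hk : 2 ≤ k) (e : ι ≃ Fin d × Fin k) (P : GL ι F)
    (hle : H ≤ tensorProductSubgroup d k e P) {G₀ : Matrix (Fin d) (Fin d) F} {B : Matrix (Fin k) (Fin k) F}
    (hG₀ : G₀.det ≠ 0) (hB : B.det ≠ 0) (hfr : frG (RingEquiv.refl F) e P G = G₀ ⊗ₖ B) (hBs : Bᵀ = B) :
    ∀ v, formG (RingEquiv.refl F) B v v = 0 := by
  classical
  haveI : Nonempty (Fin d) := ⟨⟨0, hd⟩⟩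
  haveI : Nonempty (Fin k) := ⟨⟨0, by omega⟩⟩
  have hs := isSesq_formG (RingEquiv.refl F) B
  set H' := H.comap (fr e P).toMonoidHom
  have hH' : ∀ g : H', ∃ (A : Matrix (Fin d) (Fin d) F) (C : Matrix (Fin k) (Fin k) F) (b : F),
      mat g.1 = A ⊗ₖ C ∧ Cᵀ * B * C = b • B := by
    intro g
    obtain ⟨X, ⟨A, C, hX⟩, hXe⟩ := (map_fr_eq_tensor e P).ge (hle g.2)
    obtain rfl : X = g.1 := (fr e P).injective hXe
    have h1 : act (RingEquiv.refl F) (G₀ ⊗ₖ B) (mat g.1) = G₀ ⊗ₖ B := hfr ▸ fixes_comap e P hfix g.1 g.2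
    rw [show mat g.1 = (A : Matrix (Fin d) (Fin d) F) ⊗ₖ (C : Matrix (Fin k) (Fin k) F) from hX, act, map_refl_eq,
      ← Matrix.kroneckerMap_transpose, ← Matrix.mul_kronecker_mul, ← Matrix.mul_kronecker_mul] at h1
    obtain ⟨a, b, -, -, hb⟩ := kron_prop (ne_zero_of_det hG₀) (ne_zero_of_det hB) h1
    exact ⟨_, _, b, hX, hb⟩
  choose A C b hAC hb using hH'
  intro v
  refine sq_additive_zero h2 (by rw [Fintype.card_fin]; exact hk) (a := C) (fun W hW => ?_)
    (fun w => formG (RingEquiv.refl F) B w w) (fun u w => ?_) (fun c w => ?_) (fun g w hw => ?_) v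
  · let W' : Submodule F (Fin d × Fin k → F) :=
      { carrier := {x | ∀ i, (fun j => x (i, j)) ∈ W}
        add_mem' := fun {x y} hx hy i => W.add_mem (hx i) (hy i)
        zero_mem' := fun i => W.zero_mem
        smul_mem' := fun c x hx i => W.smul_mem c (hx i) }
    rcases irr_comap e P hirr W' (fun g hg x hx i => by
      have h1 : (fun j => (mat g *ᵥ x) (i, j)) = ∑ i', A ⟨g, hg⟩ i i' • (C ⟨g, hg⟩ *ᵥ fun j' => x (i', j')) := by
        funext j
        rw [show mat g = _ from hAC ⟨g, hg⟩]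
        simp only [Matrix.mulVec, dotProduct, Fintype.sum_prod_type, Matrix.kronecker_apply, Finset.sum_apply,
          Pi.smul_apply, smul_eq_mul, Finset.mul_sum, mul_assoc]
      show (fun j => (mat g *ᵥ x) (i, j)) ∈ W
      rw [h1]
      exact W.sum_mem fun i' _ => W.smul_mem _ (hW ⟨g, hg⟩ _ (hx i'))) with e' | e'
    · refine Or.inl ((Submodule.eq_bot_iff _).2 fun w hw => ?_)
      have h1 : (fun p : Fin d × Fin k => w p.2) ∈ W' := fun i => hw
      rw [e', Submodule.mem_bot] at h1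
      funext j
      exact congrFun h1 (⟨0, hd⟩, j)
    · refine Or.inr (Submodule.eq_top_iff'.2 fun w => ?_)
      exact (e' ▸ Submodule.mem_top : (fun p : Fin d × Fin k => w p.2) ∈ W') ⟨0, hd⟩
  · have h1 : formG (RingEquiv.refl F) B w u = formG (RingEquiv.refl F) B u w := by
      have hG : IsRG (RingEquiv.refl F) 1 B := ⟨hB, fun _ => rfl, by rw [map_refl_eq, one_smul, hBs]⟩
      rw [hG.swap u w, one_mul, RingEquiv.refl_apply]
    rw [hs.add_left, hs.add_right, hs.add_right, h1]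
    linear_combination (formG (RingEquiv.refl F) B u w) * h2
  · rw [hs.smul_left, hs.smul_right, RingEquiv.refl_apply]; ring
  · rw [formG_mulVec, show act (RingEquiv.refl F) B (C g) = b g • B by rw [act, map_refl_eq, hb], formG_smul, hw,
      mul_zero]

/-- The triangular matrix of a tensor product of alternating forms in characteristic two. -/
theorem kron_tri {G : Matrix ι ι F} {H : Subgroup (GL ι F)} {d k : ℕ} (e : ι ≃ Fin d × Fin k)
    (P : GL ι F) (hle : H ≤ tensorProductSubgroup d k e P) {G₀ : Matrix (Fin d) (Fin d) F}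
    {B : Matrix (Fin k) (Fin k) F} (hfr : frG (RingEquiv.refl F) e P G = G₀ ⊗ₖ B) (hG₀s : G₀ᵀ = G₀) (hBs : Bᵀ = B)
    (ha₀ : ∀ v, formG (RingEquiv.refl F) G₀ v v = 0) (haB : ∀ v, formG (RingEquiv.refl F) B v v = 0) :
    ∃ U : Matrix (Fin d × Fin k) (Fin d × Fin k) F, U + Uᵀ = frG (RingEquiv.refl F) e P G ∧
      (∀ g ∈ H.comap (fr e P).toMonoidHom, ∀ a, (mat g *ᵥ Pi.single a 1) ⬝ᵥ (U *ᵥ (mat g *ᵥ Pi.single a 1)) = U a a) ∧
      ∀ (x : Fin d → F) (y : Fin k → F),
        (fun p : Fin d × Fin k => x p.1 * y p.2) ⬝ᵥ (U *ᵥ fun p : Fin d × Fin k => x p.1 * y p.2) = 0 := by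
  classical
  obtain ⟨U₀, hU₀⟩ := exists_tri ha₀ hG₀s
  suffices key : ∀ (x : Fin d → F) (y : Fin k → F),
      (fun p : Fin d × Fin k => x p.1 * y p.2) ⬝ᵥ ((U₀ ⊗ₖ B) *ᵥ fun p : Fin d × Fin k => x p.1 * y p.2) = 0 by
    refine ⟨U₀ ⊗ₖ B, ?_, fun g hg a => ?_, key⟩
    · rw [← Matrix.kroneckerMap_transpose, hBs, hfr, ← hU₀, Matrix.add_kronecker]
    obtain ⟨X, ⟨A, C, hX⟩, hXe⟩ := (map_fr_eq_tensor e P).ge (hle hg)
    obtain rfl : X = g := (fr e P).injective hXe
    have hcol : mat X *ᵥ Pi.single a 1 = fun p : Fin d × Fin k =>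
        (A : Matrix (Fin d) (Fin d) F) p.1 a.1 * (C : Matrix (Fin k) (Fin k) F) p.2 a.2 := by
      funext p
      rw [Matrix.mulVec_single_one, Matrix.col_apply,
        show mat X = (A : Matrix (Fin d) (Fin d) F) ⊗ₖ (C : Matrix (Fin k) (Fin k) F) from hX, Matrix.kronecker_apply]
    rw [hcol]
    refine (key (fun i => (A : Matrix (Fin d) (Fin d) F) i a.1) (fun j => (C : Matrix (Fin k) (Fin k) F) j a.2)).trans ?_
    rw [Matrix.kronecker_apply]
    have h1 := haB (Pi.single a.2 1)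
    rw [formG_single] at h1
    rw [h1, mul_zero]
  intro x y
  have h1 : (x ⬝ᵥ (U₀ *ᵥ x)) * (y ⬝ᵥ (B *ᵥ y)) = 0 := mul_eq_zero_of_right _ (haB y)
  rw [← h1]
  have h2 : ∀ p : Fin d × Fin k, ((U₀ ⊗ₖ B) *ᵥ fun p => x p.1 * y p.2) p = (U₀ *ᵥ x) p.1 * (B *ᵥ y) p.2 := by
    intro p
    simp only [Matrix.mulVec, dotProduct]
    rw [Fintype.sum_prod_type, Finset.sum_mul_sum]
    refine Finset.sum_congr rfl fun i _ => Finset.sum_congr rfl fun j _ => ?_
    rw [Matrix.kronecker_apply]
    ring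
  simp only [dotProduct, h2]
  rw [Fintype.sum_prod_type, Finset.sum_mul_sum]
  exact Finset.sum_congr rfl fun i _ => Finset.sum_congr rfl fun j _ => by ring

/-- A tensor product of alternating forms in characteristic two. -/
theorem quad_of_kron (h2 : (2 : F) = 0) {G : Matrix ι ι F} {H : Subgroup (GL ι F)}
    (hG : IsRG (RingEquiv.refl F) (-1) G) (hfix : Fixes (RingEquiv.refl F) H G) {d k : ℕ} (e : ι ≃ Fin d × Fin k)
    (P : GL ι F) (hle : H ≤ tensorProductSubgroup d k e P) {G₀ : Matrix (Fin d) (Fin d) F}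
    {B : Matrix (Fin k) (Fin k) F} (hfr : frG (RingEquiv.refl F) e P G = G₀ ⊗ₖ B) (hG₀s : G₀ᵀ = G₀) (hBs : Bᵀ = B)
    (ha₀ : ∀ v, formG (RingEquiv.refl F) G₀ v v = 0) (haB : ∀ v, formG (RingEquiv.refl F) B v v = 0) :
    QuadMember G H := by
  obtain ⟨U, h1, h3, -⟩ := kron_tri e P hle hfr hG₀s hBs ha₀ haB
  exact quad_of_tri h2 hG hfix e P U h1 h3

/-- A perfect solvable subgroup is trivial. -/
theorem eq_bot_of_perfect_solvable {Γ : Type*} [Group Γ] {Q : Subgroup Γ} (hQ : ⁅Q, Q⁆ = Q)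
    [hs : Group.IsSolvable Q] : Q = ⊥ := by
  by_contra hne
  haveI : Nontrivial Q := (Subgroup.nontrivial_iff_ne_bot Q).2 hne
  have hlt := Group.IsSolvable.commutator_lt_top_of_nontrivial Q
  refine hlt.ne (Subgroup.map_injective Q.subtype_injective ?_)
  rw [_root_.commutator_def, Subgroup.map_commutator, ← MonoidHom.range_eq_map, Subgroup.range_subtype, hQ]

/-- A factor acting faithfully in dimension two over three elements is not perfect. -/
theorem no_perfect_two_three [Fintype F] (h3 : Fintype.card F = 3) {Γ : Type*} [Group Γ] {Q : Subgroup Γ}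
    (hQ : ⁅Q, Q⁆ = Q) (X : Q → Matrix (Fin 2) (Fin 2) F) (hX : Function.Injective X)
    (hmul : ∀ x y, X (x * y) = X x * X y) (hu : ∀ x, IsUnit (X x)) : Q = ⊥ := by
  classical
  let φ : Q →* GL (Fin 2) F := MonoidHom.mk' (fun x => (hu x).unit) fun x y => Units.ext (hmul x y)
  have hφ : Function.Injective φ := fun x y e => hX (congrArg Units.val e)
  haveI : Finite Q := Finite.of_injective φ hφ
  haveI : Group.IsSolvable Q := ThreeInv.isSolvable_two_primes 3 Nat.prime_three fun p hp hd => by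
    have h1 := hd.trans (Subgroup.card_dvd_of_injective φ hφ)
    rw [Matrix.card_GL_field, h3, Fin.prod_univ_two] at h1
    norm_num at h1
    rcases (Nat.Prime.dvd_mul hp).1 (show p ∣ 2 ^ 4 * 3 by norm_num; exact h1) with h | h
    · exact Or.inl ((Nat.prime_dvd_prime_iff_eq hp Nat.prime_two).1 (hp.dvd_of_dvd_pow h))
    · exact Or.inr ((Nat.prime_dvd_prime_iff_eq hp Nat.prime_three).1 h)
  exact eq_bot_of_perfect_solvable hQ

/-- The triangular matrix of a tensor power of alternating forms in characteristic two. -/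
theorem power_tri {G : Matrix ι ι F} {H : Subgroup (GL ι F)} {m k : ℕ} (hk : 2 ≤ k)
    (e : ι ≃ (Fin k → Fin m)) (P : GL ι F) (hle : H ≤ tensorWreathSubgroup m k e P) {c : F}
    {G₁ : Matrix (Fin m) (Fin m) F} (hfr : frG (RingEquiv.refl F) e P G = c • pureM fun _ => G₁)
    (hs : G₁ᵀ = G₁) (ha : ∀ v, formG (RingEquiv.refl F) G₁ v v = 0) :
    ∃ U : Matrix (Fin k → Fin m) (Fin k → Fin m) F, U + Uᵀ = frG (RingEquiv.refl F) e P G ∧
      (∀ g ∈ H.comap (fr e P).toMonoidHom, ∀ a, (mat g *ᵥ Pi.single a 1) ⬝ᵥ (U *ᵥ (mat g *ᵥ Pi.single a 1)) = U a a) ∧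
      ∀ a, U a a = 0 := by
  classical
  obtain ⟨U₁, hU₁⟩ := exists_tri ha hs
  have i₀ : Fin k := ⟨0, by omega⟩
  obtain ⟨i₁, hi₁⟩ : ∃ i₁ : Fin k, i₁ ≠ i₀ := Fintype.exists_ne_of_one_lt_card (by rw [Fintype.card_fin]; omega) i₀
  let M : Fin k → Matrix (Fin m) (Fin m) F := Function.update (fun _ => G₁) i₀ U₁
  refine ⟨c • pureM M, ?_, fun g hg a => ?_, fun a => ?_⟩
  · rw [hfr, Matrix.transpose_smul, ← smul_add, pureM_transpose]
    congr 1
    ext x y
    simp only [Matrix.add_apply, pureM, Matrix.of_apply]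
    rw [← Finset.mul_prod_erase _ _ (Finset.mem_univ i₀), ← Finset.mul_prod_erase _ _ (Finset.mem_univ i₀),
      ← Finset.mul_prod_erase _ _ (Finset.mem_univ i₀)]
    have herase : ∀ i ∈ Finset.univ.erase i₀, M i = G₁ := fun i hi =>
      Function.update_of_ne (Finset.ne_of_mem_erase hi) _ _
    rw [show M i₀ = U₁ from Function.update_self _ _ _, Finset.prod_congr rfl fun i hi => by rw [herase i hi],
      Finset.prod_congr (s₁ := Finset.univ.erase i₀) (f := fun i => (M i)ᵀ (x i) (y i)) rfl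
        fun i hi => by rw [herase i hi, hs],
      ← add_mul, ← Matrix.add_apply, hU₁]
  · have hkk : ∀ v : Fin k → Fin m → F,
        (fun x : Fin k → Fin m => ∏ i, v i (x i)) ⬝ᵥ ((c • pureM M) *ᵥ fun x : Fin k → Fin m => ∏ i, v i (x i)) = 0 := by
      intro v
      have h1 : (∏ i, v i ⬝ᵥ (M i *ᵥ v i)) = 0 := by
        refine Finset.prod_eq_zero (Finset.mem_univ i₁) ?_
        rw [show M i₁ = G₁ from Function.update_of_ne hi₁ _ _]
        exact ha _
      rw [Matrix.smul_mulVec, dotProduct_smul, smul_eq_mul]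
      refine mul_eq_zero_of_right _ (Eq.trans ?_ h1)
      simp only [dotProduct, Matrix.mulVec, pureM, Matrix.of_apply, Fintype.prod_sum, Finset.mul_sum,
        ← Finset.prod_mul_distrib]
    obtain ⟨X, hX, hXe⟩ := (map_fr_eq_wreath e P).ge (hle hg)
    obtain rfl : X = g := (fr e P).injective hXe
    obtain ⟨gs, π, rfl⟩ := mem_standard hX
    have hcol : mat (pureU gs * permU π) *ᵥ Pi.single a 1 =
        fun x : Fin k → Fin m => ∏ l, mat (gs l) (x l) (a (π.symm l)) := by
      funext x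
      rw [Matrix.mulVec_single_one, Matrix.col_apply, pureU_mul_permU_apply,
        ← Equiv.prod_comp π (fun l => mat (gs l) (x l) (a (π.symm l)))]
      simp
    rw [hcol]
    refine (hkk fun l j => mat (gs l) j (a (π.symm l))).trans ?_
    refine (mul_eq_zero_of_right _ (Finset.prod_eq_zero (Finset.mem_univ i₁) ?_)).symm
    rw [show M i₁ = G₁ from Function.update_of_ne hi₁ _ _]
    have h1 := ha (Pi.single (a i₁) 1)
    rwa [formG_single] at h1
  · rw [Matrix.smul_apply, smul_eq_mul]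
    refine mul_eq_zero_of_right _ (Finset.prod_eq_zero (Finset.mem_univ i₁) ?_)
    rw [show M i₁ = G₁ from Function.update_of_ne hi₁ _ _]
    have h1 := ha (Pi.single (a i₁) 1)
    rwa [formG_single] at h1

/-- A tensor power of alternating forms in characteristic two. -/
theorem quad_of_power (h2 : (2 : F) = 0) {G : Matrix ι ι F} {H : Subgroup (GL ι F)}
    (hG : IsRG (RingEquiv.refl F) (-1) G) (hfix : Fixes (RingEquiv.refl F) H G) {m k : ℕ} (hk : 2 ≤ k)
    (e : ι ≃ (Fin k → Fin m)) (P : GL ι F) (hle : H ≤ tensorWreathSubgroup m k e P) {c : F}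
    {G₁ : Matrix (Fin m) (Fin m) F} (hfr : frG (RingEquiv.refl F) e P G = c • pureM fun _ => G₁)
    (hs : G₁ᵀ = G₁) (ha : ∀ v, formG (RingEquiv.refl F) G₁ v v = 0) : QuadMember G H := by
  obtain ⟨U, h1, h3, -⟩ := power_tri hk e P hle hfr hs ha
  exact quad_of_tri h2 hG hfix e P U h1 h3

end Cfsg.Agent.Asch
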