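import Cfsg.Agent.Asch.SympTrans

/-!
The degree of a two-group of symplectic type, its normaliser, and the divisibility for self-adjoint fields.
-/

set_option autoImplicit false
set_option linter.unusedSectionVars false

namespace Cfsg.Agent.Asch

open Matrix Cfsg.Geo Cfsg.Agent.PrimeDim
open scoped MatrixGroups Kronecker

variable {F : Type*} [Field F] [Finite F] {ι : Type} [Fintype ι] [DecidableEq ι] {G : Matrix ι ι F}

/-- The data of a two-group of symplectic type in odd characteristic. -/
structure TwoData (R : Subgroup (GL ι F)) (k : ℕ) : Prop where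
  two : (2 : F) ≠ 0
  abs : ActsAbsolutelyIrreducibly (matrixSet R)
  card : Nat.card R = 2 ^ (1 + 2 * k)
  centre : Nat.card (Subgroup.center R) = 2
  comm : ∀ x ∈ R, ∀ y ∈ R, x * y = y * x ∨ x * y = scHom (-1) * (y * x)

variable {R : Subgroup (GL ι F)} {k : ℕ}

theorem TwoData.facts (h : TwoData R k) (hn : 2 ≤ Fintype.card ι) :
    (scHom (-1) : GL ι F) ≠ 1 ∧ (scHom (-1) : GL ι F) * scHom (-1) = 1 ∧ (scHom (-1) : GL ι F) ∈ R ∧
      (∀ x ∈ R, x ∈ scalars ι F → x = 1 ∨ x = scHom (-1)) ∧ (∀ x ∈ R, x * x = 1 ∨ x * x = scHom (-1)) ∧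
      ∀ x ∈ R, x ∉ scalars ι F → ∃ y ∈ R, x * y = scHom (-1) * (y * x) := by
  haveI : Nonempty ι := Fintype.card_pos_iff.1 (by omega)
  set z : GL ι F := scHom (-1) with hz
  have hzc : ∀ x : GL ι F, z * x = x * z := fun x => scalar_comm' (scHom_mem _) x
  have hz1 : z ≠ 1 := fun e => h.two (by
    have h1 : (-1 : Fˣ) = 1 := scHom_injective (e.trans (map_one _).symm)
    have h3 : (-1 : F) = 1 := congrArg Units.val h1
    linear_combination -h3)
  have hz2 : z * z = 1 := by rw [hz, ← map_mul, neg_mul_neg, one_mul, map_one]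
  have hns : ¬ R ≤ scalars ι F := irr_not_scalar (abs_iff.1 h.abs).1 hn
  have hnc : ∀ x ∈ R, x ∉ scalars ι F → ∃ y ∈ R, x * y = z * (y * x) := by
    intro x hx hxs
    by_contra hcon
    push Not at hcon
    exact hxs (comm_of_abs h.abs fun y hy => (h.comm x hx y hy).resolve_right (hcon y hy))
  obtain ⟨x₁, hx₁, hxs⟩ := SetLike.not_le_iff_exists.1 hns
  obtain ⟨y₁, hy₁, hxy⟩ := hnc x₁ hx₁ hxs
  have hzR : z ∈ R := by
    rw [show z = x₁ * y₁ * (y₁ * x₁)⁻¹ by rw [hxy, mul_inv_cancel_right]]
    exact mul_mem (mul_mem hx₁ hy₁) (inv_mem (mul_mem hy₁ hx₁))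
  have hsc : ∀ x ∈ R, x ∈ scalars ι F → x = 1 ∨ x = z := by
    intro x hx hxs
    by_contra hcon
    push Not at hcon
    have hmem : ∀ y : GL ι F, y ∈ scalars ι F → ∀ hy : y ∈ R, (⟨y, hy⟩ : R) ∈ Subgroup.center R := fun y hys hy =>
      Subgroup.mem_center_iff.2 fun w => Subtype.ext (scalar_comm' hys w.1).symm
    let f : Fin 3 → Subgroup.center R := ![1, ⟨⟨z, hzR⟩, hmem z (scHom_mem _) hzR⟩, ⟨⟨x, hx⟩, hmem x hxs hx⟩]
    have hf : Function.Injective f := by
      intro a b e
      have e' := congrArg (fun w : Subgroup.center R => ((w : R) : GL ι F)) e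
      fin_cases a <;> fin_cases b <;> simp [f] at e' <;>
        first
          | rfl
          | exact (hz1 e').elim
          | exact (hz1 e'.symm).elim
          | exact (hcon.1 e').elim
          | exact (hcon.1 e'.symm).elim
          | exact (hcon.2 e').elim
          | exact (hcon.2 e'.symm).elim
    have h1 := Nat.card_le_card_of_injective f hf
    rw [h.centre, Nat.card_eq_fintype_card, Fintype.card_fin] at h1
    omega
  have hsq : ∀ x ∈ R, x * x = 1 ∨ x * x = z := fun x hx => hsc _ (mul_mem hx hx) (comm_of_abs h.abs fun y hy => by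
    rcases h.comm x hx y hy with e | e
    · rw [mul_assoc, e, ← mul_assoc, e, mul_assoc]
    · rw [mul_assoc, e, ← mul_assoc, ← hzc, mul_assoc z, ← mul_assoc x, e, ← mul_assoc z, ← mul_assoc z, hz2, one_mul,
        mul_assoc])
  exact ⟨hz1, hz2, hzR, hsc, hsq, hnc⟩

theorem TwoData.trace_zero (h : TwoData R k) (hn : 2 ≤ Fintype.card ι) {x : GL ι F} (hx : x ∈ R)
    (hxs : x ∉ scalars ι F) : (mat x).trace = 0 := by
  obtain ⟨-, -, -, -, -, hnc⟩ := h.facts hn
  obtain ⟨y, -, hxy⟩ := hnc x hx hxs
  have h1 : mat y⁻¹ * mat x * mat y = -mat x := by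
    have h3 := congrArg (fun w : GL ι F => mat (y⁻¹ * w)) hxy
    simp only [← mul_assoc] at h3
    rw [mul_assoc (y⁻¹) (scHom (-1)), scalar_comm' (scHom_mem _) y, ← mul_assoc, inv_mul_cancel, one_mul] at h3
    simp only [mat, Units.val_mul] at h3 ⊢
    rw [h3, show ((scHom (-1) : GL ι F) : Matrix ι ι F) = ((-1 : Fˣ) : F) • 1 from mat_scHom _, Matrix.smul_mul,
      one_mul, Units.val_neg, Units.val_one, neg_one_smul]
  have h3 := congrArg Matrix.trace h1
  rw [Matrix.trace_mul_cycle, mat_mul_inv, one_mul, Matrix.trace_neg] at h3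
  exact (mul_eq_zero.1 (show (2 : F) * (mat x).trace = 0 by linear_combination h3)).resolve_left h.two

set_option maxHeartbeats 800000 in
/-- The degree is `2 ^ k`. -/
theorem TwoData.degree (h : TwoData R k) (hn : 2 ≤ Fintype.card ι) : Fintype.card ι = 2 ^ k := by
  classical
  haveI : Nonempty ι := Fintype.card_pos_iff.1 (by omega)
  haveI : Fintype R := Fintype.ofFinite R
  obtain ⟨hz1, hz2, hzR, hsc, hsq, hnc⟩ := h.facts hn
  set z : GL ι F := scHom (-1) with hz
  have hzm : mat z = -1 := by rw [hz, mat_scHom]; simp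
  have hinv : z⁻¹ = z := inv_eq_of_mul_eq_one_right hz2
  -- averages
  let S : ι → ι → Matrix ι ι F := fun a b => ∑ x : R, mat x.1 * Matrix.single a b 1 * mat x.1⁻¹
  have hS : ∀ a b, ∀ y ∈ R, S a b * mat y = mat y * S a b := by
    intro a b y hy
    simp only [S, Finset.sum_mul, Finset.mul_sum]
    symm
    refine Fintype.sum_equiv (Equiv.mulLeft (⟨y, hy⟩ : R)) _ _ fun x => ?_
    simp only [Equiv.coe_mulLeft, Subgroup.coe_mul, _root_.mul_inv_rev, mat, Units.val_mul, mul_assoc,
      Units.inv_mul, mul_one]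
  have hcR : (Nat.card R : F) ≠ 0 := by rw [h.card, Nat.cast_pow]; exact pow_ne_zero _ (by exact_mod_cast h.two)
  have htr : ∀ a b, (S a b).trace = if a = b then (Nat.card R : F) else 0 := fun a b => by
    have h1 : ∀ x : R, (mat x.1 * Matrix.single a b (1 : F) * mat x.1⁻¹).trace = if a = b then 1 else 0 := fun x => by
      rw [Matrix.trace_mul_cycle, mat_inv_mul, one_mul]
      split_ifs with e
      · subst e; simp
      · exact Matrix.trace_single_eq_of_ne a b _ e
    rw [Matrix.trace_sum, Finset.sum_congr rfl fun x _ => h1 x, Finset.sum_const, nsmul_eq_mul, Finset.card_univ,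
      ← Nat.card_eq_fintype_card, mul_ite, mul_one, mul_zero]
  choose c hc using fun a b => (abs_iff.1 h.abs).2 (S a b) (hS a b)
  have hn0 : (Fintype.card ι : F) ≠ 0 := by
    intro e
    obtain ⟨a⟩ := (inferInstance : Nonempty ι)
    have h1 := htr a a
    rw [hc, Matrix.trace_smul, Matrix.trace_one, e, smul_eq_mul, mul_zero, if_pos rfl] at h1
    exact hcR h1.symm
  -- representatives
  let Z : Subgroup R := Subgroup.zpowers (⟨z, hzR⟩ : R)
  haveI : Fintype (R ⧸ Z) := Fintype.ofFinite _
  have hZc : Nat.card Z = 2 := by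
    rw [Nat.card_zpowers, orderOf_eq_prime_iff]
    exact ⟨Subtype.ext (by rw [Subgroup.coe_pow, pow_two, hz2]; rfl), fun e => hz1 (congrArg Subtype.val e)⟩
  have hQc : Fintype.card (R ⧸ Z) = 2 ^ (2 * k) := by
    have h1 := Subgroup.card_eq_card_quotient_mul_card_subgroup Z
    rw [hZc, h.card, Nat.card_eq_fintype_card, pow_add, pow_one] at h1
    omega
  have hZmem : ∀ w : R, w ∈ Z → w.1 = 1 ∨ w.1 = z := by
    intro w hw
    obtain ⟨j, rfl⟩ := Subgroup.mem_zpowers_iff.1 hw
    have hzj : (⟨z, hzR⟩ : R) ^ j ∈ Z := Subgroup.zpow_mem _ (Subgroup.mem_zpowers _) j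
    refine hsc _ (SetLike.coe_mem _) ?_
    rw [SubgroupClass.coe_zpow]
    exact Subgroup.zpow_mem _ (scHom_mem _) j
  let p : R ⧸ Z → Matrix ι ι F := fun u => mat (Quotient.out u : R).1
  have h1 : LinearIndependent F p := by
    rw [Fintype.linearIndependent_iff]
    intro g hg u₀
    have h3 := congrArg (fun M : Matrix ι ι F => (M * mat (Quotient.out u₀ : R).1⁻¹).trace) hg
    simp only [Finset.sum_mul, Matrix.smul_mul, Matrix.trace_sum, Matrix.trace_smul, smul_eq_mul, zero_mul,
      Matrix.trace_zero] at h3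
    rw [Finset.sum_eq_single u₀] at h3
    · rw [mat_mul_inv, Matrix.trace_one] at h3
      exact (mul_eq_zero.1 h3).resolve_right hn0
    · intro u _ hu
      refine mul_eq_zero_of_right _ ?_
      rw [show p u * mat (Quotient.out u₀ : R).1⁻¹ = mat ((Quotient.out u * (Quotient.out u₀)⁻¹ : R)).1 by
        simp [p, mat]]
      refine h.trace_zero hn (SetLike.coe_mem _) fun hs => hu ?_
      have hcen : (Quotient.out u₀)⁻¹ * Quotient.out u ∈ Z := by
        have hkey : ((Quotient.out u₀)⁻¹ * Quotient.out u : R) = Quotient.out u * (Quotient.out u₀)⁻¹ := by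
          refine Subtype.ext ?_
          simp only [Subgroup.coe_mul, InvMemClass.coe_inv]
          have h5 := scalar_comm' hs ((Quotient.out u₀ : R) : GL ι F)
          simp only [Subgroup.coe_mul, InvMemClass.coe_inv] at h5
          rw [inv_mul_cancel_right] at h5
          conv_lhs => rw [h5]
          rw [inv_mul_cancel_left]
        rw [hkey]
        rcases hsc _ (SetLike.coe_mem _) hs with e | e
        · rw [show Quotient.out u * (Quotient.out u₀)⁻¹ = 1 from Subtype.ext e]; exact one_mem _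
        · rw [show Quotient.out u * (Quotient.out u₀)⁻¹ = ⟨z, hzR⟩ from Subtype.ext e]; exact Subgroup.mem_zpowers _
      rw [← Quotient.out_eq' u, ← Quotient.out_eq' u₀]
      exact (QuotientGroup.eq.2 hcen).symm
    · simp
  have h2 : LinearIndependent F (fun (ia : ι × ι) (u : R ⧸ Z) => p u ia.1 ia.2) := by
    rw [Fintype.linearIndependent_iff]
    rintro g hg ⟨j, b⟩
    have hzero : ∀ x : R, ∑ ia : ι × ι, g ia * mat x.1 ia.1 ia.2 = 0 := by
      intro x
      have h3 := congrFun hg (QuotientGroup.mk x)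
      simp only [Finset.sum_apply, Pi.smul_apply, smul_eq_mul, Pi.zero_apply] at h3
      have hx : (Quotient.out (QuotientGroup.mk x : R ⧸ Z))⁻¹ * x ∈ Z := QuotientGroup.eq.1 (Quotient.out_eq' _)
      rcases hZmem _ hx with e | e
      all_goals rw [Subgroup.coe_mul, InvMemClass.coe_inv, inv_mul_eq_iff_eq_mul] at e
      · rw [e, mul_one]; exact h3
      · rw [e, ← neg_eq_zero, ← Finset.sum_neg_distrib]
        refine Eq.trans (Finset.sum_congr rfl fun ia _ => ?_) h3
        rw [show mat ((Quotient.out (QuotientGroup.mk x : R ⧸ Z) : R).1 * z) =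
          p (QuotientGroup.mk x) * mat z from Units.val_mul _ _, hzm, mul_neg, mul_one, Matrix.neg_apply]
        ring
    -- average
    have h3 : ∑ x : R, (∑ ia : ι × ι, g ia * mat x.1 ia.1 ia.2) * mat x.1⁻¹ b j = 0 :=
      Finset.sum_eq_zero fun x _ => by rw [hzero, zero_mul]
    have hent : ∀ (i a b j : ι), ∑ x : R, mat x.1 i a * mat x.1⁻¹ b j = S a b i j := fun i a b j => by
      simp only [S, Matrix.sum_apply]
      refine Finset.sum_congr rfl fun x _ => ?_
      rw [Matrix.mul_apply, Finset.sum_eq_single b (fun l _ hl => ?_) (by simp)]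
      · simp
      · rw [Matrix.mul_single_apply_of_ne (c := (1 : F)) (hbj := hl), zero_mul]
    simp only [Finset.sum_mul, mul_assoc] at h3
    rw [Finset.sum_comm] at h3
    simp only [← Finset.mul_sum, hent, hc, Matrix.smul_apply, smul_eq_mul, Matrix.one_apply] at h3
    have hcab : ∀ a b, (Fintype.card ι : F) * c a b = if a = b then (Nat.card R : F) else 0 := fun a b => by
      rw [← htr a b, hc, Matrix.trace_smul, Matrix.trace_one, smul_eq_mul, mul_comm]
    rw [Finset.sum_eq_single (j, b)] at h3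
    · simp only [if_true, mul_one] at h3
      refine (mul_eq_zero.1 h3).resolve_right fun e => ?_
      have h4 := hcab b b
      rw [e, mul_zero, if_pos rfl] at h4
      exact hcR h4.symm
    · rintro ⟨i, a⟩ _ hne
      by_cases hij : i = j
      · subst hij
        rw [if_pos rfl, mul_one]
        refine mul_eq_zero_of_right _ ?_
        have h4 := hcab a b
        rw [if_neg (fun e => hne (by rw [e]))] at h4
        exact (mul_eq_zero.1 h4).resolve_left hn0
      · rw [if_neg hij, mul_zero, mul_zero]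
    · simp
  have e1 := h1.fintype_card_le_finrank
  have e2 := h2.fintype_card_le_finrank
  rw [Module.finrank_matrix, Module.finrank_self, mul_one, hQc] at e1
  rw [Module.finrank_fintype_fun_eq_card, Fintype.card_prod, hQc] at e2
  have e3 : Fintype.card ι ^ 2 = (2 ^ k) ^ 2 := by
    rw [pow_two, ← pow_mul, mul_comm k]
    exact le_antisymm e2 e1
  exact Nat.pow_left_injective two_ne_zero e3

/-- Transvections do not normalise such a group. -/
theorem tv_not_six (hG : IsRG (RingEquiv.refl F) (-1) G) (halt : ∀ v, formG (RingEquiv.refl F) G v v = 0)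
    {A : Subgroup (GL ι F)} (hA : HasTv G A) (h : TwoData R k) (hn : 4 ≤ Fintype.card ι)
    (hfix : Fixes (RingEquiv.refl F) R G) : ¬ A ≤ subgroupNormalizer R := by
  classical
  intro hle
  haveI : Nonempty ι := Fintype.card_pos_iff.1 (by omega)
  obtain ⟨hz1, hz2, hzR, hsc, hsq, hnc⟩ := h.facts (by omega)
  set z : GL ι F := scHom (-1) with hz
  have hzc : ∀ x : GL ι F, z * x = x * z := fun x => scalar_comm' (scHom_mem _) x
  have hdeg := h.degree (by omega)
  have hk : 2 ≤ k := by
    rcases Nat.lt_or_ge k 2 with h1 | h1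
    · exfalso
      have h3 := Nat.pow_le_pow_right (show 0 < 2 by omega) (show k ≤ 1 by omega)
      rw [pow_one] at h3
      omega
    · exact h1
  obtain ⟨x, hx, hxs, hxx⟩ : ∃ x ∈ R, x ∉ scalars ι F ∧ x * x = 1 := by
    obtain ⟨x₀, hx₀, hx₀s⟩ := SetLike.not_le_iff_exists.1 (irr_not_scalar (abs_iff.1 h.abs).1 (by omega))
    rcases hsq x₀ hx₀ with e | e
    · exact ⟨x₀, hx₀, hx₀s, e⟩
    obtain ⟨y₀, hy₀, hxy⟩ := hnc x₀ hx₀ hx₀s
    have hne : x₀ * y₀ ≠ y₀ * x₀ := fun e' => hz1 (mul_eq_right.1 (hxy.symm.trans e'))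
    have h1 := card_half z hz1 hz2 R (h.comm x₀ hx₀) hzc hy₀ hne
    set C := R ⊓ Subgroup.centralizer {x₀} with hC
    obtain ⟨y, hy, hyS⟩ : ∃ y ∈ C, y ∉ ({1, z, x₀, z * x₀} : Finset (GL ι F)) := by
      by_contra hcon
      push Not at hcon
      have h3 : Nat.card C ≤ ({1, z, x₀, z * x₀} : Finset (GL ι F)).card := by
        rw [← Nat.card_eq_finsetCard]
        exact Nat.card_le_card_of_injective (fun w : C => ⟨w.1, hcon w.1 w.2⟩)
          fun a b e => Subtype.ext (congrArg Subtype.val e :)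
      have h4 : ({1, z, x₀, z * x₀} : Finset (GL ι F)).card ≤ 4 := Finset.card_le_four
      rw [h.card] at h1
      have h5 := Nat.pow_le_pow_right (show 0 < 2 by omega) (show 5 ≤ 1 + 2 * k by omega)
      norm_num at h5
      omega
    simp only [Finset.mem_insert, Finset.mem_singleton, not_or] at hyS
    have hys : y ∉ scalars ι F := fun e' => (hsc y hy.1 e').elim hyS.1 hyS.2.1
    rcases hsq y hy.1 with e' | e'
    · exact ⟨y, hy.1, hys, e'⟩
    have hcomm : x₀ * y = y * x₀ := (Subgroup.mem_centralizer_singleton_iff.1 hy.2).symm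
    refine ⟨x₀ * y, mul_mem hx₀ hy.1, fun e'' => ?_, ?_⟩
    · have hinv : x₀⁻¹ = z * x₀ := inv_eq_of_mul_eq_one_right (by rw [hzc, ← mul_assoc, e, hz2])
      rcases hsc _ (mul_mem hx₀ hy.1) e'' with e3 | e3
      · exact hyS.2.2.2 (by rw [← hinv]; exact eq_inv_of_mul_eq_one_right e3)
      · refine hyS.2.2.1 ?_
        rw [eq_inv_mul_of_mul_eq e3, hinv, mul_assoc, ← hzc,
          ← mul_assoc, hz2, one_mul]
    · rw [mul_assoc, ← mul_assoc y, ← hcomm, mul_assoc x₀ y, ← mul_assoc, e, e', hz2]
  have hs := isSesq_formG (RingEquiv.refl F) G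
  have horth : ∀ v, formG (RingEquiv.refl F) G v (mat x *ᵥ v) = 0 := by
    intro v
    have h1 := iso_apply hfix hx v (mat x *ᵥ v)
    rw [mulVec_mul, hxx, show mat (1 : GL ι F) = 1 from rfl, Matrix.one_mulVec, hG.swap v (mat x *ᵥ v),
      RingEquiv.refl_apply] at h1
    exact (mul_eq_zero.1 (show (2 : F) * formG (RingEquiv.refl F) G v (mat x *ᵥ v) = 0 by
      linear_combination -h1)).resolve_left h.two
  obtain ⟨v, hv⟩ : ∃ v, ∀ c : F, mat x *ᵥ v ≠ c • v := by
    by_contra hcon
    push Not at hcon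
    refine hxs ?_
    have hfx : ∀ v, mat x *ᵥ (mat x *ᵥ v) = v := fun v => by
      rw [mulVec_mul, hxx, show mat (1 : GL ι F) = 1 from rfl, Matrix.one_mulVec]
    have hpm : ∀ v, mat x *ᵥ v = v ∨ mat x *ᵥ v = -v := fun v => by
      by_cases hv : v = 0
      · left; rw [hv, Matrix.mulVec_zero]
      obtain ⟨c, hc⟩ := hcon v
      have h1 := hfx v
      rw [hc, Matrix.mulVec_smul, hc, smul_smul] at h1
      nth_rewrite 2 [← one_smul F v] at h1
      rcases mul_self_eq_one_iff.1 (smul_left_injective F hv h1) with rfl | rfl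
      · exact Or.inl (by rw [hc, one_smul])
      · exact Or.inr (by rw [hc, neg_one_smul])
    by_cases hall : ∀ v, mat x *ᵥ v = v
    · exact mem_scalars_of_smul (c := (1 : F)) (by
        rw [one_smul]
        exact Matrix.mulVec_injective (funext fun v => (hall v).trans (Matrix.one_mulVec v).symm))
    · push Not at hall
      obtain ⟨w, hw⟩ := hall
      have hw' := (hpm w).resolve_left hw
      refine mem_scalars_of_smul (c := (-1 : F)) (Matrix.mulVec_injective (funext fun v => ?_))
      rw [neg_one_smul, Matrix.neg_mulVec, Matrix.one_mulVec]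
      rcases hpm v with e | e
      · rcases hpm (v + w) with e' | e' <;> rw [Matrix.mulVec_add, e, hw'] at e'
        · exfalso
          have h3 : (2 : F) • w = 0 := by rw [two_smul]; linear_combination (norm := abel) -e'
          rw [smul_eq_zero] at h3
          exact hw (by rw [h3.resolve_left h.two, Matrix.mulVec_zero])
        · rw [e]
          have h3 : (2 : F) • v = 0 := by rw [two_smul]; linear_combination (norm := abel) e'
          rw [smul_eq_zero] at h3
          rw [h3.resolve_left h.two, neg_zero]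
      · exact e
  obtain ⟨t, ht, htm⟩ := hA v 1
  set g := t * (x * t⁻¹ * x⁻¹) with hg
  have hgR : g ∈ R := by
    rw [hg, show t * (x * t⁻¹ * x⁻¹) = t * x * t⁻¹ * x⁻¹ by group]
    exact mul_mem ((Subgroup.mem_normalizer_iff.1 (hle ht) x).1 hx) (inv_mem hx)
  set w := mat x *ᵥ v with hw
  have hvv := halt v
  have hww := halt w
  have hvw : formG (RingEquiv.refl F) G v w = 0 := horth v
  have hwv : formG (RingEquiv.refl F) G w v = 0 := hG.zero_swap hvw
  have hti : ∀ u, mat t⁻¹ *ᵥ u = u - (formG (RingEquiv.refl F) G u v) • v := fun u => by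
    refine mulVec_injective t ?_
    show mat t *ᵥ _ = mat t *ᵥ _
    rw [mulVec_inv_cancel, Matrix.mulVec_sub, Matrix.mulVec_smul, htm, htm, one_mul, one_mul, hvv, zero_smul, add_zero]
    abel
  have hgm : ∀ u, mat g *ᵥ u =
      u + formG (RingEquiv.refl F) G u v • v - formG (RingEquiv.refl F) G u w • w := by
    intro u
    have h1 : formG (RingEquiv.refl F) G (mat x⁻¹ *ᵥ u) v = formG (RingEquiv.refl F) G u w := by
      rw [← iso_apply hfix hx, mulVec_inv_cancel]
    rw [hg, ← mulVec_mul, ← mulVec_mul, ← mulVec_mul, hti, Matrix.mulVec_sub, mulVec_inv_cancel, Matrix.mulVec_smul,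
      ← hw, h1, htm, one_mul, sub_eq_add_neg u, ← neg_smul, hs.add_left, hs.smul_left, hwv, mul_zero, add_zero,
      neg_smul]
    abel
  have hg4 : g * g * (g * g) = 1 := by
    rcases hsq g hgR with e | e <;> rw [e]
    · exact one_mul 1
    · exact hz2
  obtain ⟨u, hu⟩ := exists_pair_ne hG (show v ≠ 0 from fun e => hv 0 (by rw [hw, e, Matrix.mulVec_zero, smul_zero]))
  have h4 := congrArg (fun y : GL ι F => mat y *ᵥ u) hg4
  simp only [← mulVec_mul, hgm, show mat (1 : GL ι F) = 1 from rfl, Matrix.one_mulVec, sub_eq_add_neg,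
    ← neg_smul, hs.add_left, hs.smul_left, hvv, hww, hvw, hwv, mul_zero, add_zero] at h4
  set a := formG (RingEquiv.refl F) G u v
  set b := formG (RingEquiv.refl F) G u w
  have h5 : ((4 : F) * a) • v = ((4 : F) * b) • w := by
    linear_combination (norm := module) h4
  have h40 : (4 : F) * b ≠ 0 := by
    intro e
    rw [e, zero_smul, smul_eq_zero, mul_eq_zero] at h5
    rcases h5 with (e4 | e4) | e4
    · exact h.two (mul_self_eq_zero.1 (by rw [← e4]; norm_num))
    · exact hu e4
    · exact hv 0 (by rw [hw, e4, Matrix.mulVec_zero, smul_zero])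
  refine hv ((4 * b)⁻¹ * (4 * a)) ?_
  rw [mul_smul, h5, smul_smul, inv_mul_cancel₀ h40, one_smul]

end Cfsg.Agent.Asch
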