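import Cfsg.Agent.Asch.FormCases
import Cfsg.Agent.AutPSL.Twisted

/-!
The normal two-group of symplectic type inside a symplectic group: order, minus type, and descent of the field.
-/

set_option autoImplicit false
set_option linter.unusedSectionVars false

namespace Cfsg.Agent.Asch

open Matrix Cfsg.Geo Cfsg.Agent.PrimeDim
open scoped MatrixGroups

section Generic

variable {G : Type*} [Group G] [Finite G]

/-- Half of a group centralises an element with commutators in a group of order two. -/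
theorem card_half (z : G) (hz1 : z ≠ 1) (hz2 : z * z = 1) (P : Subgroup G) {a b : G}
    (hc : ∀ x ∈ P, a * x = x * a ∨ a * x = z * (x * a)) (hzc : ∀ x, z * x = x * z) (hb : b ∈ P)
    (hab : a * b ≠ b * a) :
    Nat.card P = 2 * Nat.card (P ⊓ Subgroup.centralizer {a} : Subgroup G) := by
  have hab' : a * b = z * (b * a) := (hc b hb).resolve_left hab
  set C := P ⊓ Subgroup.centralizer {a} with hC
  have hmem : ∀ x ∈ P, x ∈ C ↔ a * x = x * a := fun x hx =>
    ⟨fun h => Subgroup.mem_centralizer_singleton_iff.1 h.2 |>.symm,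
      fun h => ⟨hx, Subgroup.mem_centralizer_singleton_iff.2 h.symm⟩⟩
  have hidx : (C.subgroupOf P).index = 2 := by
    refine Subgroup.index_eq_two_iff.2 ⟨⟨b, hb⟩, fun x => ?_⟩
    simp only [Subgroup.mem_subgroupOf, Subgroup.coe_mul, hmem _ (mul_mem x.2 hb), hmem _ x.2]
    rcases hc x.1 x.2 with h | h
    · refine Or.inr ⟨h, fun h' => ?_⟩
      rw [← mul_assoc, h, mul_assoc, hab', ← mul_assoc, ← hzc, mul_assoc, ← mul_assoc x.1] at h'
      exact hz1 (mul_eq_right.1 h')
    · refine Or.inl ⟨?_, fun h' => ?_⟩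
      · rw [← mul_assoc, h, mul_assoc z, mul_assoc x.1, hab', ← mul_assoc x.1 z, ← hzc, ← mul_assoc z, ← mul_assoc z,
          hz2, one_mul, mul_assoc]
      · rw [h'] at h
        exact hz1 (mul_eq_right.1 h.symm)
  have h1 := Subgroup.card_mul_index (C.subgroupOf P)
  rw [hidx, Nat.card_congr (Subgroup.subgroupOfEquivOfLe (inf_le_left : C ≤ P)).toEquiv] at h1
  rw [← h1, mul_comm]

/-- A non-degenerate commutator pairing gives an order an odd power of two. -/
theorem card_two_pow (z : G) (hz1 : z ≠ 1) (hz2 : z * z = 1) (hzc : ∀ x, z * x = x * z) (P : Subgroup G)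
    (hzP : z ∈ P) (hcomm : ∀ x ∈ P, ∀ y ∈ P, x * y = y * x ∨ x * y = z * (y * x))
    (hnd : ∀ y ∈ P, (∀ x ∈ P, x * y = y * x) → y = 1 ∨ y = z) : ∃ k, Nat.card P = 2 ^ (1 + 2 * k) := by
  induction hn : Nat.card P using Nat.strong_induction_on generalizing P with
  | _ n ih =>
  subst hn
  by_cases hab : ∀ a ∈ P, ∀ b ∈ P, a * b = b * a
  · refine ⟨0, ?_⟩
    have h1 : (P : Set G) = {1, z} := Set.ext fun y => by
      refine ⟨fun hy => hnd y hy fun x hx => hab x hx y hy, ?_⟩
      rintro (rfl | rfl)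
      · exact one_mem P
      · exact hzP
    rw [show Nat.card P = Nat.card (P : Set G) from rfl, h1, Nat.card_coe_set_eq, Set.ncard_pair hz1.symm]
    norm_num
  push Not at hab
  obtain ⟨a, ha, b, hb, hne⟩ := hab
  set P₁ := P ⊓ Subgroup.centralizer {a} with hP₁
  have ha₁ : a ∈ P₁ := ⟨ha, Subgroup.mem_centralizer_singleton_iff.2 rfl⟩
  set C := P₁ ⊓ Subgroup.centralizer {b} with hC
  have h1 := card_half z hz1 hz2 P (hcomm a ha) hzc hb hne
  have h2 := card_half z hz1 hz2 P₁ (fun x hx => hcomm b hb x hx.1) hzc ha₁ hne.symm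
  have hlt : Nat.card C < Nat.card P := by
    have : 0 < Nat.card C := Nat.card_pos
    rw [h1, ← hP₁, h2, ← hC]
    omega

  have hzC : z ∈ C := ⟨⟨hzP, Subgroup.mem_centralizer_singleton_iff.2 (hzc a)⟩,
    Subgroup.mem_centralizer_singleton_iff.2 (hzc b)⟩
  have key : ∀ y ∈ C, (∀ x ∈ C, x * y = y * x) → ∀ x ∈ P, x * y = y * x := by
    intro y hy hyC
    have hya : a * y = y * a := (Subgroup.mem_centralizer_singleton_iff.1 hy.1.2).symm
    have hyb : b * y = y * b := (Subgroup.mem_centralizer_singleton_iff.1 hy.2).symm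
    -- every element is an element of the double centraliser up to the two chosen ones
    have step : ∀ (Q : Subgroup G) (c d : G), d ∈ Q → (∀ x ∈ Q, c * x = x * c ∨ c * x = z * (x * c)) → c * d ≠ d * c →
        d * y = y * d → (∀ x ∈ Q ⊓ Subgroup.centralizer {c}, x * y = y * x) → ∀ x ∈ Q, x * y = y * x := by
      intro Q c d hd hQc hcd hdy hall x hx
      rcases hQc x hx with h | h
      · exact hall x ⟨hx, Subgroup.mem_centralizer_singleton_iff.2 h.symm⟩
      · have hcd' : c * d = z * (d * c) := (hQc d hd).resolve_left hcd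
        have hxd : x * d ∈ Q ⊓ Subgroup.centralizer {c} := ⟨mul_mem hx hd, Subgroup.mem_centralizer_singleton_iff.2 (by
          rw [← mul_assoc c, h, mul_assoc z, mul_assoc x c, hcd', ← mul_assoc x z, ← hzc, ← mul_assoc z, ← mul_assoc z,
            hz2, one_mul, mul_assoc])⟩
        have h3 := hall _ hxd
        rw [mul_assoc, hdy, ← mul_assoc, ← mul_assoc] at h3
        exact mul_right_cancel h3
    exact step P a b hb (hcomm a ha) hne hyb
      (step P₁ b a ha₁ (fun x hx => hcomm b hb x hx.1) hne.symm hya hyC)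
  obtain ⟨k, hk⟩ := ih _ hlt C hzC (fun x hx y hy => hcomm x hx.1.1 y hy.1.1)
    (fun y hy hyC => hnd y hy.1.1 (key y hy hyC)) rfl
  exact ⟨k + 1, by rw [h1, ← hP₁, h2, ← hC, hk]; ring⟩

end Generic

variable {F : Type*} [Field F] [Finite F] {ι : Type} [Fintype ι] [DecidableEq ι]

set_option maxHeartbeats 800000 in
/-- A group whose twisted traces correlate is realisable over a proper subfield. -/
theorem realisable_of_trace [Nonempty ι] {τ : F ≃+* F} (hτ : τ ≠ RingEquiv.refl F) {N : Subgroup (GL ι F)} [Fintype N]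
    (hN : ActsAbsolutelyIrreducibly (matrixSet N))
    (hsum : ∑ x : N, τ (mat x.1).trace * (mat x.1⁻¹).trace ≠ 0) :
    ∃ F₀ : Subfield F, F₀ ≠ ⊤ ∧ RealisableOver F₀ (matrixSet N) := by
  classical
  let S : ι → ι → Matrix ι ι F := fun a b => ∑ x : N, (mat x.1).map τ * Matrix.single a b 1 * mat x.1⁻¹
  have hS : ∀ a b, ∀ y ∈ N, S a b * mat y = (mat y).map τ * S a b := by
    intro a b y hy
    simp only [S, Finset.sum_mul, Finset.mul_sum]
    symm
    refine Fintype.sum_equiv (Equiv.mulLeft (⟨y, hy⟩ : N)) _ _ fun x => ?_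
    simp only [Equiv.coe_mulLeft, Subgroup.coe_mul, _root_.mul_inv_rev, mat, Units.val_mul, Matrix.map_mul, mul_assoc,
      Units.inv_mul, mul_one]
  obtain ⟨a, b, hab⟩ : ∃ a b, S a b ≠ 0 := by
    by_contra hcon
    push Not at hcon
    refine hsum ?_
    have hent : ∀ a b, ∑ x : N, τ (mat x.1 a a) * mat x.1⁻¹ b b = 0 := fun a b => by
      have h1 := congrFun (congrFun (hcon a b) a) b
      simp only [S, Matrix.sum_apply, Matrix.zero_apply] at h1
      refine Eq.trans (Finset.sum_congr rfl fun x _ => ?_) h1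
      rw [Matrix.mul_apply, Finset.sum_eq_single b (fun j _ hj => ?_) (by simp)]
      · simp [Matrix.map_apply]
      · rw [Matrix.mul_single_apply_of_ne (c := (1 : F)) (hbj := hj), zero_mul]
    simp only [Matrix.trace, Matrix.diag_apply, map_sum, Finset.sum_mul_sum]
    rw [Finset.sum_comm]
    refine Finset.sum_eq_zero fun a _ => ?_
    rw [Finset.sum_comm]
    exact Finset.sum_eq_zero fun b _ => hent a b
  set A := S a b with hA
  have hdet : A.det ≠ 0 := by
    intro e
    obtain ⟨v, hv, hv0⟩ := Matrix.exists_mulVec_eq_zero_iff.2 e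
    let W : Submodule F (ι → F) := LinearMap.ker A.mulVecLin
    rcases (abs_iff.1 hN).1 W fun g hg w hw => by
      rw [LinearMap.mem_ker, Matrix.mulVecLin_apply] at hw ⊢
      rw [Matrix.mulVec_mulVec, hS a b g hg, ← Matrix.mulVec_mulVec, hw, Matrix.mulVec_zero] with h | h
    · exact hv ((Submodule.mem_bot F).1 (h ▸ (LinearMap.mem_ker.2 hv0 : v ∈ W)))
    · exact hab (Matrix.mulVec_injective (funext fun w => by
        rw [Matrix.zero_mulVec]; exact LinearMap.mem_ker.1 (h ▸ Submodule.mem_top : w ∈ W)))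
  obtain ⟨U, hU⟩ := isUnit_of_det hdet
  let e : ι ≃ Fin (Fintype.card ι) := Fintype.equivFin ι
  let T := glReindex (F := F) e
  set g := T (U⁻¹ : GL ι F) with hg
  have hTτ : ∀ x : GL ι F, AutPSL.fieldGL τ (T x) = T (Matrix.GeneralLinearGroup.map (τ : F →+* F) x) :=
    fun x => Units.ext (Matrix.ext fun _ _ => rfl)
  have hrel : ∀ x ∈ N, T x * g = g * AutPSL.fieldGL τ (T x) := by
    intro x hx
    rw [hg, hTτ, ← map_mul, ← map_mul]
    congr 1
    rw [eq_inv_mul_iff_mul_eq, ← mul_assoc, mul_inv_eq_iff_eq_mul]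
    refine Units.ext ?_
    show (U : Matrix ι ι F) * mat x = (mat x).map τ * (U : Matrix ι ι F)
    rw [hU]
    exact hS a b x hx
  haveI : Finite (F ≃+* F) := Finite.of_injective (fun σ : F ≃+* F => (σ : F → F)) DFunLike.coe_injective
  set r := orderOf τ with hr
  have htw : ∀ k, ∀ x ∈ N, T x * AutPSL.twN τ g k = AutPSL.twN τ g k * AutPSL.fieldGL (τ ^ k) (T x) := by
    intro k
    induction k with
    | zero =>
      intro x _
      show T x * 1 = 1 * _
      rw [mul_one, one_mul, pow_zero]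
      exact Units.ext (Matrix.ext fun _ _ => rfl)
    | succ k ih =>
      intro x hx
      show T x * (g * _) = g * _ * _
      rw [← mul_assoc, hrel x hx, mul_assoc, ← map_mul, ih x hx, map_mul, AutPSL.fieldGL_fieldGL, ← pow_succ',
        mul_assoc]
  have hcen : AutPSL.twN τ g r ∈ Subgroup.center (GL (Fin (Fintype.card ι)) F) := by
    obtain ⟨y, hy⟩ := T.surjective (AutPSL.twN τ g r)
    have hys : y ∈ scalars ι F := comm_of_abs hN fun x hx => by
      have h1 := htw r x hx
      rw [hr, pow_orderOf_eq_one, show AutPSL.fieldGL (1 : F ≃+* F) (T x) = T x from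
        Units.ext (Matrix.ext fun _ _ => rfl), ← hr, ← hy, ← map_mul, ← map_mul] at h1
      exact (T.injective h1).symm
    rw [← hy, Subgroup.mem_center_iff]
    intro w
    obtain ⟨w, rfl⟩ := T.surjective w
    rw [← map_mul, ← map_mul, scalar_comm' hys]
  obtain ⟨c, h, hh⟩ := AutPSL.exists_coboundary Fintype.card_pos hr.symm g hcen
  let F₀ : Subfield F := RingHom.eqLocusField (τ : F →+* F) (RingHom.id F)
  refine ⟨F₀, fun e0 => hτ (RingEquiv.ext fun x => (e0 ▸ Subfield.mem_top x : x ∈ F₀)),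
    realisable_mat.2 ⟨(T.symm h)⁻¹, fun x hx i j => ?_⟩⟩
  rw [inv_inv]
  have h1 := hrel x hx
  rw [hh] at h1
  set Z := Matrix.GeneralLinearGroup.scalar (Fin (Fintype.card ι)) c
  have hZ : ∀ w, w * Z = Z * w := fun w => Subgroup.mem_center_iff.1
    (by rw [Matrix.GeneralLinearGroup.center_eq_range_scalar]; exact ⟨c, rfl⟩) w
  rw [← mul_assoc (T x), hZ, mul_assoc Z, mul_assoc Z, mul_left_cancel_iff] at h1
  have h2 : h⁻¹ * T x * h = AutPSL.fieldGL τ (h⁻¹ * T x * h) := by
    rw [map_mul, map_mul, map_inv]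
    calc h⁻¹ * T x * h = h⁻¹ * (T x * (h * (AutPSL.fieldGL τ h)⁻¹)) * AutPSL.fieldGL τ h := by group
      _ = h⁻¹ * (h * (AutPSL.fieldGL τ h)⁻¹ * AutPSL.fieldGL τ (T x)) * AutPSL.fieldGL τ h := by rw [h1]
      _ = _ := by group
  have h3 := congrFun (congrFun (congrArg (fun w : GL (Fin (Fintype.card ι)) F => mat w) h2) (e i)) (e j)
  have h4 : h⁻¹ * T x * h = T ((T.symm h)⁻¹ * x * T.symm h) := by
    rw [map_mul, map_mul, map_inv, MulEquiv.apply_symm_apply]
  rw [h4, hTτ] at h3
  have h5 : ∀ (w : GL ι F), mat (T w) (e i) (e j) = mat w i j := fun w => by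
    show mat w (e.symm (e i)) (e.symm (e j)) = _
    rw [e.symm_apply_apply, e.symm_apply_apply]
  simp only [h5] at h3
  exact h3.symm

set_option maxHeartbeats 800000 in
/-- The two-group of symplectic type. -/
theorem symp_type_two [Nonempty ι] {G : Matrix ι ι F} {H N : Subgroup (GL ι F)}
    (hG : IsRG (RingEquiv.refl F) (-1) G) (halt : ∀ v, formG (RingEquiv.refl F) G v v = 0)
    (hfix : Fixes (RingEquiv.refl F) H G) (hgood : Good H) (hle : N ≤ H) (hn : Normalised H N)
    (hns : ¬ N ≤ scalars ι F) (hcomm : ∀ x ∈ N, ∀ y ∈ N, x * y * x⁻¹ * y⁻¹ ∈ scalars ι F) :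
    (2 : F) ≠ 0 ∧ ∃ (R : Subgroup (GL ι F)) (k : ℕ), R ≤ H ∧ Normalised H R ∧ IsSymplecticTypeGroup 2 R ∧
      ActsAbsolutelyIrreducibly (matrixSet R) ∧ Nat.card R = 2 ^ (1 + 2 * k) ∧ Nat.card (Subgroup.center R) = 2 ∧
      IsOfMinusType k R ∧ (∀ x ∈ R, ∀ y ∈ R, x * y = y * x ∨ x * y = scHom (-1) * (y * x)) ∧
      (¬ (Nat.card F).Prime → ∃ F₀ : Subfield F, F₀ ≠ ⊤ ∧ RealisableOver F₀ (matrixSet R)) := by
  classical
  obtain ⟨r, R₀, hR, hdec⟩ := exists_symp_sup hgood hle hn hns hcomm
  have hscal : ∀ a ∈ H, ∀ c : Fˣ, (scHom c : GL ι F) = a → (c : F) * c = 1 := fun a ha c hc => by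
    have h2 := hfix a ha
    rw [← hc, mat_scHom, act_sc, act, map_refl', Matrix.transpose_one, one_mul, mul_one, RingEquiv.refl_apply] at h2
    exact smul_mat_cancel (ne_zero_of_det hG.det) (h2.trans (one_smul F G).symm)
  have hcm : ∀ x ∈ R₀, ∀ y ∈ R₀, ∃ c : Fˣ, (c : F) * c = 1 ∧ x * y * x⁻¹ * y⁻¹ = scHom c := by
    intro x hx y hy
    obtain ⟨c, hc⟩ := exists_scHom (hR.comm x hx y hy)
    obtain ⟨a, ha, z, hz, rfl⟩ := hdec x hx
    obtain ⟨b, hb, w, hw, rfl⟩ := hdec y hy
    have e : a * z * (b * w) * (a * z)⁻¹ * (b * w)⁻¹ = a * b * a⁻¹ * b⁻¹ := by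
      calc a * z * (b * w) * (a * z)⁻¹ * (b * w)⁻¹ = a * (z * (b * w)) * z⁻¹ * a⁻¹ * w⁻¹ * b⁻¹ := by group
        _ = a * b * (w * a⁻¹) * w⁻¹ * b⁻¹ := by rw [scalar_comm' hz (b * w)]; group
        _ = _ := by rw [scalar_comm' hw a⁻¹]; group
    refine ⟨c, hscal _ ?_ c (hc.trans e), hc.symm⟩
    exact H.mul_mem (H.mul_mem (H.mul_mem ha hb) (H.inv_mem ha)) (H.inv_mem hb)
  have hsign : ∀ c : Fˣ, (c : F) * c = 1 → c = 1 ∨ c = -1 := fun c hc => by
    rcases mul_self_eq_one_iff.1 hc with h | h
    · exact Or.inl (Units.ext h)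
    · exact Or.inr (Units.ext h)
  obtain ⟨x₀, hx₀, y₀, hy₀, hne₀⟩ : ∃ x ∈ R₀, ∃ y ∈ R₀, x * y ≠ y * x := by
    by_contra hcon
    push Not at hcon
    exact hR.noncomm hcon
  set z : GL ι F := scHom (-1) with hz
  have hcm' : ∀ x ∈ R₀, ∀ y ∈ R₀, x * y = y * x ∨ x * y = z * (y * x) := fun x hx y hy => by
    obtain ⟨c, hc, he⟩ := hcm x hx y hy
    rw [mul_inv_eq_iff_eq_mul, mul_inv_eq_iff_eq_mul, mul_assoc] at he
    rcases hsign c hc with rfl | rfl
    · exact Or.inl (by rw [he, map_one, one_mul])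
    · exact Or.inr he
  have hz1 : z ≠ 1 := fun e => hne₀ ((hcm' x₀ hx₀ y₀ hy₀).elim id fun h => by rw [h, e, one_mul])
  have h2 : (2 : F) ≠ 0 := fun h => hz1 (by
    rw [hz, show (-1 : Fˣ) = 1 from Units.ext (show (-1 : F) = 1 by linear_combination -h), map_one])
  have hzc : ∀ x : GL ι F, z * x = x * z := fun x => scalar_comm' (scHom_mem _) x
  have hz2 : z * z = 1 := by rw [hz, ← map_mul, neg_mul_neg, one_mul, map_one]
  have hr2 : r = 2 := by
    by_contra hr2
    have hgcd : Nat.gcd 2 r = 1 := (Nat.coprime_primes Nat.prime_two hR.symp.prime).2 (Ne.symm hr2)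
    obtain ⟨m, hm⟩ := hR.symp.prime.eq_two_or_odd'.resolve_left hr2
    have h1 : y₀ * x₀ * y₀⁻¹ = z * x₀ := by
      rw [mul_inv_eq_iff_eq_mul, mul_assoc, (hcm' x₀ hx₀ y₀ hy₀).resolve_left hne₀, ← mul_assoc z, hz2, one_mul]
    have h3 := congrArg (· ^ r) h1
    have hpx := hR.pow x₀ hx₀
    rw [hgcd, mul_one] at hpx
    simp only [conj_pow, (show Commute z x₀ from hzc x₀).mul_pow, hpx, mul_one, mul_inv_cancel] at h3
    rw [hm, pow_succ, pow_mul, pow_two, hz2, one_pow, one_mul] at h3
    exact hz1 h3.symm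
  subst hr2
  have hsq : ∀ x ∈ R₀, x * x ∈ scalars ι F := fun x hx => (hR.scalar_iff (mul_mem hx hx)).2 fun y hy => by
    rcases hcm' x hx y hy with h | h
    · rw [mul_assoc, h, ← mul_assoc, h, mul_assoc]
    · rw [mul_assoc, h, ← mul_assoc, ← hzc, mul_assoc z, ← mul_assoc x, h, ← mul_assoc z, ← mul_assoc z, hz2, one_mul,
        mul_assoc]
  set R := R₀ ⊓ H with hRdef
  have hRdec : ∀ x ∈ R₀, ∃ a ∈ R, ∃ w ∈ scalars ι F, x = a * w := by
    intro x hx
    obtain ⟨a, ha, w, hw, rfl⟩ := hdec x hx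
    obtain ⟨c, rfl⟩ := exists_scHom hw
    refine ⟨a, ⟨?_, ha⟩, _, hw, rfl⟩
    have hcomw : Commute a (scHom c) := (scalar_comm' hw a).symm
    obtain ⟨s, hs⟩ := exists_scHom (show a * a ∈ scalars ι F by
      have h1 := hsq _ hx
      rw [show a * scHom c * (a * scHom c) = a * a * (scHom c * scHom c) by
        rw [mul_assoc, ← mul_assoc (scHom c) a, ← hcomw.eq, mul_assoc a (scHom c), ← mul_assoc, ← mul_assoc]] at h1
      have h4 := mul_mem h1 (inv_mem (mul_mem hw hw))
      rwa [mul_inv_cancel_right] at h4)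
    have hs4 : s * s = 1 := Units.ext (hscal _ (H.mul_mem ha ha) s hs)
    have hc4 : c ^ (2 * Nat.gcd 2 2) = 1 := scHom_injective (ι := ι) (by
      have h1 := hR.pow _ hx
      rw [hcomw.mul_pow, show a ^ (2 * Nat.gcd 2 2) = (a * a) * (a * a) by
        rw [show 2 * Nat.gcd 2 2 = 2 + 2 from rfl, pow_add, pow_two], ← hs, ← map_mul, hs4, map_one, one_mul] at h1
      rw [map_pow, map_one, h1])
    simpa using mul_mem hx (inv_mem (hR.scalar_mem c hc4))
  have hRabs : ActsAbsolutelyIrreducibly (matrixSet R) := abs_of_scalar_mul hRdec hR.abs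
  have hRn : Normalised H R := fun h hh x hx =>
    ⟨hR.normalised h (Subgroup.mem_sup_left hh) x hx.1, H.mul_mem (H.mul_mem hh hx.2) (H.inv_mem hh)⟩
  have hRns : ¬ R ≤ scalars ι F := fun h => hR.nonscalar fun x hx => by
    obtain ⟨a, ha, w, hw, rfl⟩ := hRdec x hx
    exact mul_mem (h ha) hw
  obtain ⟨x₁, hx₁, y₁, hy₁, hne⟩ : ∃ x ∈ R, ∃ y ∈ R, x * y ≠ y * x := by
    by_contra hcon
    push Not at hcon
    exact not_comm_of_abs hRabs hRns hcon
  have hzR : z ∈ R := by
    have h1 := (hcm' x₁ hx₁.1 y₁ hy₁.1).resolve_left hne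
    rw [show z = x₁ * y₁ * x₁⁻¹ * y₁⁻¹ by rw [h1]; group]
    exact mul_mem (mul_mem (mul_mem hx₁ hy₁) (inv_mem hx₁)) (inv_mem hy₁)
  have hscR : ∀ y ∈ R, y ∈ scalars ι F → y = 1 ∨ y = z := fun y hy hys => by
    obtain ⟨c, rfl⟩ := exists_scHom hys
    rcases hsign c (hscal _ hy.2 c rfl) with rfl | rfl
    · exact Or.inl (map_one _)
    · exact Or.inr rfl
  have hndR : ∀ y ∈ R, (∀ x ∈ R, x * y = y * x) → y = 1 ∨ y = z := fun y hy hyc =>
    hscR y hy (comm_of_abs hRabs fun x hx => (hyc x hx).symm)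
  haveI : Finite (GL ι F) := inferInstance
  obtain ⟨k, hk⟩ := card_two_pow z hz1 hz2 hzc R hzR (fun x hx y hy => hcm' x hx.1 y hy.1) hndR
  have hcen : Nat.card (Subgroup.center R) = 2 := by
    have h1 : ((Subgroup.center R : Subgroup R) : Set R) = {1, ⟨z, hzR⟩} := Set.ext fun y => by
      refine ⟨fun hy => ?_, ?_⟩
      · rcases hndR y.1 y.2 fun x hx => congrArg Subtype.val (Subgroup.mem_center_iff.1 hy ⟨x, hx⟩) with h | h
        · exact Or.inl (Subtype.ext h)
        · exact Or.inr (Subtype.ext h)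
      · rintro (rfl | rfl)
        · exact one_mem _
        · exact Subgroup.mem_center_iff.2 fun x => Subtype.ext (hzc x.1).symm
    rw [show Nat.card (Subgroup.center R) = Nat.card ((Subgroup.center R : Subgroup R) : Set R) from rfl, h1,
      Nat.card_coe_set_eq, Set.ncard_pair fun e => hz1 (congrArg Subtype.val e).symm]
  have hp : IsPGroup 2 R := hR.symp.pGroup.to_le inf_le_left
  have hexp : Monoid.exponent R = 2 * Nat.gcd 2 2 := by
    have hdvd : Monoid.exponent R ∣ 2 ^ 2 :=
      Monoid.exponent_dvd_of_forall_pow_eq_one fun x => Subtype.ext (hR.pow _ x.2.1)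
    obtain ⟨l, hl2, hl⟩ := (Nat.dvd_prime_pow Nat.prime_two).1 hdvd
    rcases (show l ≤ 1 ∨ l = 2 by omega) with hl1 | rfl
    · exfalso
      have hinv : ∀ x : R, x * x = 1 := fun x => by
        rw [← pow_two]
        exact orderOf_dvd_iff_pow_eq_one.1 ((Monoid.order_dvd_exponent x).trans (hl ▸ Nat.pow_dvd_pow 2 hl1))
      have hi : ∀ x : R, x⁻¹ = x := fun x => inv_eq_of_mul_eq_one_right (hinv x)
      refine hne (congrArg Subtype.val (show (⟨x₁, hx₁⟩ : R) * ⟨y₁, hy₁⟩ = ⟨y₁, hy₁⟩ * ⟨x₁, hx₁⟩ from ?_))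
      rw [← hi (⟨x₁, hx₁⟩ * ⟨y₁, hy₁⟩), _root_.mul_inv_rev, hi, hi]
    · exact hl
  refine ⟨h2, R, k, inf_le_right, hRn, ⟨Nat.prime_two, hp, fun A hA hAc => ?_, hexp⟩, hRabs, hk, hcen, ?_,
    fun x hx y hy => hcm' x hx.1 y hy.1, fun hnp => ?_⟩
  · let A' := A.map R.subtype
    have hA'n : Normalised H A' := by
      rintro h hh _ ⟨⟨x, hxR⟩, hxA, rfl⟩
      let φ : R ≃* R :=
        { toFun := fun y => ⟨h * y.1 * h⁻¹, hRn h hh y.1 y.2⟩
          invFun := fun y => ⟨h⁻¹ * y.1 * h, hRn.conj' hh y.2⟩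
          left_inv := fun y => Subtype.ext (by group)
          right_inv := fun y => Subtype.ext (by group)
          map_mul' := fun y y' => Subtype.ext (by simp [mul_assoc]) }
      refine ⟨φ ⟨x, hxR⟩, ?_, rfl⟩
      rw [← hA.fixed φ] at hxA
      exact hxA
    have hA'le : A' ≤ scalars ι F := by
      by_contra hcon
      refine not_comm_of_abs (hgood A' ((Subgroup.map_subtype_le A).trans inf_le_right) hA'n hcon) hcon ?_
      rintro _ ⟨x, hx, rfl⟩ _ ⟨y, hy, rfl⟩
      exact congrArg (fun w : A => (w.1 : GL ι F)) (hAc.is_comm.comm ⟨x, hx⟩ ⟨y, hy⟩)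
    haveI : IsCyclic (scalars ι F) :=
      isCyclic_of_surjective (scHom : Fˣ →* GL ι F).rangeRestrict (MonoidHom.rangeRestrict_surjective _)
    haveI : IsCyclic A' := Subgroup.isCyclic_of_le hA'le
    exact isCyclic_of_surjective (A.equivMapOfInjective _ R.subtype_injective).symm.toMonoidHom
      (A.equivMapOfInjective _ R.subtype_injective).symm.surjective
  · -- minus type
    intro A hAc hAi
    by_contra hcard
    push Not at hcard
    let C : Subgroup R := Subgroup.centralizer (A : Set R)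
    have hcommA : ∀ a ∈ A, ∀ b ∈ A, a * b = b * a := fun a ha b hb =>
      congrArg Subtype.val (hAc.is_comm.comm ⟨a, ha⟩ ⟨b, hb⟩)
    have hAC : A ≤ C := fun a ha => Subgroup.mem_centralizer_iff.2 fun b hb => hcommA b hb a ha
    haveI : Fintype A := Fintype.ofFinite A
    haveI : Fintype (R ⧸ C) := Fintype.ofFinite _
    let zR : R := ⟨z, hzR⟩
    have hcR : ∀ a y : R, a * y = y * a ∨ a * y = zR * (y * a) := fun a y =>
      (hcm' a.1 a.2.1 y.1 y.2.1).imp (fun h => Subtype.ext h) fun h => Subtype.ext h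
    have hc_mul : ∀ a y y' : R, a * y' = y' * a → (a * (y * y') = y * y' * a ↔ a * y = y * a) := fun a y y' h => by
      constructor
      · intro h1
        rw [mul_assoc y, ← h, ← mul_assoc, ← mul_assoc] at h1
        exact mul_right_cancel h1
      · intro h1
        rw [← mul_assoc, h1, mul_assoc, h, ← mul_assoc]
    -- the pairing of `A` with the cosets of its centraliser
    let χ : R → R → F := fun a y => if a * y = y * a then 1 else -1
    let φ : A → (R →* F) := fun a =>
      { toFun := χ a.1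
        map_one' := by simp [χ]
        map_mul' := fun y y' => by
          rcases hcR a.1 y with h | h <;> rcases hcR a.1 y' with h' | h'
          · rw [show χ a.1 (y * y') = 1 from if_pos ((hc_mul _ y y' h').2 h)]
            simp [χ, h, h']
          · have hn' : ¬ a.1 * y' = y' * a.1 := fun e => hz1 (congrArg Subtype.val
              (mul_eq_right.1 (h'.symm.trans e) : zR = 1))
            have hn : ¬ a.1 * (y * y') = y * y' * a.1 := fun e => hn' (by
              rw [← mul_assoc, h, mul_assoc, mul_assoc y] at e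
              exact mul_left_cancel e)
            simp [χ, h, hn', hn]
          · have hn' : ¬ a.1 * y = y * a.1 := fun e => hz1 (congrArg Subtype.val
              (mul_eq_right.1 (h.symm.trans e) : zR = 1))
            have hn : ¬ a.1 * (y * y') = y * y' * a.1 := fun e => hn' ((hc_mul _ y y' h').1 e)
            simp [χ, hn', h', hn]
          · have hn : ¬ a.1 * y = y * a.1 := fun e => hz1 (congrArg Subtype.val
              (mul_eq_right.1 (h.symm.trans e) : zR = 1))
            have hn' : ¬ a.1 * y' = y' * a.1 := fun e => hz1 (congrArg Subtype.val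
              (mul_eq_right.1 (h'.symm.trans e) : zR = 1))
            have hzz : zR * zR = 1 := Subtype.ext hz2
            have hy : ∀ w : R, zR * w = w * zR := fun w => Subtype.ext (hzc w.1)
            have hyy : a.1 * (y * y') = y * y' * a.1 := by
              rw [← mul_assoc, h, mul_assoc zR, mul_assoc y, h', ← mul_assoc y, ← hy, ← mul_assoc zR, ← mul_assoc zR,
                hzz, one_mul, mul_assoc]
            simp [χ, hn, hn', hyy] }
    let ψ : A → (R ⧸ C → F) := fun a q => φ a (Quotient.out q)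
    have hout : ∀ (a : A) (y : R), φ a y = φ a (Quotient.out (QuotientGroup.mk y : R ⧸ C)) := fun a y => by
      set y' := Quotient.out (QuotientGroup.mk y : R ⧸ C)
      have h1 : y'⁻¹ * y ∈ C := QuotientGroup.eq.1 (Quotient.out_eq' _)
      have h3 : φ a (y'⁻¹ * y) = 1 := if_pos (Subgroup.mem_centralizer_iff.1 h1 a.1 a.2)
      conv_lhs => rw [← mul_inv_cancel_left y' y, map_mul, h3, mul_one]
    have hfib : ∀ a b : A, φ a = φ b → a.1⁻¹ * b.1 = 1 ∨ a.1⁻¹ * b.1 = zR := by
      intro a b hab
      have hia : a.1⁻¹ = a.1 := inv_eq_of_mul_eq_one_right (hAi a.1 a.2)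
      refine (hndR _ (a.1⁻¹ * b.1).2 fun x hx => ?_).imp (fun h => Subtype.ext h) fun h => Subtype.ext h
      have h1 : χ a.1 ⟨x, hx⟩ = χ b.1 ⟨x, hx⟩ := DFunLike.congr_fun hab ⟨x, hx⟩
      have h2' : (2 : F) ≠ 0 := h2
      have key : ∀ a b y : R, a * a = 1 → χ a y = χ b y → y * (a * b) = a * b * y := fun a b y haa h => by
        simp only [χ] at h
        rcases hcR a y with h1 | h1 <;> rcases hcR b y with h2 | h2
        · rw [← mul_assoc, ← h1, mul_assoc, ← h2, mul_assoc]
        · exfalso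
          have hb : ¬ b * y = y * b := fun e => hz1 (congrArg Subtype.val (mul_eq_right.1 (h2.symm.trans e) : zR = 1))
          rw [if_pos h1, if_neg hb] at h
          exact h2' (by linear_combination h)
        · exfalso
          have ha : ¬ a * y = y * a := fun e => hz1 (congrArg Subtype.val (mul_eq_right.1 (h1.symm.trans e) : zR = 1))
          rw [if_neg ha, if_pos h2] at h
          exact h2' (by linear_combination -h)
        · have hy : ∀ w : R, zR * w = w * zR := fun w => Subtype.ext (hzc w.1)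
          have hzz : zR * zR = 1 := Subtype.ext hz2
          rw [mul_assoc a, h2, ← mul_assoc a, ← hy, mul_assoc zR, ← mul_assoc a y, h1, mul_assoc zR, ← mul_assoc zR,
            hzz, one_mul, mul_assoc]
      have h3 := key a.1 b.1 ⟨x, hx⟩ (hAi a.1 a.2) h1
      rw [← hia] at h3
      exact congrArg Subtype.val h3
    have hindep : (Finset.univ.image φ).card ≤ Fintype.card (R ⧸ C) := by
      have h1 : LinearIndependent F (fun p : (Finset.univ.image φ : Finset (R →* F)) => ((p.1 : R →* F) : R → F)) :=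
        (linearIndependent_monoidHom R F).comp Subtype.val Subtype.val_injective
      have h2 : LinearIndependent F
          (fun (p : (Finset.univ.image φ : Finset (R →* F))) (q : R ⧸ C) => p.1 (Quotient.out q)) := by
        rw [Fintype.linearIndependent_iff] at h1 ⊢
        intro g hg
        refine h1 g (funext fun y => ?_)
        have h3 := congrFun hg (QuotientGroup.mk y)
        simp only [Finset.sum_apply, Pi.smul_apply, Pi.zero_apply] at h3 ⊢
        rw [← h3]
        refine Finset.sum_congr rfl fun p _ => ?_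
        obtain ⟨a, -, ha⟩ := Finset.mem_image.1 p.2
        rw [← ha, hout]
      have h3 := h2.fintype_card_le_finrank
      rwa [Module.finrank_fintype_fun_eq_card, Fintype.card_coe] at h3
    have hbound : Fintype.card A ≤ (if zR ∈ A then 2 else 1) * (Finset.univ.image φ).card := by
      rw [← Finset.card_univ]
      refine Finset.card_le_mul_card_image _ _ fun b hb => ?_
      obtain ⟨a, -, rfl⟩ := Finset.mem_image.1 hb
      split_ifs with hzA
      · refine (Finset.card_le_card (t := {a, ⟨a.1 * zR, mul_mem a.2 hzA⟩}) fun c hc => ?_).trans Finset.card_le_two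
        have hc' := (Finset.mem_filter.1 hc).2
        rcases hfib a c hc'.symm with h | h
        · exact Finset.mem_insert.2 (Or.inl (Subtype.ext (inv_mul_eq_one.1 h).symm))
        · exact Finset.mem_insert.2 (Or.inr (Finset.mem_singleton.2 (Subtype.ext (inv_mul_eq_iff_eq_mul.1 h))))
      · refine Finset.card_le_one.2 fun c hc d hd => ?_
        have h3 := hfib c d ((Finset.mem_filter.1 hc).2.trans (Finset.mem_filter.1 hd).2.symm)
        rcases h3 with h | h
        · exact Subtype.ext (inv_mul_eq_one.1 h)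
        · exact absurd (h ▸ mul_mem (inv_mem c.2) d.2) hzA
    have hLag := Subgroup.card_eq_card_quotient_mul_card_subgroup C
    rw [hk] at hLag
    have hA' : 2 ^ (k + 1) ≤ Fintype.card A := by rw [← Nat.card_eq_fintype_card]; exact hcard
    have hAleC : Fintype.card A ≤ Nat.card C := by
      rw [← Nat.card_eq_fintype_card]; exact Subgroup.card_le_of_le hAC
    rw [Nat.card_eq_fintype_card (α := R ⧸ C)] at hLag
    have hpow : 2 ^ (1 + 2 * k) = 2 ^ (k + 1) * 2 ^ k := by rw [← pow_add]; ring_nf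
    have hzA : zR ∈ A := by
      by_contra hzA
      rw [if_neg hzA, one_mul] at hbound
      have h3 : Fintype.card A * Fintype.card A ≤ 2 ^ (1 + 2 * k) :=
        hLag ▸ Nat.mul_le_mul (hbound.trans hindep) hAleC
      have h4 := Nat.mul_le_mul hA' hA'
      have h5 : 0 < 2 ^ (k + 1) := Nat.pow_pos two_pos
      have h6 : 2 ^ k < 2 ^ (k + 1) := Nat.pow_lt_pow_right one_lt_two (lt_add_one k)
      have h7 := Nat.mul_lt_mul_of_pos_left h6 h5
      omega
    rw [if_pos hzA] at hbound
    have hCA : C = A := by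
      refine (Subgroup.eq_of_le_of_card_ge hAC ?_).symm
      rw [Nat.card_eq_fintype_card (α := A)]
      by_contra hcon
      push Not at hcon
      have h3 : Fintype.card A * Nat.card C ≤ 2 * 2 ^ (1 + 2 * k) := by
        rw [hLag, ← mul_assoc]
        exact Nat.mul_le_mul_right _ (hbound.trans (Nat.mul_le_mul_left 2 hindep))
      have h4 : 2 * 2 ^ (1 + 2 * k) = 2 ^ (k + 1) * 2 ^ (k + 1) := by rw [← pow_succ', ← pow_add]; ring_nf
      have h5 : 2 ^ (k + 1) * 2 ^ (k + 1) < Fintype.card A * Nat.card C :=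
        Nat.mul_lt_mul_of_le_of_lt hA' (lt_of_le_of_lt hA' hcon) (Fintype.card_pos)
      omega
    -- a common eigenvector
    have heig : ∀ S : Finset A, ∃ v : ι → F, v ≠ 0 ∧ ∀ a ∈ S, mat (a.1 : R).1 *ᵥ v = v ∨ mat (a.1 : R).1 *ᵥ v = -v := by
      intro S
      induction S using Finset.induction_on with
      | empty =>
        obtain ⟨i⟩ := (inferInstance : Nonempty ι)
        exact ⟨Pi.single i 1, by simp, by simp⟩
      | insert a S ha ih =>
        obtain ⟨v, hv, hS⟩ := ih
        by_cases h0 : mat (a.1 : R).1 *ᵥ v + v = 0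
        · exact ⟨v, hv, (Finset.forall_mem_insert _ _ _).2 ⟨Or.inr (eq_neg_of_add_eq_zero_left h0), hS⟩⟩
        · refine ⟨_, h0, (Finset.forall_mem_insert _ _ _).2 ⟨Or.inl ?_, fun b hb => ?_⟩⟩
          · rw [Matrix.mulVec_add, mulVec_mul, show (a.1 : R).1 * (a.1 : R).1 = 1 from
              congrArg Subtype.val (hAi a.1 a.2), add_comm]
            simp [mat]
          · have hc : (b.1 : R).1 * (a.1 : R).1 = (a.1 : R).1 * (b.1 : R).1 :=
              congrArg Subtype.val (hcommA b.1 b.2 a.1 a.2)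
            rcases hS b hb with h | h
            · exact Or.inl (by rw [Matrix.mulVec_add, mulVec_mul, hc, ← mulVec_mul, h])
            · exact Or.inr (by rw [Matrix.mulVec_add, mulVec_mul, hc, ← mulVec_mul, h, Matrix.mulVec_neg, neg_add])
    obtain ⟨v, hv, hva⟩ := heig Finset.univ
    have hs := isSesq_formG (RingEquiv.refl F) G
    have horth : ∀ y ∈ R, formG (RingEquiv.refl F) G v (mat y *ᵥ v) = 0 := by
      intro y hy
      by_cases hyA : (⟨y, hy⟩ : R) ∈ A
      · rcases hva ⟨_, hyA⟩ (Finset.mem_univ _) with h | h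
        · rw [show mat y *ᵥ v = v from h, halt]
        · rw [show mat y *ᵥ v = -v from h, ← neg_one_smul F v, hs.smul_right, halt, mul_zero]
      · rw [← hCA] at hyA
        obtain ⟨a, haA, hay⟩ : ∃ a ∈ A, ¬ a * (⟨y, hy⟩ : R) = ⟨y, hy⟩ * a := by
          by_contra hcon
          push Not at hcon
          exact hyA (Subgroup.mem_centralizer_iff.2 hcon)
        have hay' : a.1 * y = z * (y * a.1) :=
          congrArg Subtype.val ((hcR a ⟨y, hy⟩).resolve_left hay)
        have hzv : ∀ w, mat z *ᵥ w = -w := fun w => by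
          rw [hz, mat_scHom, smul_one_mulVec]; simp
        have h3 := iso_apply hfix (show a.1 ∈ H from a.2.2) v (mat y *ᵥ v)
        rw [mulVec_mul a.1 y, hay', ← mulVec_mul, hzv, ← mulVec_mul] at h3
        have hneg : ∀ u w : ι → F, formG (RingEquiv.refl F) G (-u) w = - formG (RingEquiv.refl F) G u w ∧
            formG (RingEquiv.refl F) G u (-w) = - formG (RingEquiv.refl F) G u w := fun u w => by
          constructor
          · rw [← neg_one_smul F u, hs.smul_left]; simp
          · rw [← neg_one_smul F w, hs.smul_right]; simp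
        refine (mul_eq_zero.1 (show (2 : F) * formG (RingEquiv.refl F) G v (mat y *ᵥ v) = 0 from ?_)).resolve_left h2
        rcases hva ⟨a, haA⟩ (Finset.mem_univ _) with h | h <;>
          rw [show mat a.1 *ᵥ v = _ from h] at h3
        · rw [(hneg _ _).2] at h3
          linear_combination -h3
        · rw [Matrix.mulVec_neg, (hneg _ _).1, neg_neg] at h3
          linear_combination -h3
    let W : Submodule F (ι → F) :=
      { carrier := {u | ∀ y ∈ R, formG (RingEquiv.refl F) G v (mat y *ᵥ u) = 0}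
        add_mem' := fun {u w} hu hw y hy => by rw [Matrix.mulVec_add, hs.add_right, hu y hy, hw y hy, add_zero]
        zero_mem' := fun y _ => by rw [Matrix.mulVec_zero, formG_zero_right]
        smul_mem' := fun c u hu y hy => by rw [Matrix.mulVec_smul, hs.smul_right, hu y hy, mul_zero] }
    rcases (abs_iff.1 hRabs).1 W fun g hg u hu y hy => by rw [mulVec_mul]; exact hu _ (mul_mem hy hg) with e | e
    · exact hv ((Submodule.mem_bot F).1 (e ▸ (horth : v ∈ W)))
    · refine hv (nondeg_left (σ := RingEquiv.refl F) hG.det fun u => ?_)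
      have h3 := (e ▸ Submodule.mem_top : u ∈ W) 1 (one_mem R)
      simpa [mat] using h3
  · obtain ⟨p, n, hp', hcp, hn0, hn'⟩ := prime_card_pow (F := F)
    haveI := Fact.mk hp'
    have hinj : Function.Injective (powHom (F := F) p 1) := RingHom.injective _
    let τ : F ≃+* F := RingEquiv.ofBijective (powHom (F := F) p 1) ⟨hinj, Finite.surjective_of_injective hinj⟩
    have hτ : τ ≠ RingEquiv.refl F := by
      intro e
      refine hnp ?_
      have h3 := card_fixed_le (E := F) p hp'.one_lt
      rw [Nat.card_congr (Equiv.subtypeUnivEquiv fun x => (show x ^ p = x from by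
        have := RingEquiv.congr_fun e x
        rwa [show τ x = powHom p 1 x from rfl, powHom_apply, pow_one] at this)), hn'] at h3
      have : n ≤ 1 := by
        by_contra hcon
        push Not at hcon
        have h4 := Nat.pow_lt_pow_right hp'.one_lt hcon
        rw [pow_one] at h4
        omega
      rw [hn', show n = 1 by omega, pow_one]
      exact hp'
    haveI : Fintype R := Fintype.ofFinite R
    refine realisable_of_trace hτ hRabs ?_
    have hval : ∀ x : R, τ (mat x.1).trace * (mat x.1⁻¹).trace =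
        if x ∈ Subgroup.center R then (Fintype.card ι : F) * Fintype.card ι else 0 := by
      intro x
      have hinv1 : z⁻¹ = z := inv_eq_of_mul_eq_one_right hz2
      split_ifs with hx
      · rcases hndR x.1 x.2 fun y hy => congrArg Subtype.val (Subgroup.mem_center_iff.1 hx ⟨y, hy⟩) with h | h <;>
          rw [h]
        · simp [mat]
        · rw [hinv1, hz, mat_scHom, Matrix.trace_smul, Matrix.trace_one, Units.val_neg, Units.val_one, smul_eq_mul,
            map_mul, map_neg, map_one, map_natCast]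
          ring
      · rw [hR.trace_eq_zero x.2.1 fun hs => hx (Subgroup.mem_center_iff.2 fun y =>
          Subtype.ext (scalar_comm' hs y.1).symm), map_zero, zero_mul]
    rw [Finset.sum_congr rfl fun x _ => hval x, Finset.sum_ite, Finset.sum_const_zero, add_zero, Finset.sum_const,
      nsmul_eq_mul, ← Fintype.card_subtype, ← Nat.card_eq_fintype_card]
    refine mul_ne_zero ?_ (mul_ne_zero hR.degree_ne_zero hR.degree_ne_zero)
    rw [show Nat.card {x // x ∈ Subgroup.center R} = 2 from hcen]
    exact_mod_cast h2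
where
  map_refl' {κ : Type} {A : Matrix κ κ F} : A.map (RingEquiv.refl F) = A := Matrix.ext fun _ _ => rfl

end Cfsg.Agent.Asch
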