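import Cfsg.Agent.Asch.EvenType
import Cfsg.Agent.Asch.SympShapes
import Cfsg.Agent.Asch.SympSix
import Cfsg.Agent.Asch.OrthOdd
import Cfsg.Agent.Asch.SympTypeTwo

/-!
Groups of isometries of a non-degenerate quadratic form in even dimension: forms determined by irreducibility,
and the normal two-groups with scalar commutators.
-/

set_option autoImplicit false
set_option linter.unusedSectionVars false

namespace Cfsg.Agent.Asch

open Matrix Cfsg.Geo Cfsg.Agent.PrimeDim QuadraticMap
open scoped MatrixGroups Kronecker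
open Cfsg.Agent.Classical Cfsg.Agent.Classical.Quad

variable {F : Type*} [Field F] [Fintype F] {ι : Type} [Fintype ι] [DecidableEq ι]

/-- A quadratic form in even dimension and a group of its isometries. -/
structure EvenSetting (Q : QuadraticForm F (ι → F)) (G : Matrix ι ι F) (H : Subgroup (GL ι F)) : Prop where
  nd : (polarBilin Q).Nondegenerate
  pol : ∀ u v, formG (RingEquiv.refl F) G u v = polar Q u v
  iso : ∀ g ∈ H, ∀ v, Q (mat g *ᵥ v) = Q v
  even : Even (Fintype.card ι)
  eight : 8 ≤ Fintype.card ι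

variable {Q : QuadraticForm F (ι → F)} {G : Matrix ι ι F} {H : Subgroup (GL ι F)}

/-- The setting of a form given as a function. -/
theorem even_setting (hQ : (polarBilin Q).Nondegenerate) (hiso : ∀ g ∈ H, ∀ v, Q (mat g *ᵥ v) = Q v)
    (hev : Even (Fintype.card ι)) (h8 : 8 ≤ Fintype.card ι) : EvenSetting Q (gramMatrix (polar ⇑Q)) H := by
  have hs : IsSesq (RingEquiv.refl F) (polar ⇑Q) :=
    ⟨polar_add_left Q, fun c x v => by rw [polar_smul_left, smul_eq_mul], fun v x y => polar_add_right Q v x y,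
      fun c v x => by rw [polar_smul_right, smul_eq_mul, RingEquiv.refl_apply]⟩
  exact ⟨hQ, fun u v => (hs.eq_formG u v).symm, hiso, hev, h8⟩

theorem EvenSetting.nonempty (h : EvenSetting Q G H) : Nonempty ι :=
  Fintype.card_pos_iff.1 (by have := h.eight; omega)

theorem EvenSetting.two_le (h : EvenSetting Q G H) : 2 ≤ Fintype.card ι := by have := h.eight; omega

theorem EvenSetting.pol_fun (h : EvenSetting Q G H) : formG (RingEquiv.refl F) G = polar ⇑Q :=
  funext fun u => funext (h.pol u)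

theorem EvenSetting.rg (h : EvenSetting Q G H) : IsRG (RingEquiv.refl F) 1 G := by
  refine ⟨?_, fun _ => rfl, ?_⟩
  · have hs := isSesq_formG (RingEquiv.refl F) G
    have h1 := hs.det_ne_zero fun v hv => ?_
    · rwa [gram_formG] at h1
    · refine ⟨?_, ?_⟩ <;>
        · by_contra hcon
          push Not at hcon
          refine hv (eq_zero_of_polar h.nd fun u => ?_)
          have h1 := hcon u
          rw [h.pol] at h1
          first | exact h1 | (rw [polar_comm]; exact h1)
  · rw [one_smul, map_refl_eq]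
    refine Matrix.ext fun i j => ?_
    rw [Matrix.transpose_apply, ← formG_single (RingEquiv.refl F) G j i, ← formG_single (RingEquiv.refl F) G i j, h.pol,
      h.pol, polar_comm]

theorem EvenSetting.symm (h : EvenSetting Q G H) (u v : ι → F) :
    formG (RingEquiv.refl F) G u v = formG (RingEquiv.refl F) G v u := by rw [h.pol, h.pol, polar_comm]

theorem EvenSetting.fix (h : EvenSetting Q G H) : Fixes (RingEquiv.refl F) H G := fun g hg => by
  have h1 := ((isSesq_formG (RingEquiv.refl F) G).fixes_iff g).1 fun u v => by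
    rw [h.pol, h.pol, polar, polar, ← Matrix.mulVec_add, h.iso g hg, h.iso g hg, h.iso g hg]
  rwa [gram_formG] at h1

theorem EvenSetting.half (h : EvenSetting Q G H) (v : ι → F) : formG (RingEquiv.refl F) G v v = 2 * Q v := by
  rw [h.pol, polar_self']

theorem EvenSetting.alt (h : EvenSetting Q G H) (h2 : (2 : F) = 0) (v : ι → F) :
    formG (RingEquiv.refl F) G v v = 0 := by rw [h.half, h2, zero_mul]

theorem EvenSetting.zero_of (h : EvenSetting Q G H) (h2 : (2 : F) ≠ 0) {v : ι → F}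
    (hv : formG (RingEquiv.refl F) G v v = 0) : Q v = 0 :=
  (mul_eq_zero.1 ((h.half v).symm.trans hv)).resolve_left h2

/-- An idempotent-type map recovers the quadratic form in characteristic two. -/
theorem EvenSetting.eq_idem (h : EvenSetting Q G H) (h2 : (2 : F) = 0) (hirr : Irr H) (T : Matrix ι ι F)
    (hT : ∀ u v, formG (RingEquiv.refl F) G (T *ᵥ u) v + formG (RingEquiv.refl F) G (T *ᵥ v) u =
      formG (RingEquiv.refl F) G u v)
    (hinv : ∀ g ∈ H, T * mat g = mat g * T ∨ T * mat g = mat g * (1 - T)) (v : ι → F) :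
    Q v = formG (RingEquiv.refl F) G (T *ᵥ v) v := by
  have hs := isSesq_formG (RingEquiv.refl F) G
  have hqi : ∀ g ∈ H, ∀ w, formG (RingEquiv.refl F) G (T *ᵥ (mat g *ᵥ w)) (mat g *ᵥ w) =
      formG (RingEquiv.refl F) G (T *ᵥ w) w := fun g hg w => by
    rw [Matrix.mulVec_mulVec]
    rcases hinv g hg with e | e <;> rw [e, ← Matrix.mulVec_mulVec, iso_apply h.fix hg]
    rw [Matrix.sub_mulVec, Matrix.one_mulVec, sub_eq_add_neg, ← neg_one_smul F, hs.add_left, hs.smul_left, h.alt h2]
    linear_combination (-formG (RingEquiv.refl F) G (T *ᵥ w) w) * h2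
  refine sub_eq_zero.1 (sq_additive_zero h2 h.two_le (a := fun g : H => mat g.1)
    (fun W hW => hirr W fun g hg => hW ⟨g, hg⟩) (fun w => Q w - formG (RingEquiv.refl F) G (T *ᵥ w) w) (fun u w => ?_)
    (fun c w => by rw [map_smul' c w, Matrix.mulVec_smul, hs.smul_left, hs.smul_right, RingEquiv.refl_apply]; ring)
    (fun g w hw => by rw [h.iso g.1 g.2, hqi g.1 g.2]; exact hw) v)
  rw [map_add' u w, ← h.pol, Matrix.mulVec_add, hs.add_left, hs.add_right, hs.add_right]
  linear_combination -hT u w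

/-- A triangular matrix of the form in a frame recovers the quadratic form in characteristic two. -/
theorem EvenSetting.eq_tri (h : EvenSetting Q G H) (h2 : (2 : F) = 0) (hirr : Irr H) {κ : Type} [Fintype κ]
    [DecidableEq κ] (e : ι ≃ κ) (P : GL ι F) (U : Matrix κ κ F) (hU : U + Uᵀ = frG (RingEquiv.refl F) e P G)
    (hinv : ∀ g ∈ H.comap (fr e P).toMonoidHom, ∀ a : κ,
      (mat g *ᵥ Pi.single a 1) ⬝ᵥ (U *ᵥ (mat g *ᵥ Pi.single a 1)) = U a a) (x : κ → F) :
    Q (frL e P x) = x ⬝ᵥ (U *ᵥ x) := by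
  let q : (κ → F) → F := fun x => x ⬝ᵥ (U *ᵥ x)
  have hqs : ∀ (c : F) x, q (c • x) = c ^ 2 * q x := fun c x => by
    simp only [q, Matrix.mulVec_smul, dotProduct_smul, smul_dotProduct, smul_eq_mul]; ring
  have hqp : ∀ x y, q (x + y) - q x - q y = formG (RingEquiv.refl F) G (frL e P x) (frL e P y) := by
    intro x y
    rw [← formG_frL]
    show _ = x ⬝ᵥ (frG (RingEquiv.refl F) e P G *ᵥ y)
    rw [← hU, Matrix.add_mulVec, dotProduct_add]
    have e1 : x ⬝ᵥ (Uᵀ *ᵥ y) = y ⬝ᵥ (U *ᵥ x) := by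
      rw [Matrix.mulVec_transpose, dotProduct_comm, ← Matrix.dotProduct_mulVec]
    simp only [q, Matrix.mulVec_add, dotProduct_add, add_dotProduct, e1]
    ring
  have hinv' : ∀ g ∈ H.comap (fr e P).toMonoidHom, ∀ x, q (mat g *ᵥ x) = q x := fun g hg x => by
    refine sub_eq_zero.1 (sq_additive_ext (fun w => q (mat g *ᵥ w) - q w) (fun u w => ?_)
      (fun c w => by rw [Matrix.mulVec_smul, hqs, hqs]; ring) (fun a => ?_) x)
    · have h1 := hqp (mat g *ᵥ u) (mat g *ᵥ w)
      rw [← fr_mulVec, ← fr_mulVec, iso_apply h.fix (show fr e P g ∈ H from hg), ← hqp u w, ← Matrix.mulVec_add] at h1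
      linear_combination h1
    · refine sub_eq_zero.2 ((hinv g hg a).trans ?_)
      simp [q, Matrix.mulVec_single_one]
  refine sub_eq_zero.1 (sq_additive_zero h2 (by rw [← Fintype.card_congr e]; exact h.two_le)
    (a := fun g : H.comap (fr e P).toMonoidHom => mat g.1)
    (fun W hW => irr_comap e P hirr W fun g hg => hW ⟨g, hg⟩) (fun w => Q (frL e P w) - q w) (fun u w => ?_)
    (fun c w => by rw [map_smul (frL e P), map_smul' c (frL e P w), hqs]; ring) (fun g w hw => ?_) x)
  · rw [map_add (frL e P), map_add' (frL e P u), ← h.pol, ← hqp u w]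
    ring
  · rw [← fr_mulVec, h.iso _ (show fr e P g.1 ∈ H from g.2), hinv' g.1 g.2]
    exact hw

set_option maxHeartbeats 1000000 in
/-- An absolutely irreducible group with scalar commutators forces plus type and dimension a power of two. -/
theorem EvenSetting.two_group (h : EvenSetting Q G H) {N : Subgroup (GL ι F)} (hNH : N ≤ H)
    (hN : ActsAbsolutelyIrreducibly (matrixSet N))
    (hcomm : ∀ x ∈ N, ∀ y ∈ N, x * y * x⁻¹ * y⁻¹ ∈ scalars ι F) :
    IsPlusTypeOn ⇑Q ⊤ ∧ ∃ k, Fintype.card ι = 2 ^ k := by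
  classical
  haveI := h.nonempty
  have hG := h.rg
  have hscal : ∀ x ∈ N, x ∈ scalars ι F → x = 1 ∨ x = scHom (-1) := fun x hx hxs => by
    obtain ⟨c, rfl⟩ := exists_scHom hxs
    have h2 := h.fix _ (hNH hx)
    rw [mat_scHom, act_sc, act, map_refl_eq, Matrix.transpose_one, one_mul, mul_one, RingEquiv.refl_apply] at h2
    rcases mul_self_eq_one_iff.1 (smul_mat_cancel (ne_zero_of_det hG.det) (h2.trans (one_smul F G).symm)) with e | e
    · obtain rfl : c = 1 := Units.ext e
      exact Or.inl (map_one _)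
    · exact Or.inr (congrArg scHom (Units.ext e))
  set z : GL ι F := scHom (-1) with hz
  have hcm : ∀ x ∈ N, ∀ y ∈ N, x * y = y * x ∨ x * y = z * (y * x) := fun x hx y hy => by
    rcases hscal _ (mul_mem (mul_mem (mul_mem hx hy) (inv_mem hx)) (inv_mem hy)) (hcomm x hx y hy) with e | e
    · rw [mul_inv_eq_iff_eq_mul, mul_inv_eq_iff_eq_mul, mul_assoc, one_mul] at e
      exact Or.inl e
    · rw [mul_inv_eq_iff_eq_mul, mul_inv_eq_iff_eq_mul, mul_assoc] at e
      exact Or.inr e
  have hns : ¬ N ≤ scalars ι F := irr_not_scalar (abs_iff.1 hN).1 h.two_le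
  obtain ⟨x₁, hx₁, y₁, hy₁, hne⟩ : ∃ x ∈ N, ∃ y ∈ N, x * y ≠ y * x := by
    by_contra hcon
    push Not at hcon
    exact not_comm_of_abs hN hns hcon
  have hxy₁ := (hcm x₁ hx₁ y₁ hy₁).resolve_left hne
  have hz1 : z ≠ 1 := fun e => hne (by rw [hxy₁, e, one_mul])
  have h2 : (2 : F) ≠ 0 := fun e => hz1 (by
    rw [hz, show (-1 : Fˣ) = 1 from Units.ext (show (-1 : F) = 1 by linear_combination -e), map_one])
  have hzc : ∀ x : GL ι F, z * x = x * z := fun x => scalar_comm' (scHom_mem _) x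
  have hz2 : z * z = 1 := by rw [hz, ← map_mul, neg_mul_neg, one_mul, map_one]
  have hzN : z ∈ N := by
    rw [show z = x₁ * y₁ * (y₁ * x₁)⁻¹ by rw [hxy₁, mul_inv_cancel_right]]
    exact mul_mem (mul_mem hx₁ hy₁) (inv_mem (mul_mem hy₁ hx₁))
  have hnd : ∀ y ∈ N, (∀ x ∈ N, x * y = y * x) → y = 1 ∨ y = z := fun y hy hyc =>
    hscal y hy (comm_of_abs hN fun x hx => (hyc x hx).symm)
  obtain ⟨k, hk⟩ := card_two_pow z hz1 hz2 hzc N hzN hcm hnd
  have hdata : TwoData N k := by
    refine ⟨h2, hN, hk, ?_, hcm⟩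
    have h1 : ((Subgroup.center N : Subgroup N) : Set N) = {1, ⟨z, hzN⟩} := Set.ext fun y => by
      refine ⟨fun hy => ?_, ?_⟩
      · rcases hnd y.1 y.2 fun x hx => congrArg Subtype.val (Subgroup.mem_center_iff.1 hy ⟨x, hx⟩) with e | e
        · exact Or.inl (Subtype.ext e)
        · exact Or.inr (Subtype.ext e)
      · rintro (rfl | rfl)
        · exact one_mem _
        · exact Subgroup.mem_center_iff.2 fun x => Subtype.ext (hzc x.1).symm
    rw [show Nat.card (Subgroup.center N) = Nat.card ((Subgroup.center N : Subgroup N) : Set N) from rfl, h1,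
      Nat.card_coe_set_eq, Set.ncard_pair fun e => hz1 (congrArg Subtype.val e).symm]
  have hdeg := hdata.degree h.two_le
  refine ⟨?_, k, hdeg⟩
  obtain ⟨-, -, -, -, hsq, hnc⟩ := hdata.facts h.two_le
  have hk3 : 3 ≤ k := by
    by_contra hcon
    have h1 := Nat.pow_le_pow_right two_pos (show k ≤ 2 by omega)
    have := h.eight
    omega
  -- a non-central involution
  obtain ⟨x, hx, hxs, hx2⟩ : ∃ x ∈ N, x ∉ scalars ι F ∧ x * x = 1 := by
    by_contra hcon
    push Not at hcon
    have hx₁s : x₁ ∉ scalars ι F := fun hs => hne (scalar_comm' hs y₁)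
    have hsqz : ∀ x ∈ N, x ∉ scalars ι F → x * x = z := fun x hx hxs => (hsq x hx).resolve_left (hcon x hx hxs)
    have hhalf := card_half z hz1 hz2 N (hcm x₁ hx₁) hzc hy₁ hne
    rw [hk] at hhalf
    set C := N ⊓ Subgroup.centralizer {x₁} with hC
    obtain ⟨w, hwC, hw1, hw2, hw3, hw4⟩ : ∃ w ∈ C, w ≠ 1 ∧ w ≠ z ∧ w ≠ x₁ ∧ w ≠ z * x₁ := by
      by_contra hcon'
      push Not at hcon'
      have hsub : (C : Set (GL ι F)) ⊆ ({1, z, x₁, z * x₁} : Set (GL ι F)) := fun w hw => by
        rcases eq_or_ne w 1 with e | e1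
        · simp [e]
        rcases eq_or_ne w z with e | e2
        · simp [e]
        rcases eq_or_ne w x₁ with e | e3
        · simp [e]
        simp [hcon' w hw e1 e2 e3]
      have h1 := Set.ncard_le_ncard hsub (Set.toFinite _)
      have h3 : ({1, z, x₁, z * x₁} : Set (GL ι F)).ncard ≤ 4 := by
        have := Set.ncard_insert_le (1 : GL ι F) {z, x₁, z * x₁}
        have := Set.ncard_insert_le z {x₁, z * x₁}
        have := Set.ncard_insert_le x₁ ({z * x₁} : Set (GL ι F))
        have := Set.ncard_singleton (z * x₁)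
        omega
      rw [← Nat.card_coe_set_eq] at h1
      have h4 : Nat.card (C : Set (GL ι F)) = Nat.card C := rfl
      have h5 : 2 ^ 7 ≤ 2 ^ (1 + 2 * k) := Nat.pow_le_pow_right two_pos (by omega)
      omega
    have hwN : w ∈ N := hwC.1
    have hwx : w * x₁ = x₁ * w := Subgroup.mem_centralizer_singleton_iff.1 hwC.2
    have hws : w ∉ scalars ι F := fun hs => (hscal w hwN hs).elim hw1 hw2
    have hprod : (x₁ * w) * (x₁ * w) = 1 := by
      rw [mul_assoc, ← mul_assoc w, hwx, mul_assoc x₁ w, hsqz w hwN hws, ← mul_assoc, hsqz x₁ hx₁ hx₁s, hz2]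
    refine hcon _ (mul_mem hx₁ hwN) (fun hs => ?_) hprod
    rcases hscal _ (mul_mem hx₁ hwN) hs with e | e
    · refine hw4 ?_
      have h1 : w = x₁⁻¹ := eq_inv_of_mul_eq_one_right e
      rw [h1, inv_eq_iff_mul_eq_one, ← mul_assoc, ← hzc, mul_assoc, hsqz x₁ hx₁ hx₁s, hz2]
    · refine hw3 (mul_left_cancel (a := x₁) ?_)
      rw [e, hsqz x₁ hx₁ hx₁s]
  obtain ⟨y, hy, hxy⟩ := hnc x hx hxs
  have hzv : ∀ v : ι → F, mat z *ᵥ v = -v := fun v => by
    rw [hz, mat_scHom, smul_one_mulVec]; simp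
  have hxx : ∀ v, mat x *ᵥ (mat x *ᵥ v) = v := fun v => by
    rw [mulVec_mul, hx2]; exact Matrix.one_mulVec v
  have hxyv : ∀ v, mat x *ᵥ (mat y *ᵥ v) = -(mat y *ᵥ (mat x *ᵥ v)) := fun v => by
    rw [mulVec_mul, hxy, ← mulVec_mul, ← mulVec_mul, hzv]
  let E : Submodule F (ι → F) := LinearMap.ker (mat x - 1).mulVecLin
  let E' : Submodule F (ι → F) := LinearMap.ker (mat x + 1).mulVecLin
  have hE : ∀ {v}, v ∈ E ↔ mat x *ᵥ v = v := fun {v} => by
    rw [LinearMap.mem_ker, Matrix.mulVecLin_apply, Matrix.sub_mulVec, Matrix.one_mulVec, sub_eq_zero]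
  have hE' : ∀ {v}, v ∈ E' ↔ mat x *ᵥ v = -v := fun {v} => by
    rw [LinearMap.mem_ker, Matrix.mulVecLin_apply, Matrix.add_mulVec, Matrix.one_mulVec, add_eq_zero_iff_eq_neg]
  have hyinj : ∀ u v, mat y *ᵥ u = mat y *ᵥ v → u = v := fun u v e => mulVec_injective y e
  have hcard : 2 * Module.finrank F E = Fintype.card ι := by
    have hle : ∀ (A B : Submodule F (ι → F)), (∀ v ∈ A, mat y *ᵥ v ∈ B) → Module.finrank F A ≤ Module.finrank F B :=
      fun A B hAB => by
        have hinj : Function.Injective (Matrix.toLin' (mat y)) := fun u v e =>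
          hyinj u v (by simpa [Matrix.toLin'_apply] using e)
        rw [(Submodule.equivMapOfInjective _ hinj A).finrank_eq]
        refine Submodule.finrank_mono ?_
        rintro _ ⟨v, hv, rfl⟩
        rw [Matrix.toLin'_apply]; exact hAB v hv
    have h1 := hle E E' fun v hv => hE'.2 (by rw [hxyv, hE.1 hv])
    have h3 := hle E' E fun v hv => hE.2 (by rw [hxyv, hE'.1 hv, Matrix.mulVec_neg, neg_neg])
    have hdis : E ⊓ E' = ⊥ := by
      rw [eq_bot_iff]
      rintro v ⟨hv, hv'⟩
      rw [Submodule.mem_bot]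
      have h4 : (2 : F) • v = 0 := by
        rw [two_smul]; nth_rw 1 [← hE.1 hv]; rw [hE'.1 hv', neg_add_cancel]
      exact (smul_eq_zero.1 h4).resolve_left h2
    have htop : E ⊔ E' = ⊤ := eq_top_iff.2 fun v _ => Submodule.mem_sup.2
      ⟨(2 : F)⁻¹ • (v + mat x *ᵥ v), hE.2 (by rw [Matrix.mulVec_smul, Matrix.mulVec_add, hxx, add_comm]),
        (2 : F)⁻¹ • (v - mat x *ᵥ v), hE'.2 (by
          rw [Matrix.mulVec_smul, Matrix.mulVec_sub, hxx, ← smul_neg, neg_sub]), by
        rw [← smul_add, show v + mat x *ᵥ v + (v - mat x *ᵥ v) = (2 : F) • v by rw [two_smul]; abel, smul_smul,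
          inv_mul_cancel₀ h2, one_smul]⟩
    have h4 := Submodule.finrank_sup_add_finrank_inf_eq E E'
    rw [hdis, htop, finrank_top, finrank_bot, Module.finrank_fintype_fun_eq_card] at h4
    omega
  refine plus_of_two_maps h.nd E.subtype ((Matrix.toLin' (mat y)).comp E.subtype) hcard ?_ (fun v => ?_) (fun u v => ?_)
    fun u v huv => ?_
  · obtain ⟨l, hl⟩ : ∃ l, k = l + 2 := ⟨k - 2, by omega⟩
    refine ⟨2 ^ l, ?_⟩
    rw [hdeg, hl, pow_add] at hcard
    omega
  · simp only [LinearMap.comp_apply, Submodule.subtype_apply, Matrix.toLin'_apply]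
    exact h.iso y (hNH hy) _
  · simp only [LinearMap.comp_apply, Submodule.subtype_apply, Matrix.toLin'_apply]
    rw [← h.pol]
    have h1 := iso_apply h.fix (hNH hx) (u : ι → F) (mat y *ᵥ (v : ι → F))
    rw [hxyv, hE.1 u.2, hE.1 v.2, ← neg_one_smul F (mat y *ᵥ (v : ι → F)), (isSesq_formG _ G).smul_right,
      RingEquiv.refl_apply] at h1
    exact (mul_eq_zero.1 (show (2 : F) * formG (RingEquiv.refl F) G (u : ι → F) (mat y *ᵥ (v : ι → F)) = 0 by
      linear_combination -h1)).resolve_left h2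
  · simp only [LinearMap.comp_apply, Submodule.subtype_apply, Matrix.toLin'_apply] at huv
    have h1 := congrArg (mat x *ᵥ ·) huv
    simp only [Matrix.mulVec_add, hxyv, hE.1 u.2, hE.1 v.2, Matrix.mulVec_zero] at h1
    have h3 : (2 : F) • (u : ι → F) = 0 := by
      calc (2 : F) • (u : ι → F) = ((u : ι → F) + mat y *ᵥ (v : ι → F)) + ((u : ι → F) + -(mat y *ᵥ (v : ι → F))) := by
            rw [two_smul]; abel
        _ = 0 := by rw [huv, h1, add_zero]
    have hu0 : (u : ι → F) = 0 := (smul_eq_zero.1 h3).resolve_left h2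
    rw [hu0, zero_add] at huv
    exact ⟨Subtype.ext hu0, Subtype.ext (hyinj _ _ (huv.trans (Matrix.mulVec_zero _).symm))⟩

end Cfsg.Agent.Asch
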