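import Cfsg.Agent.Asch.SympStd
import Cfsg.Agent.Asch.SmallMove
import Cfsg.Agent.NotMax.Blocks

/-!
The symplectic transvections lie in no stabiliser of a proper geometric structure.
-/

set_option autoImplicit false
set_option linter.unusedSectionVars false

namespace Cfsg.Agent.Asch

open Matrix Cfsg.Geo Cfsg.Agent.PrimeDim
open scoped MatrixGroups Kronecker

variable {F : Type*} [Field F] {ι : Type} [Fintype ι] [DecidableEq ι]

/-- The matrix of `x ↦ x + c f(x, v) v`. -/
def tvMat (G : Matrix ι ι F) (v : ι → F) (c : F) : Matrix ι ι F := 1 + c • Matrix.vecMulVec v (G *ᵥ v)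

theorem tvMat_mulVec (G : Matrix ι ι F) (v : ι → F) (c : F) (x : ι → F) :
    tvMat G v c *ᵥ x = x + (c * formG (RingEquiv.refl F) G x v) • v := by
  rw [tvMat, Matrix.add_mulVec, Matrix.one_mulVec, Matrix.smul_mulVec, Matrix.vecMulVec_mulVec, op_smul_eq_smul,
    smul_smul, dotProduct_comm]
  rfl

/-- A subgroup containing all transvections of the form. -/
def HasTv (G : Matrix ι ι F) (A : Subgroup (GL ι F)) : Prop :=
  ∀ (v : ι → F) (c : F), ∃ t ∈ A, ∀ x, mat t *ᵥ x = x + (c * formG (RingEquiv.refl F) G x v) • v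

theorem hasTv_spGL [Fintype F] {m : ℕ} : HasTv (Matrix.J (Fin m) F) (Cfsg.spGL m F) := by
  intro v c
  have hs := isSesq_formG (RingEquiv.refl F) (Matrix.J (Fin m) F)
  have h0 := sympForm_alt_std (F := F) (m := m) v
  have hinv : ∀ c : F, tvMat (Matrix.J (Fin m) F) v c * tvMat (Matrix.J (Fin m) F) v (-c) = 1 := fun c => by
    refine Matrix.mulVec_injective (funext fun x => ?_)
    rw [← Matrix.mulVec_mulVec, tvMat_mulVec, tvMat_mulVec, Matrix.one_mulVec, hs.add_left, hs.smul_left, h0]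
    module
  refine ⟨⟨tvMat _ v c, tvMat _ v (-c), hinv c, ?_⟩, fun u w => ?_, tvMat_mulVec _ v c⟩
  · simpa using hinv (-c)
  show formG (RingEquiv.refl F) (Matrix.J (Fin m) F) (tvMat _ v c *ᵥ u) (tvMat _ v c *ᵥ w) =
    formG (RingEquiv.refl F) (Matrix.J (Fin m) F) u w
  have hskew : formG (RingEquiv.refl F) (Matrix.J (Fin m) F) v w =
      - formG (RingEquiv.refl F) (Matrix.J (Fin m) F) w v := by
    have h1 := sympForm_alt_std (F := F) (m := m) (v + w)
    rw [hs.add_left, hs.add_right, hs.add_right, h0, sympForm_alt_std] at h1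
    linear_combination h1
  rw [tvMat_mulVec, tvMat_mulVec, hs.add_left, hs.add_right, hs.add_right, hs.smul_left, hs.smul_right, hs.smul_left,
    hs.smul_right, h0, RingEquiv.refl_apply, hskew]
  ring

variable [Finite F] {G : Matrix ι ι F} {A : Subgroup (GL ι F)}

theorem tv_small {t : GL ι F} {v : ι → F} {c : F}
    (ht : ∀ x, mat t *ᵥ x = x + (c * formG (RingEquiv.refl F) G x v) • v) : Small 1 t := by
  refine small_of_image (Submodule.span F {v}) ?_ fun x => ?_
  · exact (finrank_span_le_card ({v} : Set (ι → F))).trans (by simp)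
  · rw [ht, add_sub_cancel_left]
    exact Submodule.smul_mem _ _ (Submodule.subset_span rfl)

/-- A vector with a vector not orthogonal to it. -/
theorem exists_pair_ne (hG : IsRG (RingEquiv.refl F) (-1) G) {v : ι → F} (hv : v ≠ 0) :
    ∃ u, formG (RingEquiv.refl F) G u v ≠ 0 := by
  by_contra hcon
  push Not at hcon
  exact hv (hG.nondeg_right hcon)

theorem tv_ne_one (hG : IsRG (RingEquiv.refl F) (-1) G) {v : ι → F} (hv : v ≠ 0) {t : GL ι F}
    (ht : ∀ x, mat t *ᵥ x = x + ((1 : F) * formG (RingEquiv.refl F) G x v) • v) : t ≠ 1 := by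
  intro e
  obtain ⟨u, hu⟩ := exists_pair_ne hG hv
  have h1 := ht u
  rw [e, show mat (1 : GL ι F) = 1 from rfl, Matrix.one_mulVec, one_mul, left_eq_add, smul_eq_zero] at h1
  exact h1.elim hu hv

theorem tv_not_subspace (hG : IsRG (RingEquiv.refl F) (-1) G) (hA : HasTv G A) {W : Submodule F (ι → F)}
    (hb : W ≠ ⊥) (ht : W ≠ ⊤) : ¬ A ≤ subspaceStabilizer W := by
  intro hle
  have h1 : ∀ v, v ∉ W → ∀ w ∈ W, formG (RingEquiv.refl F) G w v = 0 := by
    intro v hv w hw
    by_contra hne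
    obtain ⟨t, htA, htm⟩ := hA v 1
    have h2 : mat t *ᵥ w ∈ W := (hle htA w).1 hw
    rw [htm, one_mul, Submodule.add_mem_iff_right _ hw, Submodule.smul_mem_iff _ hne] at h2
    exact hv h2
  obtain ⟨v, hv⟩ : ∃ v, v ∉ W := by
    by_contra hcon; push Not at hcon; exact ht (Submodule.eq_top_iff'.2 hcon)
  obtain ⟨w, hw, hw0⟩ := W.exists_mem_ne_zero_of_ne_bot hb
  refine hw0 (nondeg_left (σ := RingEquiv.refl F) hG.det fun u => ?_)
  by_cases hu : u ∈ W
  · have h3 := h1 (u + v) (fun e => hv ((Submodule.add_mem_iff_right _ hu).1 e)) w hw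
    rwa [(isSesq_formG _ G).add_right, h1 v hv w hw, add_zero] at h3
  · exact h1 u hu w hw

theorem tv_not_blocks (hG : IsRG (RingEquiv.refl F) (-1) G) (hA : HasTv G A) {t m : ℕ}
    {D : Fin t → Submodule F (ι → F)} (hD : IsMDecomposition m D) (hm : 2 ≤ m) : ¬ A ≤ decompositionStabilizer D := by
  intro hle
  let i₀ : Fin t := ⟨0, by have := hD.two_le; omega⟩
  have hA' : HasTv G (A ⊓ subspaceStabilizer (D i₀)) := by
    intro v c
    obtain ⟨g, hg, hgm⟩ := hA v c
    refine ⟨g, ⟨hg, fun w => ?_⟩, hgm⟩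
    have h1 := (tv_small hgm).fixes_blocks hD (show 1 < m by omega) (hle hg) i₀
    show w ∈ D i₀ ↔ mat g *ᵥ w ∈ D i₀
    refine ⟨fun hw => h1 ▸ ⟨w, hw, Matrix.toLin'_apply _ _⟩, fun hw => ?_⟩
    obtain ⟨u, hu, he⟩ : mat g *ᵥ w ∈ (D i₀).map (Matrix.toLin' (mat g)) := h1.symm ▸ hw
    rw [Matrix.toLin'_apply] at he
    exact mulVec_injective g he ▸ hu
  have h1 := hD.finrank_eq i₀
  refine tv_not_subspace hG hA' (W := D i₀) (fun e => ?_) (fun e => ?_) inf_le_right
  · rw [e, finrank_bot] at h1; omega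
  · rw [e, finrank_top, Module.finrank_fintype_fun_eq_card] at h1
    have h3 := NotMax.mul_card_eq hD
    have h4 := hD.two_le
    have : 2 * m ≤ t * m := Nat.mul_le_mul_right _ h4
    omega

theorem tv_not_field (hG : IsRG (RingEquiv.refl F) (-1) G) (hA : HasTv G A) (hn : 3 ≤ Fintype.card ι) {r : ℕ}
    {K : Subalgebra F (Matrix ι ι F)} (hK : IsFieldSubalgebra r K) (hr : 2 ≤ r) : ¬ A ≤ subalgebraNormalizer K := by
  intro hle
  obtain ⟨i⟩ : Nonempty ι := Fintype.card_pos_iff.1 (by omega)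
  obtain ⟨t, ht, htm⟩ := hA (Pi.single i 1) 1
  exact tv_ne_one hG (by simp) htm
    ((tv_small htm).field_eq_one hK (show 1 < r by omega) (by omega) (hle ht))

theorem tv_not_tensor (hG : IsRG (RingEquiv.refl F) (-1) G) (hA : HasTv G A) {a b : ℕ} (ha : 2 ≤ a) (hb : 2 ≤ b)
    (e : ι ≃ Fin a × Fin b) (P : GL ι F) : ¬ A ≤ tensorProductSubgroup a b e P := by
  intro hle
  let i : ι := e.symm (⟨0, by omega⟩, ⟨0, by omega⟩)
  obtain ⟨t, ht, htm⟩ := hA (Pi.single i 1) 1
  exact tv_ne_one hG (by simp) htm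
    ((tv_small htm).kron_eq_one (show 1 < a by omega) (show 1 < b by omega) (hle ht))

theorem tv_not_subfield [Fintype F] (hG : IsRG (RingEquiv.refl F) (-1) G) (hA : HasTv G A)
    (hn : 3 ≤ Fintype.card ι) {F₁ : Subfield F} {r : ℕ} {P : GL ι F} (hr : r.Prime)
    (hc : Fintype.card F = Nat.card F₁ ^ r) : ¬ A ≤ subfieldSubgroup F₁ P := by
  intro hle
  obtain ⟨i⟩ : Nonempty ι := Fintype.card_pos_iff.1 (by omega)
  set v : ι → F := Pi.single i 1 with hv
  obtain ⟨u, hu⟩ := exists_pair_ne hG (show v ≠ 0 by simp [hv])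
  set w := mat P⁻¹ *ᵥ v with hw
  set x := mat P⁻¹ *ᵥ u with hx
  obtain ⟨b, hb⟩ : ∃ b, w b ≠ 0 := by
    by_contra hcon
    push Not at hcon
    have h0 : w = 0 := funext hcon
    rw [hw] at h0
    exact (show v ≠ 0 by simp [hv]) (mulVec_injective P⁻¹ (h0.trans (Matrix.mulVec_zero _).symm))
  obtain ⟨a, ha⟩ : ∃ a, formG (RingEquiv.refl F) G (mat P *ᵥ Pi.single a 1) v ≠ 0 := by
    by_contra hcon
    push Not at hcon
    refine hu ?_
    have h0 : ((Matrix.toLin' (mat P)) ∘ₗ LinearMap.id) x = u := by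
      rw [LinearMap.comp_id, Matrix.toLin'_apply, hx, mulVec_inv_cancel]
    let L : (ι → F) →ₗ[F] F :=
      { toFun := fun z => formG (RingEquiv.refl F) G (mat P *ᵥ z) v
        map_add' := fun p q => by rw [Matrix.mulVec_add, (isSesq_formG _ G).add_left]
        map_smul' := fun s p => by rw [Matrix.mulVec_smul, (isSesq_formG _ G).smul_left]; rfl }
    have hL : L = 0 := LinearMap.pi_ext' fun k => LinearMap.ext_ring (hcon k)
    have h1 : L x = 0 := by rw [hL]; rfl
    rw [← mulVec_inv_cancel P u]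
    exact h1
  set k := formG (RingEquiv.refl F) G (mat P *ᵥ Pi.single a 1) v * w b with hk
  have hk0 : k ≠ 0 := mul_ne_zero ha hb
  have hmem : ∀ c : F, c * k ∈ F₁ := by
    intro c
    obtain ⟨t, ht, htm⟩ := hA v c
    have h1 := (tv_small htm).entries (by omega) (hle ht) b a
    rw [hk]
    have h2 : mat (P⁻¹ * t * P) *ᵥ Pi.single a 1 = Pi.single a 1 +
        (c * formG (RingEquiv.refl F) G (mat P *ᵥ Pi.single a 1) v) • w := by
      rw [← mulVec_mul, ← mulVec_mul, htm, Matrix.mulVec_add, inv_mulVec_cancel, Matrix.mulVec_smul]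
    have h3 := congrFun h2 b
    rw [Matrix.mulVec_single_one, Matrix.col_apply, Pi.add_apply, Pi.smul_apply, smul_eq_mul] at h3
    rw [← mul_assoc]
    rw [h3] at h1
    have h4 : (Pi.single a (1 : F) : ι → F) b ∈ F₁ := by
      rw [Pi.single_apply]; split_ifs <;> simp [one_mem, zero_mem]
    simpa using sub_mem h1 h4
  have hall : ∀ c : F, c ∈ F₁ := fun c => by
    have := hmem (c / k)
    rwa [div_mul_cancel₀ _ hk0] at this
  have h5 : Nat.card F₁ = Fintype.card F := by
    rw [← Nat.card_eq_fintype_card]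
    exact Nat.card_congr (Equiv.subtypeUnivEquiv hall)
  rw [h5] at hc
  have h6 := Nat.pow_lt_pow_right (Fintype.one_lt_card (α := F)) hr.one_lt
  rw [pow_one] at h6
  omega

theorem tv_not_quad (h2 : (2 : F) = 0) (hG : IsRG (RingEquiv.refl F) (-1) G) (hA : HasTv G A)
    (hn : 4 ≤ Fintype.card ι) {Q : (ι → F) → F} (hQ : IsNondegenerateQuadraticForm Q)
    (hpol : ∀ u v, QuadraticMap.polar Q u v = formG (RingEquiv.refl F) G u v) : ¬ A ≤ quadSimilarityGroup Q := by
  intro hle
  classical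
  have hadd : ∀ u w, Q (u + w) = Q u + Q w + formG (RingEquiv.refl F) G u w := fun u w => by
    rw [← hpol, QuadraticMap.polar]; ring
  let perp : (ι → F) → Submodule F (ι → F) := fun v => perpG (RingEquiv.refl F) G (Submodule.span F {v})
  have hperp : ∀ {v z}, z ∈ perp v → formG (RingEquiv.refl F) G z v = 0 := fun {v z} hz =>
    hz v (Submodule.subset_span rfl)
  have hrank : ∀ v : ι → F, Fintype.card ι ≤ Module.finrank F (perp v) + 1 := fun v => by
    have h1 := finrank_perp (RingEquiv.refl F) G (Submodule.span F {v})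
    have h3 := finrank_span_le_card (R := F) ({v} : Set (ι → F))
    simp at h3
    show _ ≤ Module.finrank F (perpG (RingEquiv.refl F) G (Submodule.span F {v})) + 1
    omega
  obtain ⟨v, hv0, hQv⟩ : ∃ v : ι → F, v ≠ 0 ∧ Q v = 0 := by
    obtain ⟨i⟩ : Nonempty ι := Fintype.card_pos_iff.1 (by omega)
    set u : ι → F := Pi.single i 1 with hu
    have hu0 : u ≠ 0 := by simp [hu]
    by_cases hQu : Q u = 0
    · exact ⟨u, hu0, hQu⟩
    obtain ⟨w, hw, hwu⟩ : ∃ w ∈ perp u, w ∉ Submodule.span F {u} := by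
      by_contra hcon
      push Not at hcon
      have h1 := Submodule.finrank_mono (show perp u ≤ Submodule.span F {u} from hcon)
      rw [finrank_span_singleton hu0] at h1
      have := hrank u
      omega
    obtain ⟨a, ha⟩ := exists_sqrt h2 (Q w)
    obtain ⟨b, hb⟩ := exists_sqrt h2 (Q u)
    have hb0 : b ≠ 0 := fun e => hQu (by rw [← hb, e, mul_zero])
    refine ⟨a • u + b • w, fun e => hwu ?_, ?_⟩
    · refine Submodule.mem_span_singleton.2 ⟨-(a / b), ?_⟩
      have h3 := congrArg (b⁻¹ • ·) e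
      simp only [smul_add, smul_smul, inv_mul_cancel₀ hb0, one_smul, smul_zero] at h3
      rw [eq_neg_of_add_eq_zero_right h3, ← neg_smul, div_eq_inv_mul]
    · have h0 : formG (RingEquiv.refl F) G u w = 0 := hG.zero_swap (hperp hw)
      rw [hadd, hQ.smul, hQ.smul, (isSesq_formG _ G).smul_left, (isSesq_formG _ G).smul_right, h0, ← ha, ← hb]
      linear_combination (a * a * b * b) * h2
  obtain ⟨t, ht, htm⟩ := hA v 1
  obtain ⟨μ, hμ⟩ := hle ht
  obtain ⟨z, hz, hQz⟩ : ∃ z ∈ perp v, Q z ≠ 0 := by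
    by_contra hcon
    push Not at hcon
    have h1 : perp v ≤ perpG (RingEquiv.refl F) G (perp v) := fun a ha b hb => by
      have h3 := hcon (a + b) (add_mem ha hb)
      rwa [hadd, hcon a ha, hcon b hb, zero_add, zero_add] at h3
    have h3 := Submodule.finrank_mono h1
    obtain ⟨L, hL⟩ := exists_isCompl (perp v)
    have e1 := Submodule.finrank_sup_add_finrank_inf_eq (perp v) L
    rw [hL.sup_eq_top, hL.inf_eq_bot, finrank_top, finrank_bot, Module.finrank_fintype_fun_eq_card] at e1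
    have e2 : perpG (RingEquiv.refl F) G L ⊓ perp v = ⊥ := by
      rw [eq_bot_iff]
      rintro y ⟨hy1, hy2⟩
      rw [Submodule.mem_bot]
      refine nondeg_left (σ := RingEquiv.refl F) hG.det fun u => ?_
      obtain ⟨p, hp, l, hl, rfl⟩ := Submodule.mem_sup.1 (hL.sup_eq_top ▸ Submodule.mem_top : u ∈ perp v ⊔ L)
      rw [(isSesq_formG _ G).add_right, h1 hy2 p hp, hy1 l hl, add_zero]
    have e4 := Submodule.finrank_sup_add_finrank_inf_eq (perpG (RingEquiv.refl F) G L) (perp v)
    rw [e2, finrank_bot] at e4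
    have e5 := Submodule.finrank_le (perpG (RingEquiv.refl F) G L ⊔ perp v)
    rw [Module.finrank_fintype_fun_eq_card] at e5
    have := finrank_perp (RingEquiv.refl F) G L
    have := hrank v
    omega
  have hμ1 : (μ : F) = 1 := by
    have h1 := hμ z
    rw [htm, hperp hz, mul_zero, zero_smul, add_zero] at h1
    exact mul_right_cancel₀ hQz (h1.symm.trans (one_mul _).symm)
  obtain ⟨u, hu⟩ := exists_pair_ne hG hv0
  have h1 := hμ u
  rw [htm, hμ1, one_mul, one_mul, hadd, hQ.smul, hQv, mul_zero, add_zero, (isSesq_formG _ G).smul_right,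
    RingEquiv.refl_apply, add_eq_left] at h1
  exact hu (mul_self_eq_zero.1 h1)

/-- A subspace with a non-degenerate alternating form has even rank. -/
theorem even_rank {W : Submodule F (ι → F)} (halt : ∀ v, formG (RingEquiv.refl F) G v v = 0)
    (hW : IsNondegenerateOn (formG (RingEquiv.refl F) G) W) : Even (Module.finrank F W) := by
  classical
  have hs := isSesq_formG (RingEquiv.refl F) G
  let b := Module.finBasis F W
  let L : (Fin (Module.finrank F W) → F) → (ι → F) := fun x => (b.equivFun.symm x : W)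
  let f : (Fin (Module.finrank F W) → F) → (Fin (Module.finrank F W) → F) → F :=
    fun x y => formG (RingEquiv.refl F) G (L x) (L y)
  have hskew : ∀ u w, formG (RingEquiv.refl F) G u w = - formG (RingEquiv.refl F) G w u := fun u w => by
    have h1 := halt (u + w)
    rw [hs.add_left, hs.add_right, hs.add_right, halt, halt] at h1
    linear_combination h1
  have hLsurj : ∀ w ∈ W, ∃ x, L x = w := fun w hw =>
    ⟨b.equivFun ⟨w, hw⟩, by simp only [L, LinearEquiv.symm_apply_apply]⟩
  have hf : IsSymplecticForm f := by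
    refine ⟨⟨fun x y z => ?_, fun c x z => ?_, fun x y z => ?_, fun c x z => ?_⟩, fun x y => hskew _ _,
      fun x => halt _, fun x hx => ?_⟩
    · simp only [f, L, map_add, Submodule.coe_add, hs.add_left]
    · simp only [f, L, map_smul, SetLike.val_smul, hs.smul_left]
    · simp only [f, L, map_add, Submodule.coe_add, hs.add_right]
    · simp only [f, L, map_smul, SetLike.val_smul, hs.smul_right, RingEquiv.refl_apply]
    have hx0 : L x ≠ 0 := fun e => hx (b.equivFun.symm.injective (by rw [map_zero]; exact Subtype.ext e))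
    obtain ⟨⟨p, hp, hp'⟩, ⟨q, hq, hq'⟩⟩ := hW (L x) (SetLike.coe_mem _) hx0
    obtain ⟨xp, rfl⟩ := hLsurj p hp
    obtain ⟨xq, rfl⟩ := hLsurj q hq
    exact ⟨⟨xp, hp'⟩, ⟨xq, hq'⟩⟩
  haveI : Fintype F := Fintype.ofFinite F
  simpa using even_of_symp hf

end Cfsg.Agent.Asch
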