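import Cfsg.Agent.Asch.EvenSetting
import Cfsg.Agent.Asch.SympTrans

/-!
Every group of isometries of a quadratic form in even dimension lies in a geometric member or is almost simple
modulo scalars.
-/

set_option autoImplicit false
set_option linter.unusedSectionVars false

namespace Cfsg.Agent.Asch

open Matrix Cfsg.Geo Cfsg.Agent.PrimeDim QuadraticMap
open scoped MatrixGroups Kronecker commutatorElement
open Cfsg.Agent.Classical Cfsg.Agent.Classical.Quad

variable {F : Type*} [Field F] [Fintype F] {ι : Type} [Fintype ι] [DecidableEq ι]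

/-- The geometric members containing the group. -/
def EvenMember (Q : QuadraticForm F (ι → F)) (H : Subgroup (GL ι F)) : Prop :=
  (∃ W : Submodule F (ι → F), W ≠ ⊥ ∧ IsTotallySingularQuad ⇑Q W ∧ H ≤ subspaceStabilizer W) ∨
  (∃ W : Submodule F (ι → F), W ≠ ⊥ ∧ IsNondegenerateOn (polar ⇑Q) W ∧ 2 * Module.finrank F W < Fintype.card ι ∧
    (Odd (Module.finrank F W) → (2 : F) ≠ 0) ∧ H ≤ subspaceStabilizer W) ∨
  (∃ (k : ℕ) (D : Fin 2 → Submodule F (ι → F)), 2 * k = Fintype.card ι ∧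
    IsNondegenerateMDecomposition (polar ⇑Q) k D ∧ (Odd k → (2 : F) ≠ 0) ∧ (∀ i, H ≤ subspaceStabilizer (D i)) ∧
    H ≤ decompositionStabilizer D) ∨
  (∃ v : ι → F, (2 : F) = 0 ∧ Q v ≠ 0 ∧ H ≤ subspaceStabilizer (Submodule.span F {v})) ∨
  (∃ (t k : ℕ) (D : Fin t → Submodule F (ι → F)), IsOrthogonalMDecomposition ⇑Q k D ∧ (Odd k → (2 : F) ≠ 0) ∧
    H ≤ decompositionStabilizer D) ∨
  (∃ (k : ℕ) (D : Fin 2 → Submodule F (ι → F)), 2 * k = Fintype.card ι ∧ IsMDecomposition k D ∧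
    (∀ i, IsTotallySingularQuad ⇑Q (D i)) ∧ H ≤ decompositionStabilizer D) ∨
  (∃ (r : ℕ) (K : Subalgebra F (Matrix ι ι F)), r.Prime ∧ r ∣ Fintype.card ι ∧ IsFieldSubalgebra r K ∧
    IsAdjointClosedFor (polar ⇑Q) K ∧
    ((IsSelfAdjointFor (polar ⇑Q) K ∧ ((2 : F) = 0 → ∀ k ∈ K, ∀ v, polar Q (k *ᵥ v) v = 0)) ∨
      (r = 2 ∧ ¬ IsSelfAdjointFor (polar ⇑Q) K ∧ ∀ k ∈ K, ∃ c : F, ∀ v, Q (k *ᵥ v) = c * Q v)) ∧
    H ≤ subalgebraNormalizer K) ∨
  (∃ (d k : ℕ) (e : ι ≃ Fin d × Fin k) (P : GL ι F) (f₁ : (Fin d → F) → (Fin d → F) → F)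
    (f₂ : (Fin k → F) → (Fin k → F) → F), (2 : F) ≠ 0 ∧ 3 ≤ d ∧ 3 ≤ k ∧ IsSymmetricForm f₁ ∧ IsSymmetricForm f₂ ∧
      IsTensorFormStructure id (polar ⇑Q) f₁ f₂ e P ∧ H ≤ tensorProductSubgroup d k e P) ∨
  (∃ (d k : ℕ) (e : ι ≃ Fin d × Fin k) (P : GL ι F) (f₁ : (Fin d → F) → (Fin d → F) → F)
    (f₂ : (Fin k → F) → (Fin k → F) → F), IsSymplecticForm f₁ ∧ IsSymplecticForm f₂ ∧ 2 ≤ d ∧ 2 ≤ k ∧
      IsTensorFormStructure id (polar ⇑Q) f₁ f₂ e P ∧
      (∀ (x₁ : Fin d → F) (x₂ : Fin k → F),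
        Q ((P : Matrix ι ι F) *ᵥ ((fun a : Fin d × Fin k => x₁ a.1 * x₂ a.2) ∘ e)) = 0) ∧
      H ≤ tensorProductSubgroup d k e P) ∨
  (∃ (F₀ : Subfield F) (r : ℕ) (P : GL ι F) (ζ : F), r.Prime ∧ Fintype.card F = Nat.card F₀ ^ r ∧ ζ ≠ 0 ∧
    IsQuadFormRationalStructure (fun v => ζ * Q v) F₀ P ∧ H ≤ subfieldSubgroup F₀ P) ∨
  (IsPlusTypeOn ⇑Q ⊤ ∧ ∃ k, Fintype.card ι = 2 ^ k) ∨
  (∃ m t : ℕ, 2 ≤ m ∧ 2 ≤ t ∧ Fintype.card ι = m ^ t ∧ (m = 2 → IsPlusTypeOn ⇑Q ⊤))

variable {Q : QuadraticForm F (ι → F)} {G : Matrix ι ι F} {H : Subgroup (GL ι F)}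

theorem EvenMember.mkTs (W : Submodule F (ι → F)) (h : W ≠ ⊥ ∧ IsTotallySingularQuad ⇑Q W ∧ H ≤ subspaceStabilizer W) :
    EvenMember Q H := Or.inl ⟨W, h⟩

theorem EvenMember.mkNd (W : Submodule F (ι → F))
    (h : W ≠ ⊥ ∧ IsNondegenerateOn (polar ⇑Q) W ∧ 2 * Module.finrank F W < Fintype.card ι ∧
      (Odd (Module.finrank F W) → (2 : F) ≠ 0) ∧ H ≤ subspaceStabilizer W) : EvenMember Q H :=
  Or.inr (Or.inl ⟨W, h⟩)

/-- A Kronecker product evaluated on a pure tensor. -/
theorem kron_pure {d k : ℕ} (A : Matrix (Fin d) (Fin d) F) (B : Matrix (Fin k) (Fin k) F) (x : Fin d → F)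
    (y : Fin k → F) :
    (fun p : Fin d × Fin k => x p.1 * y p.2) ⬝ᵥ ((A ⊗ₖ B) *ᵥ fun p : Fin d × Fin k => x p.1 * y p.2) =
      (x ⬝ᵥ (A *ᵥ x)) * (y ⬝ᵥ (B *ᵥ y)) := by
  have h2 : ∀ p : Fin d × Fin k, ((A ⊗ₖ B) *ᵥ fun p => x p.1 * y p.2) p = (A *ᵥ x) p.1 * (B *ᵥ y) p.2 := by
    intro p
    simp only [Matrix.mulVec, dotProduct]
    rw [Fintype.sum_prod_type, Finset.sum_mul_sum]
    refine Finset.sum_congr rfl fun i _ => Finset.sum_congr rfl fun j _ => ?_
    rw [Matrix.kronecker_apply]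
    ring
  simp only [dotProduct, h2]
  rw [Fintype.sum_prod_type, Finset.sum_mul_sum]
  exact Finset.sum_congr rfl fun i _ => Finset.sum_congr rfl fun j _ => by ring

/-- The binary symmetric isometry group of determinant one is abelian. -/
theorem binary_comm (h2 : (2 : F) ≠ 0) {B : Matrix (Fin 2) (Fin 2) F} (hB : B.det ≠ 0) (hBs : Bᵀ = B)
    {C D : Matrix (Fin 2) (Fin 2) F} (hC : Cᵀ * B * C = B) (hD : Dᵀ * B * D = B) (hCd : C.det = 1) (hDd : D.det = 1) :
    C * D = D * C := by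
  set M : Matrix (Fin 2) (Fin 2) F := !![B 0 1, B 1 1; -(B 0 0), -(B 0 1)] with hM
  set J : Matrix (Fin 2) (Fin 2) F := !![0, 1; -1, 0] with hJ
  have hB10 : B 1 0 = B 0 1 := congrFun (congrFun hBs 0) 1
  have hBM : B * M = B.det • J := by
    rw [Matrix.det_fin_two]
    ext i j
    fin_cases i <;> fin_cases j <;> simp [hM, hJ, Matrix.mul_apply, Fin.sum_univ_two, hB10] <;> ring
  have key : ∀ A : Matrix (Fin 2) (Fin 2) F, Aᵀ * B * A = B → A.det = 1 → M * A = A * M := by
    intro A hA hAd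
    have hJA : Aᵀ * J * A = J := by
      suffices hh : Aᵀ * J * A = A.det • J by rw [hh, hAd, one_smul]
      rw [Matrix.det_fin_two]
      ext i j
      fin_cases i <;> fin_cases j <;> simp [hJ, Matrix.mul_apply, Fin.sum_univ_two] <;> ring
    have hAu : IsUnit (Aᵀ * B) := by
      refine (Matrix.isUnit_iff_isUnit_det _).2 ?_
      rw [Matrix.det_mul, Matrix.det_transpose, hAd, one_mul]
      exact isUnit_iff_ne_zero.2 hB
    refine hAu.mul_left_cancel ?_
    rw [← mul_assoc (Aᵀ * B) A, hA, hBM, mul_assoc, ← mul_assoc B M, hBM, Matrix.smul_mul, Matrix.mul_smul,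
      ← mul_assoc, hJA]
  have hC' := key C hC hCd
  have hD' := key D hD hDd
  have hne : B 1 1 ≠ 0 ∨ B 0 0 ≠ 0 ∨ B 0 1 ≠ 0 := by
    by_contra hcon
    push Not at hcon
    exact hB (by rw [Matrix.det_fin_two, hcon.1, hcon.2.1, hB10, hcon.2.2]; simp)
  obtain ⟨P1, P2, P3⟩ : C 0 1 * D 1 0 = D 0 1 * C 1 0 ∧ C 0 1 * (D 1 1 - D 0 0) = D 0 1 * (C 1 1 - C 0 0) ∧
      C 1 0 * (D 1 1 - D 0 0) = D 1 0 * (C 1 1 - C 0 0) := by
    have heq : ∀ A : Matrix (Fin 2) (Fin 2) F, M * A = A * M → B 1 1 * A 1 0 + B 0 0 * A 0 1 = 0 ∧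
        2 * B 0 1 * A 0 1 + B 1 1 * (A 1 1 - A 0 0) = 0 ∧ B 0 0 * (A 1 1 - A 0 0) - 2 * B 0 1 * A 1 0 = 0 := by
      intro A hA
      have a1 := congrFun (congrFun hA 0) 0
      have a2 := congrFun (congrFun hA 0) 1
      have a3 := congrFun (congrFun hA 1) 0
      simp [hM, Matrix.mul_apply, Fin.sum_univ_two] at a1 a2 a3
      exact ⟨by linear_combination a1, by linear_combination a2, by linear_combination a3⟩
    obtain ⟨e1, e2, e3⟩ := heq C hC'
    obtain ⟨f1, f2, f3⟩ := heq D hD'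
    by_cases h11 : B 1 1 = 0
    · by_cases h00 : B 0 0 = 0
      · have h01 := mul_ne_zero h2 ((hne.resolve_left (· h11)).resolve_left (· h00))
        simp only [h11, h00, zero_mul, add_zero, zero_sub, neg_eq_zero, mul_eq_zero, h01, false_or] at e2 e3 f2 f3
        simp [e2, e3, f2, f3]
      · have p1 : C 0 1 * D 1 0 = D 0 1 * C 1 0 := mul_left_cancel₀ h00 (by linear_combination D 1 0 * e1 - C 1 0 * f1)
        have p3 : C 1 0 * (D 1 1 - D 0 0) = D 1 0 * (C 1 1 - C 0 0) :=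
          mul_left_cancel₀ h00 (by linear_combination C 1 0 * f3 - D 1 0 * e3)
        exact ⟨p1, mul_left_cancel₀ h00 (by
          linear_combination (D 1 1 - D 0 0) * e1 - (C 1 1 - C 0 0) * f1 - B 1 1 * p3), p3⟩
    · have p1 : C 0 1 * D 1 0 = D 0 1 * C 1 0 := mul_left_cancel₀ h11 (by linear_combination C 0 1 * f1 - D 0 1 * e1)
      have p2 : C 0 1 * (D 1 1 - D 0 0) = D 0 1 * (C 1 1 - C 0 0) :=
        mul_left_cancel₀ h11 (by linear_combination C 0 1 * f2 - D 0 1 * e2)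
      exact ⟨p1, p2, mul_left_cancel₀ h11 (by
        linear_combination (D 1 1 - D 0 0) * e1 - (C 1 1 - C 0 0) * f1 - B 0 0 * p2)⟩
  ext i j
  fin_cases i <;> fin_cases j <;> simp [Matrix.mul_apply, Fin.sum_univ_two]
  · linear_combination P1
  · linear_combination P2
  · linear_combination -P3
  · linear_combination -P1

theorem EvenSetting.odd_rank (h : EvenSetting Q G H) {W : Submodule F (ι → F)}
    (hnd : IsNondegenerateOn (polar ⇑Q) W) (ho : Odd (Module.finrank F W)) : (2 : F) ≠ 0 := fun h2 =>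
  Nat.not_even_iff_odd.2 ho (even_rank (G := G) (h.alt h2) (by rw [h.pol_fun]; exact hnd))

/-- The members arising from an invariant subspace. -/
def RedMember (Q : QuadraticForm F (ι → F)) (H : Subgroup (GL ι F)) : Prop :=
  (∃ W : Submodule F (ι → F), W ≠ ⊥ ∧ IsTotallySingularQuad ⇑Q W ∧ H ≤ subspaceStabilizer W) ∨
  (∃ W : Submodule F (ι → F), W ≠ ⊥ ∧ IsNondegenerateOn (polar ⇑Q) W ∧ 2 * Module.finrank F W < Fintype.card ι ∧
    (Odd (Module.finrank F W) → (2 : F) ≠ 0) ∧ H ≤ subspaceStabilizer W) ∨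
  (∃ (k : ℕ) (D : Fin 2 → Submodule F (ι → F)), 2 * k = Fintype.card ι ∧
    IsNondegenerateMDecomposition (polar ⇑Q) k D ∧ (Odd k → (2 : F) ≠ 0) ∧ (∀ i, H ≤ subspaceStabilizer (D i)) ∧
    H ≤ decompositionStabilizer D) ∨
  (∃ v : ι → F, (2 : F) = 0 ∧ Q v ≠ 0 ∧ H ≤ subspaceStabilizer (Submodule.span F {v}))

theorem EvenSetting.reducible_cases (h : EvenSetting Q G H) {W : Submodule F (ι → F)} (hb : W ≠ ⊥)
    (htopne : W ≠ ⊤) (hW : Inv H W) : RedMember Q H := by
  classical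
  have hs := isSesq_formG (RingEquiv.refl F) G
  by_cases hI : W ⊓ perpG (RingEquiv.refl F) G W = ⊥
  swap
  · set I := W ⊓ perpG (RingEquiv.refl F) G W with hIdef
    have hIinv : Inv H I := fun g hg v hv => ⟨hW g hg v hv.1, inv_perp h.fix hW g hg v hv.2⟩
    have hII : ∀ u ∈ I, ∀ v ∈ I, polar Q u v = 0 := fun u hu v hv => by rw [← h.pol]; exact hu.2 v hv.1
    let S : Submodule F (ι → F) :=
      { carrier := {v | v ∈ I ∧ Q v = 0}
        add_mem' := fun {u v} hu hv => ⟨I.add_mem hu.1 hv.1, by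
          rw [map_add' u v, hu.2, hv.2, hII u hu.1 v hv.1, add_zero, add_zero]⟩
        zero_mem' := ⟨I.zero_mem, QuadraticMap.map_zero Q⟩
        smul_mem' := fun c v hv => ⟨I.smul_mem c hv.1, by rw [map_smul' c v, hv.2, mul_zero]⟩ }
    by_cases hS : S = ⊥
    swap
    · exact Or.inl ⟨S, hS, fun v hv => hv.2, le_stab fun g hg v hv => ⟨hIinv g hg v hv.1, by rw [h.iso g hg]; exact hv.2⟩⟩
    have hQne : ∀ v ∈ I, v ≠ 0 → Q v ≠ 0 := fun v hv hv0 e => hv0 ((Submodule.mem_bot F).1 (hS ▸ ⟨hv, e⟩))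
    obtain ⟨v, hv, hv0⟩ := I.exists_mem_ne_zero_of_ne_bot hI
    have h2 : (2 : F) = 0 := by
      by_contra h2
      refine hQne v hv hv0 (h.zero_of h2 ?_)
      rw [h.pol]; exact hII v hv v hv
    refine Or.inr (Or.inr (Or.inr ⟨v, h2, hQne v hv hv0, ?_⟩))
    have hspan : I = Submodule.span F {v} := le_antisymm (fun u hu => by
      obtain ⟨s, hs'⟩ := exists_sqrt h2 (Q u / Q v)
      refine Submodule.mem_span_singleton.2 ⟨s, ?_⟩
      by_contra hne
      refine hQne (u + (-s) • v) (I.add_mem hu (I.smul_mem _ hv)) (fun e => hne ?_) ?_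
      · rw [neg_smul, ← sub_eq_add_neg, sub_eq_zero] at e; exact e.symm
      · rw [map_add_smul, hII u hu v hv, show (-s) * -s = Q u / Q v by linear_combination hs',
          div_mul_cancel₀ _ (hQne v hv hv0)]
        linear_combination (Q u) * h2) ((Submodule.span_singleton_le_iff_mem _ _).2 hv)
    rw [← hspan]
    exact le_stab hIinv
  set W' := perpG (RingEquiv.refl F) G W with hW'
  have hW'inv : Inv H W' := inv_perp h.fix hW
  have hdim : Module.finrank F W + Module.finrank F W' = Fintype.card ι := by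
    have h1 := Submodule.finrank_sup_add_finrank_inf_eq W W'
    rw [hI, finrank_bot, add_zero] at h1
    have h2 := Submodule.finrank_le (W ⊔ W')
    rw [Module.finrank_fintype_fun_eq_card] at h2
    have := finrank_perp (RingEquiv.refl F) G W
    rw [← hW'] at this
    omega
  have htop : W ⊔ W' = ⊤ := by
    refine Submodule.eq_top_of_finrank_eq ?_
    have h1 := Submodule.finrank_sup_add_finrank_inf_eq W W'
    rw [hI, finrank_bot, add_zero, hdim] at h1
    rw [h1, Module.finrank_fintype_fun_eq_card]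
  let E : Fin 2 → Submodule F (ι → F) := ![W, W']
  have hE : iSup E = ⊤ := eq_top_iff.2 (htop ▸ sup_le (le_iSup E 0) (le_iSup E 1))
  have hort : ∀ c c', c ≠ c' → AreOrthogonalFor (formG (RingEquiv.refl F) G) (E c) (E c') := by
    intro c c' hcc u hu v hv
    fin_cases c <;> fin_cases c' <;> first | exact absurd rfl hcc | exact hu v hv | exact h.rg.zero_swap (hv u hu)
  have hnd := nondeg_of_orth h.rg hE hort
  rw [h.pol_fun] at hnd hort
  rcases lt_trichotomy (2 * Module.finrank F W) (Fintype.card ι) with hlt | heq | hgt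
  · exact Or.inr (Or.inl ⟨W, hb, hnd 0, hlt, h.odd_rank (hnd 0), le_stab hW⟩)
  · refine Or.inr (Or.inr (Or.inl ⟨Module.finrank F W, E, heq,
      ⟨pair_decomp ?_ rfl ?_ hI htop, hnd, hort⟩, h.odd_rank (hnd 0), fun i => ?_,
      le_pair_stabilizer (by omega) fun g hg => Or.inl ⟨hW g hg, hW'inv g hg⟩⟩))
    · have := h.eight; omega
    · omega
    · fin_cases i
      · exact le_stab hW
      · exact le_stab hW'inv
  · exact Or.inr (Or.inl ⟨W', fun e => htopne (by rw [← htop, e, sup_bot_eq]), hnd 1, by omega, h.odd_rank (hnd 1),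
      le_stab hW'inv⟩)

theorem RedMember.even (hm : RedMember Q H) : EvenMember Q H := by
  rcases hm with ⟨W, h1⟩ | ⟨W, h1⟩ | h1 | h1
  · exact .mkTs W h1
  · exact .mkNd W h1
  · exact Or.inr (Or.inr (Or.inl h1))
  · exact Or.inr (Or.inr (Or.inr (Or.inl h1)))

theorem EvenSetting.reducible_member (h : EvenSetting Q G H) {W : Submodule F (ι → F)} (hb : W ≠ ⊥)
    (htopne : W ≠ ⊤) (hW : Inv H W) : EvenMember Q H := (h.reducible_cases hb htopne hW).even

theorem EvenSetting.subfield_member (h : EvenSetting Q G H) {N : Subgroup (GL ι F)} (hNH : N ≤ H)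
    (hn : Normalised H N) (hN : ActsAbsolutelyIrreducibly (matrixSet N)) {F₀ : Subfield F} (hF₀ : F₀ ≠ ⊤)
    (hr : RealisableOver F₀ (matrixSet N)) : EvenMember Q H := by
  haveI := h.nonempty
  obtain ⟨B, hB⟩ := realisable_mat.1 hr
  obtain ⟨F₁, l, hl, hc, hB₁, hle⟩ := le_subfield hN hn hF₀ hB
  set N' := N.comap (fr (Equiv.refl ι) B⁻¹).toMonoidHom with hN'
  have hE : ∀ g ∈ N', Entries F₁ (mat g) := by
    intro g hg
    have h1 := hB₁ _ hg
    rwa [show B * (fr (Equiv.refl ι) B⁻¹).toMonoidHom g * B⁻¹ = g by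
      show B * (B⁻¹ * g * B⁻¹⁻¹) * B⁻¹ = g
      group] at h1
  have hN'abs : ActsAbsolutelyIrreducibly (matrixSet N') := abs_comap _ _ hN
  obtain ⟨lam, G₁, hlam, hG₁, heq⟩ := rational_gram hN'abs hE (h.rg.frame (Equiv.refl ι) B⁻¹).det
    (fixes_comap (Equiv.refl ι) B⁻¹ fun g hg => h.fix g (hNH hg))
  refine Or.inr (Or.inr (Or.inr (Or.inr (Or.inr (Or.inr (Or.inr (Or.inr (Or.inr (Or.inl
    ⟨F₁, l, B⁻¹, lam⁻¹, hl, hc, inv_ne_zero hlam, fun u hu => ?_, hle⟩)))))))))
  let q : (ι → F) → F := fun x => lam⁻¹ * Q (frL (Equiv.refl ι) B⁻¹ x)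
  show q u ∈ F₁
  have hqp : ∀ x y, q (x + y) - q x - q y = formG (RingEquiv.refl F) G₁ x y := fun x y => by
    have h1 : formG (RingEquiv.refl F) (frG (RingEquiv.refl F) (Equiv.refl ι) B⁻¹ G) x y =
        polar Q (frL (Equiv.refl ι) B⁻¹ x) (frL (Equiv.refl ι) B⁻¹ y) := by rw [formG_frL, h.pol]
    rw [heq, formG_smul, polar, ← map_add (frL (Equiv.refl ι) B⁻¹)] at h1
    simp only [q]
    field_simp
    linear_combination -h1
  have hqs : ∀ (c : F) x, q (c • x) = c ^ 2 * q x := fun c x => by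
    simp only [q, map_smul (frL (Equiv.refl ι) B⁻¹), map_smul' c (frL (Equiv.refl ι) B⁻¹ x)]
    ring
  have hG₁mem : ∀ x y : ι → F, (∀ i, x i ∈ F₁) → (∀ i, y i ∈ F₁) → formG (RingEquiv.refl F) G₁ x y ∈ F₁ :=
    fun x y hx hy => by
      simp only [formG, dotProduct, Matrix.mulVec, RingEquiv.refl_apply]
      exact Subfield.sum_mem _ fun a _ => mul_mem (hx a) (Subfield.sum_mem _ fun b _ => mul_mem (hG₁ a b) (hy b))
  by_cases h2 : (2 : F) = 0
  swap
  · have h1 := hG₁mem u u hu hu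
    rw [← hqp, ← two_smul F u, hqs] at h1
    have h3 := div_mem h1 (natCast_mem F₁ 2)
    rwa [Nat.cast_ofNat, show (2 : F) ^ 2 * q u - q u - q u = 2 * q u by ring, mul_div_assoc, mul_comm,
      div_mul_cancel₀ _ h2] at h3
  obtain ⟨τ, hτ, -⟩ := exists_powHom F₁
  let T : F ≃+* F := RingEquiv.ofBijective τ (Finite.injective_iff_bijective.1 τ.injective)
  have hTfix : ∀ {x}, x ∈ F₁ → T x = x := fun hx => (hτ _).1 hx
  refine (hτ _).2 ?_
  let Dd : (ι → F) → F := fun x => T (q fun i => T.symm (x i)) - q x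
  have hsum : ∀ x y : ι → F, formG (RingEquiv.refl F) G₁ (fun i => T.symm (x i)) (fun i => T.symm (y i)) =
      T.symm (formG (RingEquiv.refl F) G₁ x y) := fun x y => by
    simp only [formG, dotProduct, Matrix.mulVec, RingEquiv.refl_apply, map_sum, map_mul]
    refine Finset.sum_congr rfl fun a _ => congrArg _ (Finset.sum_congr rfl fun b _ => ?_)
    congr 1
    exact T.injective (by rw [RingEquiv.apply_symm_apply, hTfix (hG₁ a b)])
  have hD0 : ∀ x, Dd x = 0 := sq_additive_zero h2 h.two_le (a := fun g : N' => mat g.1)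
    (fun W hW => (abs_iff.1 hN'abs).1 W fun g hg => hW ⟨g, hg⟩) Dd (fun x y => ?_) (fun c x => ?_) fun g x hx => ?_
  · have h1 := hD0 u
    simp only [Dd] at h1
    rw [show (fun i => T.symm (u i)) = u from funext fun i => T.injective (by
      rw [RingEquiv.apply_symm_apply, hTfix (hu i)]), sub_eq_zero] at h1
    exact h1
  · have h1 := congrArg T (hqp (fun i => T.symm (x i)) fun i => T.symm (y i))
    rw [hsum, RingEquiv.apply_symm_apply, ← hqp x y, map_sub, map_sub,
      show ((fun i => T.symm (x i)) + fun i => T.symm (y i)) = fun i => T.symm ((x + y) i) from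
        funext fun i => (map_add T.symm _ _).symm] at h1
    simp only [Dd]
    linear_combination h1
  · simp only [Dd]
    rw [show (fun i => T.symm ((c • x) i)) = T.symm c • fun i => T.symm (x i) from funext fun i => map_mul T.symm _ _,
      hqs, hqs, map_mul, map_pow, RingEquiv.apply_symm_apply]
    ring
  · have hqinv : ∀ y, q (mat g.1 *ᵥ y) = q y := fun y => by
      simp only [q]
      rw [← fr_mulVec, h.iso _ (hNH (show fr (Equiv.refl ι) B⁻¹ g.1 ∈ N from g.2))]
    simp only [Dd] at hx ⊢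
    rw [show (fun i => T.symm ((mat g.1 *ᵥ x) i)) = mat g.1 *ᵥ fun i => T.symm (x i) from funext fun i => by
      simp only [Matrix.mulVec, dotProduct, map_sum, map_mul]
      exact Finset.sum_congr rfl fun j _ => congrArg (· * _) (T.injective (by
        rw [RingEquiv.apply_symm_apply, hTfix (hE g.1 g.2 i j)])), hqinv, hqinv]
    exact hx

theorem EvenSetting.paired_member (h : EvenSetting Q G H) (hH : Irr H) (hp : Paired (RingEquiv.refl F) G H) :
    EvenMember Q H := by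
  classical
  haveI := h.nonempty
  have hs := isSesq_formG (RingEquiv.refl F) G
  rcases paired_cases hH h.rg (fun g hg u v huv => by rw [iso_apply h.fix hg, huv]) hp with
    ⟨t, m, D, hD, hle, htr⟩ | ⟨m, D, hm, hD, hts, hle⟩
  · rw [h.pol_fun] at hD
    refine Or.inr (Or.inr (Or.inr (Or.inr (Or.inl ⟨t, m, D, ⟨hD, fun i j => ?_⟩, fun ho => ?_, hle⟩))))
    · obtain ⟨g, hg, hgij⟩ := htr i j
      have hinj : Function.Injective (Matrix.toLin' (mat g)) := fun u v e =>
        mulVec_injective g (by simpa [Matrix.toLin'_apply] using e)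
      refine ⟨(Submodule.equivMapOfInjective _ hinj (D i)).trans (LinearEquiv.ofEq _ _ hgij), fun w => ?_⟩
      simp only [LinearEquiv.trans_apply, LinearEquiv.coe_ofEq_apply, Submodule.coe_equivMapOfInjective_apply,
        Matrix.toLin'_apply, h.iso g hg]
    · have i₀ : Fin t := ⟨0, by have := hD.decomp.two_le; omega⟩
      exact h.odd_rank (hD.nondegenerate i₀) (by rw [hD.decomp.finrank_eq]; exact ho)
  refine Or.inr (Or.inr (Or.inr (Or.inr (Or.inr (Or.inl ⟨m, D, hm, hD, fun i v hv => ?_, hle⟩)))))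
  by_cases h2 : (2 : F) = 0
  swap
  · exact h.zero_of h2 (hts i v hv v hv)
  have hsplit : IsCompl (D 0) (D 1) := by
    refine ⟨hD.indep.pairwiseDisjoint (by decide), codisjoint_iff.2 (eq_top_iff.2 ?_)⟩
    rw [← hD.iSup_eq_top]
    exact iSup_le fun l => by fin_cases l <;> simp
  let π : (ι → F) →ₗ[F] (ι → F) := (D 0).projection (D 1) hsplit
  have hπ : ∀ a ∈ D 0, ∀ b ∈ D 1, π (a + b) = a := fun a ha b hb => by
    rw [map_add, show π a = a from Submodule.IsCompl.projection_apply_left hsplit ⟨a, ha⟩,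
      show π b = 0 from Submodule.IsCompl.projection_apply_right hsplit ⟨b, hb⟩, add_zero]
  have hdec : ∀ u : ι → F, ∃ a ∈ D 0, ∃ b ∈ D 1, a + b = u := fun u =>
    Submodule.mem_sup.1 (hsplit.sup_eq_top ▸ Submodule.mem_top)
  have hT : ∀ u, LinearMap.toMatrix' π *ᵥ u = π u := fun u => by rw [← Matrix.toLin'_apply, Matrix.toLin'_toMatrix']
  rw [h.eq_idem h2 hH (LinearMap.toMatrix' π) (fun u v => ?_) (fun g hg => ?_), hT]
  · fin_cases i
    · have e := hπ v hv 0 (zero_mem _)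
      rw [add_zero] at e
      rw [e]
      exact hts 0 v hv v hv
    · have e := hπ 0 (zero_mem _) v hv
      rw [zero_add] at e
      rw [e]
      simp [formG]
  · obtain ⟨a, ha, b, hb, rfl⟩ := hdec u
    obtain ⟨c, hc, d, hd, rfl⟩ := hdec v
    rw [hT, hT, hπ a ha b hb, hπ c hc d hd]
    simp only [hs.add_left, hs.add_right]
    rw [hts 0 a ha c hc, hts 0 c hc a ha, hts 1 b hb d hd, h.symm b c, zero_add, add_zero, zero_add]
  · obtain ⟨τ, hτ⟩ := hle hg
    have hmap : ∀ i, ∀ a ∈ D i, mat g *ᵥ a ∈ D (τ i) := fun i a ha => by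
      rw [← hτ i]
      exact ⟨a, ha, Matrix.toLin'_apply _ _⟩
    rcases ((by decide : ∀ τ : Equiv.Perm (Fin 2), τ 0 = 0 ∧ τ 1 = 1 ∨ τ 0 = 1 ∧ τ 1 = 0) τ) with ⟨e0, e1⟩ | ⟨e0, e1⟩
    · left
      refine Matrix.mulVec_injective (funext fun u => ?_)
      obtain ⟨a, ha, b, hb, rfl⟩ := hdec u
      rw [← Matrix.mulVec_mulVec, ← Matrix.mulVec_mulVec, hT, hT, hπ a ha b hb, Matrix.mulVec_add,
        hπ _ (e0 ▸ hmap 0 a ha) _ (e1 ▸ hmap 1 b hb)]
    · right
      refine Matrix.mulVec_injective (funext fun u => ?_)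
      obtain ⟨a, ha, b, hb, rfl⟩ := hdec u
      rw [← Matrix.mulVec_mulVec, ← Matrix.mulVec_mulVec, hT, Matrix.sub_mulVec, Matrix.one_mulVec, hT, hπ a ha b hb,
        add_sub_cancel_left, Matrix.mulVec_add, add_comm (mat g *ᵥ a),
        hπ _ (e1 ▸ hmap 1 b hb) _ (e0 ▸ hmap 0 a ha)]

theorem EvenSetting.field_kind (h : EvenSetting Q G H) (hirr : Irr H) {r : ℕ} {K : Subalgebra F (Matrix ι ι F)}
    (hr : r.Prime) (hK : IsFieldSubalgebra r K) (hle : H ≤ subalgebraNormalizer K)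
    (hadj : IsAdjointClosedFor (formG (RingEquiv.refl F) G) K) : (IsSelfAdjointFor (polar ⇑Q) K ∧ ((2 : F) = 0 → ∀ k ∈ K, ∀ v, polar Q (k *ᵥ v) v = 0)) ∨
      (r = 2 ∧ ¬ IsSelfAdjointFor (polar ⇑Q) K ∧ ∀ k ∈ K, ∃ c : F, ∀ v, Q (k *ᵥ v) = c * Q v) := by
  classical
  haveI := h.nonempty
  have hs := isSesq_formG (RingEquiv.refl F) G
  rw [← h.pol_fun]
  by_cases hsa : IsSelfAdjointFor (formG (RingEquiv.refl F) G) K
  · refine Or.inl ⟨hsa, fun h2 k hk v => ?_⟩
    have hinj : Function.Injective fun x : K => x * x := by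
      intro x y e
      by_contra hne
      have hd : x.1 - y.1 ≠ 0 := fun e' => hne (Subtype.ext (sub_eq_zero.1 e'))
      obtain ⟨z, hz, hxy⟩ := hK.inv _ (sub_mem x.2 y.2) hd
      have e' : x.1 * x.1 = y.1 * y.1 := congrArg Subtype.val e
      have h0 : (x.1 - y.1) * (x.1 - y.1) = 0 := by
        rw [sub_mul, mul_sub, mul_sub, hK.comm y.1 y.2 x.1 x.2, e',
          show y.1 * y.1 - x.1 * y.1 - (x.1 * y.1 - y.1 * y.1) = (2 : F) • (y.1 * y.1 - x.1 * y.1) by
            rw [two_smul]; abel, h2, zero_smul]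
      refine hd ?_
      calc x.1 - y.1 = (x.1 - y.1) * ((x.1 - y.1) * z) := by rw [hxy, mul_one]
        _ = 0 := by rw [← mul_assoc, h0, zero_mul]
    haveI : Finite K := Subtype.finite
    obtain ⟨l, hl⟩ := Finite.surjective_of_injective hinj ⟨k, hk⟩
    rw [← show l.1 * l.1 = k from congrArg Subtype.val hl, ← Matrix.mulVec_mulVec, hsa l.1 l.2]
    exact h.alt h2 _
  rcases adj_field_cases h.rg hr hK hadj with h1 | ⟨rfl, hscal⟩
  · exact absurd h1 hsa
  refine Or.inr ⟨rfl, hsa, fun k hk => ?_⟩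
  obtain ⟨k', hk', hkk'⟩ := hadj k hk
  obtain ⟨c, hc⟩ := hscal (k' * k) (mul_mem hk' hk) fun u v => by
    rw [← Matrix.mulVec_mulVec, ← Matrix.mulVec_mulVec, adj_symm h.rg hkk', hkk']
  refine ⟨c, fun v => ?_⟩
  by_cases h2 : (2 : F) = 0
  swap
  · refine mul_left_cancel₀ h2 ?_
    rw [← h.half, hkk', Matrix.mulVec_mulVec, hc, Matrix.smul_mulVec, Matrix.one_mulVec, hs.smul_right,
      RingEquiv.refl_apply, h.half]
    ring
  obtain ⟨θ, hθ, hθne⟩ : ∃ θ ∈ K, ∃ u v, formG (RingEquiv.refl F) G (θ *ᵥ u) v ≠ formG (RingEquiv.refl F) G u (θ *ᵥ v) := by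
    rw [IsSelfAdjointFor] at hsa
    push Not at hsa
    exact hsa
  obtain ⟨θ', hθ', hθθ'⟩ := hadj θ hθ
  have hθ'θ := adj_symm h.rg hθθ'
  have hd0 : θ + θ' ≠ 0 := by
    intro e
    obtain ⟨u, w, huw⟩ := hθne
    refine huw ?_
    rw [hθθ' u w, show θ' = θ from ?_]
    rw [eq_comm, ← sub_eq_zero, sub_eq_add_neg, ← neg_one_smul F θ', show (-1 : F) = 1 by linear_combination -h2,
      one_smul]
    exact e
  obtain ⟨a, ha⟩ := hscal (θ + θ') (add_mem hθ hθ') fun u w => by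
    rw [Matrix.add_mulVec, Matrix.add_mulVec, hs.add_left, hs.add_right, hθθ', hθ'θ]; ring
  have ha0 : a ≠ 0 := fun e => hd0 (by rw [ha, e, zero_smul])
  set T := a⁻¹ • θ with hTdef
  set T' := a⁻¹ • θ' with hT'def
  have hTK : T ∈ K := Subalgebra.smul_mem K hθ _
  have hT'K : T' ∈ K := Subalgebra.smul_mem K hθ' _
  have hsum : T + T' = 1 := by rw [hTdef, hT'def, ← smul_add, ha, smul_smul, inv_mul_cancel₀ ha0, one_smul]
  have hTT' : ∀ u w, formG (RingEquiv.refl F) G (T *ᵥ u) w = formG (RingEquiv.refl F) G u (T' *ᵥ w) := fun u w => by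
    rw [Matrix.smul_mulVec, Matrix.smul_mulVec, hs.smul_left, hs.smul_right, RingEquiv.refl_apply, hθθ']
  obtain ⟨n, hn⟩ := hscal (T * T') (mul_mem hTK hT'K) fun u w => by
    rw [← Matrix.mulVec_mulVec, hTT', adj_symm h.rg hTT', Matrix.mulVec_mulVec]
  have hQT : ∀ w, Q w = formG (RingEquiv.refl F) G (T *ᵥ w) w := by
    refine h.eq_idem h2 hirr T (fun u w => ?_) fun g hg => ?_
    · rw [show formG (RingEquiv.refl F) G u w = formG (RingEquiv.refl F) G ((T + T') *ᵥ u) w by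
        rw [hsum, Matrix.one_mulVec], Matrix.add_mulVec, hs.add_left, adj_symm h.rg hTT' u w, ← h.symm u (T *ᵥ w)]
    · set Y := mat g⁻¹ * T * mat g with hY
      have hYK : Y ∈ K := by
        have h1 := (hle (inv_mem hg) T).1 hTK
        rwa [inv_inv] at h1
      have hT' : T' = 1 - T := eq_sub_of_add_eq' hsum
      have hpoly : T * T = T - n • 1 := by rw [← hn, hT', mul_sub, mul_one]; abel
      have hYpoly : Y * Y = Y - n • 1 := by
        calc Y * Y = mat g⁻¹ * (T * T) * mat g := by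
              simp only [hY, mul_assoc]
              rw [← mul_assoc (mat g) (mat g⁻¹), mat_mul_inv, one_mul]
          _ = Y - n • 1 := by
              rw [hpoly, mul_sub, sub_mul, show mat g⁻¹ * (n • 1 : Matrix ι ι F) * mat g = n • 1 by
                rw [Matrix.mul_smul, Matrix.smul_mul, mul_one, mat_inv_mul]]
      have hprod : (Y - T) * (Y - (1 - T)) = 0 := by
        have hc := hK.comm T hTK Y hYK
        simp only [sub_mul, mul_sub, mul_one, hYpoly, hpoly, hc]
        abel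
      have key : ∀ Z, Y = Z → T * mat g = mat g * Z := fun Z e => by
        rw [← e, hY, ← mul_assoc, ← mul_assoc, mat_mul_inv, one_mul]
      by_cases e : Y - T = 0
      · exact Or.inl (key _ (sub_eq_zero.1 e))
      · obtain ⟨y, hy, hyy⟩ := hK.inv _ (sub_mem hYK hTK) e
        rw [hK.comm _ (sub_mem hYK hTK) y hy] at hyy
        have h1 := congrArg (y * ·) hprod
        simp only [← mul_assoc, hyy, one_mul, mul_zero] at h1
        exact Or.inr (key _ (sub_eq_zero.1 h1))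
  rw [hQT, hQT, Matrix.mulVec_mulVec, hK.comm T hTK k hk, ← Matrix.mulVec_mulVec, hkk', Matrix.mulVec_mulVec, hc,
    smul_one_mulVec, hs.smul_right, RingEquiv.refl_apply]

theorem EvenSetting.field_member (h : EvenSetting Q G H) (hirr : Irr H) {r : ℕ} {K : Subalgebra F (Matrix ι ι F)}
    (hr : r.Prime) (hK : IsFieldSubalgebra r K) (hle : H ≤ subalgebraNormalizer K)
    (hadj : IsAdjointClosedFor (formG (RingEquiv.refl F) G) K) : EvenMember Q H :=
  haveI := h.nonempty
  Or.inr (Or.inr (Or.inr (Or.inr (Or.inr (Or.inr (Or.inl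
    ⟨r, K, hr, field_dvd hK, hK, h.pol_fun ▸ hadj, h.field_kind hirr hr hK hle hadj, hle⟩))))))

theorem EvenSetting.tensor_member (h : EvenSetting Q G H) (hirr : Irr H)
    (hf : TensorForm (RingEquiv.refl F) 1 G H) : EvenMember Q H := by
  classical
  haveI := h.nonempty
  obtain ⟨d, k, e, P, G₀, B, s, t, hd, hk, hle, hfr, hG₀, hB, hs, ht, hst⟩ := hf
  rw [map_refl_eq] at hs ht
  haveI : Nonempty (Fin d) := ⟨⟨0, by omega⟩⟩
  haveI : Nonempty (Fin k) := ⟨⟨0, by omega⟩⟩
  have hswap : frG (RingEquiv.refl F) (e.trans (Equiv.prodComm _ _)) P G = B ⊗ₖ G₀ := by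
    rw [show frG (RingEquiv.refl F) (e.trans (Equiv.prodComm _ _)) P G =
      (frG (RingEquiv.refl F) e P G).submatrix (Equiv.prodComm _ _).symm (Equiv.prodComm _ _).symm from rfl, hfr]
    ext ⟨i, j⟩ ⟨i', j'⟩
    simp [Matrix.kronecker_apply, mul_comm]
  by_cases h2 : (2 : F) = 0
  · have hneg : (-1 : F) = 1 := by linear_combination -h2
    have hG₀s : G₀ᵀ = G₀ := by
      rcases sign_of_transpose hG₀ hs with e0 | e0 <;> rw [hs, e0] <;> simp [hneg]
    have hBs : Bᵀ = B := by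
      rcases sign_of_transpose hB ht with e0 | e0 <;> rw [ht, e0] <;> simp [hneg]
    have haB := kron_alt h2 hirr h.fix (by omega) hk e P hle hG₀ hB hfr hBs
    have haG := kron_alt h2 hirr h.fix (by omega) hd _ P (hle.trans (tensor_swap e P)) hB hG₀ hswap hG₀s
    obtain ⟨U, hU, hUinv, hU0⟩ := kron_tri e P hle hfr hG₀s hBs haG haB
    refine Or.inr (Or.inr (Or.inr (Or.inr (Or.inr (Or.inr (Or.inr (Or.inr (Or.inl
      ⟨d, k, e, P, _, _, symplecticForm_formG hG₀ (by rw [hG₀s, ← neg_one_smul F G₀, hneg, one_smul]) haG,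
        symplecticForm_formG hB (by rw [hBs, ← neg_one_smul F B, hneg, one_smul]) haB, hd, hk,
        h.pol_fun ▸ tensorFormStructure_of_eq hfr, fun x y => ?_, hle⟩))))))))
    exact (h.eq_tri h2 hirr e P U hU hUinv _).trans (hU0 x y)
  rcases sign_of_transpose hG₀ hs with hs1 | hs1
  swap
  · have ht1 : t = -1 := by rw [hs1] at hst; linear_combination -hst
    have hG₀a := alt_of_skew h2 (show G₀ᵀ = -G₀ by rw [hs, hs1, neg_one_smul])
    refine Or.inr (Or.inr (Or.inr (Or.inr (Or.inr (Or.inr (Or.inr (Or.inr (Or.inl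
      ⟨d, k, e, P, _, _, symplecticForm_formG hG₀ (by rw [hs, hs1, neg_one_smul]) hG₀a,
        symplecticForm_formG hB (by rw [ht, ht1, neg_one_smul]) (alt_of_skew h2 (by rw [ht, ht1, neg_one_smul])),
        hd, hk, h.pol_fun ▸ tensorFormStructure_of_eq hfr, fun x y => h.zero_of h2 ?_, hle⟩))))))))
    show formG (RingEquiv.refl F) G (frL e P _) (frL e P _) = 0
    rw [← formG_frL, hfr]
    show (fun p : Fin d × Fin k => x p.1 * y p.2) ⬝ᵥ ((G₀ ⊗ₖ B) *ᵥ fun p : Fin d × Fin k => x p.1 * y p.2) = 0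
    rw [kron_pure]
    exact mul_eq_zero_of_left (hG₀a x) _
  have ht1 : t = 1 := by rw [hs1] at hst; linear_combination hst
  have hG₀s : G₀ᵀ = G₀ := by rw [hs, hs1, one_smul]
  have hBs : Bᵀ = B := by rw [ht, ht1, one_smul]
  have binary : ∀ {d : ℕ} [Nonempty (Fin d)] (e : ι ≃ Fin d × Fin 2) (P : GL ι F),
      H ≤ tensorProductSubgroup d 2 e P → ∀ {G₀ : Matrix (Fin d) (Fin d) F} {B : Matrix (Fin 2) (Fin 2) F},
      frG (RingEquiv.refl F) e P G = G₀ ⊗ₖ B → G₀.det ≠ 0 → B.det ≠ 0 → Bᵀ = B → EvenMember Q H := by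
    intro d _ e P hle G₀ B hfr hG₀ hB hBs
    obtain ⟨X, hXX, hskew, hnorm⟩ := skew_of_kron_two h.fix e P hle hfr hG₀ hB hBs
    rcases pair_or_field h2 h.rg (neg_ne_zero.2 hB) hXX hskew hnorm with
      ⟨m, D, hm, hD, hts, hle'⟩ | ⟨K, hK, hadj, hnsa, hle'⟩
    · exact Or.inr (Or.inr (Or.inr (Or.inr (Or.inr (Or.inl
        ⟨m, D, hm, hD, fun i v hv => h.zero_of h2 (hts i v hv v hv), hle'⟩)))))
    · exact h.field_member hirr Nat.prime_two hK hle' hadj
  rcases (show d = 2 ∨ k = 2 ∨ 3 ≤ d ∧ 3 ≤ k by omega) with rfl | rfl | ⟨hd3, hk3⟩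
  · exact binary _ P (hle.trans (tensor_swap e P)) hswap hB hG₀ hG₀s
  · exact binary e P hle hfr hG₀ hB hBs
  · exact Or.inr (Or.inr (Or.inr (Or.inr (Or.inr (Or.inr (Or.inr (Or.inl
      ⟨d, k, e, P, _, _, h2, hd3, hk3, symmetricForm_formG hG₀ hG₀s, symmetricForm_formG hB hBs,
        h.pol_fun ▸ tensorFormStructure_of_eq hfr, hle⟩)))))))

theorem EvenSetting.factors_member (h : EvenSetting Q G H) (hirr : Irr H) {t : ℕ} {Qs : Fin t → Subgroup (GL ι F)}
    (hQ : IsFactors H Qs) : EvenMember Q H := by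
  classical
  haveI := h.nonempty
  obtain ⟨m, e, P, c, s, G₁, N, X, hm, hle, hc, hG₁, hs, hfr, hNp, hNns, hXi, hXm, hXirr, hXfix⟩ :=
    slots_uniform hQ h.rg h.fix
  rw [map_refl_eq] at hs
  simp only [map_refl_eq] at hXfix
  haveI : Nonempty (Fin m) := ⟨⟨0, by omega⟩⟩
  have ht2 := hQ.two_le
  refine Or.inr (Or.inr (Or.inr (Or.inr (Or.inr (Or.inr (Or.inr (Or.inr (Or.inr (Or.inr (Or.inr
    ⟨m, t, hm, ht2, by rw [Fintype.card_congr e, Fintype.card_fun, Fintype.card_fin, Fintype.card_fin], fun hm2 => ?_⟩))))))))))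
  subst hm2
  have i₁ : Fin t := ⟨0, by omega⟩
  have hdiag : (∀ j, G₁ j j = 0) → ((2 : F) = 0 → ∀ a, Q (frL e P (Pi.single a 1)) = 0) → IsPlusTypeOn ⇑Q ⊤ := by
    intro hj hq
    have hzero : ∀ a b : Fin t → Fin 2, a i₁ = b i₁ →
        formG (RingEquiv.refl F) G (frL e P (Pi.single a 1)) (frL e P (Pi.single b 1)) = 0 := fun a b hab => by
      rw [← formG_frL, formG_single, hfr, Matrix.smul_apply, smul_eq_mul]
      refine mul_eq_zero_of_right _ (Finset.prod_eq_zero (Finset.mem_univ i₁) ?_)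
      rw [hab]; exact hj _
    let κ := {a : Fin t → Fin 2 // a i₁ = 0}
    let v : κ → ι → F := fun a => frL e P (Pi.single a.1 1)
    refine plus_of_family v ?_ (fun a => ?_) (fun a b _ => ?_) ?_
    · have h1 := ((Pi.basisFun F (Fin t → Fin 2)).linearIndependent.comp (Subtype.val : κ → _)
        Subtype.val_injective).map' (frL e P).toLinearMap (LinearEquiv.ker _)
      simpa [Function.comp_def, v] using h1
    · by_cases h2 : (2 : F) = 0
      · exact hq h2 a.1
      · exact h.zero_of h2 (hzero a.1 a.1 rfl)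
    · rw [← h.pol]; exact hzero a.1 b.1 (a.2.trans b.2.symm)
    · let eκ : κ × Fin 2 ≃ (Fin t → Fin 2) :=
        { toFun := fun p => Function.update p.1.1 i₁ p.2
          invFun := fun a => (⟨Function.update a i₁ 0, Function.update_self _ _ _⟩, a i₁)
          left_inv := fun p => Prod.ext (Subtype.ext (by
            show Function.update (Function.update p.1.1 i₁ p.2) i₁ 0 = p.1.1
            rw [Function.update_idem]
            exact Function.update_eq_self_iff.2 p.1.2.symm)) (Function.update_self _ _ _)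
          right_inv := fun a => by
            show Function.update (Function.update a i₁ 0) i₁ (a i₁) = a
            rw [Function.update_idem, Function.update_eq_self] }
      rw [Fintype.card_congr e, ← Fintype.card_congr eκ, Fintype.card_prod, Fintype.card_fin, mul_comm]
  by_cases h2 : (2 : F) = 0
  · have hs' : G₁ᵀ = G₁ := by
      rcases sign_of_transpose hG₁ hs with e0 | e0
      · rw [hs, e0, one_smul]
      · rw [hs, e0, show (-1 : F) = 1 by linear_combination -h2, one_smul]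
    have hf := isSesq_formG (RingEquiv.refl F) G₁
    have hg : IsRG (RingEquiv.refl F) 1 G₁ := ⟨hG₁, fun _ => rfl, by rw [map_refl_eq, one_smul, hs']⟩
    have halt : ∀ v, formG (RingEquiv.refl F) G₁ v v = 0 := by
      refine sq_additive_zero h2 (by simp) hXirr _ (fun u w => ?_) (fun l w => ?_) fun x w hw => ?_
      · rw [hf.add_left, hf.add_right, hf.add_right, hg.swap u w, one_mul, RingEquiv.refl_apply]
        linear_combination (formG (RingEquiv.refl F) G₁ u w) * h2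
      · rw [hf.smul_left, hf.smul_right, RingEquiv.refl_apply]; ring
      · rw [formG_mulVec, act, map_refl_eq, hXfix]
        exact hw
    obtain ⟨U, hU, hUinv, hU0⟩ := power_tri ht2 e P hle hfr hs' halt
    refine hdiag (fun j => ?_) fun _ a => ?_
    · have h1 := halt (Pi.single j 1); rwa [formG_single] at h1
    · rw [h.eq_tri h2 hirr e P U hU hUinv]
      simp [Matrix.mulVec_single_one, hU0 a]
  rcases sign_of_transpose hG₁ hs with hs1 | hs1
  · exfalso
    refine hNns ?_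
    have hs' : G₁ᵀ = G₁ := by rw [hs, hs1, one_smul]
    have hdet : ∀ x, (X x).det = 1 := by
      have hne : ∀ x, (X x).det ≠ 0 := fun x e0 => hG₁ (by
        have h1 := congrArg Matrix.det (hXfix x)
        rw [Matrix.det_mul, Matrix.det_mul, e0, mul_zero] at h1
        exact h1.symm)
      let φ : N →* Fˣ := MonoidHom.mk' (fun x => Units.mk0 _ (hne x)) fun x y => Units.ext (by
        simp [hXm, Matrix.det_mul])
      intro x
      have hker : N ≤ φ.ker.map N.subtype := by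
        refine hNp.ge.trans (Subgroup.commutator_le.2 ?_)
        intro a ha b hb
        refine ⟨⁅(⟨a, ha⟩ : N), ⟨b, hb⟩⁆, ?_, rfl⟩
        rw [SetLike.mem_coe, MonoidHom.mem_ker, map_commutatorElement, commutatorElement_eq_one_iff_mul_comm]
        exact mul_comm _ _
      obtain ⟨y, hy, hyx⟩ := hker x.2
      obtain rfl : y = x := Subtype.ext hyx
      exact congrArg Units.val (show φ y = 1 from hy)
    rw [← hNp, Subgroup.commutator_le]
    intro a ha b hb
    have hab : a * b = b * a := congrArg Subtype.val (show (⟨a, ha⟩ : N) * ⟨b, hb⟩ = ⟨b, hb⟩ * ⟨a, ha⟩ from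
      hXi (by rw [hXm, hXm]; exact binary_comm h2 hG₁ hs' (hXfix _) (hXfix _) (hdet _) (hdet _)))
    rw [commutatorElement_eq_one_iff_mul_comm.2 hab]
    exact one_mem _
  · refine hdiag (fun j => ?_) fun e0 => absurd e0 h2
    have h1 := congrFun (congrFun hs j) j
    rw [Matrix.transpose_apply, hs1, Matrix.smul_apply, smul_eq_mul] at h1
    exact (mul_eq_zero.1 (show (2 : F) * G₁ j j = 0 by linear_combination h1)).resolve_left h2

theorem EvenSetting.core_member (h : EvenSetting Q G H) {P : Subgroup (GL ι F)} (hP : IsCore H P) :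
    EvenMember Q H ∨ InOrthogonalResidualClass H := by
  classical
  haveI := h.nonempty
  by_cases hmem : EvenMember Q H
  · exact Or.inl hmem
  right
  have hsub : ∀ F₀ : Subfield F, F₀ ≠ ⊤ → ¬ RealisableOver F₀ (matrixSet P) := fun F₀ h0 hr =>
    hmem (h.subfield_member hP.le hP.normalised hP.abs h0 hr)
  refine ⟨P, ⟨hP.le, hP.normalised, hP.perfect, hP.simple, hP.nonabelian,
    fun x _ hc => comm_of_abs hP.abs (comm_of_perfect hP.perfect hc), hP.abs, hsub⟩, ?_⟩
  rintro ⟨σ, f', hf', hfix'⟩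
  have hs' := isSesq_of_unitary hf'
  obtain ⟨F₀, h0, h1⟩ := realisable_of_two (isBar_of_involution hf'.involutive hf'.ne_refl) hP.abs
    (hs'.det_ne_zero hf'.nondegenerate) h.rg.det (fun g hg => (hs'.fixes_iff g).1 (hfix' _ ⟨g, hg, rfl⟩))
    fun g hg => h.fix g (hP.le hg)
  exact hsub F₀ h0 h1

/-- The division for a quadratic form in even dimension. -/
theorem even_structure (h : EvenSetting Q G H) : EvenMember Q H ∨ InOrthogonalResidualClass H := by
  classical
  haveI := h.nonempty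
  by_cases hmem : EvenMember Q H
  · exact Or.inl hmem
  have hirr : Irr H := by
    by_contra hirr
    obtain ⟨W, hb, ht, hW⟩ := exists_inv_of_not_irr hirr
    exact hmem (h.reducible_member hb ht hW)
  have hgood : Good H := fun N hNH hn hns => by
    rcases clifford_form hirr hn hns h.rg (fun g hg => h.fix g (hNH hg)) with h1 | h1 | h1 | h1
    · exact absurd (h.paired_member hirr h1) hmem
    · obtain ⟨r, K, hr, hK, hle, hadj, -⟩ := h1
      exact absurd (h.field_member hirr hr hK hle hadj) hmem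
    · exact absurd (h.tensor_member hirr h1) hmem
    · exact h1
  rcases core_or_factors hgood (irr_not_scalar hirr h.two_le) (fun N hNH hn hns hc => by
    obtain ⟨h1, h3⟩ := h.two_group hNH (hgood N hNH hn hns) hc
    exact hmem (Or.inr (Or.inr (Or.inr (Or.inr (Or.inr (Or.inr (Or.inr (Or.inr (Or.inr (Or.inr (Or.inl
      ⟨h1, h3⟩)))))))))))) with ⟨P, hP⟩ | ⟨t, Qs, hQ⟩
  · exact h.core_member hP
  · exact absurd (h.factors_member hirr hQ) hmem

end Cfsg.Agent.Asch
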