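import Cfsg.Agent.Asch.EvenStructure

/-!
A self-adjoint field of odd degree over which the space is a plane: the group preserves a pair of totally singular
halves or a quadratic field, closed under adjoints.
-/

set_option autoImplicit false
set_option linter.unusedSectionVars false

namespace Cfsg.Agent.Asch

open Matrix Cfsg.Geo Cfsg.Agent.PrimeDim QuadraticMap
open scoped MatrixGroups
open Cfsg.Agent.Classical Cfsg.Agent.Classical.Quad

section Scalars

variable {F : Type*} [Field F] {E : Type*} [Field E] [Algebra F E] [FiniteDimensional F E]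

theorem fp_mem_of_quadratic (ho : Odd (Module.finrank F E)) {y : E} {s t : F}
    (hy : y * y = algebraMap F E s * y + algebraMap F E t) : ∃ a : F, algebraMap F E a = y := by
  open Polynomial in
  set p : F[X] := X ^ 2 - C s * X - C t with hp
  have hmon : p.Monic := by
    rw [hp]; monicity!
  have hdeg : p.natDegree = 2 := by
    rw [hp]; compute_degree!
  have h0 : Polynomial.aeval y p = 0 := by
    simp [hp]
    linear_combination hy
  have hint : IsIntegral F y := IsIntegral.of_finite F y
  have hle : (minpoly F y).natDegree ≤ 2 := hdeg ▸ Polynomial.natDegree_le_of_dvd (minpoly.dvd F y h0) hmon.ne_zero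
  have hd := minpoly.degree_dvd hint
  have hpos := minpoly.natDegree_pos hint
  obtain ⟨l, hl⟩ := hd
  have h1 : (minpoly F y).natDegree = 1 := by
    by_contra hne
    have h2 : (minpoly F y).natDegree = 2 := by omega
    exact Nat.not_even_iff_odd.2 ho ⟨l, by rw [hl, h2]; ring⟩
  exact minpoly.natDegree_eq_one_iff.1 h1

theorem fp_sq_scalar [Finite F] [Finite E] (h2 : (2 : F) ≠ 0) (ho : Odd (Module.finrank F E)) {c : E} (hc : c ≠ 0) :
    ∃ (m : E) (a : F), m ≠ 0 ∧ a ≠ 0 ∧ m * m * c = algebraMap F E a := by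
  classical
  haveI := Fintype.ofFinite F
  haveI := Fintype.ofFinite E
  by_cases hsq : IsSquare c
  · obtain ⟨s, rfl⟩ := hsq
    have hs : s ≠ 0 := fun e => hc (by rw [e, mul_zero])
    exact ⟨s⁻¹, 1, inv_ne_zero hs, one_ne_zero, by rw [map_one]; field_simp⟩
  have hF2 : ringChar F ≠ 2 := fun h => h2 (by
    have := ringChar.Nat.cast_ringChar (R := F)
    rw [h] at this
    exact_mod_cast this)
  have hE2 : ringChar E ≠ 2 := fun h => h2 ((algebraMap F E).injective (by
    have := ringChar.Nat.cast_ringChar (R := E)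
    rw [h] at this
    rw [map_ofNat, map_zero]
    exact_mod_cast this))
  obtain ⟨a, ha⟩ := FiniteField.exists_nonsquare hF2
  have ha0 : a ≠ 0 := fun e => ha (e ▸ IsSquare.zero)
  have ha' : ¬ IsSquare (algebraMap F E a) := fun ⟨y, hy⟩ => by
    obtain ⟨b, rfl⟩ := fp_mem_of_quadratic ho (y := y) (s := 0) (t := a) (by rw [map_zero, zero_mul, zero_add, hy])
    exact ha ⟨b, (algebraMap F E).injective (by rw [map_mul, hy])⟩
  have hq : quadraticChar E (algebraMap F E a * c) = 1 := by
    rw [map_mul, quadraticChar_neg_one_iff_not_isSquare.2 ha', quadraticChar_neg_one_iff_not_isSquare.2 hsq]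
    norm_num
  have hne : algebraMap F E a * c ≠ 0 :=
    mul_ne_zero ((map_ne_zero_iff _ (algebraMap F E).injective).2 ha0) hc
  obtain ⟨s, hs⟩ := (quadraticChar_one_iff_isSquare hne).1 hq
  have hs0 : s ≠ 0 := fun e => hne (by rw [hs, e, mul_zero])
  refine ⟨algebraMap F E a / s, a, div_ne_zero ((map_ne_zero_iff _ (algebraMap F E).injective).2 ha0) hs0, ha0, ?_⟩
  field_simp
  linear_combination (algebraMap F E a) * hs

theorem fp_artin_scalar [Finite F] [Finite E] (h2 : (2 : F) = 0) (ho : Odd (Module.finrank F E)) (c : E) :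
    ∃ (k : E) (a : F), c + k * k + k = algebraMap F E a := by
  classical
  have h2E : (2 : E) = 0 := by rw [← map_ofNat (algebraMap F E), h2, map_zero]
  have h2F : ∀ x : F, x + x = 0 := fun x => by linear_combination x * h2
  let P : E →+ E := AddMonoidHom.mk' (fun k => k * k + k) fun x y => by linear_combination (x * y) * h2E
  have hker : Nat.card P.ker = 2 := by
    have hset : (P.ker : Set E) = {0, 1} := by
      ext x
      show x * x + x = 0 ↔ _
      constructor
      · intro h
        rcases mul_eq_zero.1 (show x * (x + 1) = 0 by linear_combination h) with e | e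
        · exact Or.inl e
        · exact Or.inr (by rw [Set.mem_singleton_iff]; linear_combination e - h2E)
      · rintro (rfl | rfl)
        · simp
        · linear_combination h2E
    show Nat.card (P.ker : Set E) = 2
    rw [hset, Nat.card_coe_set_eq]
    exact Set.ncard_pair zero_ne_one
  have hidx : P.range.index = 2 := by rw [AddSubgroup.index_range, hker]
  obtain ⟨a, ha⟩ : ∃ a : F, algebraMap F E a ∉ P.range := by
    by_contra hcon
    push Not at hcon
    have hsur : Function.Surjective fun x : F => x * x + x := fun a => by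
      obtain ⟨y, hy⟩ := hcon a
      change y * y + y = algebraMap F E a at hy
      obtain ⟨b, rfl⟩ := fp_mem_of_quadratic ho (y := y) (s := 1) (t := a) (by
        rw [map_one, one_mul]; linear_combination hy - y * h2E)
      exact ⟨b, (algebraMap F E).injective (by rw [map_add, map_mul, hy])⟩
    have hinj := Finite.injective_iff_surjective.2 hsur
    exact one_ne_zero (hinj (a₁ := (1 : F)) (a₂ := 0) (by
      show (1 : F) * 1 + 1 = 0 * 0 + 0
      rw [mul_one, h2F]; simp))
  by_cases hc : c ∈ P.range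
  · obtain ⟨k, hk⟩ := hc
    change k * k + k = c at hk
    exact ⟨k, 0, by rw [map_zero]; linear_combination c * h2E + hk⟩
  · obtain ⟨k, hk⟩ := (AddSubgroup.add_mem_iff_of_index_two hidx).2 (iff_of_false hc ha)
    change k * k + k = c + algebraMap F E a at hk
    exact ⟨k, a, by linear_combination hk + c * h2E⟩

theorem fp_repr (φ : E →ₗ[F] F) (hφ : φ ≠ 0) (f : E →ₗ[F] F) : ∃ d, ∀ k, f k = φ (k * d) := by
  let L : E →ₗ[F] Module.Dual F E :=
    { toFun := fun d => φ ∘ₗ LinearMap.mulRight F d
      map_add' := fun x y => LinearMap.ext fun k => by simp [mul_add]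
      map_smul' := fun c x => LinearMap.ext fun k => by simp }
  have hinj : Function.Injective L := (injective_iff_map_eq_zero L).2 fun d hd => by
    by_contra hne
    refine hφ (LinearMap.ext fun k => ?_)
    have h := LinearMap.congr_fun hd (k / d)
    simpa [L, div_mul_cancel₀ k hne] using h
  obtain ⟨d, hd⟩ := (LinearMap.injective_iff_surjective_of_finrank_eq_finrank
    Subspace.dual_finrank_eq.symm).1 hinj f
  exact ⟨d, fun k => (LinearMap.congr_fun hd k).symm⟩

theorem fp_zero (φ : E →ₗ[F] F) (hφ : φ ≠ 0) {d : E} (hd : ∀ k, φ (k * d) = 0) : d = 0 := by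
  by_contra hne
  refine hφ (LinearMap.ext fun k => ?_)
  have h := hd (k / d)
  simpa [div_mul_cancel₀ k hne] using h

end Scalars

variable {F : Type*} [Field F] [Fintype F] {ι : Type} [Fintype ι] [DecidableEq ι]
  {Q : QuadraticForm F (ι → F)} {G : Matrix ι ι F} {H : Subgroup (GL ι F)}

/-- A pair of totally singular halves or an adjoint-closed quadratic field. -/
def PairOrQuadField (Q : QuadraticForm F (ι → F)) (G : Matrix ι ι F) (H : Subgroup (GL ι F)) : Prop :=
  (∃ (m : ℕ) (D : Fin 2 → Submodule F (ι → F)), 2 * m = Fintype.card ι ∧ IsMDecomposition m D ∧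
    (∀ i, IsTotallySingularQuad ⇑Q (D i)) ∧ H ≤ decompositionStabilizer D) ∨
  (∃ K : Subalgebra F (Matrix ι ι F), IsFieldSubalgebra 2 K ∧ IsAdjointClosedFor (formG (RingEquiv.refl F) G) K ∧
    H ≤ subalgebraNormalizer K)

/-- An idempotent-type map in characteristic two. -/
theorem pair_or_field_two (h : EvenSetting Q G H) (h2 : (2 : F) = 0) {T : Matrix ι ι F} {a : F}
    (hTT : T * T = T + a • 1) (hQT : ∀ u, Q u = formG (RingEquiv.refl F) G (T *ᵥ u) u)
    (hn : ∀ g ∈ H, T * mat g = mat g * T ∨ T * mat g = mat g * (1 - T)) : PairOrQuadField Q G H := by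
  classical
  haveI := h.nonempty
  have hs := isSesq_formG (RingEquiv.refl F) G
  have hadj : ∀ u v, formG (RingEquiv.refl F) G (T *ᵥ u) v + formG (RingEquiv.refl F) G (T *ᵥ v) u =
      formG (RingEquiv.refl F) G u v := fun u v => by
    have h1 := map_add' u v (Q := Q)
    rw [hQT, hQT, hQT, Matrix.mulVec_add, hs.add_left, hs.add_right, hs.add_right, ← h.pol] at h1
    linear_combination h1
  by_cases hsq : ∃ e : F, e * e + e = a
  · left
    obtain ⟨e, he⟩ := hsq
    let E : F → Submodule F (ι → F) := fun c => LinearMap.ker (T - c • 1).mulVecLin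
    have hmem : ∀ {c v}, v ∈ E c ↔ T *ᵥ v = c • v := fun {c v} => by
      rw [LinearMap.mem_ker, Matrix.mulVecLin_apply, Matrix.sub_mulVec, smul_one_mulVec, sub_eq_zero]
    have hts : ∀ c, ∀ v ∈ E c, Q v = 0 := fun c v hv => by
      rw [hQT, hmem.1 hv, hs.smul_left, h.alt h2, mul_zero]
    have hTv : ∀ v : ι → F, T *ᵥ (T *ᵥ v) = T *ᵥ v + a • v := fun v => by
      rw [Matrix.mulVec_mulVec, hTT, Matrix.add_mulVec, smul_one_mulVec]
    have hdis : E e ⊓ E (e + 1) = ⊥ := by
      rw [eq_bot_iff]
      rintro v ⟨h1, h3⟩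
      have h4 := (hmem.1 h1).symm.trans (hmem.1 h3)
      rw [add_smul, one_smul, left_eq_add] at h4
      rw [Submodule.mem_bot]
      exact h4
    have htop : E e ⊔ E (e + 1) = ⊤ := by
      rw [eq_top_iff]
      intro v _
      refine Submodule.mem_sup.2 ⟨(e + 1) • v - T *ᵥ v, hmem.2 ?_, T *ᵥ v - e • v, hmem.2 ?_, ?_⟩
      · rw [Matrix.mulVec_sub, Matrix.mulVec_smul, hTv, ← he]
        match_scalars
        · linear_combination e * h2
        · linear_combination (-(e : F) * e - e) * h2
      · rw [Matrix.mulVec_sub, Matrix.mulVec_smul, hTv, ← he]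
        match_scalars
        · linear_combination (-e) * h2
        · linear_combination (e + e * e) * h2
      · module
    have hle : ∀ c, 2 * Module.finrank F (E c) ≤ Fintype.card ι := fun c => by
      have := two_mul_finrank_le h.nd (hts c)
      rwa [Module.finrank_fintype_fun_eq_card] at this
    have hsum := Submodule.finrank_sup_add_finrank_inf_eq (E e) (E (e + 1))
    rw [hdis, htop, finrank_top, finrank_bot, Module.finrank_fintype_fun_eq_card, add_zero] at hsum
    have h1 := hle e
    have h3 := hle (e + 1)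
    have hrk : Module.finrank F (E (e + 1)) = Module.finrank F (E e) := by omega
    have := h.eight
    refine ⟨_, ![E e, E (e + 1)], by omega, pair_decomp (by omega) rfl hrk hdis htop, fun i => ?_,
      le_pair_stabilizer hrk.symm fun g hg => ?_⟩
    · fin_cases i
      · exact hts _
      · exact hts _
    rcases hn g hg with h' | h'
    · refine Or.inl ⟨?_, ?_⟩ <;>
        · intro v hv
          rw [hmem, Matrix.mulVec_mulVec, h', ← Matrix.mulVec_mulVec, hmem.1 hv, Matrix.mulVec_smul]
    · refine Or.inr ⟨?_, ?_⟩ <;>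
        · intro v hv
          rw [hmem, Matrix.mulVec_mulVec, h', ← Matrix.mulVec_mulVec, Matrix.sub_mulVec, Matrix.one_mulVec,
            hmem.1 hv, Matrix.mulVec_sub, Matrix.mulVec_smul]
          match_scalars
          first | linear_combination (-e) * h2 | linear_combination (-(e + 1)) * h2
  · right
    push Not at hsq
    let K : Subalgebra F (Matrix ι ι F) :=
      { carrier := {Y | ∃ x y : F, Y = x • 1 + y • T}
        mul_mem' := by
          rintro _ _ ⟨x, y, rfl⟩ ⟨c, d, rfl⟩
          refine ⟨x * c + y * d * a, x * d + y * c + y * d, ?_⟩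
          simp only [add_mul, mul_add, Matrix.smul_mul, Matrix.mul_smul, one_mul, mul_one, hTT, smul_smul, add_smul,
            smul_add]
          match_scalars <;> ring
        add_mem' := by
          rintro _ _ ⟨x, y, rfl⟩ ⟨c, d, rfl⟩
          exact ⟨x + c, y + d, by rw [add_smul, add_smul]; abel⟩
        algebraMap_mem' := fun r => ⟨r, 0, by rw [zero_smul, add_zero, Algebra.algebraMap_eq_smul_one]⟩ }
    have hTK : T ∈ K := ⟨0, 1, by rw [zero_smul, zero_add, one_smul]⟩
    have hone0 : (1 : Matrix ι ι F) ≠ 0 := one_ne_zero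
    have hzero : ∀ x y : F, x • (1 : Matrix ι ι F) + y • T = 0 → x = 0 ∧ y = 0 := by
      intro x y e
      by_cases hy : y = 0
      · rw [hy, zero_smul, add_zero] at e
        exact ⟨(smul_eq_zero.1 e).resolve_right hone0, hy⟩
      · exfalso
        have h1 : T = (x / y) • 1 := by
          have h3 := congrArg (y⁻¹ • ·) e
          simp only [smul_add, smul_smul, inv_mul_cancel₀ hy, one_smul, smul_zero] at h3
          rw [eq_neg_of_add_eq_zero_right h3, ← neg_smul, div_eq_inv_mul,
            show -(y⁻¹ * x) = y⁻¹ * x by linear_combination -(y⁻¹ * x) * h2]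
        refine hsq (x / y) (smul_mat_cancel hone0 ?_)
        have h5 := hTT
        rw [h1, Matrix.smul_mul, Matrix.mul_smul, one_mul, smul_smul] at h5
        rw [add_smul, h5]
        match_scalars
        linear_combination (x / y) * h2
    let L : (F × F) →ₗ[F] K :=
      { toFun := fun p => ⟨p.1 • 1 + p.2 • T, ⟨_, _, rfl⟩⟩
        map_add' := fun p p' => Subtype.ext (by
          show (p.1 + p'.1) • (1 : Matrix ι ι F) + (p.2 + p'.2) • T = _
          rw [add_smul, add_smul]
          show _ = (p.1 • (1 : Matrix ι ι F) + p.2 • T) + (p'.1 • 1 + p'.2 • T)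
          abel)
        map_smul' := fun c p => Subtype.ext (by
          show (c * p.1) • (1 : Matrix ι ι F) + (c * p.2) • T = c • (p.1 • 1 + p.2 • T)
          rw [smul_add, smul_smul, smul_smul]) }
    have hL : Function.Bijective L := by
      refine ⟨(injective_iff_map_eq_zero L).2 fun p hp => ?_, ?_⟩
      · obtain ⟨e1, e2⟩ := hzero _ _ (congrArg Subtype.val hp)
        exact Prod.ext e1 e2
      · rintro ⟨_, x, y, rfl⟩
        exact ⟨(x, y), rfl⟩
    refine ⟨K, ⟨?_, ?_, ?_⟩, ?_, fun g hg k => ?_⟩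
    · rintro _ ⟨x, y, rfl⟩ _ ⟨c, d, rfl⟩
      simp only [add_mul, mul_add, Matrix.smul_mul, Matrix.mul_smul, one_mul, mul_one, smul_smul, hTT, smul_add]
      module
    · rintro _ ⟨x, y, rfl⟩ hne
      have hN : x * x + x * y + y * y * a ≠ 0 := by
        intro e
        by_cases hy : y = 0
        · exact hne (by rw [hy, show x = 0 by rw [hy] at e; simpa using e]; simp)
        · exact hsq (x / y) (by field_simp; linear_combination e - (y * y * a) * h2)
      refine ⟨((x + y) / (x * x + x * y + y * y * a)) • 1 + (y / (x * x + x * y + y * y * a)) • T,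
        ⟨_, _, rfl⟩, ?_⟩
      simp only [add_mul, mul_add, Matrix.smul_mul, Matrix.mul_smul, one_mul, mul_one, smul_smul, hTT, smul_add]
      generalize hN' : x * x + x * y + y * y * a = N at hN ⊢
      match_scalars <;> field_simp
      · linear_combination hN'
      · linear_combination (x * y + y * y) * h2
    · rw [← (LinearEquiv.ofBijective L hL).finrank_eq]
      simp
    · rintro _ ⟨x, y, rfl⟩
      refine ⟨(x + y) • 1 + (-y) • T, ⟨_, _, rfl⟩, fun u v => ?_⟩
      simp only [Matrix.add_mulVec, Matrix.smul_mulVec, Matrix.one_mulVec, hs.add_left, hs.add_right, hs.smul_left,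
        hs.smul_right, RingEquiv.refl_apply]
      linear_combination y * hadj u v - y * h.symm (T *ᵥ v) u
    · have hc : ∀ g ∈ H, ∀ k ∈ K, mat g * k * mat g⁻¹ ∈ K := by
        rintro g hg _ ⟨x, y, rfl⟩
        have hT' : mat g * T * mat g⁻¹ = T ∨ mat g * T * mat g⁻¹ = 1 - T := by
          rcases hn g hg with e | e
          · left; rw [← e, mul_assoc, mat_mul_inv, mul_one]
          · right
            have e' : (1 - T) * mat g = mat g * T := by
              rw [sub_mul, one_mul, e, mul_sub, mul_one]; abel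
            rw [← e', mul_assoc, mat_mul_inv, mul_one]
        rw [mul_add, add_mul, Matrix.mul_smul, Matrix.smul_mul, Matrix.mul_smul, Matrix.smul_mul, mul_one,
          mat_mul_inv]
        rcases hT' with e | e <;> rw [e]
        · exact ⟨x, y, rfl⟩
        · exact ⟨x + y, -y, by module⟩
      refine ⟨fun hk => hc g hg k hk, fun hk => ?_⟩
      have h3 := hc g⁻¹ (inv_mem hg) _ hk
      rw [inv_inv] at h3
      rwa [show mat g⁻¹ * (mat g * k * mat g⁻¹) * mat g = k by
        simp only [← mul_assoc, mat_inv_mul, one_mul]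
        rw [mul_assoc, mat_inv_mul, mul_one]] at h3

set_option maxHeartbeats 2000000 in
/-- The space is a plane over a self-adjoint field of odd degree. -/
theorem field_plane (h : EvenSetting Q G H) {r : ℕ} (hr : Odd r) (hn : Fintype.card ι = 2 * r)
    {K : Subalgebra F (Matrix ι ι F)} (hK : IsFieldSubalgebra r K) (hsa : IsSelfAdjointFor (polar ⇑Q) K)
    (halt : (2 : F) = 0 → ∀ k ∈ K, ∀ v, polar Q (k *ᵥ v) v = 0) (hle : H ≤ subalgebraNormalizer K) :
    PairOrQuadField Q G H := by
  classical
  haveI := h.nonempty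
  have hs := isSesq_formG (RingEquiv.refl F) G
  letI cK : CommRing K := { (inferInstance : Ring K) with
    mul_comm := fun a b => Subtype.ext (hK.comm a.1 a.2 b.1 b.2) }
  haveI : Nontrivial K := Module.nontrivial_of_finrank_pos (R := F) (hK.finrank_eq.symm ▸ hr.pos)
  have hfield : IsField K :=
    { exists_pair_ne := _root_.exists_pair_ne K
      mul_comm := mul_comm
      mul_inv_cancel := fun {a} ha => by
        obtain ⟨b, hb, hab⟩ := hK.inv a.1 a.2 fun e => ha (Subtype.ext e)
        exact ⟨⟨b, hb⟩, Subtype.ext hab⟩ }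
  letI : Field K := hfield.toField
  haveI : Finite K := Subtype.finite
  have hodd : Odd (Module.finrank F K) := by rw [hK.finrank_eq]; exact hr
  have hb : ∀ u v, formG (RingEquiv.refl F) G u v = polar Q u v := h.pol
  have hmul : ∀ (x y : K) (u : ι → F), (x * y).1 *ᵥ u = x.1 *ᵥ (y.1 *ᵥ u) := fun x y u => by
    rw [Matrix.mulVec_mulVec]; rfl
  have hone : ∀ u : ι → F, (1 : K).1 *ᵥ u = u := fun u => Matrix.one_mulVec u
  have hsa' : ∀ (x : K) u v, polar Q (x.1 *ᵥ u) v = polar Q u (x.1 *ᵥ v) := fun x u v => hsa x.1 x.2 u v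
  let pr : (ι → F) → (ι → F) → (K →ₗ[F] F) := fun u v =>
    { toFun := fun k => polar Q (k.1 *ᵥ u) v
      map_add' := fun x y => by rw [← polar_add_left, ← Matrix.add_mulVec]; rfl
      map_smul' := fun c x => by
        rw [RingHom.id_apply, ← polar_smul_left, ← Matrix.smul_mulVec]; rfl }
  have hpr : ∀ (x y : K) u v, polar Q (x.1 *ᵥ u) (y.1 *ᵥ v) = pr u v (x * y) := fun x y u v => by
    show _ = polar Q ((x * y).1 *ᵥ u) v
    rw [mul_comm x y, hmul, hsa' y]
  have hswap : ∀ (k : K) u v, pr u v k = pr v u k := fun k u v => by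
    show polar Q _ _ = polar Q _ _
    rw [hsa', polar_comm]
  have frame : ∀ v w : ι → F, v ≠ 0 → (∀ x : K, x.1 *ᵥ v ≠ w) →
      Function.Bijective fun p : K × K => p.1.1 *ᵥ v + p.2.1 *ᵥ w := by
    intro v w hv hw
    let L : (K × K) →ₗ[F] (ι → F) :=
      { toFun := fun p => p.1.1 *ᵥ v + p.2.1 *ᵥ w
        map_add' := fun p p' => by
          show (p.1.1 + p'.1.1) *ᵥ v + (p.2.1 + p'.2.1) *ᵥ w = _
          rw [Matrix.add_mulVec, Matrix.add_mulVec]; abel
        map_smul' := fun c p => by
          show (c • p.1.1) *ᵥ v + (c • p.2.1) *ᵥ w = c • _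
          rw [Matrix.smul_mulVec, Matrix.smul_mulVec, smul_add] }
    have hinj : Function.Injective L := (injective_iff_map_eq_zero L).2 fun p hp => by
      change p.1.1 *ᵥ v + p.2.1 *ᵥ w = 0 at hp
      by_cases hy : p.2 = 0
      · rw [hy, show (0 : K).1 = 0 from rfl, Matrix.zero_mulVec, add_zero] at hp
        refine Prod.ext ?_ hy
        by_contra hx
        refine hv ?_
        have h1 := congrArg (p.1⁻¹.1 *ᵥ ·) hp
        simp only [Matrix.mulVec_zero] at h1
        rwa [← hmul, inv_mul_cancel₀ hx, hone] at h1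
      · exfalso
        refine hw (-(p.2⁻¹ * p.1)) ?_
        have h1 := congrArg (p.2⁻¹.1 *ᵥ ·) hp
        simp only [Matrix.mulVec_zero, Matrix.mulVec_add] at h1
        rw [← hmul, ← hmul, inv_mul_cancel₀ hy, hone] at h1
        rw [show (-(p.2⁻¹ * p.1)).1 = -(p.2⁻¹ * p.1).1 from rfl, Matrix.neg_mulVec]
        exact neg_eq_of_add_eq_zero_right h1
    refine ⟨hinj, (LinearMap.injective_iff_surjective_of_finrank_eq_finrank ?_).1 hinj⟩
    rw [Module.finrank_prod, hK.finrank_eq, Module.finrank_fintype_fun_eq_card, hn]; omega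
  have hcommK : ∀ g ∈ H, ∀ X : Matrix ι ι F, (∀ k : K, X * k.1 = k.1 * X) → ∀ k : K,
      mat g⁻¹ * X * mat g * k.1 = k.1 * (mat g⁻¹ * X * mat g) := fun g hg X hX k => by
    have h1 := hX ⟨_, (hle hg k.1).1 k.2⟩
    change X * (mat g * k.1 * mat g⁻¹) = mat g * k.1 * mat g⁻¹ * X at h1
    calc mat g⁻¹ * X * mat g * k.1
        = mat g⁻¹ * (X * (mat g * k.1 * mat g⁻¹)) * mat g := by
          simp only [mul_assoc, mat_inv_mul, mul_one]
      _ = mat g⁻¹ * (mat g * k.1 * mat g⁻¹ * X) * mat g := by rw [h1]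
      _ = k.1 * (mat g⁻¹ * X * mat g) := by
          simp only [← mul_assoc, mat_inv_mul, one_mul]
  -- operators commuting with the field
  have hop : ∀ v w : ι → F, (Function.Bijective fun p : K × K => p.1.1 *ᵥ v + p.2.1 *ᵥ w) →
      ∀ a b : ι → F, ∃ T : Matrix ι ι F, ∀ x y : K, T *ᵥ (x.1 *ᵥ v + y.1 *ᵥ w) = x.1 *ᵥ a + y.1 *ᵥ b := by
    intro v w hbij a b
    let M : (ι → F) → (ι → F) → ((K × K) →ₗ[F] (ι → F)) := fun v w =>
      { toFun := fun p => p.1.1 *ᵥ v + p.2.1 *ᵥ w
        map_add' := fun p p' => by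
          show (p.1.1 + p'.1.1) *ᵥ v + (p.2.1 + p'.2.1) *ᵥ w = _
          rw [Matrix.add_mulVec, Matrix.add_mulVec]; abel
        map_smul' := fun c p => by
          show (c • p.1.1) *ᵥ v + (c • p.2.1) *ᵥ w = c • _
          rw [Matrix.smul_mulVec, Matrix.smul_mulVec, smul_add] }
    refine ⟨LinearMap.toMatrix' (M a b ∘ₗ (LinearEquiv.ofBijective (M v w) hbij).symm.toLinearMap), fun x y => ?_⟩
    rw [← Matrix.toLin'_apply, Matrix.toLin'_toMatrix', LinearMap.comp_apply, LinearEquiv.coe_coe,
      show x.1 *ᵥ v + y.1 *ᵥ w = LinearEquiv.ofBijective (M v w) hbij (x, y) from rfl, LinearEquiv.symm_apply_apply]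
    rfl
  by_cases h2 : (2 : F) = 0
  · -- characteristic two
    obtain ⟨i⟩ := h.nonempty
    set v : ι → F := Pi.single i 1 with hv
    have hv0 : v ≠ 0 := by simp [hv]
    obtain ⟨w, hvw⟩ : ∃ w, polar Q v w ≠ 0 := by
      by_contra hcon
      push Not at hcon
      exact hv0 (eq_zero_of_polar h.nd hcon)
    set φ := pr v w with hφdef
    have hφ : φ ≠ 0 := fun e => hvw (by
      have h1 := LinearMap.congr_fun e 1
      change polar Q ((1 : K).1 *ᵥ v) w = 0 at h1
      rwa [hone] at h1)
    have hdiag : ∀ (k : K) u, pr u u k = 0 := fun k u => halt h2 k.1 k.2 u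
    have hbij := frame v w hv0 fun x e => hvw (by rw [← e, polar_comm]; exact halt h2 x.1 x.2 v)
    have h2K : (2 : K) = 0 := by rw [← map_ofNat (algebraMap F K), h2, map_zero]
    have hsqinj : Function.Injective fun x : K => x * x := fun x y e => by
      have h1 : (x - y) * (x - y) = 0 := by linear_combination e + (y * y - x * y) * h2K
      exact sub_eq_zero.1 (mul_self_eq_zero.1 h1)
    let sq : K ≃ K := Equiv.ofBijective _ ⟨hsqinj, Finite.injective_iff_surjective.1 hsqinj⟩
    have hsq : ∀ x : K, sq x = x * x := fun x => rfl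
    have hsymm : ∀ k : K, sq.symm k * sq.symm k = k := fun k => sq.apply_symm_apply k
    have hquad : ∀ u : ι → F, ∃ α : K, ∀ x : K, Q (x.1 *ᵥ u) = φ (x * x * α) := by
      intro u
      let f : K →ₗ[F] F :=
        { toFun := fun k => Q ((sq.symm k).1 *ᵥ u)
          map_add' := fun x y => by
            have e : sq.symm (x + y) = sq.symm x + sq.symm y := hsqinj (by
              show sq.symm (x + y) * sq.symm (x + y) = (sq.symm x + sq.symm y) * (sq.symm x + sq.symm y)
              rw [hsymm]
              linear_combination -(hsymm x) - hsymm y - sq.symm x * sq.symm y * h2K)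
            rw [e, show ((sq.symm x + sq.symm y : K)).1 = (sq.symm x).1 + (sq.symm y).1 from rfl, Matrix.add_mulVec,
              map_add', hpr, hdiag, add_zero]
          map_smul' := fun c x => by
            obtain ⟨s, hs'⟩ := exists_sqrt h2 c
            have e : sq.symm (c • x) = s • sq.symm x := hsqinj (by
              show sq.symm (c • x) * sq.symm (c • x) = (s • sq.symm x) * (s • sq.symm x)
              rw [hsymm, smul_mul_smul_comm, hs', hsymm])
            rw [e, show ((s • sq.symm x : K)).1 = s • (sq.symm x).1 from rfl, Matrix.smul_mulVec, Quad.map_smul' s,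
              RingHom.id_apply, smul_eq_mul, hs'] }
      obtain ⟨α, hα⟩ := fp_repr φ hφ f
      refine ⟨α, fun x => ?_⟩
      rw [← hα, show f (x * x) = Q ((sq.symm (sq x)).1 *ᵥ u) from rfl, sq.symm_apply_apply]
    obtain ⟨α, hα⟩ := hquad v
    obtain ⟨β, hβ⟩ := hquad w
    have hval : ∀ x y x' y' : K, polar Q (x.1 *ᵥ v + y.1 *ᵥ w) (x'.1 *ᵥ v + y'.1 *ᵥ w) =
        φ (x * y') + φ (y * x') := fun x y x' y' => by
      rw [polar_add_left, polar_add_right, polar_add_right, hpr, hpr, hpr, hpr, hdiag, hdiag, hswap _ w v]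
      simp [φ]
    have hQ : ∀ x y : K, Q (x.1 *ᵥ v + y.1 *ᵥ w) = φ (x * x * α) + φ (y * y * β) + φ (x * y) := fun x y => by
      rw [map_add', hα, hβ, hpr]
    obtain ⟨k₀, a, hk₀⟩ := fp_artin_scalar h2 hodd (α * β)
    obtain ⟨T, hT⟩ := hop v w hbij (k₀.1 *ᵥ v + α.1 *ᵥ w) (β.1 *ᵥ v + (k₀ + 1).1 *ᵥ w)
    have happ : ∀ (T' : Matrix ι ι F) (p q p' q' : K),
        (∀ x y : K, T' *ᵥ (x.1 *ᵥ v + y.1 *ᵥ w) = x.1 *ᵥ (p.1 *ᵥ v + q.1 *ᵥ w) + y.1 *ᵥ (p'.1 *ᵥ v + q'.1 *ᵥ w)) →
        ∀ x y : K, T' *ᵥ (x.1 *ᵥ v + y.1 *ᵥ w) = (x * p + y * p').1 *ᵥ v + (x * q + y * q').1 *ᵥ w := by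
      intro T' p q p' q' hT' x y
      rw [hT', Matrix.mulVec_add, Matrix.mulVec_add, ← hmul, ← hmul, ← hmul, ← hmul,
        show (x * p + y * p').1 = (x * p).1 + (y * p').1 from rfl,
        show (x * q + y * q').1 = (x * q).1 + (y * q').1 from rfl, Matrix.add_mulVec, Matrix.add_mulVec]
      abel
    have hTe := happ T k₀ α β (k₀ + 1) hT
    have hext : ∀ A B : Matrix ι ι F, (∀ x y : K, A *ᵥ (x.1 *ᵥ v + y.1 *ᵥ w) = B *ᵥ (x.1 *ᵥ v + y.1 *ᵥ w)) →
        A = B := fun A B e => Matrix.mulVec_injective (funext fun u => by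
      obtain ⟨⟨x, y⟩, rfl⟩ := hbij.2 u
      exact e x y)
    have hTT : T * T = T + a • 1 := hext _ _ fun x y => by
      rw [← Matrix.mulVec_mulVec, hTe, hTe, Matrix.add_mulVec, hTe, smul_one_mulVec, smul_add,
        ← Matrix.smul_mulVec, ← Matrix.smul_mulVec]
      have ea : ∀ z : K, (z * algebraMap F K a).1 = a • z.1 := fun z => by
        rw [← Algebra.commutes, ← Algebra.smul_def]; rfl
      rw [← ea x, ← ea y, add_add_add_comm, ← Matrix.add_mulVec, ← Matrix.add_mulVec, ← hk₀]
      congr 2
      · refine congrArg Subtype.val (?_ : _ = (x * k₀ + y * β) + x * (α * β + k₀ * k₀ + k₀))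
        linear_combination (y * k₀ * β - x * k₀) * h2K
      · refine congrArg Subtype.val (?_ : _ = (x * α + y * (k₀ + 1)) + y * (α * β + k₀ * k₀ + k₀))
        linear_combination (x * k₀ * α) * h2K
    have hTk : ∀ k : K, T * k.1 = k.1 * T := fun k => hext _ _ fun x y => by
      rw [← Matrix.mulVec_mulVec, ← Matrix.mulVec_mulVec, Matrix.mulVec_add, ← hmul, ← hmul, hT, hT]
      simp only [Matrix.mulVec_add, ← hmul, mul_assoc]
    have hQT : ∀ u, Q u = formG (RingEquiv.refl F) G (T *ᵥ u) u := by
      intro u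
      obtain ⟨⟨x, y⟩, rfl⟩ := hbij.2 u
      dsimp only
      rw [hb, hQ, hTe, hval]
      rw [← map_add, ← map_add, ← map_add]
      congr 1
      linear_combination -(x * y * k₀) * h2K
    refine pair_or_field_two h h2 hTT hQT fun g hg => ?_
    set Y := mat g⁻¹ * T * mat g with hY
    have hgY : T * mat g = mat g * Y := by
      rw [hY, ← mul_assoc, ← mul_assoc, mat_mul_inv, one_mul]
    have hYQ : ∀ u, Q u = polar Q (Y *ᵥ u) u := fun u => by
      have h1 := hQT (mat g *ᵥ u)
      rw [h.iso g hg, Matrix.mulVec_mulVec, hgY, ← Matrix.mulVec_mulVec, iso_apply h.fix hg, hb] at h1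
      exact h1
    have hYY : Y * Y = Y + a • 1 := by
      calc Y * Y = mat g⁻¹ * (T * T) * mat g := by
            simp only [hY, mul_assoc]
            rw [← mul_assoc (mat g) (mat g⁻¹), mat_mul_inv, one_mul]
        _ = Y + a • 1 := by
          rw [hTT, mul_add, add_mul, Matrix.mul_smul, Matrix.smul_mul, mul_one, mat_inv_mul]
    obtain ⟨⟨p, q⟩, hpq⟩ := hbij.2 (Y *ᵥ v)
    obtain ⟨⟨p', q'⟩, hpq'⟩ := hbij.2 (Y *ᵥ w)
    dsimp only at hpq hpq'
    have hYk : ∀ (k : K) u, Y *ᵥ (k.1 *ᵥ u) = k.1 *ᵥ (Y *ᵥ u) := fun k u => by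
      rw [Matrix.mulVec_mulVec, Matrix.mulVec_mulVec, hY, hcommK g hg T hTk k]
    have hYe := happ Y p q p' q' (fun x y => by rw [Matrix.mulVec_add, hYk, hYk, hpq, hpq'])
    have hdiff : ∀ x y : K, φ (x * x * α) + φ (y * y * β) + φ (x * y) =
        φ ((x * p + y * p') * y) + φ ((x * q + y * q') * x) := fun x y => by
      rw [← hQ, hYQ, hYe, hval]
    have hq : q = α := by
      refine sub_eq_zero.1 (fp_zero φ hφ fun k => ?_)
      obtain ⟨x, rfl⟩ := sq.surjective k
      have h1 := hdiff x 0
      simp only [mul_zero, zero_mul, add_zero, map_zero, zero_add] at h1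
      rw [hsq, mul_sub, map_sub, h1, sub_eq_zero]
      congr 1; ring
    have hp' : p' = β := by
      refine sub_eq_zero.1 (fp_zero φ hφ fun k => ?_)
      obtain ⟨y, rfl⟩ := sq.surjective k
      have h1 := hdiff 0 y
      simp only [mul_zero, zero_mul, add_zero, map_zero, zero_add] at h1
      rw [hsq, mul_sub, map_sub, h1, sub_eq_zero]
      congr 1; ring
    have hq' : p + q' = 1 := by
      refine sub_eq_zero.1 (fp_zero φ hφ fun k => ?_)
      have h1 := hdiff k 1
      rw [hq, hp'] at h1
      rw [show k * (p + q' - 1) = ((k * p + 1 * β) * 1 + (k * α + 1 * q') * k) - (k * k * α + 1 * 1 * β + k * 1) by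
        ring, map_sub, map_add, map_add, map_add, ← h1, sub_self]
    have hp : p * p + α * β = p + algebraMap F K a := by
      have h1 := congrArg (· *ᵥ v) hYY
      simp only [← Matrix.mulVec_mulVec, ← hpq] at h1
      rw [hYe, Matrix.add_mulVec, ← hpq, smul_one_mulVec, hp', hq,
        show a • v = (algebraMap F K a).1 *ᵥ v from by
          rw [show (algebraMap F K a).1 = a • (1 : Matrix ι ι F) from Algebra.algebraMap_eq_smul_one a,
            smul_one_mulVec],
        add_right_comm (p.1 *ᵥ v), ← Matrix.add_mulVec] at h1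
      exact (Prod.ext_iff.1 (hbij.1 (a₁ := (p * p + α * β, p * α + α * q')) (a₂ := (p + algebraMap F K a, α)) h1)).1
    rw [← hk₀] at hp
    have hfac : (p - k₀) * (p - k₀ - 1) = 0 := by
      linear_combination hp + (k₀ * k₀ + k₀ - p * k₀) * h2K
    rcases mul_eq_zero.1 hfac with e | e
    · left
      rw [hgY]
      congr 1
      refine hext _ _ fun x y => ?_
      rw [hYe, hTe, hq, hp', show q' = k₀ + 1 by linear_combination hq' - e - k₀ * h2K, sub_eq_zero.1 e]
    · right
      rw [hgY]
      congr 1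
      refine hext _ _ fun x y => ?_
      rw [hYe, Matrix.sub_mulVec, Matrix.one_mulVec, hTe, hq, hp', add_sub_add_comm, ← Matrix.sub_mulVec,
        ← Matrix.sub_mulVec]
      congr 2
      · refine congrArg Subtype.val (?_ : _ = x - (x * k₀ + y * β))
        linear_combination x * e + (x * k₀ + y * β) * h2K
      · refine congrArg Subtype.val (?_ : _ = y - (x * α + y * (k₀ + 1)))
        linear_combination y * hq' - y * e + (x * α) * h2K
  · -- odd characteristic
    obtain ⟨v, hQv⟩ : ∃ v, Q v ≠ 0 := by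
      by_contra hcon
      push Not at hcon
      obtain ⟨i⟩ := h.nonempty
      exact (by simp : (Pi.single i 1 : ι → F) ≠ 0) (eq_zero_of_polar h.nd fun u => by simp [polar, hcon])
    have hv0 : v ≠ 0 := fun e => hQv (by rw [e, QuadraticMap.map_zero])
    set φ := pr v v with hφdef
    have hφ : φ ≠ 0 := fun e => hQv (by
      have h1 := LinearMap.congr_fun e 1
      change polar Q ((1 : K).1 *ᵥ v) v = 0 at h1
      rw [hone, polar_self'] at h1
      exact (mul_eq_zero.1 h1).resolve_left h2)
    let Λ : (ι → F) →ₗ[F] Module.Dual F K :=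
      { toFun := fun u => pr v u
        map_add' := fun u u' => LinearMap.ext fun k => polar_add_right Q _ u u'
        map_smul' := fun c u => LinearMap.ext fun k => polar_smul_right Q c _ u }
    obtain ⟨w, hw, hw0⟩ := Submodule.exists_mem_ne_zero_of_ne_bot (LinearMap.ker_ne_bot_of_finrank_lt (f := Λ) (by
      rw [Subspace.dual_finrank_eq, hK.finrank_eq, Module.finrank_fintype_fun_eq_card, hn]
      have := hr.pos; omega))
    have hvw : ∀ k, pr v w k = 0 := fun k => LinearMap.congr_fun (show Λ w = 0 from hw) k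
    have hbij := frame v w hv0 fun x e => hw0 (by
      have hx : x = 0 := fp_zero φ hφ fun k => by
        have h1 := hvw k
        rw [← e] at h1
        rw [← h1]
        exact (hpr k x v v).symm
      rw [← e, hx, show (0 : K).1 = 0 from rfl, Matrix.zero_mulVec])
    obtain ⟨d, hd⟩ := fp_repr φ hφ (pr w w)
    have hval : ∀ x y x' y' : K, polar Q (x.1 *ᵥ v + y.1 *ᵥ w) (x'.1 *ᵥ v + y'.1 *ᵥ w) =
        φ (x * x') + φ (y * y' * d) := fun x y x' y' => by
      rw [polar_add_left, polar_add_right, polar_add_right, hpr, hpr, hpr, hpr, hd, hswap _ w v, hvw, hvw]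
      simp [φ]
    have hd0 : d ≠ 0 := fun e => hw0 (eq_zero_of_polar h.nd fun u => by
      obtain ⟨⟨x, y⟩, rfl⟩ := hbij.2 u
      have h1 := hval 0 1 x y
      rw [show (0 : K).1 = 0 from rfl, Matrix.zero_mulVec, zero_add, hone, e] at h1
      rw [h1]
      simp)
    obtain ⟨m, a, hm, ha, hma⟩ := fp_sq_scalar h2 hodd (c := -d) (neg_ne_zero.2 hd0)
    obtain ⟨X, hX⟩ := hop v w hbij (m.1 *ᵥ w) ((-(m * d)).1 *ᵥ v)
    have hXe : ∀ x y : K, X *ᵥ (x.1 *ᵥ v + y.1 *ᵥ w) = (-(y * m * d)).1 *ᵥ v + (x * m).1 *ᵥ w := fun x y => by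
      rw [hX, ← hmul, ← hmul, add_comm, mul_neg, mul_assoc]
    have hext : ∀ A B : Matrix ι ι F, (∀ x y : K, A *ᵥ (x.1 *ᵥ v + y.1 *ᵥ w) = B *ᵥ (x.1 *ᵥ v + y.1 *ᵥ w)) →
        A = B := fun A B e => Matrix.mulVec_injective (funext fun u => by
      obtain ⟨⟨x, y⟩, rfl⟩ := hbij.2 u
      exact e x y)
    have ea : ∀ z : K, (z * algebraMap F K a).1 = a • z.1 := fun z => by
      rw [← Algebra.commutes, ← Algebra.smul_def]; rfl
    have hXX : X * X = a • 1 := hext _ _ fun x y => by
      rw [← Matrix.mulVec_mulVec, hXe, hXe, smul_one_mulVec, smul_add, ← Matrix.smul_mulVec, ← Matrix.smul_mulVec,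
        ← ea x, ← ea y, ← hma]
      congr 3
      · ring
      · ring
    have hskew : ∀ u u', formG (RingEquiv.refl F) G (X *ᵥ u) u' = - formG (RingEquiv.refl F) G u (X *ᵥ u') := by
      intro u u'
      obtain ⟨⟨x, y⟩, rfl⟩ := hbij.2 u
      obtain ⟨⟨x', y'⟩, rfl⟩ := hbij.2 u'
      dsimp only
      rw [hb, hb, hXe, hXe, hval, hval, eq_neg_iff_add_eq_zero, ← map_add, ← map_add, ← map_add]
      rw [show -(y * m * d) * x' + x * m * y' * d + (x * -(y' * m * d) + y * (x' * m) * d) = 0 by ring, map_zero]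
    have hXk : ∀ k : K, X * k.1 = k.1 * X := fun k => hext _ _ fun x y => by
      rw [← Matrix.mulVec_mulVec, ← Matrix.mulVec_mulVec, Matrix.mulVec_add, ← hmul, ← hmul, hXe, hXe,
        Matrix.mulVec_add, ← hmul, ← hmul]
      congr 3 <;> ring
    have hn' : ∀ g ∈ H, X * mat g = mat g * X ∨ X * mat g = -(mat g * X) := by
      intro g hg
      set Y := mat g⁻¹ * X * mat g with hY
      have hgY : X * mat g = mat g * Y := by
        rw [hY, ← mul_assoc, ← mul_assoc, mat_mul_inv, one_mul]
      have hYY : Y * Y = a • 1 := by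
        calc Y * Y = mat g⁻¹ * (X * X) * mat g := by
              simp only [hY, mul_assoc]
              rw [← mul_assoc (mat g) (mat g⁻¹), mat_mul_inv, one_mul]
          _ = a • 1 := by rw [hXX, Matrix.mul_smul, Matrix.smul_mul, mul_one, mat_inv_mul]
      have hYs : ∀ u u', polar Q (Y *ᵥ u) u' = - polar Q u (Y *ᵥ u') := fun u u' => by
        rw [← hb, ← hb, ← iso_apply h.fix hg (Y *ᵥ u), ← iso_apply h.fix hg u, Matrix.mulVec_mulVec,
          Matrix.mulVec_mulVec, ← hgY, ← Matrix.mulVec_mulVec, ← Matrix.mulVec_mulVec, hskew]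
      obtain ⟨⟨p, q⟩, hpq⟩ := hbij.2 (Y *ᵥ v)
      obtain ⟨⟨p', q'⟩, hpq'⟩ := hbij.2 (Y *ᵥ w)
      dsimp only at hpq hpq'
      have hYk : ∀ (k : K) u, Y *ᵥ (k.1 *ᵥ u) = k.1 *ᵥ (Y *ᵥ u) := fun k u => by
        rw [Matrix.mulVec_mulVec, Matrix.mulVec_mulVec, hY, hcommK g hg X hXk k]
      have hYe : ∀ x y : K, Y *ᵥ (x.1 *ᵥ v + y.1 *ᵥ w) = (x * p + y * p').1 *ᵥ v + (x * q + y * q').1 *ᵥ w :=
        fun x y => by
          rw [Matrix.mulVec_add, hYk, hYk, ← hpq, ← hpq', Matrix.mulVec_add, Matrix.mulVec_add, ← hmul, ← hmul,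
            ← hmul, ← hmul, show (x * p + y * p').1 = (x * p).1 + (y * p').1 from rfl,
            show (x * q + y * q').1 = (x * q).1 + (y * q').1 from rfl, Matrix.add_mulVec, Matrix.add_mulVec]
          abel
      have hsk : ∀ x y x' y' : K,
          φ ((x * p + y * p') * x' + (x * q + y * q') * y' * d + (x * (x' * p + y' * p') + y * (x' * q + y' * q') * d))
            = 0 := fun x y x' y' => by
        have h1 := hYs (x.1 *ᵥ v + y.1 *ᵥ w) (x'.1 *ᵥ v + y'.1 *ᵥ w)
        rw [hYe, hYe, hval, hval] at h1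
        rw [map_add, map_add, map_add, h1, neg_add_cancel]
      have h2K : (2 : K) ≠ 0 := fun e => h2 ((algebraMap F K).injective (by rw [map_ofNat, map_zero, e]))
      have hp : p = 0 := by
        refine (mul_eq_zero.1 (fp_zero φ hφ (d := 2 * p) fun k => ?_)).resolve_left h2K
        rw [← hsk k 0 1 0]; congr 1; ring
      have hq' : q' = 0 := by
        refine (mul_eq_zero.1 (fp_zero φ hφ (d := 2 * d * q') fun k => ?_)).resolve_left (mul_ne_zero h2K hd0)
        rw [← hsk 0 k 0 1]; congr 1; ring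
      have hp' : p' = -(q * d) := by
        refine eq_neg_of_add_eq_zero_left (fp_zero φ hφ fun k => ?_)
        rw [← hsk k 0 0 1]; congr 1; ring
      have hqq : q * q = m * m := by
        have h1 := congrArg (· *ᵥ v) hYY
        simp only [← Matrix.mulVec_mulVec, ← hpq] at h1
        rw [hYe, smul_one_mulVec, hp, hq', hp',
          show a • v = (algebraMap F K a).1 *ᵥ v + (0 : K).1 *ᵥ w from by
            rw [show (algebraMap F K a).1 = a • (1 : Matrix ι ι F) from Algebra.algebraMap_eq_smul_one a,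
              smul_one_mulVec, show (0 : K).1 = 0 from rfl, Matrix.zero_mulVec, add_zero], ← hma] at h1
        have h3 := (Prod.ext_iff.1 (hbij.1 (a₁ := (_, _)) (a₂ := (_, _)) h1)).1
        refine mul_right_cancel₀ (neg_ne_zero.2 hd0) ?_
        linear_combination h3
      rcases mul_self_eq_mul_self_iff.1 hqq with e | e
      · left
        rw [hgY]
        congr 1
        refine hext _ _ fun x y => ?_
        rw [hYe, hXe, hp, hq', hp', e]
        congr 3 <;> ring
      · right
        rw [hgY, ← mul_neg]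
        congr 1
        refine hext _ _ fun x y => ?_
        rw [hYe, Matrix.neg_mulVec, hXe, hp, hq', hp', e, neg_add, ← Matrix.neg_mulVec, ← Matrix.neg_mulVec]
        congr 2
        · exact congrArg Subtype.val (show _ = -(-(y * m * d) : K) by ring)
        · exact congrArg Subtype.val (show _ = -(x * m : K) by ring)
    rcases pair_or_field h2 h.rg ha hXX hskew hn' with ⟨m', D, hm', hD, hts, hle'⟩ | ⟨K', hK', hadj, -, hle'⟩
    · exact Or.inl ⟨m', D, hm', hD, fun i v hv => h.zero_of h2 (hts i v hv v hv), hle'⟩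
    · exact Or.inr ⟨K', hK', hadj, hle'⟩

end Cfsg.Agent.Asch
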