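import Cfsg.Agent.Asch.EvenMax
import Cfsg.Agent.Asch.FieldPlane
import Cfsg.Agent.NotMax.Blocks
import Cfsg.Agent.NotMax.OrthFamily
import Cfsg.Agent.Classical.TensorDisc

/-!
Maximal subgroups of the orthogonal groups in dimension ten: common facts.
-/

set_option autoImplicit false
set_option linter.unusedSectionVars false

namespace Cfsg.Agent.Asch

open Matrix Cfsg.Geo Cfsg.Agent.PrimeDim QuadraticMap
open scoped MatrixGroups
open Cfsg.Agent.Classical Cfsg.Agent.Classical.Quad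

variable {F : Type*} [Field F] [Fintype F] {ι : Type} [Fintype ι] [DecidableEq ι]
  {Q : QuadraticForm F (ι → F)} {H : Subgroup (GL ι F)}

theorem ten_orth_rank (hQ : (polarBilin Q).Nondegenerate) (W : Submodule F (ι → F)) :
    Module.finrank F (LinearMap.BilinForm.orthogonal (polarBilin Q) W) = Fintype.card ι - Module.finrank F W := by
  rw [LinearMap.BilinForm.finrank_orthogonal hQ, Module.finrank_fintype_fun_eq_card]

theorem ten_mem_orth {W : Submodule F (ι → F)} {x : ι → F} :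
    x ∈ LinearMap.BilinForm.orthogonal (polarBilin Q) W ↔ ∀ w ∈ W, polar Q w x = 0 := by
  simp [LinearMap.BilinForm.mem_orthogonal_iff]

/-- A totally singular subspace of less than half the dimension extends in plus type. -/
theorem plus_sing_ext (hQ : (polarBilin Q).Nondegenerate) (hplus : IsPlusTypeOn ⇑Q ⊤) {W : Submodule F (ι → F)}
    (hW : ∀ w ∈ W, Q w = 0) (hd : 2 * Module.finrank F W < Fintype.card ι) :
    ∃ x, Q x = 0 ∧ x ∉ W ∧ ∀ w ∈ W, polar Q w x = 0 := by
  classical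
  obtain ⟨U, -, hU, hUd⟩ := hplus
  rw [finrank_top, Module.finrank_fintype_fun_eq_card] at hUd
  set O := LinearMap.BilinForm.orthogonal (polarBilin Q) W
  have h1 : U ⊔ O ≤ LinearMap.BilinForm.orthogonal (polarBilin Q) (U ⊓ W) :=
    sup_le (fun u hu => ten_mem_orth.2 fun w hw => polar_eq_zero_of_singular hU hw.1 hu)
      fun u hu => ten_mem_orth.2 fun w hw => ten_mem_orth.1 hu w hw.2
  have h2 := Submodule.finrank_mono h1
  rw [ten_orth_rank hQ] at h2
  have h3 := Submodule.finrank_sup_add_finrank_inf_eq U O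
  rw [ten_orth_rank hQ W] at h3
  have h4 : Module.finrank F ↥(U ⊓ W) ≤ Module.finrank F W := Submodule.finrank_mono inf_le_right
  obtain ⟨x, hx, hxW⟩ : ∃ x ∈ U ⊓ O, x ∉ W := by
    by_contra hcon
    push Not at hcon
    have := Submodule.finrank_mono (show U ⊓ O ≤ U ⊓ W from fun x hx => ⟨hx.1, hcon x hx⟩)
    omega
  exact ⟨x, hU x hx.1, hxW, ten_mem_orth.1 hx.2⟩

/-- A quadratic field of similarities in plus type needs dimension divisible by four. -/
theorem plus_unitary_four_dvd (hQ : (polarBilin Q).Nondegenerate) (hplus : IsPlusTypeOn ⇑Q ⊤)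
    {K : Subalgebra F (Matrix ι ι F)} (hK : IsFieldSubalgebra 2 K)
    (hadj : IsAdjointClosedFor (polar ⇑Q) K) (hsim : ∀ k ∈ K, ∃ c : F, ∀ v, Q (k *ᵥ v) = c * Q v) :
    4 ∣ Fintype.card ι := by
  classical
  haveI : Finite (Submodule F (ι → F)) := Finite.of_injective _ SetLike.coe_injective
  let P : Submodule F (ι → F) → Prop := fun W => (∀ w ∈ W, Q w = 0) ∧ ∀ k ∈ K, ∀ w ∈ W, k *ᵥ w ∈ W
  haveI : Nonempty {W // P W} := ⟨⟨⊥, fun w hw => by rw [(Submodule.mem_bot F).1 hw, QuadraticMap.map_zero],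
    fun k _ w hw => by rw [(Submodule.mem_bot F).1 hw, Matrix.mulVec_zero]; exact zero_mem _⟩⟩
  obtain ⟨⟨W, hW, hWK⟩, hmax⟩ := Finite.exists_max fun W : {W // P W} => Module.finrank F W.1
  have hle : 2 * Module.finrank F W ≤ Fintype.card ι := by
    have := two_mul_finrank_le hQ hW
    rwa [Module.finrank_fintype_fun_eq_card] at this
  have hfull : 2 * Module.finrank F W = Fintype.card ι := by
    by_contra hne
    obtain ⟨x, hx, hxW, hxo⟩ := plus_sing_ext hQ hplus hW (by omega)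
    let L : K →ₗ[F] (ι → F) :=
      { toFun := fun k => k.1 *ᵥ x
        map_add' := fun a b => Matrix.add_mulVec _ _ _
        map_smul' := fun c a => Matrix.smul_mulVec c _ _ }
    have hP : P (W ⊔ LinearMap.range L) := by
      refine ⟨fun z hz => ?_, fun k hk z hz => ?_⟩
      · obtain ⟨w, hw, _, ⟨a, rfl⟩, rfl⟩ := Submodule.mem_sup.1 hz
        obtain ⟨a', ha', haa⟩ := hadj a.1 a.2
        obtain ⟨c, hc⟩ := hsim a.1 a.2
        have h1 : polar Q w (a.1 *ᵥ x) = 0 := by
          rw [polar_comm, haa, polar_comm]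
          exact hxo _ (hWK a' ha' w hw)
        show Q (w + a.1 *ᵥ x) = 0
        rw [map_add' w, hW w hw, h1, hc, hx, mul_zero, add_zero, add_zero]
      · obtain ⟨w, hw, _, ⟨a, rfl⟩, rfl⟩ := Submodule.mem_sup.1 hz
        rw [Matrix.mulVec_add]
        refine add_mem (Submodule.mem_sup_left (hWK k hk w hw)) (Submodule.mem_sup_right ⟨⟨k, hk⟩ * a, ?_⟩)
        show (k * a.1) *ᵥ x = k *ᵥ (a.1 *ᵥ x)
        rw [Matrix.mulVec_mulVec]
    have h1 : Module.finrank F W < Module.finrank F ↥(W ⊔ LinearMap.range L) :=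
      Submodule.finrank_lt_finrank_of_lt (lt_of_le_of_ne le_sup_left fun e => hxW (by
        rw [e]
        exact Submodule.mem_sup_right ⟨1, Matrix.one_mulVec x⟩))
    have h2 : Module.finrank F ↥(W ⊔ LinearMap.range L) ≤ Module.finrank F W := hmax ⟨_, hP⟩
    omega
  have hev : 2 ∣ Module.finrank F W := by
    rcases isEmpty_or_nonempty ι with hι | hι
    · exact ⟨0, by have := Fintype.card_eq_zero (α := ι); omega⟩
    have hfield : IsField K :=
      { exists_pair_ne := ⟨0, 1, zero_ne_one⟩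
        mul_comm := fun a b => Subtype.ext (hK.comm a.1 a.2 b.1 b.2)
        mul_inv_cancel := fun {a} ha => by
          obtain ⟨y, hy, hxy⟩ := hK.inv a.1 a.2 fun h => ha (Subtype.ext h)
          exact ⟨⟨y, hy⟩, Subtype.ext hxy⟩ }
    letI : Field K := hfield.toField
    letI : Module K W :=
      { smul := fun k v => ⟨(k : Matrix ι ι F) *ᵥ v.1, hWK k.1 k.2 v.1 v.2⟩
        one_smul := fun v => Subtype.ext (Matrix.one_mulVec v.1)
        mul_smul := fun a b v => Subtype.ext (Matrix.mulVec_mulVec v.1 _ _).symm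
        smul_zero := fun a => Subtype.ext (Matrix.mulVec_zero _)
        smul_add := fun a u v => Subtype.ext (Matrix.mulVec_add _ _ _)
        add_smul := fun a b v => Subtype.ext (Matrix.add_mulVec _ _ _)
        zero_smul := fun v => Subtype.ext (Matrix.zero_mulVec v.1) }
    haveI : IsScalarTower F K W := ⟨fun c k v => Subtype.ext (Matrix.smul_mulVec c (k : Matrix ι ι F) v.1)⟩
    have h := Module.finrank_mul_finrank F K W
    rw [hK.finrank_eq] at h
    exact ⟨_, h.symm⟩
  omega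

theorem ten_neg_sq_iff {x : F} (hx : x ≠ 0) : IsSquare (-x) ↔ (IsSquare (-1 : F) ↔ IsSquare x) := by
  by_cases h2 : (2 : F) = 0
  · have hall : ∀ y : F, IsSquare y := fun y => by
      obtain ⟨s, hs⟩ := exists_sqrt h2 y
      exact ⟨s, hs.symm⟩
    simp [hall]
  classical
  have hF : ringChar F ≠ 2 := fun h => h2 (by
    have := ringChar.Nat.cast_ringChar (R := F)
    rw [h] at this
    exact_mod_cast this)
  have e1 := quadraticChar_one_iff_isSquare (F := F) (neg_ne_zero.2 hx)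
  have e2 := quadraticChar_one_iff_isSquare (F := F) (neg_ne_zero.2 (one_ne_zero (α := F)))
  have e3 := quadraticChar_one_iff_isSquare (F := F) hx
  rw [← e1, ← e2, ← e3, show quadraticChar F (-x) = quadraticChar F (-1) * quadraticChar F x by
    rw [← map_mul, neg_one_mul]]
  rcases quadraticChar_dichotomy (F := F) (neg_ne_zero.2 (one_ne_zero (α := F))) with a | a <;>
    rcases quadraticChar_dichotomy hx with b | b <;> rw [a, b] <;> norm_num

theorem ten_neg_one_mod (h2 : (2 : F) ≠ 0) : (IsSquare (-1 : F) → Fintype.card F % 4 = 1) ∧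
    (¬ IsSquare (-1 : F) → Fintype.card F % 4 = 3) := by
  obtain ⟨l, hl⟩ := PrimeDim.odd_of_two_ne_zero h2
  rw [FiniteField.isSquare_neg_one_iff]
  omega

/-- The discriminant decides the type. -/
theorem ten_plus_iff_disc (hQ : (polarBilin Q).Nondegenerate) (h2 : (2 : F) ≠ 0) {m : ℕ}
    (hn : Fintype.card ι = 2 * m) {κ : Type*} [Fintype κ] [DecidableEq κ] (b : Module.Basis κ F (ι → F)) :
    IsPlusTypeOn ⇑Q ⊤ ↔
      IsSquare ((-1) ^ m * (LinearMap.BilinForm.toMatrix b (polarBilin Q)).det) := by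
  have hsym : LinearMap.BilinForm.IsSymm (polarBilin Q) := ⟨fun x y => polar_comm Q x y⟩
  rw [← Tensor.lagrangian_iff h2 hsym hQ (by rw [Module.finrank_fintype_fun_eq_card, hn]) b]
  constructor
  · rintro ⟨U, -, hU, hUd⟩
    rw [finrank_top, Module.finrank_fintype_fun_eq_card] at hUd
    exact ⟨U, by omega, fun x hx y hy => polar_eq_zero_of_singular hU hx hy⟩
  · rintro ⟨X, hX, hX0⟩
    refine plus_top (U := X) (fun x hx => ?_) (by omega)
    have h := hX0 x hx x hx
    rw [polarBilin_apply_apply, polar_self'] at h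
    exact (mul_eq_zero.1 h).resolve_left h2

set_option maxHeartbeats 1000000 in
/-- Two halves of dimension five. -/
theorem five_halves (hQ : (polarBilin Q).Nondegenerate) (h2 : (2 : F) ≠ 0) {m : ℕ} (hm : Odd m)
    (hn : Fintype.card ι = 2 * m) {D : Fin 2 → Submodule F (ι → F)}
    (hD : IsNondegenerateMDecomposition (polar ⇑Q) m D) :
    IsPlusTypeOn ⇑Q ⊤ ↔ (IsSquare (-1 : F) ↔ AreIsometricFor ⇑Q (D 0) (D 1)) := by
  classical
  have hint : DirectSum.IsInternal D :=
    (DirectSum.isInternal_submodule_iff_iSupIndep_and_iSup_eq_top D).2 ⟨hD.decomp.indep, hD.decomp.iSup_eq_top⟩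
  let bi : ∀ i, Module.Basis (Fin m) F (D i) := fun i => Module.finBasisOfFinrankEq F _ (hD.decomp.finrank_eq i)
  let b := hint.collectedBasis bi
  have hb : ∀ p, b p = (bi p.1 p.2 : ι → F) := fun p => by simp [b]
  let σ : (Σ _ : Fin 2, Fin m) ≃ Fin m ⊕ Fin m :=
    (Equiv.sigmaEquivProd _ _).trans ((Equiv.prodCongr finTwoEquiv (Equiv.refl _)).trans (Equiv.boolProdEquivSum _))
  let q : Fin 2 → QuadraticForm F (Fin m → F) := fun i =>
    Q.comp ((D i).subtype ∘ₗ (bi i).equivFun.symm.toLinearMap)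
  have hq : ∀ i x, q i x = Q ((bi i).equivFun.symm x : ι → F) := fun i x => rfl
  have hqp : ∀ i x y, polar (q i) x y = polar Q ((bi i).equivFun.symm x : ι → F) ((bi i).equivFun.symm y) :=
    fun i x y => by
      simp only [polar, hq, map_add, Submodule.coe_add]
  have hqn : ∀ i, (polarBilin (q i)).Nondegenerate := fun i => nondeg_of fun x hx => by
    by_contra hne
    obtain ⟨-, y, hy, hxy⟩ := hD.nondegenerate i _ ((bi i).equivFun.symm x).2 fun e => hne
      ((bi i).equivFun.symm.injective (by rw [map_zero]; exact Subtype.ext e))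
    refine hxy ?_
    have h := hx ((bi i).equivFun ⟨y, hy⟩)
    rwa [hqp, LinearEquiv.symm_apply_apply] at h
  set M : Fin 2 → Matrix (Fin m) (Fin m) F := fun i =>
    Matrix.of fun a c => polar (q i) (Pi.single a 1) (Pi.single c 1) with hMdef
  have hM : ∀ i a c, M i a c = polar Q (bi i a : ι → F) (bi i c) := fun i a c => by
    rw [hMdef]
    simp only [Matrix.of_apply, hqp]
    simp [Module.Basis.equivFun_symm_apply, Pi.single_apply, ite_smul]
  have hdet : (LinearMap.BilinForm.toMatrix b (polarBilin Q)).det = (M 0).det * (M 1).det := by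
    rw [← Matrix.det_fromBlocks_zero₂₁ (M 0) 0 (M 1), ← Matrix.det_submatrix_equiv_self σ]
    congr 1
    ext ⟨i, a⟩ ⟨j, c⟩
    rw [LinearMap.BilinForm.toMatrix_apply, hb, hb, polarBilin_apply_apply, Matrix.submatrix_apply]
    fin_cases i <;> fin_cases j <;>
      simp [σ, finTwoEquiv, hM] <;>
      exact hD.orthogonal _ _ (by decide) _ (bi _ a).2 _ (bi _ c).2
  have hne : (M 0).det * (M 1).det ≠ 0 := by
    rw [← hdet]
    exact (LinearMap.BilinForm.nondegenerate_iff_det_ne_zero b).1 hQ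
  have hiso : AreIsometricFor ⇑Q (D 0) (D 1) ↔ IsSquare ((M 0).det * (M 1).det) := by
    rw [← isometric_iff_disc h2 (q 0) (q 1) (hqn 0) (hqn 1)]
    constructor
    · rintro ⟨e, he⟩
      refine ⟨((bi 0).equivFun.symm.trans e).trans (bi 1).equivFun, fun v => ?_⟩
      rw [hq, hq]
      simp only [LinearEquiv.trans_apply, LinearEquiv.symm_apply_apply]
      exact he _
    · rintro ⟨g, hg⟩
      refine ⟨((bi 0).equivFun.trans g).trans (bi 1).equivFun.symm, fun w => ?_⟩
      have h := hg ((bi 0).equivFun w)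
      rw [hq, hq, LinearEquiv.symm_apply_apply] at h
      exact h
  rw [ten_plus_iff_disc hQ h2 hn b, hdet, Odd.neg_one_pow hm, neg_one_mul, hiso, ten_neg_sq_iff hne]

/-- Five isometric planes inside a space of plus type have plus type. -/
theorem five_planes_plus (hQ : (polarBilin Q).Nondegenerate) (hn : Fintype.card ι = 10) (hplus : IsPlusTypeOn ⇑Q ⊤)
    {D : Fin 5 → Submodule F (ι → F)} (hD : IsOrthogonalMDecomposition ⇑Q 2 D) (i₀ : Fin 5) :
    IsPlusTypeOn ⇑Q (D i₀) := by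
  classical
  suffices h4 : IsPlusTypeOn ⇑Q (D 4) by
    obtain ⟨U, hU, hUs, hUd⟩ := h4
    obtain ⟨e, he⟩ := hD.isometric 4 i₀
    let ψ : U →ₗ[F] (ι → F) := (D i₀).subtype ∘ₗ e.toLinearMap ∘ₗ Submodule.inclusion hU
    have hψ : Function.Injective ψ := fun x y h => by
      have h' := e.injective (Subtype.ext h : e (Submodule.inclusion hU x) = e (Submodule.inclusion hU y))
      exact Submodule.inclusion_injective hU h'
    refine ⟨LinearMap.range ψ, ?_, ?_, ?_⟩
    · rintro _ ⟨x, rfl⟩; exact (e _).2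
    · rintro _ ⟨x, rfl⟩
      show Q (e (Submodule.inclusion hU x) : ι → F) = 0
      rw [he]
      exact hUs _ x.2
    · rw [LinearMap.finrank_range_of_inj hψ, hUd, hD.decomp.decomp.finrank_eq, hD.decomp.decomp.finrank_eq]
  have hd := hD.decomp.decomp
  set q : QuadraticForm F (D 0) := Q.comp (D 0).subtype with hqdef
  have hqn : (polarBilin q).Nondegenerate := nondeg_of fun x hx => by
    by_contra hne
    obtain ⟨-, y, hy, hxy⟩ := hD.decomp.nondegenerate 0 x x.2 fun e => hne (Subtype.ext e)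
    exact hxy (hx ⟨y, hy⟩)
  obtain ⟨f, hf⟩ := iso_smul_even hqn (show Module.finrank F (D 0) = 2 * 1 by rw [hd.finrank_eq]) (c := (-1 : F))
    (by norm_num)
  have hf' : ∀ x : D 0, Q (f x : ι → F) = -Q (x : ι → F) := fun x => by
    have h2 := hf x
    simpa [hqdef] using h2
  choose e he using fun i => hD.isometric 0 i
  let Φ : (D 0 × D 0) →ₗ[F] (ι → F) :=
    ((D 0).subtype + (D 1).subtype ∘ₗ (e 1).toLinearMap ∘ₗ f.toLinearMap).coprod
      ((D 2).subtype ∘ₗ (e 2).toLinearMap + (D 3).subtype ∘ₗ (e 3).toLinearMap ∘ₗ f.toLinearMap)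
  have hΦ : ∀ x y : D 0, Φ (x, y) = (x : ι → F) + (e 1 (f x) : ι → F) + ((e 2 y : ι → F) + (e 3 (f y) : ι → F)) :=
    fun x y => rfl
  have hort : ∀ {i j : Fin 5}, i ≠ j → ∀ {x y}, x ∈ D i → y ∈ D j → polar Q x y = 0 :=
    fun hij x y hx hy => hD.decomp.orthogonal _ _ hij _ hx _ hy
  have hΦ0 : ∀ p, Q (Φ p) = 0 := by
    rintro ⟨x, y⟩
    rw [hΦ, map_add', map_add' (x : ι → F), map_add' (e 2 y : ι → F), he, he, he, hf', hf', polar_add_left,
      polar_add_right, polar_add_right, hort (by decide : (0 : Fin 5) ≠ 1) x.2 (e 1 _).2,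
      hort (by decide : (2 : Fin 5) ≠ 3) (e 2 _).2 (e 3 _).2, hort (by decide : (0 : Fin 5) ≠ 2) x.2 (e 2 _).2,
      hort (by decide : (0 : Fin 5) ≠ 3) x.2 (e 3 _).2, hort (by decide : (1 : Fin 5) ≠ 2) (e 1 _).2 (e 2 _).2,
      hort (by decide : (1 : Fin 5) ≠ 3) (e 1 _).2 (e 3 _).2]
    ring
  have hinj : Function.Injective Φ := (injective_iff_map_eq_zero Φ).2 fun ⟨x, y⟩ hxy => by
    rw [hΦ] at hxy
    have key : ∀ (i : Fin 5) (z : ι → F), z ∈ D i → (∀ d ∈ D i, polar Q
        ((x : ι → F) + (e 1 (f x) : ι → F) + ((e 2 y : ι → F) + (e 3 (f y) : ι → F))) d = polar Q z d) → z = 0 := by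
      intro i z hz hzd
      by_contra hne
      obtain ⟨-, d, hd', hne'⟩ := hD.decomp.nondegenerate i z hz hne
      rw [← hzd d hd', hxy] at hne'
      exact hne' (by simp [polar])
    have hx : (x : ι → F) = 0 := key 0 _ x.2 fun d hd' => by
      rw [polar_add_left, polar_add_left, polar_add_left, hort (by decide : (1 : Fin 5) ≠ 0) (e 1 _).2 hd',
        hort (by decide : (2 : Fin 5) ≠ 0) (e 2 _).2 hd', hort (by decide : (3 : Fin 5) ≠ 0) (e 3 _).2 hd']
      simp
    have hy : (e 2 y : ι → F) = 0 := key 2 _ (e 2 y).2 fun d hd' => by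
      rw [polar_add_left, polar_add_left, polar_add_left, hort (by decide : (0 : Fin 5) ≠ 2) x.2 hd',
        hort (by decide : (1 : Fin 5) ≠ 2) (e 1 _).2 hd', hort (by decide : (3 : Fin 5) ≠ 2) (e 3 _).2 hd']
      simp
    have hy' : y = 0 := (e 2).injective (by rw [map_zero]; exact Subtype.ext hy)
    rw [hy', show x = 0 from Subtype.ext hx]
    rfl
  have hrk : Module.finrank F (LinearMap.range Φ) = 4 := by
    rw [LinearMap.finrank_range_of_inj hinj, Module.finrank_prod, hd.finrank_eq]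
  obtain ⟨x, hx, hxW, hxo⟩ := plus_sing_ext hQ hplus (W := LinearMap.range Φ)
    (by rintro _ ⟨p, rfl⟩; exact hΦ0 p) (by omega)
  have hperp : LinearMap.BilinForm.orthogonal (polarBilin Q) (LinearMap.range Φ) = LinearMap.range Φ ⊔ D 4 := by
    have hle : LinearMap.range Φ ⊔ D 4 ≤ LinearMap.BilinForm.orthogonal (polarBilin Q) (LinearMap.range Φ) := by
      refine sup_le (fun u hu => ten_mem_orth.2 fun w hw => polar_eq_zero_of_singular ?_ hw hu)
        fun u hu => ten_mem_orth.2 ?_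
      · rintro _ ⟨p, rfl⟩; exact hΦ0 p
      · rintro _ ⟨⟨a, c⟩, rfl⟩
        rw [hΦ, polar_add_left, polar_add_left, polar_add_left, hort (by decide : (0 : Fin 5) ≠ 4) a.2 hu,
          hort (by decide : (1 : Fin 5) ≠ 4) (e 1 _).2 hu, hort (by decide : (2 : Fin 5) ≠ 4) (e 2 _).2 hu,
          hort (by decide : (3 : Fin 5) ≠ 4) (e 3 _).2 hu]
        simp
    refine (Submodule.eq_of_le_of_finrank_le hle ?_).symm
    rw [ten_orth_rank hQ, hrk, hn]
    have h1 : LinearMap.range Φ ⊓ D 4 = ⊥ := by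
      rw [eq_bot_iff]
      rintro u ⟨⟨⟨a, c⟩, rfl⟩, hu⟩
      rw [Submodule.mem_bot]
      by_contra hne
      obtain ⟨-, d, hd', hne'⟩ := hD.decomp.nondegenerate 4 _ hu hne
      refine hne' ?_
      rw [hΦ, polar_add_left, polar_add_left, polar_add_left, hort (by decide : (0 : Fin 5) ≠ 4) a.2 hd',
        hort (by decide : (1 : Fin 5) ≠ 4) (e 1 _).2 hd', hort (by decide : (2 : Fin 5) ≠ 4) (e 2 _).2 hd',
        hort (by decide : (3 : Fin 5) ≠ 4) (e 3 _).2 hd']
      simp
    have h2 := Submodule.finrank_sup_add_finrank_inf_eq (LinearMap.range Φ) (D 4)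
    rw [h1, finrank_bot, hrk, hd.finrank_eq] at h2
    omega
  obtain ⟨w, hw, d, hd', rfl⟩ := Submodule.mem_sup.1 (hperp ▸ ten_mem_orth.2 hxo)
  have hd0 : d ≠ 0 := fun e0 => hxW (by rw [e0, add_zero]; exact hw)
  have hwd : polar Q w d = 0 := by
    obtain ⟨⟨a, c⟩, rfl⟩ := hw
    rw [hΦ, polar_add_left, polar_add_left, polar_add_left, hort (by decide : (0 : Fin 5) ≠ 4) a.2 hd',
      hort (by decide : (1 : Fin 5) ≠ 4) (e 1 _).2 hd', hort (by decide : (2 : Fin 5) ≠ 4) (e 2 _).2 hd',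
      hort (by decide : (3 : Fin 5) ≠ 4) (e 3 _).2 hd']
    simp
  have hQd : Q d = 0 := by
    obtain ⟨p, rfl⟩ := hw
    rw [map_add', hΦ0, hwd, zero_add, add_zero] at hx
    exact hx
  refine ⟨Submodule.span F {d}, (Submodule.span_singleton_le_iff_mem _ _).2 hd', fun u hu => ?_, ?_⟩
  · obtain ⟨s, rfl⟩ := Submodule.mem_span_singleton.1 hu
    rw [Quad.map_smul' s d, hQd, mul_zero]
  · rw [finrank_span_singleton hd0, hd.finrank_eq]

set_option maxHeartbeats 1000000 in
/-- Ten isometric orthogonal lines. -/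
theorem lines_case (hQ : (polarBilin Q).Nondegenerate) {t : ℕ} (hn : Fintype.card ι = t) {m : ℕ} (hm : t = 2 * m) (hiso : ∀ g ∈ H, ∀ v, Q (mat g *ᵥ v) = Q v)
    (h2 : (2 : F) ≠ 0) {D : Fin t → Submodule F (ι → F)} (hD : IsOrthogonalMDecomposition ⇑Q 1 D)
    (hle : H ≤ decompositionStabilizer D) :
    ((Fintype.card F).Prime ∧ (IsPlusTypeOn ⇑Q ⊤ ↔ IsSquare ((-1 : F) ^ m))) ∨
      ∃ (F₀ : Subfield F) (r : ℕ) (P : GL ι F) (ζ : F), r.Prime ∧ Fintype.card F = Nat.card F₀ ^ r ∧ ζ ≠ 0 ∧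
        IsQuadFormRationalStructure (fun v => ζ * Q v) F₀ P ∧ H ≤ subfieldSubgroup F₀ P := by
  classical
  have hd := hD.decomp.decomp
  haveI : NeZero t := ⟨by have := hd.two_le; omega⟩
  obtain ⟨v₀, hv₀, hv₀0⟩ := (D 0).exists_mem_ne_zero_of_ne_bot fun e => by
    have := hd.finrank_eq 0
    rw [e, finrank_bot] at this
    exact zero_ne_one this
  choose e he using fun i => hD.isometric 0 i
  let v : Fin t → ι → F := fun i => (e i ⟨v₀, hv₀⟩ : ι → F)
  have hv : ∀ i, v i ∈ D i := fun i => (e i _).2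
  have hv0 : ∀ i, v i ≠ 0 := fun i h0 => hv₀0 (congrArg Subtype.val
    ((e i).injective (a₁ := ⟨v₀, hv₀⟩) (a₂ := 0) (by rw [map_zero]; exact Subtype.ext h0)))
  have hline : ∀ i u, u ∈ D i → ∃ c : F, u = c • v i := fun i u hu => by
    obtain ⟨c, hc⟩ := (finrank_eq_one_iff_of_nonzero' (⟨v i, hv i⟩ : D i) (fun h0 =>
      hv0 i (congrArg Subtype.val h0))).1 (hd.finrank_eq i) ⟨u, hu⟩
    exact ⟨c, (congrArg Subtype.val hc).symm⟩
  have hli : LinearIndependent F v := hd.indep.linearIndependent D hv hv0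
  let ee : Fin t ≃ ι := (Fintype.equivFinOfCardEq hn).symm
  let b : Module.Basis ι F (ι → F) := (basisOfLinearIndependentOfCardEqFinrank hli (by
    rw [Fintype.card_fin, Module.finrank_fintype_fun_eq_card, hn])).reindex ee
  have hb : ∀ i, b i = v (ee.symm i) := fun i => by simp [b]
  set a := Q v₀ with hadef
  have hQv : ∀ i, Q (v i) = a := fun i => he i _
  have hoff : ∀ i j, i ≠ j → polar Q (b i) (b j) = 0 := fun i j hij => by
    rw [hb, hb]
    exact hD.decomp.orthogonal _ _ (fun h => hij (ee.symm.injective h)) _ (hv _) _ (hv _)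
  have ha : a ≠ 0 := fun e0 => by
    obtain ⟨-, y, hy, hxy⟩ := hD.decomp.nondegenerate 0 _ hv₀ hv₀0
    obtain ⟨c, rfl⟩ := hline 0 y hy
    obtain ⟨c', hc'⟩ := hline 0 v₀ hv₀
    refine hxy ?_
    rw [hc', polar_smul_left, polar_smul_right, polar_self', hQv, e0]
    simp
  by_cases hqp : (Fintype.card F).Prime
  · left
    refine ⟨hqp, ?_⟩
    rw [ten_plus_iff_disc hQ h2 (m := m) (by rw [hn, hm]) b,
      show LinearMap.BilinForm.toMatrix b (polarBilin Q) = (2 * a) • (1 : Matrix ι ι F) from ?_, Matrix.det_smul,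
      Matrix.det_one, mul_one, hn, hm, show (-1 : F) ^ m * (2 * a) ^ (2 * m) = (2 * a) ^ m * (2 * a) ^ m * (-1) ^ m by
        rw [two_mul m, pow_add]; ring, Tensor.isSquare_mul_sq_iff (pow_ne_zero _ (mul_ne_zero h2 ha))]
    · ext i j
      rw [LinearMap.BilinForm.toMatrix_apply, polarBilin_apply_apply, Matrix.smul_apply, smul_eq_mul,
        Matrix.one_apply]
      by_cases hij : i = j
      · subst hij; rw [if_pos rfl, mul_one, polar_self', hb, hQv]
      · rw [if_neg hij, mul_zero, hoff i j hij]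
  · right
    obtain ⟨p, n, hp, hcp, -, hn'⟩ := prime_card_pow (F := F)
    haveI := Fact.mk hp
    rw [Nat.card_eq_fintype_card] at hn'
    let F₀ : Subfield F := RingHom.eqLocusField (powHom p 1) (RingHom.id F)
    have hmem : ∀ x, x ∈ F₀ ↔ x ^ p = x := fun x => by
      show powHom p 1 x = x ↔ _
      rw [powHom_apply, pow_one]
    have hn2 : 1 < n := by
      by_contra hle
      rcases (show n = 0 ∨ n = 1 by omega) with rfl | rfl
      · exact absurd hn' (Fintype.one_lt_card (α := F)).ne'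
      · exact hqp (by rw [hn', pow_one]; exact hp)
    have hF₀ : F₀ ≠ ⊤ := by
      intro htop
      have h1 := card_fixed_le (E := F) p hp.one_lt
      rw [Nat.card_congr (Equiv.subtypeUnivEquiv fun x => (hmem x).1 (htop ▸ Subfield.mem_top x)),
        Nat.card_eq_fintype_card, hn'] at h1
      have h3 := Nat.pow_lt_pow_right hp.one_lt hn2
      rw [pow_one] at h3
      omega
    obtain ⟨F₁, l, hl, hcl, hle01⟩ := exists_prime_index hF₀
    refine ⟨F₁, l, ofBasis b, a⁻¹, hl, hcl, inv_ne_zero ha, fun u hu => ?_, fun g hg => ?_⟩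
    · show a⁻¹ * Q (mat (ofBasis b) *ᵥ u) ∈ F₁
      have e1 : mat (ofBasis b) *ᵥ u = ∑ i, u i • b i := by
        conv_lhs => rw [← Finset.univ_sum_single u]
        rw [Matrix.mulVec_sum]
        exact Finset.sum_congr rfl fun i _ => by
          rw [← mul_one (u i), ← smul_eq_mul, Pi.single_smul, Matrix.mulVec_smul, ofBasis_single, smul_eq_mul, mul_one]
      rw [e1, quad_sum _ _ fun i j hij => by rw [polar_smul_left, polar_smul_right, hoff i j hij]; simp,
        Finset.mul_sum]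
      refine Subfield.sum_mem _ fun i _ => ?_
      rw [Quad.map_smul' (u i), hb, hQv, show a⁻¹ * (u i * u i * a) = u i * u i by field_simp]
      exact mul_mem (hu i) (hu i)
    · refine mem_subfieldSubgroup (c := 1) (X := mat ((ofBasis b)⁻¹ * g * ofBasis b)) ?_ (one_smul _ _).symm
      refine entries_of_mono b fun i => ?_
      obtain ⟨τ, hτ⟩ := hle hg
      obtain ⟨c, hc⟩ := hline (τ (ee.symm i)) (mat g *ᵥ v (ee.symm i)) (by
        rw [← hτ]; exact ⟨_, hv _, Matrix.toLin'_apply _ _⟩)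
      refine ⟨ee (τ (ee.symm i)), c, hle01 ?_, by rw [hb, hb, hc, Equiv.symm_apply_apply]⟩
      have h1 := congrArg Q hc
      rw [hiso g hg, Quad.map_smul' c, hQv, hQv] at h1
      rcases mul_self_eq_one_iff.1 ((mul_left_eq_self₀.1 h1.symm).resolve_right ha) with rfl | rfl
      · exact one_mem _
      · exact neg_mem (one_mem _)

theorem ten_lines (hQ : (polarBilin Q).Nondegenerate) (hn : Fintype.card ι = 10)
    (hiso : ∀ g ∈ H, ∀ v, Q (mat g *ᵥ v) = Q v) (h2 : (2 : F) ≠ 0) {D : Fin 10 → Submodule F (ι → F)}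
    (hD : IsOrthogonalMDecomposition ⇑Q 1 D) (hle : H ≤ decompositionStabilizer D) :
    ((Fintype.card F).Prime ∧ (IsPlusTypeOn ⇑Q ⊤ ↔ IsSquare (-1 : F))) ∨
      ∃ (F₀ : Subfield F) (r : ℕ) (P : GL ι F) (ζ : F), r.Prime ∧ Fintype.card F = Nat.card F₀ ^ r ∧ ζ ≠ 0 ∧
        IsQuadFormRationalStructure (fun v => ζ * Q v) F₀ P ∧ H ≤ subfieldSubgroup F₀ P := by
  rcases lines_case hQ hn (m := 5) rfl hiso h2 hD hle with h | h
  · rw [show ((-1 : F) ^ 5) = -1 by ring] at h
    exact Or.inl h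
  · exact Or.inr h

/-- The members in dimension ten of a maximal subgroup. -/
def TenMember (Q : QuadraticForm F (ι → F)) (H : Subgroup (GL ι F)) : Prop :=
  (∃ W : Submodule F (ι → F), W ≠ ⊥ ∧ IsTotallySingularQuad ⇑Q W ∧
    (IsPlusTypeOn ⇑Q ⊤ → Module.finrank F W ≠ 4) ∧ H = subspaceStabilizer W ⊓ omegaGL ⇑Q) ∨
  (∃ W : Submodule F (ι → F), W ≠ ⊥ ∧ W ≠ ⊤ ∧ Module.finrank F W < 5 ∧ IsNondegenerateOn (polar ⇑Q) W ∧
    (Odd (Module.finrank F W) → Odd (Fintype.card F)) ∧
    (Module.finrank F W = 2 → IsPlusTypeOn ⇑Q W → 4 ≤ Fintype.card F) ∧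
    H = subspaceStabilizer W ⊓ omegaGL ⇑Q) ∨
  (¬ Odd (Fintype.card F) ∧ ∃ v : ι → F, Q v ≠ 0 ∧ H = subspaceStabilizer (Submodule.span F {v}) ⊓ omegaGL ⇑Q) ∨
  (∃ p : ℕ, p.Prime ∧ Fintype.card F = p ∧ Odd p ∧ ((IsPlusTypeOn ⇑Q ⊤ ↔ p % 4 = 1)) ∧
    ∃ D : Fin 10 → Submodule F (ι → F), IsOrthogonalMDecomposition ⇑Q 1 D ∧
      H = decompositionStabilizer D ⊓ omegaGL ⇑Q) ∨
  (∃ D : Fin 5 → Submodule F (ι → F), IsOrthogonalMDecomposition ⇑Q 2 D ∧ Fintype.card F ≠ 3 ∧
    (IsPlusTypeOn ⇑Q ⊤ → 7 ≤ Fintype.card F) ∧ H = decompositionStabilizer D ⊓ omegaGL ⇑Q) ∨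
  (∃ D : Fin 2 → Submodule F (ι → F), (Fintype.card F % 4 = 1 ∨ Fintype.card F % 4 = 3) ∧
    IsNondegenerateMDecomposition (polar ⇑Q) 5 D ∧
    (IsPlusTypeOn ⇑Q ⊤ ↔ (Fintype.card F % 4 = 1 ↔ AreIsometricFor ⇑Q (D 0) (D 1))) ∧
    (AreIsometricFor ⇑Q (D 0) (D 1) → IsOrthogonalMDecomposition ⇑Q 5 D) ∧
    H = decompositionStabilizer D ⊓ omegaGL ⇑Q) ∨
  (∃ K : Subalgebra F (Matrix ι ι F), IsFieldSubalgebra 2 K ∧ IsAdjointClosedFor (polar ⇑Q) K ∧
    ((Odd (Fintype.card F) ∧ IsSelfAdjointFor (polar ⇑Q) K) ∨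
      (¬ IsPlusTypeOn ⇑Q ⊤ ∧ ¬ IsSelfAdjointFor (polar ⇑Q) K ∧ ∀ k ∈ K, ∃ c : F, ∀ v, Q (k *ᵥ v) = c * Q v)) ∧
    H = subalgebraNormalizer K ⊓ omegaGL ⇑Q) ∨
  (∃ (F₀ : Subfield F) (r : ℕ) (P : GL ι F) (ζ : F), r.Prime ∧ (¬ IsPlusTypeOn ⇑Q ⊤ → Odd r) ∧
    Fintype.card F = Nat.card F₀ ^ r ∧ ζ ≠ 0 ∧ IsQuadFormRationalStructure (fun v => ζ * Q v) F₀ P ∧
    H = subfieldSubgroup F₀ P ⊓ omegaGL ⇑Q)

set_option maxHeartbeats 1000000 in
/-- Maximal subgroups in dimension ten. -/
theorem ten_max (hQ : (polarBilin Q).Nondegenerate) (hn : Fintype.card ι = 10) (hH : IsMaximalIn (omegaGL ⇑Q) H) :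
    TenMember Q H ∨ InOrthogonalResidualClass H := by
  classical
  have h7 : 7 ≤ Fintype.card ι := by omega
  have hev : Even (Fintype.card ι) := ⟨5, hn⟩
  haveI : Nonempty ι := Fintype.card_pos_iff.1 (by omega)
  have hiso : ∀ g ∈ H, ∀ v, Q (mat g *ᵥ v) = Q v := fun g hg => NotMax.omega_map g (hH.1.le hg)
  have hset := even_setting hQ hiso hev (by omega)
  have mts : ∀ W : Submodule F (ι → F), W ≠ ⊥ → IsTotallySingularQuad ⇑Q W → H ≤ subspaceStabilizer W →
      TenMember Q H := fun W hb hts hle => by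
    refine Or.inl ⟨W, hb, hts, fun hplus h4 => ?_, eq_stab hQ h7 hH hb (ts_ne_top hQ hts) hle⟩
    obtain ⟨K, hK1, hK2⟩ := NotMax.submax_not_max' hQ (by omega) hplus W hts (by omega)
    exact not_max_between hH hle hK1 hK2
  have mhalves : ∀ D : Fin 2 → Submodule F (ι → F), IsNondegenerateMDecomposition (polar ⇑Q) 5 D →
      (2 : F) ≠ 0 → H ≤ decompositionStabilizer D → TenMember Q H := fun D hD h2 hle => by
    obtain ⟨hm1, hm3⟩ := ten_neg_one_mod (F := F) h2
    refine Or.inr (Or.inr (Or.inr (Or.inr (Or.inr (Or.inl ⟨D, ?_, hD, ?_, fun hi => ⟨hD, fun i j => ?_⟩,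
      eq_of_max hH hle (sg_not_blocks hQ h7 (hasSg_omega hQ (by omega)) hD.decomp (by norm_num))⟩)))))
    · by_cases hm : IsSquare (-1 : F)
      · exact Or.inl (hm1 hm)
      · exact Or.inr (hm3 hm)
    · rw [five_halves hQ h2 (m := 5) (by decide) hn hD]
      refine iff_congr ?_ Iff.rfl
      constructor
      · exact hm1
      · intro h1
        by_contra hm
        have := hm3 hm
        omega
    · obtain ⟨e, he⟩ := hi
      fin_cases i <;> fin_cases j
      · exact ⟨LinearEquiv.refl _ _, fun w => rfl⟩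
      · exact ⟨e, he⟩
      · exact ⟨e.symm, fun w => by
          have h := he (e.symm w)
          rw [e.apply_symm_apply] at h
          exact h.symm⟩
      · exact ⟨LinearEquiv.refl _ _, fun w => rfl⟩
  have msub : (∃ (F₀ : Subfield F) (r : ℕ) (P : GL ι F) (ζ : F), r.Prime ∧ Fintype.card F = Nat.card F₀ ^ r ∧
      ζ ≠ 0 ∧ IsQuadFormRationalStructure (fun v => ζ * Q v) F₀ P ∧ H ≤ subfieldSubgroup F₀ P) → TenMember Q H := by
    rintro ⟨F₀, r, P, ζ, hr, hc, hζ, hrat, hle⟩
    refine Or.inr (Or.inr (Or.inr (Or.inr (Or.inr (Or.inr (Or.inr ⟨F₀, r, P, ζ, hr, fun hminus => ?_, hc, hζ, hrat,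
      eq_of_max hH hle (sg_not_subfield hQ h7 (hasSg_omega hQ (by omega)) (subfield_proper hr hc) P)⟩))))))
    rcases hr.eq_two_or_odd' with rfl | hro
    · exact absurd (plus_of_subfield_two hQ hev hζ hc hrat) hminus
    · exact hro
  have mpair : ∀ (k : ℕ) (D : Fin 2 → Submodule F (ι → F)), 2 * k = Fintype.card ι → IsMDecomposition k D →
      (∀ i, IsTotallySingularQuad ⇑Q (D i)) → H ≤ decompositionStabilizer D → TenMember Q H := by
    intro k D hk hD hts hle
    refine mts (D 0) (fun e => ?_) (hts 0) (le_stab fun g hg v hv => ?_)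
    · have := hD.finrank_eq 0
      rw [e, finrank_bot] at this; omega
    obtain ⟨σ, hσ⟩ := hle hg
    have h0 := hσ 0
    rcases (by omega : σ 0 = 0 ∨ σ 0 = 1) with e | e <;> rw [e] at h0
    · rw [← h0]
      exact ⟨v, hv, Matrix.toLin'_apply _ _⟩
    · have hdisj : D 0 ⊓ D 1 = ⊥ := disjoint_iff.1 (hD.indep.pairwiseDisjoint (by decide : (0 : Fin 2) ≠ 1))
      have h := NotMax.even_codim hQ (by omega) (m := k) hk.symm (hts 0) (hD.finrank_eq 0) (hH.1.le hg)
      rw [h0, hdisj, finrank_bot, Nat.sub_zero] at h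
      exact absurd h (Nat.not_even_iff_odd.2 ⟨2, by omega⟩)
  have mred : RedMember Q H → TenMember Q H := by
    rintro (⟨W, hb, hts, hle⟩ | ⟨W, hb, hW, hlt, hodd, hle⟩ | ⟨k, D, hk, hD, hodd, -, hle⟩ | ⟨v, h2, hv, hle⟩)
    · exact mts W hb hts hle
    · have hne := ne_of_rank (W := W) (Nat.pos_of_ne_zero fun e => hb (Submodule.finrank_eq_zero.1 e)) (by omega)
      exact Or.inr (Or.inl ⟨W, hne.1, hne.2, by omega, hW, fun ho => odd_of_two_ne_zero (hodd ho),
        fun hd2 hp => plane_small hQ (by omega) hH hd2 hW hp hle, eq_stab hQ h7 hH hne.1 hne.2 hle⟩)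
    · obtain rfl : k = 5 := by omega
      exact mhalves D hD (hodd (by decide)) hle
    · have hv0 : v ≠ 0 := fun e => hv (by rw [e, QuadraticMap.map_zero])
      have hne := ne_of_rank (W := Submodule.span F {v}) (by rw [finrank_span_singleton hv0]; omega)
        (by rw [finrank_span_singleton hv0]; omega)
      exact Or.inr (Or.inr (Or.inl ⟨not_odd_of_two h2, v, hv, eq_stab hQ h7 hH hne.1 hne.2 hle⟩))
  by_cases hirr : Irr H
  swap
  · obtain ⟨W, hb, ht, hW⟩ := exists_inv_of_not_irr hirr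
    exact Or.inl (mred (hset.reducible_cases hb ht hW))
  have mquad : ∀ K : Subalgebra F (Matrix ι ι F), IsFieldSubalgebra 2 K →
      IsAdjointClosedFor (polar ⇑Q) K → H ≤ subalgebraNormalizer K → TenMember Q H := by
    intro K hK hadj hle
    have hadj' : IsAdjointClosedFor (formG (RingEquiv.refl F) (gramMatrix (polar ⇑Q))) K := by
      rw [hset.pol_fun]; exact hadj
    refine Or.inr (Or.inr (Or.inr (Or.inr (Or.inr (Or.inr (Or.inl ⟨K, hK, hadj, ?_,
      eq_of_max hH hle (omega_not_field hQ h7 le_rfl hK)⟩))))))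
    rcases hset.field_kind hirr Nat.prime_two hK hle hadj' with ⟨hsa, halt⟩ | ⟨-, hnsa, hsim⟩
    · refine Or.inl ⟨odd_of_two_ne_zero fun h2 => ?_, hsa⟩
      have h4 := field_two_dvd (G := gramMatrix (polar ⇑Q)) (r := 2) ⟨hset.rg.det, fun _ => rfl, ?_⟩ hK
        (by rw [hset.pol_fun]; exact hsa) (fun k hk v => by rw [hset.pol]; exact halt h2 k hk v)
      · omega
      · have h3 := hset.rg.symm
        rw [one_smul] at h3
        rw [show (-1 : F) = 1 by linear_combination -h2, one_smul]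
        exact h3
    · refine Or.inr ⟨fun hplus => ?_, hnsa, hsim⟩
      have h4 := plus_unitary_four_dvd hQ hplus hK hadj hsim
      omega
  rcases even_max hQ hev (by omega) hH with hmem | hres
  swap
  · exact Or.inr hres
  left
  rcases hmem with ⟨W, h⟩ | ⟨W, h⟩ | h | h |
    ⟨t, k, D, hD, hodd, hle⟩ | ⟨k, D, hk, hD, hts, hle⟩ | ⟨r, K, hr, hdvd, hK, hadj, hkind, hle⟩ |
    ⟨d, k, e, P, f₁, f₂, -, hd, hk, -, -, -, -⟩ | ⟨d, k, e, P, f₁, f₂, hf₁, hf₂, hd, hk, -, -, -⟩ |
    h | ⟨-, k, hk⟩ | ⟨m, t, hm, ht, hcard, -⟩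
  · exact mred (Or.inl ⟨W, h⟩)
  · exact mred (Or.inr (Or.inl ⟨W, h⟩))
  · exact mred (Or.inr (Or.inr (Or.inl h)))
  · exact mred (Or.inr (Or.inr (Or.inr h)))
  · have htk := NotMax.mul_card_eq' hD.decomp.decomp
    rw [hn] at htk
    have ht : t ∈ Nat.divisors 10 := Nat.mem_divisors.2 ⟨⟨k, htk.symm⟩, by norm_num⟩
    rw [show Nat.divisors 10 = {1, 2, 5, 10} by decide] at ht
    simp only [Finset.mem_insert, Finset.mem_singleton] at ht
    rcases ht with rfl | rfl | rfl | rfl
    · exact absurd hD.decomp.decomp.two_le (by norm_num)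
    · obtain rfl : k = 5 := by omega
      exact mhalves D hD.decomp (hodd (by decide)) hle
    · obtain rfl : k = 2 := by omega
      refine Or.inr (Or.inr (Or.inr (Or.inr (Or.inl ⟨D, hD, fun h3 => ?_, fun hplus => ?_,
        eq_of_max hH hle (sg_not_small_blocks hQ (hasSg_omega hQ (by omega)) hD.decomp.decomp (by omega))⟩))))
      · obtain ⟨K, hK1, hK2⟩ := NotMax.small_frame_not_max' hQ le_rfl hD (Or.inl rfl) h3
        exact not_max_between hH hle hK1 hK2
      · by_contra h7q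
        have hp := five_planes_plus hQ hn hplus hD
        obtain ⟨p, n, hp', -, hn0, hcard⟩ := prime_card_pow (F := F)
        rw [Nat.card_eq_fintype_card] at hcard
        have hne6 : Fintype.card F ≠ 6 := fun h6 => by
          rw [h6] at hcard
          have hd2 : 2 ∣ p := Nat.prime_two.dvd_of_dvd_pow (hcard ▸ (by norm_num : 2 ∣ 6))
          have hd3 : 3 ∣ p := Nat.prime_three.dvd_of_dvd_pow (hcard ▸ (by norm_num : 3 ∣ 6))
          rcases (Nat.dvd_prime hp').1 hd2 with e | e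
          · omega
          · omega
        have h1 := Fintype.one_lt_card (α := F)
        rcases (show Fintype.card F = 2 ∨ Fintype.card F = 3 ∨ Fintype.card F = 4 ∨ Fintype.card F = 5 by omega) with
          h | h | h | h
        · obtain ⟨K, hK1, hK2⟩ := NotMax.lattice_plus_not_max' hQ (by omega) hD (Or.inl h) hp
          exact not_max_between hH hle hK1 hK2
        · obtain ⟨K, hK1, hK2⟩ := NotMax.small_frame_not_max' hQ le_rfl hD (Or.inl rfl) h
          exact not_max_between hH hle hK1 hK2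
        · obtain ⟨K, hK1, hK2⟩ := NotMax.lattice_plus_not_max' hQ (by omega) hD (Or.inr h) hp
          exact not_max_between hH hle hK1 hK2
        · obtain ⟨K, hK1, hK2⟩ := NotMax.five_frame_not_max' hQ (by omega) hD hp h
          exact not_max_between hH hle hK1 hK2
    · obtain rfl : k = 1 := by omega
      have h2 := hodd (by decide)
      rcases ten_lines hQ hn hiso h2 hD hle with ⟨hp, hsq⟩ | hsub
      · obtain ⟨hm1, hm3⟩ := ten_neg_one_mod (F := F) h2
        refine Or.inr (Or.inr (Or.inr (Or.inl ⟨_, hp, rfl, odd_of_two_ne_zero h2, ?_, D, hD,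
          eq_of_max hH hle (sg_not_small_blocks hQ (hasSg_omega hQ (by omega)) hD.decomp.decomp (by omega))⟩)))
        rw [hsq]
        refine ⟨hm1, fun h1 => ?_⟩
        by_contra hm
        have := hm3 hm
        omega
      · exact msub hsub
  · exact mpair k D hk hD hts hle
  · rw [hn] at hdvd
    have hr' : r = 2 ∨ r = 5 := by
      rcases hr.dvd_mul.1 (show r ∣ 2 * 5 from hdvd) with h | h
      · exact Or.inl ((Nat.prime_dvd_prime_iff_eq hr Nat.prime_two).1 h)
      · exact Or.inr ((Nat.prime_dvd_prime_iff_eq hr (by norm_num)).1 h)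
    rcases hr' with rfl | rfl
    · exact mquad K hK hadj hle
    rcases hkind with ⟨hsa, halt⟩ | ⟨h5, -⟩
    swap
    · omega
    rcases field_plane hset (by decide : Odd 5) hn hK hsa halt hle with
      ⟨m, D, hm, hD, hts, hle'⟩ | ⟨K₂, hK₂, hadj₂, hle'⟩
    · exact mpair m D hm hD hts hle'
    · rw [hset.pol_fun] at hadj₂
      exact mquad K₂ hK₂ hadj₂ hle'
  · have h1 := Fintype.card_congr e
    rw [Fintype.card_prod, Fintype.card_fin, Fintype.card_fin, hn] at h1
    obtain ⟨hd3, hk3⟩ := And.intro hd hk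
    have : d ≤ 3 := by
      by_contra hd4
      have : 4 * 3 ≤ d * k := Nat.mul_le_mul (by omega) hk
      omega
    obtain rfl : d = 3 := by omega
    omega
  · have h1 := Fintype.card_congr e
    rw [Fintype.card_prod, Fintype.card_fin, Fintype.card_fin, hn] at h1
    obtain ⟨a, rfl⟩ : Even d := by simpa using even_of_symp hf₁
    obtain ⟨b, rfl⟩ : Even k := by simpa using even_of_symp hf₂
    have : (a + a) * (b + b) = 4 * (a * b) := by ring
    omega
  · exact msub h
  · rw [hn] at hk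
    rcases (show k ≤ 3 ∨ 4 ≤ k by omega) with h | h
    · interval_cases k <;> omega
    · have := Nat.pow_le_pow_right (show 1 ≤ 2 by norm_num) h
      omega
  · rw [hn] at hcard
    have h2t : m ^ 2 ∣ 10 := hcard ▸ pow_dvd_pow m ht
    have hm3 : m ≤ 3 := by
      by_contra h4
      have := Nat.le_of_dvd (by norm_num) h2t
      have : 4 ^ 2 ≤ m ^ 2 := Nat.pow_le_pow_left (by omega) 2
      omega
    interval_cases m <;> omega

end Cfsg.Agent.Asch
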