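import Cfsg.Agent.Asch.TwelveTensor
import Cfsg.Agent.NotMax.TensorCases
import Cfsg.Agent.NotMax.TensorFour

/-!
Maximal subgroups of the orthogonal groups in dimension twelve: common facts.
-/

set_option autoImplicit false
set_option linter.unusedSectionVars false

namespace Cfsg.Agent.Asch

open Matrix Cfsg.Geo Cfsg.Agent.PrimeDim QuadraticMap
open scoped MatrixGroups Kronecker
open Cfsg.Agent.Classical Cfsg.Agent.Classical.Quad

variable {F : Type*} [Field F] [Fintype F] {ι : Type} [Fintype ι] [DecidableEq ι]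
  {Q : QuadraticForm F (ι → F)} {H : Subgroup (GL ι F)}

/-- An orthogonal family with a common non-zero value spans a decomposition into lines. -/
theorem lines_of_family (h2 : (2 : F) ≠ 0) {n : ℕ} (hn : Fintype.card ι = n) (hn2 : 2 ≤ n) (f : Fin n → ι → F)
    {η : F} (hη : η ≠ 0) (hf : ∀ i, Q (f i) = η) (horth : ∀ i j, i ≠ j → polar Q (f i) (f j) = 0) :
    IsOrthogonalMDecomposition ⇑Q 1 fun i => Submodule.span F {f i} := by
  classical
  have hf0 : ∀ i, f i ≠ 0 := fun i h => hη (by rw [← hf i, h, QuadraticMap.map_zero])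
  have hli : LinearIndependent F f := Fintype.linearIndependent_iff.2 fun c hc p => by
    have h := congrArg (fun v => polarBilin Q (f p) v) hc
    simp only [map_sum, map_smul, map_zero, polarBilin_apply_apply] at h
    rw [Finset.sum_eq_single p (fun q _ hq => by rw [horth p q hq.symm, smul_zero]) (by simp), polar_self',
      smul_eq_mul, hf] at h
    exact (mul_eq_zero.1 h).resolve_right (mul_ne_zero h2 hη)
  refine ⟨⟨⟨hn2, one_pos, fun i => finrank_span_singleton (hf0 i), hli.iSupIndep_span_singleton, ?_⟩,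
    fun i v hv hv0 => ?_, fun i j hij u hu v hv => ?_⟩, fun i j => ?_⟩
  · rw [← Submodule.span_range_eq_iSup]
    refine Submodule.eq_top_of_finrank_eq ?_
    rw [finrank_span_eq_card hli, Module.finrank_fintype_fun_eq_card, hn, Fintype.card_fin]
  · obtain ⟨s, rfl⟩ := Submodule.mem_span_singleton.1 hv
    have hs : s ≠ 0 := fun e => hv0 (by rw [e, zero_smul])
    have hne : polar Q (s • f i) (f i) ≠ 0 := by
      rw [polar_smul_left, polar_self', hf, smul_eq_mul]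
      exact mul_ne_zero hs (mul_ne_zero h2 hη)
    exact ⟨⟨f i, Submodule.mem_span_singleton_self _, by rw [polar_comm]; exact hne⟩,
      f i, Submodule.mem_span_singleton_self _, hne⟩
  · obtain ⟨s, rfl⟩ := Submodule.mem_span_singleton.1 hu
    obtain ⟨s', rfl⟩ := Submodule.mem_span_singleton.1 hv
    rw [polar_smul_left, polar_smul_right, horth i j hij]
    simp
  · let ei := fun i => LinearEquiv.toSpanNonzeroSingleton F (ι → F) (f i) (hf0 i)
    refine ⟨(ei i).symm.trans (ei j), fun w => ?_⟩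
    obtain ⟨s, rfl⟩ := (ei i).surjective w
    rw [LinearEquiv.trans_apply, LinearEquiv.symm_apply_apply]
    simp [ei, LinearEquiv.toSpanNonzeroSingleton_apply, Quad.map_smul' s, hf]

/-- A ternary member over three elements carries a frame of lines. -/
theorem blocks_three_frame (hn : Fintype.card ι = 12) (hq : Fintype.card F = 3)
    (hiso : ∀ g ∈ H, ∀ v, Q (mat g *ᵥ v) = Q v) {D : Fin 4 → Submodule F (ι → F)}
    (hD : IsOrthogonalMDecomposition ⇑Q 3 D) (hle : H ≤ decompositionStabilizer D) :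
    ∃ E : Fin 12 → Submodule F (ι → F), IsOrthogonalMDecomposition ⇑Q 1 E ∧ H ≤ decompositionStabilizer E := by
  classical
  have h2 : (2 : F) ≠ 0 := fun h => one_ne_zero (α := F) (by linear_combination NotMax.three_eq_zero hq - h)
  have hd := hD.decomp.decomp
  obtain ⟨a, ha, b, hb, c, hc, hQa, hQb, hQc, hab, hac, hbc⟩ :=
    NotMax.frame_three_basis h2 (hD.decomp.nondegenerate 0) (hd.finrank_eq 0) hq
  let l : Fin 3 → D 0 := ![⟨a, ha⟩, ⟨b, hb⟩, ⟨c, hc⟩]
  have hlQ : ∀ p, Q (l p : ι → F) = Q a := fun p => by fin_cases p <;> simp [l, hQb, hQc]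
  have hlo : ∀ p q, p ≠ q → polar Q (l p : ι → F) (l q) = 0 := fun p q h => by
    fin_cases p <;> fin_cases q <;> first
      | exact absurd rfl h
      | simpa [l] using hab
      | simpa [l] using hac
      | simpa [l] using hbc
      | simpa [l] using (polar_comm _ _ _).trans hab
      | simpa [l] using (polar_comm _ _ _).trans hac
      | simpa [l] using (polar_comm _ _ _).trans hbc
  have hval : ∀ s ∈ D 0, Q s = Q a → ∃ p, s = (l p : ι → F) ∨ s = -(l p : ι → F) := by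
    intro s hs hsQ
    by_contra hcon
    push Not at hcon
    have hda := (NotMax.frame_three_core h2 (hd.finrank_eq 0) hq ha hb hc hQa hQb hQc hab hac hbc hs hsQ)
    have hdb := (NotMax.frame_three_core (b := a) (c := c) h2 (hd.finrank_eq 0) hq hb ha hc (by rw [hQb]; exact hQa)
      hQb.symm (hQc.trans hQb.symm) ((polar_comm _ _ _).trans hab) hbc hac hs (hsQ.trans hQb.symm))
    have hdc := (NotMax.frame_three_core (b := a) (c := b) h2 (hd.finrank_eq 0) hq hc ha hb (by rw [hQc]; exact hQa)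
      hQc.symm (hQb.trans hQc.symm) ((polar_comm _ _ _).trans hac) ((polar_comm _ _ _).trans hbc) hab hs
      (hsQ.trans hQc.symm))
    have za : polar Q (l 0 : ι → F) s = 0 := by
      rcases hda with h | h | h
      · exact absurd h (by simpa [l] using (hcon 0).1)
      · exact absurd h (by simpa [l] using (hcon 0).2)
      · simpa [l] using h
    have zb : polar Q (l 1 : ι → F) s = 0 := by
      rcases hdb with h | h | h
      · exact absurd h (by simpa [l] using (hcon 1).1)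
      · exact absurd h (by simpa [l] using (hcon 1).2)
      · simpa [l] using h
    have zc : polar Q (l 2 : ι → F) s = 0 := by
      rcases hdc with h | h | h
      · exact absurd h (by simpa [l] using (hcon 2).1)
      · exact absurd h (by simpa [l] using (hcon 2).2)
      · simpa [l] using h
    obtain ⟨x, hx⟩ := NotMax.exists_coeff (Q := Q) h2 (fun p => (l p : ι → F)) (fun p => (l p).2)
      (fun p => by rw [hlQ]; exact hQa) hlo (hd.finrank_eq 0) hs
    refine hQa ?_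
    have h3 : polar Q s s = 0 := by
      conv_lhs => arg 2; rw [hx]
      rw [Fin.sum_univ_three, polar_add_left, polar_add_left, polar_smul_left, polar_smul_left, polar_smul_left,
        za, zb, zc]
      simp
    rw [polar_self', hsQ] at h3
    exact (mul_eq_zero.1 h3).resolve_left h2
  choose e he using fun i => hD.isometric 0 i
  let σ : Fin 4 × Fin 3 ≃ Fin 12 := finProdFinEquiv
  let g₀ : Fin 4 × Fin 3 → ι → F := fun q => (e q.1 (l q.2) : ι → F)
  let f : Fin 12 → ι → F := fun j => g₀ (σ.symm j)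
  have hfσ : ∀ q, f (σ q) = (e q.1 (l q.2) : ι → F) := fun q => congrArg g₀ (σ.symm_apply_apply q)
  have hfQ : ∀ j, Q (f j) = Q a := fun j => (he _ _).trans (hlQ _)
  have horth : ∀ i j, i ≠ j → polar Q (f i) (f j) = 0 := fun i j hij => by
    by_cases h1 : (σ.symm i).1 = (σ.symm j).1
    · have h2' : (σ.symm i).2 ≠ (σ.symm j).2 := fun h => hij (σ.symm.injective (Prod.ext h1 h))
      show polar Q (e (σ.symm i).1 (l _) : ι → F) (e (σ.symm j).1 (l _) : ι → F) = 0
      rw [← h1]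
      have h3 := hlo _ _ h2'
      simp only [polar, ← Submodule.coe_add, ← map_add, he] at h3 ⊢
      exact h3
    · exact hD.decomp.orthogonal _ _ h1 _ (e _ _).2 _ (e _ _).2
  refine ⟨fun i => Submodule.span F {f i}, lines_of_family h2 hn (by norm_num) f hQa hfQ horth, fun g hg => ?_⟩
  have hstep : ∀ j, ∃ j', mat g *ᵥ f j = f j' ∨ mat g *ᵥ f j = -f j' := by
    intro j
    obtain ⟨τ, hτ⟩ := hle hg
    set i := (σ.symm j).1
    have hmem : mat g *ᵥ f j ∈ D (τ i) := by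
      rw [← hτ]; exact ⟨_, (e _ _).2, Matrix.toLin'_apply _ _⟩
    set s := (e (τ i)).symm ⟨_, hmem⟩ with hs
    have hsQ : Q (s : ι → F) = Q a := by
      rw [← he (τ i) s, hs, LinearEquiv.apply_symm_apply, hiso g hg, hfQ]
    obtain ⟨p, hp | hp⟩ := hval s s.2 hsQ
    · refine ⟨σ (τ i, p), Or.inl ?_⟩
      have h1 : s = l p := Subtype.ext hp
      have h3 := congrArg (fun u => (e (τ i) u : ι → F)) h1
      simp only [hs, LinearEquiv.apply_symm_apply] at h3
      rw [hfσ]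
      simpa using h3
    · refine ⟨σ (τ i, p), Or.inr ?_⟩
      have h1 : s = -l p := Subtype.ext hp
      have h3 := congrArg (fun u => (e (τ i) u : ι → F)) h1
      simp only [hs, LinearEquiv.apply_symm_apply, map_neg] at h3
      rw [hfσ]
      simpa using h3
  choose π hπ using hstep
  have hπinj : Function.Injective π := fun i j hij => by
    by_contra hne
    have h1 := horth i j hne
    have hfix : polar Q (mat g *ᵥ f i) (mat g *ᵥ f j) = polar Q (f i) (f j) := by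
      simp only [polar, ← Matrix.mulVec_add, hiso g hg]
    have hnz : polar Q (f (π j)) (f (π j)) ≠ 0 := by
      rw [polar_self', hfQ]; exact mul_ne_zero h2 hQa
    refine hnz ?_
    rcases hπ i with e1 | e1 <;> rcases hπ j with e2 | e2 <;> rw [e1, e2, hij, h1] at hfix <;>
      simpa using hfix
  refine ⟨Equiv.ofBijective π (Finite.injective_iff_bijective.1 hπinj), fun i => ?_⟩
  rw [Submodule.map_span, Set.image_singleton, Matrix.toLin'_apply, Equiv.ofBijective_apply]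
  rcases hπ i with e1 | e1 <;> rw [show (g : Matrix ι ι F) *ᵥ f i = _ from e1]
  rw [← Set.neg_singleton, Submodule.span_neg]

/-- The members in dimension twelve of a maximal subgroup. -/
def TwelveMember (Q : QuadraticForm F (ι → F)) (H : Subgroup (GL ι F)) : Prop :=
  (∃ W : Submodule F (ι → F), W ≠ ⊥ ∧ IsTotallySingularQuad ⇑Q W ∧
    (IsPlusTypeOn ⇑Q ⊤ → Module.finrank F W ≠ 5) ∧ H = subspaceStabilizer W ⊓ omegaGL ⇑Q) ∨
  (∃ W : Submodule F (ι → F), W ≠ ⊥ ∧ W ≠ ⊤ ∧ Module.finrank F W < 6 ∧ IsNondegenerateOn (polar ⇑Q) W ∧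
    (Odd (Module.finrank F W) → Odd (Fintype.card F)) ∧
    (Module.finrank F W = 2 → IsPlusTypeOn ⇑Q W → 4 ≤ Fintype.card F) ∧
    H = subspaceStabilizer W ⊓ omegaGL ⇑Q) ∨
  (¬ IsPlusTypeOn ⇑Q ⊤ ∧ ∃ W : Submodule F (ι → F), Module.finrank F W = 6 ∧ IsNondegenerateOn (polar ⇑Q) W ∧
    H = subspaceStabilizer W ⊓ omegaGL ⇑Q) ∨
  (IsPlusTypeOn ⇑Q ⊤ ∧ ∃ D : Fin 2 → Submodule F (ι → F), IsOrthogonalMDecomposition ⇑Q 6 D ∧
    H = decompositionStabilizer D ⊓ omegaGL ⇑Q) ∨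
  (¬ Odd (Fintype.card F) ∧ ∃ v : ι → F, Q v ≠ 0 ∧ H = subspaceStabilizer (Submodule.span F {v}) ⊓ omegaGL ⇑Q) ∨
  (IsPlusTypeOn ⇑Q ⊤ ∧ (∃ p : ℕ, p.Prime ∧ Odd p ∧ Fintype.card F = p) ∧
    ∃ D : Fin 12 → Submodule F (ι → F), IsOrthogonalMDecomposition ⇑Q 1 D ∧
      H = decompositionStabilizer D ⊓ omegaGL ⇑Q) ∨
  (IsPlusTypeOn ⇑Q ⊤ ∧ ∃ D : Fin 6 → Submodule F (ι → F), IsOrthogonalMDecomposition ⇑Q 2 D ∧
    ((7 ≤ Fintype.card F ∧ ∀ i, IsPlusTypeOn ⇑Q (D i)) ∨ (Fintype.card F ≠ 3 ∧ ∀ i, ¬ IsPlusTypeOn ⇑Q (D i))) ∧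
    H = decompositionStabilizer D ⊓ omegaGL ⇑Q) ∨
  (IsPlusTypeOn ⇑Q ⊤ ∧ Odd (Fintype.card F) ∧ 5 ≤ Fintype.card F ∧ ∃ D : Fin 4 → Submodule F (ι → F),
    IsOrthogonalMDecomposition ⇑Q 3 D ∧ H = decompositionStabilizer D ⊓ omegaGL ⇑Q) ∨
  (∃ D : Fin 3 → Submodule F (ι → F), IsOrthogonalMDecomposition ⇑Q 4 D ∧
    (IsPlusTypeOn ⇑Q ⊤ → 3 ≤ Fintype.card F) ∧ (¬ IsPlusTypeOn ⇑Q ⊤ → ∀ i, ¬ IsPlusTypeOn ⇑Q (D i)) ∧
    H = decompositionStabilizer D ⊓ omegaGL ⇑Q) ∨
  (IsPlusTypeOn ⇑Q ⊤ ∧ ∃ D : Fin 2 → Submodule F (ι → F), IsMDecomposition 6 D ∧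
    (∀ i, IsTotallySingularQuad ⇑Q (D i)) ∧ H = decompositionStabilizer D ⊓ omegaGL ⇑Q) ∨
  (∃ r, (r = 2 ∨ r = 3) ∧ ∃ K : Subalgebra F (Matrix ι ι F), IsFieldSubalgebra r K ∧
    H = subalgebraNormalizer K ⊓ omegaGL ⇑Q) ∨
  (¬ IsPlusTypeOn ⇑Q ⊤ ∧ Odd (Fintype.card F) ∧ 5 ≤ Fintype.card F ∧ ∃ (e : ι ≃ Fin 3 × Fin 4) (P : GL ι F)
    (f₁ : (Fin 3 → F) → (Fin 3 → F) → F) (f₂ : (Fin 4 → F) → (Fin 4 → F) → F), IsSymmetricForm f₁ ∧
      IsSymmetricForm f₂ ∧ ¬ IsPlusTypeOn (fun v => f₂ v v) ⊤ ∧ IsTensorFormStructure id (polar ⇑Q) f₁ f₂ e P ∧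
      H = tensorProductSubgroup 3 4 e P ⊓ omegaGL ⇑Q) ∨
  (IsPlusTypeOn ⇑Q ⊤ ∧ 3 ≤ Fintype.card F ∧ ∃ (e : ι ≃ Fin 2 × Fin 6) (P : GL ι F)
    (f₁ : (Fin 2 → F) → (Fin 2 → F) → F) (f₂ : (Fin 6 → F) → (Fin 6 → F) → F), IsSymplecticForm f₁ ∧
      IsSymplecticForm f₂ ∧ IsTensorFormStructure id (polar ⇑Q) f₁ f₂ e P ∧
      (∀ (x₁ : Fin 2 → F) (x₂ : Fin 6 → F),
        Q ((P : Matrix ι ι F) *ᵥ ((fun a : Fin 2 × Fin 6 => x₁ a.1 * x₂ a.2) ∘ e)) = 0) ∧
      H = tensorProductSubgroup 2 6 e P ⊓ omegaGL ⇑Q) ∨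
  (∃ (F₀ : Subfield F) (r : ℕ) (P : GL ι F) (ζ : F), r.Prime ∧ (¬ IsPlusTypeOn ⇑Q ⊤ → Odd r) ∧
    Fintype.card F = Nat.card F₀ ^ r ∧ ζ ≠ 0 ∧ IsQuadFormRationalStructure (fun v => ζ * Q v) F₀ P ∧
    H = subfieldSubgroup F₀ P ⊓ omegaGL ⇑Q)

theorem tensor_form_swap {a b : ℕ} {e : ι ≃ Fin a × Fin b} {P : GL ι F} {f₁ : (Fin a → F) → (Fin a → F) → F}
    {f₂ : (Fin b → F) → (Fin b → F) → F} (hst : IsTensorFormStructure id (polar ⇑Q) f₁ f₂ e P) :
    IsTensorFormStructure id (polar ⇑Q) f₂ f₁ (e.trans (Equiv.prodComm _ _)) P := by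
  obtain ⟨c, hc, hf⟩ := hst
  refine ⟨c, hc, fun x y => (hf (x ∘ Prod.swap) (y ∘ Prod.swap)).trans (congrArg _ ?_)⟩
  simp only [Cfsg.Geo.formOfGram]
  refine Fintype.sum_equiv (Equiv.prodComm _ _) _ _ fun a => Fintype.sum_equiv (Equiv.prodComm _ _) _ _ fun b => ?_
  simp [Matrix.kronecker_apply, mul_comm]

theorem ne_six_of_field : Fintype.card F ≠ 6 := fun h6 => by
  obtain ⟨p, n, hp', -, -, hcard⟩ := prime_card_pow (F := F)
  rw [Nat.card_eq_fintype_card, h6] at hcard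
  have hd2 : 2 ∣ p := Nat.prime_two.dvd_of_dvd_pow (hcard ▸ (by norm_num : 2 ∣ 6))
  have hd3 : 3 ∣ p := Nat.prime_three.dvd_of_dvd_pow (hcard ▸ (by norm_num : 3 ∣ 6))
  rcases (Nat.dvd_prime hp').1 hd2 with e | e
  · omega
  · rcases (Nat.dvd_prime hp').1 hd3 with e' | e' <;> omega

set_option maxHeartbeats 1000000 in
/-- Maximal subgroups in dimension twelve. -/
theorem twelve_max (hQ : (polarBilin Q).Nondegenerate) (hn : Fintype.card ι = 12) (hH : IsMaximalIn (omegaGL ⇑Q) H) :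
    TwelveMember Q H ∨ InOrthogonalResidualClass H := by
  classical
  have h7 : 7 ≤ Fintype.card ι := by omega
  have hev : Even (Fintype.card ι) := ⟨6, hn⟩
  haveI : Nonempty ι := Fintype.card_pos_iff.1 (by omega)
  have hiso : ∀ g ∈ H, ∀ v, Q (mat g *ᵥ v) = Q v := fun g hg => NotMax.omega_map g (hH.1.le hg)
  have hsg := hasSg_omega hQ (by omega)
  have nomax : ∀ {M : Subgroup (GL ι F)}, H ≤ M →
      (∃ K : Subgroup (GL ι F), M ⊓ omegaGL ⇑Q < K ∧ K < omegaGL ⇑Q) → False := fun hle hK => by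
    obtain ⟨K, hK1, hK2⟩ := hK
    exact not_max_between hH hle hK1 hK2
  have msub : (∃ (F₀ : Subfield F) (r : ℕ) (P : GL ι F) (ζ : F), r.Prime ∧ Fintype.card F = Nat.card F₀ ^ r ∧
      ζ ≠ 0 ∧ IsQuadFormRationalStructure (fun v => ζ * Q v) F₀ P ∧ H ≤ subfieldSubgroup F₀ P) →
      TwelveMember Q H := by
    rintro ⟨F₀, r, P, ζ, hr, hc, hζ, hrat, hle⟩
    refine Or.inr (Or.inr (Or.inr (Or.inr (Or.inr (Or.inr (Or.inr (Or.inr (Or.inr (Or.inr (Or.inr (Or.inr (Or.inr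
      ⟨F₀, r, P, ζ, hr, fun hminus => ?_, hc, hζ, hrat,
        eq_of_max hH hle (sg_not_subfield hQ h7 hsg (subfield_proper hr hc) P)⟩))))))))))))
    rcases hr.eq_two_or_odd' with rfl | hro
    · exact absurd (plus_of_subfield_two hQ hev hζ hc hrat) hminus
    · exact hro
  have mlines : ∀ D : Fin 12 → Submodule F (ι → F), IsOrthogonalMDecomposition ⇑Q 1 D → (2 : F) ≠ 0 →
      H ≤ decompositionStabilizer D → TwelveMember Q H := fun D hD h2 hle => by
    rcases lines_case hQ hn (m := 6) rfl hiso h2 hD hle with ⟨hp, hsq⟩ | hsub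
    · exact Or.inr (Or.inr (Or.inr (Or.inr (Or.inr (Or.inl ⟨hsq.2 ⟨(-1) ^ 3, by ring⟩,
        ⟨_, hp, odd_of_two_ne_zero h2, rfl⟩, D, hD,
        eq_of_max hH hle (sg_not_small_blocks hQ hsg hD.decomp.decomp (by omega))⟩)))))
    · exact msub hsub
  have m26 : IsPlusTypeOn ⇑Q ⊤ → ∀ (e : ι ≃ Fin 2 × Fin 6) (P : GL ι F) (f₁ : (Fin 2 → F) → (Fin 2 → F) → F)
      (f₂ : (Fin 6 → F) → (Fin 6 → F) → F), IsSymplecticForm f₁ → IsSymplecticForm f₂ →
      IsTensorFormStructure id (polar ⇑Q) f₁ f₂ e P →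
      (∀ (x₁ : Fin 2 → F) (x₂ : Fin 6 → F),
        Q ((P : Matrix ι ι F) *ᵥ ((fun a : Fin 2 × Fin 6 => x₁ a.1 * x₂ a.2) ∘ e)) = 0) →
      H ≤ tensorProductSubgroup 2 6 e P → TwelveMember Q H := by
    intro hplus e P f₁ f₂ hf₁ hf₂ hst hpure hle
    refine Or.inr (Or.inr (Or.inr (Or.inr (Or.inr (Or.inr (Or.inr (Or.inr (Or.inr (Or.inr (Or.inr (Or.inr (Or.inl
      ⟨hplus, ?_, e, P, f₁, f₂, hf₁, hf₂, hst, hpure,
        eq_of_max hH hle (sg_not_tensor hQ h7 hsg le_rfl (by norm_num) e P)⟩))))))))))))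
    by_contra h3
    refine nomax hle (NotMax.orth_tensor_four_not_max hQ (by omega) ?_ (by norm_num) e P hf₁ hf₂ hst
      fun x y => by rw [NotMax.pureT_apply]; exact hpure x y)
    have := Fintype.one_lt_card (α := F)
    omega
  have m34 : ∀ (e : ι ≃ Fin 3 × Fin 4) (P : GL ι F) (f₁ : (Fin 3 → F) → (Fin 3 → F) → F)
      (f₂ : (Fin 4 → F) → (Fin 4 → F) → F), (2 : F) ≠ 0 → IsSymmetricForm f₁ → IsSymmetricForm f₂ →
      IsTensorFormStructure id (polar ⇑Q) f₁ f₂ e P → H ≤ tensorProductSubgroup 3 4 e P → TwelveMember Q H := by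
    intro e P f₁ f₂ h2 hf₁ hf₂ hst hle
    by_cases hplus : IsPlusTypeOn ⇑Q ⊤
    · obtain ⟨e', P', g₁, g₂, hg₁, hg₂, hst', hpure, hle'⟩ :=
        tensor_four_plus hQ h2 hplus hH.1.le e P hf₁ hf₂ hst hle
      exact m26 hplus e' P' g₁ g₂ hg₁ hg₂ hst' hpure hle'
    refine Or.inr (Or.inr (Or.inr (Or.inr (Or.inr (Or.inr (Or.inr (Or.inr (Or.inr (Or.inr (Or.inr (Or.inl
      ⟨hplus, odd_of_two_ne_zero h2, ?_, e, P, f₁, f₂, hf₁, hf₂,
        fun h => hplus ((three_four_type hQ h2 e P hf₁ hf₂ hst).2 h), hst,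
        eq_of_max hH hle (sg_not_tensor hQ h7 hsg (by norm_num) (by norm_num) e P)⟩)))))))))))
    by_contra h5
    refine nomax hle (NotMax.orth_tensor_not_max hQ (by omega) ?_ (by norm_num) e P hf₁ hf₂ hst)
    obtain ⟨l, hl⟩ := odd_of_two_ne_zero h2
    have := Fintype.one_lt_card (α := F)
    omega
  rcases even_max hQ hev (by omega) hH with hmem | hres
  swap
  · exact Or.inr hres
  left
  rcases hmem with ⟨W, hb, hts, hle⟩ | ⟨W, hb, hW, hlt, hodd, hle⟩ | ⟨k, D, hk, hD, -, hfix, hle⟩ |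
    ⟨v, h2, hv, hle⟩ | ⟨t, k, D, hD, hodd, hle⟩ | ⟨k, D, hk, hD, hts, hle⟩ | ⟨r, K, hr, hdvd, hK, -, -, hle⟩ |
    ⟨d, k, e, P, f₁, f₂, h2, hd, hk, hf₁, hf₂, hst, hle⟩ | ⟨d, k, e, P, f₁, f₂, hf₁, hf₂, hd, hk, hst, hpure, hle⟩ |
    h | ⟨-, k, hk⟩ | ⟨m, t, hm, ht, hcard, -⟩
  · refine Or.inl ⟨W, hb, hts, fun hplus h5 => ?_, eq_stab hQ h7 hH hb (ts_ne_top hQ hts) hle⟩
    exact nomax hle (NotMax.submax_not_max' hQ (by omega) hplus W hts (by omega))
  · have hne := ne_of_rank (W := W) (Nat.pos_of_ne_zero fun e => hb (Submodule.finrank_eq_zero.1 e)) (by omega)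
    exact Or.inr (Or.inl ⟨W, hne.1, hne.2, by omega, hW, fun ho => odd_of_two_ne_zero (hodd ho),
      fun hd2 hp => plane_small hQ (by omega) hH hd2 hW hp hle, eq_stab hQ h7 hH hne.1 hne.2 hle⟩)
  · obtain rfl : k = 6 := by omega
    by_cases hplus : IsPlusTypeOn ⇑Q ⊤
    · exact Or.inr (Or.inr (Or.inr (Or.inl ⟨hplus, D, plus_halves_iso hQ hplus (m := 3) (by omega) hD,
        eq_of_max hH hle (sg_not_blocks hQ h7 hsg hD.decomp (by norm_num))⟩)))
    · have hd6 := hD.decomp.finrank_eq 0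
      have hne := ne_of_rank (W := D 0) (by omega) (by omega)
      exact Or.inr (Or.inr (Or.inl ⟨hplus, D 0, hd6, hD.nondegenerate 0, eq_stab hQ h7 hH hne.1 hne.2 (hfix 0)⟩))
  · have hv0 : v ≠ 0 := fun e => hv (by rw [e, QuadraticMap.map_zero])
    have hne := ne_of_rank (W := Submodule.span F {v}) (by rw [finrank_span_singleton hv0]; omega)
      (by rw [finrank_span_singleton hv0]; omega)
    exact Or.inr (Or.inr (Or.inr (Or.inr (Or.inl ⟨not_odd_of_two h2, v, hv, eq_stab hQ h7 hH hne.1 hne.2 hle⟩))))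
  · have htk := NotMax.mul_card_eq' hD.decomp.decomp
    rw [hn] at htk
    have hev6 : Even (Fintype.card ι / 2) := by rw [hn]; exact ⟨3, rfl⟩
    have ht : t ∈ Nat.divisors 12 := Nat.mem_divisors.2 ⟨⟨k, htk.symm⟩, by norm_num⟩
    rw [show Nat.divisors 12 = {1, 2, 3, 4, 6, 12} by decide] at ht
    simp only [Finset.mem_insert, Finset.mem_singleton] at ht
    rcases ht with rfl | rfl | rfl | rfl | rfl | rfl
    · exact absurd hD.decomp.decomp.two_le (by norm_num)
    · obtain rfl : k = 6 := by omega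
      exact Or.inr (Or.inr (Or.inr (Or.inl ⟨plus_of_decomp hQ hD ⟨1, rfl⟩ hev6, D, hD,
        eq_of_max hH hle (sg_not_blocks hQ h7 hsg hD.decomp.decomp (by norm_num))⟩)))
    · obtain rfl : k = 4 := by omega
      refine Or.inr (Or.inr (Or.inr (Or.inr (Or.inr (Or.inr (Or.inr (Or.inr (Or.inl ⟨D, hD, fun hplus => ?_,
        fun hminus i hi => hminus (plus_of_pieces hD.decomp fun j => plus_transfer (hD.isometric i j) hi),
        eq_of_max hH hle (sg_not_blocks hQ h7 hsg hD.decomp.decomp (by norm_num))⟩))))))))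
      by_contra h3
      have := Fintype.one_lt_card (α := F)
      exact nomax hle (NotMax.planes_plus_not_max' hQ (by omega) hD (by omega)
        (three_blocks_plus hQ hplus (l := 2) hD))
    · obtain rfl : k = 3 := by omega
      have h2 := hodd (by decide)
      by_cases h5 : 5 ≤ Fintype.card F
      · exact Or.inr (Or.inr (Or.inr (Or.inr (Or.inr (Or.inr (Or.inr (Or.inl
          ⟨plus_of_decomp hQ hD ⟨2, rfl⟩ hev6, odd_of_two_ne_zero h2, h5, D, hD,
          eq_of_max hH hle (sg_not_blocks hQ h7 hsg hD.decomp.decomp le_rfl)⟩)))))))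
      have hq3 : Fintype.card F = 3 := by
        obtain ⟨l, hl⟩ := odd_of_two_ne_zero h2
        have := Fintype.one_lt_card (α := F)
        omega
      obtain ⟨E, hE, hle'⟩ := blocks_three_frame hn hq3 hiso hD hle
      exact mlines E hE h2 hle'
    · obtain rfl : k = 2 := by omega
      have heq := eq_of_max hH hle (sg_not_small_blocks hQ hsg hD.decomp.decomp (by omega))
      refine Or.inr (Or.inr (Or.inr (Or.inr (Or.inr (Or.inr (Or.inl ⟨plus_of_decomp hQ hD ⟨3, rfl⟩ hev6, D, hD, ?_,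
        heq⟩))))))
      have h3 : Fintype.card F ≠ 3 := fun h3 => nomax hle (NotMax.small_frame_not_max' hQ (by norm_num) hD (Or.inl rfl) h3)
      by_cases hp : IsPlusTypeOn ⇑Q (D 0)
      swap
      · exact Or.inr ⟨h3, fun i hi => hp (plus_transfer (hD.isometric i 0) hi)⟩
      have hall := fun i => plus_transfer (hD.isometric 0 i) hp
      refine Or.inl ⟨?_, hall⟩
      by_contra h7q
      have h1 := Fintype.one_lt_card (α := F)
      have h6 := ne_six_of_field (F := F)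
      rcases (show Fintype.card F = 2 ∨ Fintype.card F = 4 ∨ Fintype.card F = 5 by omega) with h | h | h
      · exact nomax hle (NotMax.lattice_plus_not_max' hQ (by omega) hD (Or.inl h) hall)
      · exact nomax hle (NotMax.lattice_plus_not_max' hQ (by omega) hD (Or.inr h) hall)
      · exact nomax hle (NotMax.five_frame_not_max' hQ (by omega) hD hall h)
    · obtain rfl : k = 1 := by omega
      exact mlines D hD (hodd (by decide)) hle
  · obtain rfl : k = 6 := by omega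
    exact Or.inr (Or.inr (Or.inr (Or.inr (Or.inr (Or.inr (Or.inr (Or.inr (Or.inr (Or.inl
      ⟨plus_of_pair hk hD hts, D, hD, hts, eq_of_max hH hle (sg_not_blocks hQ h7 hsg hD (by norm_num))⟩)))))))))
  · rw [hn] at hdvd
    have hr' : r = 2 ∨ r = 3 := by
      rcases hr.dvd_mul.1 (show r ∣ 2 ^ 2 * 3 from hdvd) with h | h
      · exact Or.inl ((Nat.prime_dvd_prime_iff_eq hr Nat.prime_two).1 (hr.dvd_of_dvd_pow h))
      · exact Or.inr ((Nat.prime_dvd_prime_iff_eq hr Nat.prime_three).1 h)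
    exact Or.inr (Or.inr (Or.inr (Or.inr (Or.inr (Or.inr (Or.inr (Or.inr (Or.inr (Or.inr (Or.inl
      ⟨r, hr', K, hK, eq_of_max hH hle (omega_not_field hQ h7 hr.two_le hK)⟩))))))))))
  · have h1 := Fintype.card_congr e
    rw [Fintype.card_prod, Fintype.card_fin, Fintype.card_fin, hn] at h1
    have hd4 : d ≤ 4 := by
      by_contra h
      have : 5 * 3 ≤ d * k := Nat.mul_le_mul (by omega) hk
      omega
    rcases (show (d = 3 ∧ k = 4) ∨ (d = 4 ∧ k = 3) by
      rcases (show d = 3 ∨ d = 4 by omega) with rfl | rfl <;> omega) with ⟨rfl, rfl⟩ | ⟨rfl, rfl⟩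
    · exact m34 e P f₁ f₂ h2 hf₁ hf₂ hst hle
    · exact m34 _ P f₂ f₁ h2 hf₂ hf₁ (tensor_form_swap hst) (hle.trans (tensor_swap e P))
  · have h1 := Fintype.card_congr e
    rw [Fintype.card_prod, Fintype.card_fin, Fintype.card_fin, hn] at h1
    obtain ⟨a, rfl⟩ : Even d := by simpa using even_of_symp hf₁
    obtain ⟨b, rfl⟩ : Even k := by simpa using even_of_symp hf₂
    have ha3 : a ≤ 3 := by
      by_contra h
      have : (4 + 4) * 2 ≤ (a + a) * (b + b) := Nat.mul_le_mul (by omega) hk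
      omega
    rcases (show (a = 1 ∧ b = 3) ∨ (a = 3 ∧ b = 1) by
      rcases (show a = 1 ∨ a = 2 ∨ a = 3 by omega) with rfl | rfl | rfl <;> omega) with ⟨rfl, rfl⟩ | ⟨rfl, rfl⟩
    · exact m26 (plus_of_symp_tensor hf₁ hst hpure) e P f₁ f₂ hf₁ hf₂ hst hpure hle
    · have hpure' : ∀ (x₁ : Fin 2 → F) (x₂ : Fin 6 → F), Q ((P : Matrix ι ι F) *ᵥ
          ((fun a : Fin 2 × Fin 6 => x₁ a.1 * x₂ a.2) ∘ (e.trans (Equiv.prodComm _ _)))) = 0 := fun x₁ x₂ => by
        have h2 := hpure x₂ x₁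
        rwa [show ((fun a : Fin 2 × Fin 6 => x₁ a.1 * x₂ a.2) ∘ (e.trans (Equiv.prodComm _ _))) =
          (fun a : Fin 6 × Fin 2 => x₂ a.1 * x₁ a.2) ∘ e from funext fun i => mul_comm _ _]
      exact m26 (plus_of_symp_tensor hf₂ (tensor_form_swap hst) hpure') _ P f₂ f₁ hf₂ hf₁ (tensor_form_swap hst) hpure'
        (hle.trans (tensor_swap e P))
  · exact msub h
  · rw [hn] at hk
    rcases (show k ≤ 3 ∨ 4 ≤ k by omega) with h | h
    · interval_cases k <;> omega
    · have := Nat.pow_le_pow_right (show 1 ≤ 2 by norm_num) h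
      omega
  · rw [hn] at hcard
    have hm3 : m ≤ 3 := by
      by_contra h4
      have : 4 ^ 2 ≤ m ^ t := (Nat.pow_le_pow_left (by omega) 2).trans (Nat.pow_le_pow_right (by omega) ht)
      omega
    have ht3 : t ≤ 3 := by
      by_contra h4
      have : 2 ^ 4 ≤ m ^ t := (Nat.pow_le_pow_left hm 4).trans (Nat.pow_le_pow_right (by omega) (by omega))
      omega
    interval_cases m <;> interval_cases t <;> omega

end Cfsg.Agent.Asch
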