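import Cfsg.Agent.NotMax.Basic
import Cfsg.Agent.NotMax.Parts
import Cfsg.Agent.Classical.QuadTypes
import Cfsg.Agent.PrimeDim.Descend

/-!
Criteria for a quadratic space of even dimension to be of plus type.
-/

set_option autoImplicit false
set_option linter.unusedSectionVars false

namespace Cfsg.Agent.Asch

open Cfsg.Geo Cfsg.Agent.PrimeDim QuadraticMap
open scoped MatrixGroups
open Cfsg.Agent.Classical Cfsg.Agent.Classical.Quad

variable {F : Type*} [Field F] [Fintype F] {ι : Type} [Fintype ι] [DecidableEq ι] {Q : QuadraticForm F (ι → F)}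

theorem quad_sum {κ : Type*} (S : Finset κ) (v : κ → ι → F)
    (h : ∀ i j, i ≠ j → polar Q (v i) (v j) = 0) : Q (∑ i ∈ S, v i) = ∑ i ∈ S, Q (v i) := by
  classical
  induction S using Finset.induction_on with
  | empty => simp
  | insert a S ha ih =>
    rw [Finset.sum_insert ha, Finset.sum_insert ha, map_add' (v a), ih]
    have h0 : polar Q (v a) (∑ i ∈ S, v i) = 0 := by
      rw [show polar Q (v a) (∑ i ∈ S, v i) = polarBilin Q (v a) (∑ i ∈ S, v i) from rfl, map_sum]
      exact Finset.sum_eq_zero fun i hi => h a i fun e => ha (e ▸ hi)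
    rw [h0, add_zero]

/-- A totally singular subspace of half the dimension. -/
theorem plus_top {U : Submodule F (ι → F)} (hts : ∀ u ∈ U, Q u = 0)
    (hd : 2 * Module.finrank F U = Fintype.card ι) : IsPlusTypeOn ⇑Q ⊤ :=
  ⟨U, le_top, hts, by rw [finrank_top, Module.finrank_fintype_fun_eq_card]; exact hd⟩

/-- An injective map with singular image. -/
theorem plus_of_map {X : Type*} [AddCommGroup X] [Module F X] [FiniteDimensional F X] (L : X →ₗ[F] (ι → F))
    (hL : Function.Injective L) (h0 : ∀ x, Q (L x) = 0) (hd : 2 * Module.finrank F X = Fintype.card ι) :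
    IsPlusTypeOn ⇑Q ⊤ :=
  plus_top (U := LinearMap.range L) (by rintro _ ⟨x, rfl⟩; exact h0 x) (by rwa [LinearMap.finrank_range_of_inj hL])

/-- A family of singular vectors, pairwise orthogonal and independent. -/
theorem plus_of_family {κ : Type*} [Fintype κ] (v : κ → ι → F) (hli : LinearIndependent F v) (h0 : ∀ i, Q (v i) = 0)
    (hp : ∀ i j, i ≠ j → polar Q (v i) (v j) = 0) (hd : 2 * Fintype.card κ = Fintype.card ι) :
    IsPlusTypeOn ⇑Q ⊤ := by
  refine plus_top (U := Submodule.span F (Set.range v)) (fun u hu => ?_) (by rwa [finrank_span_eq_card hli])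
  obtain ⟨c, rfl⟩ := (Submodule.mem_span_range_iff_exists_fun F).1 hu
  rw [quad_sum Finset.univ (fun i => c i • v i) fun i j hij => by
    rw [polar_smul_left, polar_smul_right, hp i j hij, smul_zero, smul_zero]]
  exact Finset.sum_eq_zero fun i _ => by rw [map_smul' (c i), h0, mul_zero]

/-- Two orthogonal isometric copies of a space of even dimension. -/
theorem plus_of_two_maps (hQ : (polarBilin Q).Nondegenerate) {X : Type*} [AddCommGroup X] [Module F X]
    [FiniteDimensional F X] (L₁ L₂ : X →ₗ[F] (ι → F)) (hd : 2 * Module.finrank F X = Fintype.card ι)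
    (hev : Even (Module.finrank F X)) (hq : ∀ x, Q (L₂ x) = Q (L₁ x)) (hort : ∀ x y, polar Q (L₁ x) (L₂ y) = 0)
    (hinj : ∀ x y, L₁ x + L₂ y = 0 → x = 0 ∧ y = 0) : IsPlusTypeOn ⇑Q ⊤ := by
  have hsinj : Function.Injective (L₁.coprod L₂) := by
    refine (injective_iff_map_eq_zero _).2 fun p hp => ?_
    obtain ⟨h1, h2⟩ := hinj p.1 p.2 hp
    exact Prod.ext h1 h2
  have hsur : Function.Surjective (L₁.coprod L₂) :=
    (LinearMap.injective_iff_surjective_of_finrank_eq_finrank (by
      rw [Module.finrank_prod, Module.finrank_fintype_fun_eq_card]; omega)).1 hsinj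
  set q : QuadraticForm F X := Q.comp L₁ with hqdef
  have hqn : (polarBilin q).Nondegenerate := nondeg_of fun x hx => by
    refine (hinj x 0 ?_).1
    rw [map_zero, add_zero]
    refine eq_zero_of_polar hQ fun u => ?_
    obtain ⟨⟨a, b⟩, rfl⟩ := hsur u
    have h1 := hx a
    rw [polar, hqdef, QuadraticMap.comp_apply, QuadraticMap.comp_apply, QuadraticMap.comp_apply, map_add] at h1
    rw [LinearMap.coprod_apply, polar_add_right, hort, add_zero]
    exact h1
  obtain ⟨l, hl⟩ := hev
  obtain ⟨e, he⟩ := iso_smul_even hqn (show Module.finrank F X = 2 * l by omega) (c := (-1 : F)) (by norm_num)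
  refine plus_of_map (L₁ + L₂.comp e.toLinearMap) ((injective_iff_map_eq_zero _).2 fun x hx => (hinj x (e x) hx).1)
    (fun x => ?_) hd
  have h1 : Q (L₁ (e x)) = -Q (L₁ x) := by
    have h2 := he x
    simpa [hqdef] using h2
  rw [LinearMap.add_apply, LinearMap.comp_apply, map_add' (L₁ x), hort, hq]
  simp [h1]

/-- An orthogonal decomposition into plus pieces. -/
theorem plus_of_pieces {t k : ℕ} {D : Fin t → Submodule F (ι → F)} (hD : IsNondegenerateMDecomposition (polar ⇑Q) k D)
    (hp : ∀ i, IsPlusTypeOn ⇑Q (D i)) : IsPlusTypeOn ⇑Q ⊤ := by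
  classical
  choose U hUD hUs hUd using hp
  let L : ((i : Fin t) → U i) →ₗ[F] (ι → F) :=
    ∑ i, (U i).subtype.comp (LinearMap.proj i)
  have hL : ∀ x, L x = ∑ i, (x i : ι → F) := fun x => by simp [L]
  refine plus_of_map L ((injective_iff_map_eq_zero _).2 fun x hx => funext fun i => Subtype.ext ?_) (fun x => ?_) ?_
  · by_contra hne
    obtain ⟨-, y, hy, hy0⟩ := hD.nondegenerate i (x i) (hUD i (x i).2) hne
    refine hy0 ?_
    have h1 : polar Q (∑ j, (x j : ι → F)) y = 0 := by
      rw [← hL, hx]
      simp [polar]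
    rw [show polar Q (∑ j, (x j : ι → F)) y = (polarBilin Q).flip y (∑ j, (x j : ι → F)) from rfl, map_sum,
      Finset.sum_eq_single i] at h1
    · exact h1
    · exact fun j _ hji => hD.orthogonal j i hji _ (hUD j (x j).2) _ hy
    · simp
  · rw [hL, quad_sum _ _ fun i j hij => hD.orthogonal i j hij _ (hUD i (x i).2) _ (hUD j (x j).2)]
    exact Finset.sum_eq_zero fun i _ => hUs i _ (x i).2
  · rw [Module.finrank_pi_fintype, Finset.mul_sum, Finset.sum_congr rfl fun i _ => hUd i,
      Finset.sum_congr rfl fun i _ => hD.decomp.finrank_eq i]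
    simp [NotMax.mul_card_eq' hD.decomp]

/-- An even number of isometric orthogonal pieces with half of the dimension even. -/
theorem plus_of_decomp (hQ : (polarBilin Q).Nondegenerate) {t k : ℕ} {D : Fin t → Submodule F (ι → F)}
    (hD : IsOrthogonalMDecomposition ⇑Q k D) (ht : Even t) (hev : Even (Fintype.card ι / 2)) :
    IsPlusTypeOn ⇑Q ⊤ := by
  classical
  obtain ⟨s, rfl⟩ := ht
  have hcard := NotMax.mul_card_eq' hD.decomp.decomp
  let i₀ : Fin (s + s) := ⟨0, by have := hD.decomp.decomp.two_le; omega⟩
  choose e he using fun i => hD.isometric i₀ i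
  let L : (Fin s → Fin (s + s)) → ((Fin s → D i₀) →ₗ[F] (ι → F)) := fun f =>
    ∑ j, (D (f j)).subtype.comp ((e (f j)).toLinearMap.comp (LinearMap.proj j))
  have hL : ∀ f x, L f x = ∑ j, (e (f j) (x j) : ι → F) := fun f x => by simp [L]
  have hne : ∀ j j' : Fin s, Fin.castAdd s j ≠ Fin.natAdd s j' := fun j j' h => by
    have := congrArg Fin.val h
    simp at this
    omega
  refine plus_of_two_maps hQ (L (Fin.castAdd s)) (L (Fin.natAdd s)) ?_ ?_ (fun x => ?_) (fun x y => ?_)
    fun x y hxy => ?_
  · rw [Module.finrank_pi_fintype, Finset.sum_congr rfl fun _ _ => hD.decomp.decomp.finrank_eq i₀]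
    simp
    rw [← hcard]; ring
  · rw [Module.finrank_pi_fintype, Finset.sum_congr rfl fun _ _ => hD.decomp.decomp.finrank_eq i₀]
    rw [← hcard, show (s + s) * k = 2 * (s * k) by ring, Nat.mul_div_cancel_left _ two_pos] at hev
    simpa using hev
  · rw [hL, hL, quad_sum _ _ fun i j hij => hD.decomp.orthogonal _ _ (fun h => hij (Fin.natAdd_injective _ _ h)) _
      (e _ _).2 _ (e _ _).2, quad_sum _ _ fun i j hij => hD.decomp.orthogonal _ _
      (fun h => hij (Fin.castAdd_injective _ _ h)) _ (e _ _).2 _ (e _ _).2]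
    exact Finset.sum_congr rfl fun j _ => by rw [he, he]
  · rw [hL, hL, show polar Q (∑ j, (e (Fin.castAdd s j) (x j) : ι → F)) (∑ j, (e (Fin.natAdd s j) (y j) : ι → F)) =
      polarBilin Q (∑ j, (e (Fin.castAdd s j) (x j) : ι → F)) (∑ j, (e (Fin.natAdd s j) (y j) : ι → F)) from rfl,
      map_sum, map_sum]
    refine Finset.sum_eq_zero fun j _ => ?_
    rw [LinearMap.sum_apply]
    exact Finset.sum_eq_zero fun i _ => hD.decomp.orthogonal _ _ (hne _ _) _ (e _ _).2 _ (e _ _).2
  · rw [hL, hL] at hxy
    let v : Fin (s + s) → ι → F := Fin.append (fun j => (e (Fin.castAdd s j) (x j) : ι → F))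
      fun j => (e (Fin.natAdd s j) (y j) : ι → F)
    have hv : ∀ i, v i ∈ D i := fun i => by
      induction i using Fin.addCases with
      | left j => simp only [v, Fin.append_left]; exact (e _ _).2
      | right j => simp only [v, Fin.append_right]; exact (e _ _).2
    have hsum : ∑ i, v i = 0 := by
      rw [Fin.sum_univ_add]
      simp only [v, Fin.append_left, Fin.append_right]
      exact hxy
    have hz : ∀ i, v i = 0 := fun i => by
      by_contra h0
      obtain ⟨-, z, hz, hz0⟩ := hD.decomp.nondegenerate i _ (hv i) h0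
      refine hz0 ?_
      have h1 : (polarBilin Q).flip z (∑ j, v j) = 0 := by rw [hsum, map_zero]
      rw [map_sum, Finset.sum_eq_single i] at h1
      · exact h1
      · exact fun j _ hji => hD.decomp.orthogonal j i hji _ (hv j) _ hz
      · simp
    refine ⟨funext fun j => (e (Fin.castAdd s j)).injective (Subtype.ext ?_),
      funext fun j => (e (Fin.natAdd s j)).injective (Subtype.ext ?_)⟩
    · have h1 := hz (Fin.castAdd s j)
      simp only [v, Fin.append_left] at h1
      simpa using h1
    · have h1 := hz (Fin.natAdd s j)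
      simp only [v, Fin.append_right] at h1
      rw [h1, Pi.zero_apply, map_zero, ZeroMemClass.coe_zero]

/-- A structure over a subfield of index two. -/
theorem plus_of_subfield_two (hQ : (polarBilin Q).Nondegenerate) (heven : Even (Fintype.card ι)) {F₀ : Subfield F}
    {P : GL ι F} {ζ : F} (hζ : ζ ≠ 0) (hc : Fintype.card F = Nat.card F₀ ^ 2)
    (hrat : IsQuadFormRationalStructure (fun v => ζ * Q v) F₀ P) : IsPlusTypeOn ⇑Q ⊤ := by
  classical
  let emb : (ι → F₀) → ι → F := fun u => (P : Matrix ι ι F).mulVec fun i => (u i : F)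
  have hemb_add : ∀ u w, emb (u + w) = emb u + emb w := fun u w => by
    rw [← Matrix.mulVec_add]; congr 1
  have hemb_smul : ∀ (c : F₀) u, emb (c • u) = (c : F) • emb u := fun c u => by
    rw [← Matrix.mulVec_smul]; congr 1
  let q₀ : (ι → F₀) → F₀ := fun u => ⟨ζ * Q (emb u), hrat _ fun i => (u i).2⟩
  have hpol : ∀ u w, ((polar q₀ u w : F₀) : F) = ζ * polar Q (emb u) (emb w) := fun u w => by
    show ζ * Q (emb (u + w)) - ζ * Q (emb u) - ζ * Q (emb w) = _
    rw [hemb_add, polar]; ring
  let qf : QuadraticForm F₀ (ι → F₀) := QuadraticMap.ofPolar q₀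
    (fun c u => Subtype.ext (by
      show ζ * Q (emb (c • u)) = (c : F) * c * (ζ * Q (emb u))
      rw [hemb_smul, map_smul' (c : F)]; ring))
    (fun u u' w => Subtype.ext (by
      push_cast
      rw [hpol, hpol, hpol, hemb_add, polar_add_left]; ring))
    (fun c u w => Subtype.ext (by
      rw [smul_eq_mul, MulMemClass.coe_mul, hpol, hpol, hemb_smul, polar_smul_left, smul_eq_mul]; ring))
  have hqn : (polarBilin qf).Nondegenerate := nondeg_of fun x hx => by
    have hz : emb x = 0 := eq_zero_of_polar hQ fun y => by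
      obtain ⟨y', rfl⟩ : ∃ y', (P : Matrix ι ι F).mulVec y' = y :=
        ⟨((P⁻¹ : GL ι F) : Matrix ι ι F).mulVec y, by
          rw [Matrix.mulVec_mulVec, ← Units.val_mul, mul_inv_cancel, Units.val_one, Matrix.one_mulVec]⟩
      have hb : ∀ i, polar Q (emb x) ((P : Matrix ι ι F).mulVec (Pi.single i 1)) = 0 := fun i => by
        have h1 : ((polar q₀ x (Pi.single i 1) : F₀) : F) = 0 := by
          rw [show polar q₀ x (Pi.single i 1) = 0 from hx _]; rfl
        rw [hpol] at h1
        have h2 := (mul_eq_zero.1 h1).resolve_left hζ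
        rwa [show emb (Pi.single i 1) = (P : Matrix ι ι F).mulVec (Pi.single i 1) by
          show (P : Matrix ι ι F).mulVec _ = _
          congr 1
          funext j
          rcases eq_or_ne j i with rfl | h <;> simp [*]] at h2
      rw [pi_eq_sum_univ' y', Matrix.mulVec_sum,
        show polar Q (emb x) (∑ i, (P : Matrix ι ι F).mulVec (y' i • Pi.single i 1)) =
          polarBilin Q (emb x) (∑ i, (P : Matrix ι ι F).mulVec (y' i • Pi.single i 1)) from rfl, map_sum]
      refine Finset.sum_eq_zero fun i _ => ?_
      rw [Matrix.mulVec_smul, polarBilin_apply_apply, polar_smul_right, hb, smul_zero]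
    funext i
    have h1 := congrArg (((P⁻¹ : GL ι F) : Matrix ι ι F).mulVec) hz
    simp only [emb, Matrix.mulVec_mulVec, ← Units.val_mul, inv_mul_cancel, Units.val_one, Matrix.one_mulVec,
      Matrix.mulVec_zero] at h1
    exact Subtype.ext (congrFun h1 i)
  obtain ⟨m, hm⟩ := heven
  have hdim : Module.finrank F₀ (ι → F₀) = 2 * m := by rw [Module.finrank_fintype_fun_eq_card]; omega
  have hto : ∀ {u}, qf u = 0 → Q (emb u) = 0 := fun {u} h => by
    have h1 : ζ * Q (emb u) = 0 := congrArg Subtype.val h
    exact (mul_eq_zero.1 h1).resolve_left hζ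
  have hpo : ∀ u w, polar qf u w = 0 → polar Q (emb u) (emb w) = 0 := fun u w h => by
    have h1 : ((polar q₀ u w : F₀) : F) = 0 := by rw [show polar q₀ u w = 0 from h]; rfl
    rw [hpol] at h1
    exact (mul_eq_zero.1 h1).resolve_left hζ
  have hpv : ∀ u w, ζ * polar Q (emb u) (emb w) = ((polar qf u w : F₀) : F) := fun u w => (hpol u w).symm
  obtain ⟨τ, hτ, hτc⟩ := exists_powHom F₀
  rcases even_cases hqn hdim with ⟨e, he⟩ | ⟨hm1, hiso⟩
  · let a : Fin m → ι → F := fun i => emb (e ((Pi.single i 1, 0), 0))
    let b : Fin m → ι → F := fun i => emb (e ((0, Pi.single i 1), 0))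
    have hep : ∀ x y, polar qf (e x) (e y) = polar (hyp (zeroForm F₀) m) x y := fun x y => by
      simp only [polar, ← map_add, he]
    refine plus_of_family a ?_ (fun i => hto (by rw [he, hyp_apply]; simp [zeroForm])) (fun i j _ => hpo _ _ ?_)
      (by rw [Fintype.card_fin]; omega)
    · refine Fintype.linearIndependent_iff.2 fun c hc j => ?_
      have h1 : ∀ i, ζ * polar Q (a i) (b j) = if i = j then 1 else 0 := fun i => by
        rw [hpv, hep, polar, hyp_apply, hyp_apply, hyp_apply]
        rcases eq_or_ne i j with rfl | h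
        · simp [Pi.single_apply, zeroForm]
        · simp [Pi.single_apply, h, h.symm, zeroForm]
      have h2 : (polarBilin Q).flip (b j) (∑ i, c i • a i) = 0 := by rw [hc, map_zero]
      rw [map_sum, Finset.sum_eq_single j] at h2
      · rw [map_smul, smul_eq_mul, LinearMap.flip_apply, polarBilin_apply_apply] at h2
        have h3 := h1 j
        rw [if_pos rfl] at h3
        exact (mul_eq_zero.1 h2).resolve_right fun e' => by rw [e', mul_zero] at h3; exact zero_ne_one h3
      · intro i _ hij
        have h3 := h1 i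
        rw [if_neg hij] at h3
        rw [map_smul, LinearMap.flip_apply, polarBilin_apply_apply, (mul_eq_zero.1 h3).resolve_left hζ, smul_zero]
      · simp
    · rw [hep, polar, hyp_apply, hyp_apply, hyp_apply]
      simp [zeroForm]
  · obtain ⟨α, hα⟩ : ∃ α : F, α ∉ F₀ := by
      by_contra hcon
      push Not at hcon
      have h1 : Nat.card F₀ = Fintype.card F := by
        rw [Nat.card_congr (Equiv.subtypeUnivEquiv hcon), Nat.card_eq_fintype_card]
      have h2 : 1 < Nat.card F₀ := Finite.one_lt_card
      rw [← h1] at hc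
      nlinarith
    have hττ : ∀ x, τ (τ x) = x := fun x => by
      rw [hτc, hτc, ← pow_mul, ← pow_two, ← hc, FiniteField.pow_card]
    set a₀ : F₀ := ⟨-(α + τ α), (hτ _).2 (by rw [map_neg, map_add, hττ, add_comm])⟩ with ha₀
    set b₀ : F₀ := ⟨α * τ α, (hτ _).2 (by rw [map_mul, hττ, mul_comm])⟩ with hb₀
    have hab : ∀ z₁ z₂ : F₀, z₁ ^ 2 + a₀ * z₁ * z₂ + b₀ * z₂ ^ 2 = 0 → z₁ = 0 ∧ z₂ = 0 := by
      intro z₁ z₂ h
      have h1 : ((z₁ : F) - α * z₂) * ((z₁ : F) - τ α * z₂) = 0 := by
        have h2 := congrArg Subtype.val h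
        simp [ha₀, hb₀] at h2
        linear_combination h2
      have hnot : ∀ β : F, β ∉ F₀ → (z₁ : F) = β * z₂ → z₁ = 0 ∧ z₂ = 0 := fun β hβ hb => by
        by_cases hz : z₂ = 0
        · exact ⟨Subtype.ext (by rw [hb, hz]; simp), hz⟩
        · refine absurd ?_ hβ
          rw [show β = (z₁ : F) / z₂ by rw [hb, mul_div_cancel_right₀]; exact fun e => hz (Subtype.ext e)]
          exact div_mem z₁.2 z₂.2
      rcases mul_eq_zero.1 h1 with h1 | h1
      · exact hnot α hα (sub_eq_zero.1 h1)
      · exact hnot (τ α) (fun hm' => hα (by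
          have h3 := (hτ _).1 hm'
          rw [hττ] at h3
          exact h3 ▸ hm')) (sub_eq_zero.1 h1)
    obtain ⟨e, he⟩ := hiso a₀ b₀ hab
    have hep : ∀ x y, polar qf (e x) (e y) = polar (hyp (binForm a₀ b₀) (m - 1)) x y := fun x y => by
      simp only [polar, ← map_add, he]
    let a : Fin (m - 1) → ι → F := fun i => emb (e ((Pi.single i 1, 0), 0))
    let b : Fin (m - 1) → ι → F := fun i => emb (e ((0, Pi.single i 1), 0))
    let w₁ : ι → F := emb (e ((0, 0), (1, 0)))
    let w₂ : ι → F := emb (e ((0, 0), (0, 1)))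
    let w : ι → F := α • w₁ + w₂
    have hQa : ∀ i, Q (a i) = 0 := fun i => hto (by rw [he, hyp_apply]; simp [zeroForm])
    have haa : ∀ i j, polar Q (a i) (a j) = 0 := fun i j => hpo _ _ (by
      rw [hep, polar, hyp_apply, hyp_apply, hyp_apply]; simp)
    have haw : ∀ i, polar Q (a i) w = 0 := fun i => by
      rw [polar_add_right, polar_smul_right, hpo _ _ (by rw [hep, polar, hyp_apply, hyp_apply, hyp_apply]; simp),
        hpo _ _ (by rw [hep, polar, hyp_apply, hyp_apply, hyp_apply]; simp), smul_zero, add_zero]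
    have hbw : ∀ i, polar Q w (b i) = 0 := fun i => by
      rw [polar_add_left, polar_smul_left, hpo _ _ (by rw [hep, polar, hyp_apply, hyp_apply, hyp_apply]; simp),
        hpo _ _ (by rw [hep, polar, hyp_apply, hyp_apply, hyp_apply]; simp), smul_zero, add_zero]
    have hab' : ∀ i j, ζ * polar Q (a i) (b j) = if i = j then 1 else 0 := fun i j => by
      rw [hpv, hep, polar, hyp_apply, hyp_apply, hyp_apply]
      rcases eq_or_ne i j with rfl | h
      · simp [Pi.single_apply]
      · simp [Pi.single_apply, h, h.symm]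
    have hQ1 : ζ * Q w₁ = 1 := by
      show ((qf (e _) : F₀) : F) = 1
      rw [he, hyp_apply, binForm_apply]; simp
    have hQ2 : ζ * Q w₂ = α * τ α := by
      show ((qf (e _) : F₀) : F) = _
      rw [he, hyp_apply, binForm_apply]; simp [hb₀]
    have h12 : ζ * polar Q w₁ w₂ = -(α + τ α) := by
      rw [hpv, hep, polar, hyp_apply, hyp_apply, hyp_apply, binForm_apply, binForm_apply, binForm_apply]
      simp [ha₀]
      ring
    have hQw : Q w = 0 := by
      refine (mul_eq_zero.1 (show ζ * Q w = 0 from ?_)).resolve_left hζ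
      rw [map_add' (α • w₁) w₂, map_smul' α w₁, polar_smul_left, smul_eq_mul]
      linear_combination α * α * hQ1 + hQ2 + α * h12
    let v : Option (Fin (m - 1)) → ι → F := fun o => o.elim w a
    refine plus_of_family v ?_ (fun o => ?_) (fun o o' hne => ?_) ?_
    · refine Fintype.linearIndependent_iff.2 fun c hc => ?_
      rw [Fintype.sum_option] at hc
      have hcj : ∀ j, c (some j) = 0 := fun j => by
        have h2 : (polarBilin Q).flip (b j) (c none • w + ∑ i, c (some i) • a i) = 0 := by
          rw [show c none • w + ∑ i, c (some i) • a i = 0 from hc, map_zero]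
        rw [map_add, map_smul, LinearMap.flip_apply, polarBilin_apply_apply, hbw, smul_zero, zero_add, map_sum,
          Finset.sum_eq_single j] at h2
        · rw [map_smul, smul_eq_mul, LinearMap.flip_apply, polarBilin_apply_apply] at h2
          have h3 := hab' j j
          rw [if_pos rfl] at h3
          exact (mul_eq_zero.1 h2).resolve_right fun e' => by rw [e', mul_zero] at h3; exact zero_ne_one h3
        · intro i _ hij
          have h3 := hab' i j
          rw [if_neg hij] at h3
          rw [map_smul, LinearMap.flip_apply, polarBilin_apply_apply, (mul_eq_zero.1 h3).resolve_left hζ, smul_zero]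
        · simp
      have hcn : c none = 0 := by
        by_contra hne
        have hw0 : w = 0 := by
          have h2 : c none • w = 0 := by
            simpa [hcj, v] using hc
          exact (smul_eq_zero.1 h2).resolve_left hne
        have h3 : α * (ζ * polar Q w₁ w₁) + ζ * polar Q w₁ w₂ = 0 := by
          have h4 : polar Q w₁ w = 0 := by rw [hw0]; simp [polar]
          rw [polar_add_right, polar_smul_right, smul_eq_mul] at h4
          linear_combination ζ * h4
        rw [polar_self', show ζ * (2 * Q w₁) = 2 * (ζ * Q w₁) by ring, hQ1, h12] at h3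
        refine hα ((hτ α).2 ?_)
        linear_combination -h3
      intro o
      cases o with
      | none => exact hcn
      | some j => exact hcj j
    · cases o with
      | none => exact hQw
      | some j => exact hQa j
    · cases o with
      | none =>
        cases o' with
        | none => exact absurd rfl hne
        | some j =>
          show polar Q w (a j) = 0
          rw [polar_comm]
          exact haw j
      | some i =>
        cases o' with
        | none => exact haw i
        | some j => exact haa i j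
    · rw [Fintype.card_option, Fintype.card_fin]; omega

end Cfsg.Agent.Asch
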