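import Cfsg.Agent.Asch.SympBase
import Cfsg.Agent.Asch.Forms
import Cfsg.Agent.PrimeDim.Descend
import Cfsg.Agent.PrimeDim.SLExcept

/-!
A normal group of symplectic type: class six, a smaller field, or an invariant form.
-/

set_option autoImplicit false
set_option linter.unusedSectionVars false

namespace Cfsg.Agent.Asch

open Matrix Cfsg.Geo Cfsg.Agent.PrimeDim
open scoped MatrixGroups

variable {F : Type*} [Field F] [Finite F] {ι : Type} [Fintype ι] [DecidableEq ι] [Nonempty ι]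
  {r : ℕ} {H R : Subgroup (GL ι F)}

theorem IsSympNormal.r_ne_zero (hR : IsSympNormal r H R) : (r : F) ≠ 0 := by
  obtain ⟨ζ, hζ⟩ := hR.root
  haveI : NeZero r := ⟨hR.symp.prime.ne_zero⟩
  exact (hζ.neZero' (R := F) (n := r)).out

theorem IsSympNormal.card_ne_zero (hR : IsSympNormal r H R) : (Nat.card R : F) ≠ 0 := by
  haveI := Fact.mk hR.symp.prime
  obtain ⟨k, hk⟩ := IsPGroup.iff_card.1 hR.symp.pGroup
  rw [hk, Nat.cast_pow]
  exact pow_ne_zero _ hR.r_ne_zero

theorem IsSympNormal.scalar_iff (hR : IsSympNormal r H R) {x : GL ι F} (hx : x ∈ R) :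
    x ∈ scalars ι F ↔ ∀ y ∈ R, x * y = y * x :=
  ⟨fun h y _ => scalar_comm' h y, fun h => comm_of_abs hR.abs h⟩

theorem IsSympNormal.trace_eq_zero (hR : IsSympNormal r H R) {x : GL ι F} (hx : x ∈ R) (hxs : x ∉ scalars ι F) :
    (mat x).trace = 0 := by
  obtain ⟨y, hy, hyx⟩ : ∃ y ∈ R, x * y ≠ y * x := by
    by_contra hcon
    push Not at hcon
    exact hxs ((hR.scalar_iff hx).2 hcon)
  obtain ⟨c, hc⟩ := exists_scHom (hR.comm y hy x hx)
  have h1 : mat (y * x * y⁻¹) = (c : F) • mat x := by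
    rw [show y * x * y⁻¹ = (y * x * y⁻¹ * x⁻¹) * x by group, ← hc, mat, Units.val_mul]
    show mat (scHom c) * mat x = _
    rw [mat_scHom, Matrix.smul_mul, one_mul]
  have h2 := congrArg Matrix.trace h1
  rw [mat, Units.val_mul, Units.val_mul, Matrix.trace_smul, Matrix.trace_mul_cycle, ← Units.val_mul, inv_mul_cancel,
    Units.val_one, one_mul, smul_eq_mul] at h2
  refine (mul_eq_zero.1 (show ((c : F) - 1) * (mat x).trace = 0 by rw [sub_mul, one_mul]; exact sub_eq_zero.2 h2.symm)).resolve_left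
    (sub_ne_zero.2 fun e => hyx ?_)
  have h3 : y * x * y⁻¹ * x⁻¹ = 1 := by rw [← hc, Units.ext (e.trans Units.val_one.symm), map_one]
  rw [mul_inv_eq_one, mul_inv_eq_iff_eq_mul] at h3
  exact h3.symm

theorem IsSympNormal.degree_ne_zero (hR : IsSympNormal r H R) : (Fintype.card ι : F) ≠ 0 := by
  classical
  haveI : Fintype R := Fintype.ofFinite R
  obtain ⟨i⟩ := (inferInstance : Nonempty ι)
  let E : Matrix ι ι F := Matrix.single i i 1
  set X : Matrix ι ι F := ∑ g : R, mat g.1 * E * mat (g.1)⁻¹ with hX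
  obtain ⟨l, hl⟩ := (abs_iff.1 hR.abs).2 X fun y hy => by
    have h1 : mat y * X * mat y⁻¹ = X := by
      rw [hX, Finset.mul_sum, Finset.sum_mul]
      refine Fintype.sum_equiv (Equiv.mulLeft (⟨y, hy⟩ : R)) _ _ fun g => ?_
      simp only [Equiv.coe_mulLeft, Subgroup.coe_mul, _root_.mul_inv_rev, mat, Units.val_mul, mul_assoc]
    conv_lhs => rw [← h1]
    rw [mul_assoc, mat_inv_mul, mul_one]
  intro h0
  have h2 := congrArg Matrix.trace hl
  rw [Matrix.trace_smul, Matrix.trace_one, h0, smul_zero, hX, Matrix.trace_sum] at h2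
  have h3 : ∀ g : R, (mat g.1 * E * mat (g.1)⁻¹).trace = 1 := fun g => by
    rw [Matrix.trace_mul_cycle, mat_inv_mul, one_mul, Matrix.trace_single_eq_same]
  rw [Finset.sum_congr rfl fun g _ => h3 g, Finset.sum_const, Finset.card_univ, nsmul_one,
    ← Nat.card_eq_fintype_card] at h2
  exact hR.card_ne_zero h2

/-- The centre corresponds to the roots of unity in the field. -/
theorem IsSympNormal.card_center (hR : IsSympNormal r H R) :
    Nat.card (Subgroup.center R) = Nat.gcd (Nat.card Fˣ) (r * Nat.gcd 2 r) := by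
  rw [← IsCyclic.card_powMonoidHom_ker]
  symm
  let f : (powMonoidHom (α := Fˣ) (r * Nat.gcd 2 r)).ker → Subgroup.center R := fun c =>
    ⟨⟨scHom c.1, hR.scalar_mem c.1 c.2⟩, Subgroup.mem_center_iff.2 fun y =>
      Subtype.ext (scalar_comm' (scHom_mem c.1) y.1).symm⟩
  refine Nat.card_congr (Equiv.ofBijective f ⟨fun a b h => Subtype.ext (scHom_injective (congrArg (fun w => (w.1 : R).1) h)), ?_⟩)
  rintro ⟨⟨x, hx⟩, hxc⟩
  obtain ⟨c, rfl⟩ := exists_scHom ((hR.scalar_iff hx).2 fun y hy =>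
    (congrArg Subtype.val (Subgroup.mem_center_iff.1 hxc ⟨y, hy⟩)).symm)
  refine ⟨⟨c, ?_⟩, rfl⟩
  show c ^ _ = 1
  exact scHom_injective (by rw [map_pow, map_one]; exact hR.pow _ hx)

theorem exists_fixed_form (hR : IsSympNormal r H R) (σ : F ≃+* F)
    (hσ : ∀ c : Fˣ, c ^ (r * Nat.gcd 2 r) = 1 → (c : F) * σ c = 1) :
    ∃ G : Matrix ι ι F, G ≠ 0 ∧ Fixes σ R G := by
  classical
  haveI : Fintype R := Fintype.ofFinite R
  let S : ι → ι → Matrix ι ι F := fun a b => ∑ g : R, act σ (Matrix.single a b 1) (mat g.1)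
  have hact_sum : ∀ (X : R → Matrix ι ι F) (h : Matrix ι ι F), act σ (∑ g, X g) h = ∑ g, act σ (X g) h := fun X h => by
    rw [act, Finset.mul_sum, Finset.sum_mul]
    rfl
  have hfix : ∀ a b, Fixes σ R (S a b) := by
    intro a b h hh
    rw [show S a b = ∑ g : R, act σ (Matrix.single a b 1) (mat g.1) from rfl, hact_sum]
    refine Fintype.sum_equiv (Equiv.mulRight (⟨h, hh⟩ : R)) _ _ fun g => ?_
    simp only [Equiv.coe_mulRight, Subgroup.coe_mul, ← act_mul, mat, Units.val_mul]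
  by_contra hcon
  push Not at hcon
  have hzero : ∀ a b, S a b = 0 := fun a b => by_contra fun h => hcon _ h (hfix a b)
  have hent : ∀ a b, ∑ g : R, mat g.1 a a * σ (mat g.1 b b) = 0 := by
    intro a b
    have h1 := congrFun (congrFun (hzero a b) a) b
    rw [show S a b = ∑ g : R, act σ (Matrix.single a b 1) (mat g.1) from rfl, Matrix.sum_apply] at h1
    rw [Matrix.zero_apply] at h1
    refine Eq.trans (Finset.sum_congr rfl fun g _ => ?_) h1
    rw [act, Matrix.mul_apply, Finset.sum_eq_single b (fun j _ hj => ?_) (by simp)]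
    · simp [Matrix.map_apply]
    · rw [Matrix.mul_single_apply_of_ne (c := (1 : F)) (hbj := hj), zero_mul]
  have h1 : ∑ g : R, (mat g.1).trace * σ ((mat g.1).trace) = 0 := by
    simp only [Matrix.trace, Matrix.diag_apply, map_sum, Finset.sum_mul_sum]
    rw [Finset.sum_comm]
    refine Finset.sum_eq_zero fun a _ => ?_
    rw [Finset.sum_comm]
    exact Finset.sum_eq_zero fun b _ => hent a b
  have h2 : ∀ g : R, (mat g.1).trace * σ ((mat g.1).trace) =
      if g ∈ Subgroup.center R then (Fintype.card ι : F) * Fintype.card ι else 0 := by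
    intro g
    split_ifs with hg
    · obtain ⟨c, hc⟩ := exists_scHom ((hR.scalar_iff g.2).2 fun y hy =>
        (congrArg Subtype.val (Subgroup.mem_center_iff.1 hg ⟨y, hy⟩)).symm)
      have hce : c ^ (r * Nat.gcd 2 r) = 1 := scHom_injective (by rw [map_pow, hc, map_one]; exact hR.pow _ g.2)
      rw [← hc, mat_scHom, Matrix.trace_smul, Matrix.trace_one, smul_eq_mul, map_mul, map_natCast]
      linear_combination ((Fintype.card ι : F) * Fintype.card ι) * hσ c hce
    · rw [hR.trace_eq_zero g.2 fun hs => hg (Subgroup.mem_center_iff.2 fun y => Subtype.ext (scalar_comm' hs y.1).symm),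
        zero_mul]
  rw [Finset.sum_congr rfl fun g _ => h2 g, Finset.sum_ite, Finset.sum_const_zero, add_zero, Finset.sum_const,
    nsmul_eq_mul] at h1
  refine mul_ne_zero ?_ (mul_ne_zero hR.degree_ne_zero hR.degree_ne_zero) h1
  haveI := Fact.mk hR.symp.prime
  rw [← Fintype.card_subtype, ← Nat.card_eq_fintype_card]
  obtain ⟨k, hk⟩ := IsPGroup.iff_card.1 (hR.symp.pGroup.to_subgroup (Subgroup.center R))
  rw [show Nat.card {x // x ∈ Subgroup.center R} = r ^ k from hk, Nat.cast_pow]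
  exact pow_ne_zero _ hR.r_ne_zero

set_option maxHeartbeats 1000000 in
/-- With enough roots of unity: a monomial basis, and the order. -/
theorem monomial (hR : IsSympNormal r H R) (hdvd : r * Nat.gcd 2 r ∣ Nat.card Fˣ) :
    (∃ B : GL ι F, ∀ x ∈ R, ∀ i j, mat (B * x * B⁻¹) i j = 0 ∨ mat (B * x * B⁻¹) i j ^ (r * Nat.gcd 2 r) = 1) ∧
      Nat.card R = Nat.card (Subgroup.center R) * Fintype.card ι ^ 2 := by
  classical
  set e := r * Nat.gcd 2 r with he
  have he0 : 0 < e := by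
    rw [he]; exact Nat.mul_pos hR.symp.prime.pos (Nat.gcd_pos_of_pos_left _ two_pos)
  have heF : (e : F) ≠ 0 := by
    intro h
    rcases hR.symp.prime.eq_two_or_odd' with h2 | h2
    · have h3 := hR.r_ne_zero
      rw [h2, Nat.cast_ofNat] at h3
      rw [he, h2, show 2 * Nat.gcd 2 2 = 2 * 2 from rfl, Nat.cast_mul, Nat.cast_ofNat] at h
      exact h3 (mul_self_eq_zero.1 h)
    · rw [he, (Nat.coprime_primes Nat.prime_two hR.symp.prime).2 (fun h3 => by rw [← h3] at h2; exact absurd h2 (by decide)),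
        mul_one] at h
      exact hR.r_ne_zero h
  obtain ⟨γ, hγ⟩ : ∃ γ : F, IsPrimitiveRoot γ e := by
    obtain ⟨g, hg⟩ := IsCyclic.exists_ofOrder_eq_natCard (α := Fˣ)
    obtain ⟨k, hk⟩ := hdvd
    have h1 : orderOf (g ^ k) = e := by
      have hk0 : k ≠ 0 := fun h => by rw [h, mul_zero] at hk; exact Nat.card_pos.ne' hk
      rw [orderOf_pow' _ hk0, hg, hk, Nat.gcd_eq_right (dvd_mul_left k e), Nat.mul_div_cancel _ (Nat.pos_of_ne_zero hk0)]
    exact ⟨((g ^ k : Fˣ) : F), IsPrimitiveRoot.iff_orderOf.2 (by rw [orderOf_units, h1])⟩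
  -- a maximal commutative subgroup
  obtain ⟨A, hA, hAmax⟩ : ∃ A : Subgroup (GL ι F), (A ≤ R ∧ Comm A) ∧ ∀ B, B ≤ R ∧ Comm B → Nat.card B ≤ Nat.card A := by
    obtain ⟨A, hA, hmax⟩ := Set.exists_max_image {A : Subgroup (GL ι F) | A ≤ R ∧ Comm A} (fun A => Nat.card A)
      (Set.toFinite _) ⟨⊥, bot_le, fun x hx y _ => by rw [Subgroup.mem_bot.1 hx, one_mul, mul_one]⟩
    exact ⟨A, hA, hmax⟩
  obtain ⟨hAR, hAc⟩ := hA
  have hself : ∀ x ∈ R, (∀ a ∈ A, x * a = a * x) → x ∈ A := by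
    intro x hx hxa
    have hB : A ⊔ Subgroup.zpowers x ≤ R ∧ Comm (A ⊔ Subgroup.zpowers x) := by
      refine ⟨sup_le hAR (Subgroup.zpowers_le.2 hx), ?_⟩
      have hcl : A ⊔ Subgroup.zpowers x ≤ Subgroup.centralizer ((A : Set (GL ι F)) ∪ {x}) := by
        refine sup_le (fun a ha => ?_) (Subgroup.zpowers_le.2 ?_)
        · rw [Subgroup.mem_centralizer_iff]
          rintro b (hb | rfl)
          · exact hAc b hb a ha
          · exact hxa a ha
        · rw [Subgroup.mem_centralizer_iff]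
          rintro b (hb | rfl)
          · exact (hxa b hb).symm
          · rfl
      intro u hu v hv
      have h1 := Subgroup.mem_centralizer_iff.1 (hcl hu)
      have h2 : A ⊔ Subgroup.zpowers x ≤ Subgroup.centralizer {u} := by
        refine sup_le (fun a ha => ?_) (Subgroup.zpowers_le.2 ?_) <;>
          · rw [Subgroup.mem_centralizer_iff]
            intro w hw
            rw [Set.mem_singleton_iff.1 hw]
            first | exact (h1 a (Or.inl ha)).symm | exact (h1 x (Or.inr rfl)).symm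
      exact Subgroup.mem_centralizer_iff.1 (h2 hv) u rfl
    have := Subgroup.eq_of_le_of_card_ge le_sup_left (hAmax _ hB)
    exact this ▸ Subgroup.mem_sup_right (Subgroup.mem_zpowers x)
  have hscA : ∀ z ∈ R, z ∈ scalars ι F → z ∈ A := fun z hz hzs => hself z hz fun a _ => scalar_comm' hzs a
  -- a common eigenvector
  haveI : Nontrivial (ι → F) := Function.nontrivial
  let T : Set ℕ := {m | ∃ W : Submodule F (ι → F), Inv A W ∧ W ≠ ⊥ ∧ Module.finrank F W = m}
  obtain ⟨U, hUi, hU0, hUd⟩ := Nat.sInf_mem (s := T) ⟨_, ⊤, fun _ _ _ _ => Submodule.mem_top, top_ne_bot, rfl⟩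
  obtain ⟨v₀, hv₀U, hv₀⟩ := U.exists_mem_ne_zero_of_ne_bot hU0
  have heig : ∀ a ∈ A, ∃ c : F, c ^ e = 1 ∧ ∀ u ∈ U, mat a *ᵥ u = c • u := by
    intro a ha
    let w : ℕ → (ι → F) := fun k => ∑ j ∈ Finset.range e, (γ ^ k) ^ j • (mat (a ^ j) *ᵥ v₀)
    have hw : ∀ k, mat a *ᵥ w k = (γ ^ k)⁻¹ • w k := by
      intro k
      have hγk : γ ^ k ≠ 0 := pow_ne_zero _ (hγ.ne_zero he0.ne')
      rw [Matrix.mulVec_sum, Finset.smul_sum]
      have hs : ∀ j ∈ Finset.range e, mat a *ᵥ ((γ ^ k) ^ j • (mat (a ^ j) *ᵥ v₀)) =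
          (γ ^ k)⁻¹ • ((γ ^ k) ^ (j + 1) • (mat (a ^ (j + 1)) *ᵥ v₀)) := fun j _ => by
        rw [Matrix.mulVec_smul, mulVec_mul, ← pow_succ', smul_smul, pow_succ' (γ ^ k) j, inv_mul_cancel_left₀ hγk]
      rw [Finset.sum_congr rfl hs]
      have h1 := Finset.sum_range_succ' (fun j => (γ ^ k)⁻¹ • ((γ ^ k) ^ j • (mat (a ^ j) *ᵥ v₀))) e
      have h2 := Finset.sum_range_succ (fun j => (γ ^ k)⁻¹ • ((γ ^ k) ^ j • (mat (a ^ j) *ᵥ v₀))) e
      rw [h1] at h2
      have e1 : (γ ^ k) ^ e = 1 := by rw [← pow_mul, mul_comm, pow_mul, hγ.pow_eq_one, one_pow]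
      rw [e1, hR.pow a (hAR ha), ← pow_zero (γ ^ k), ← pow_zero a] at h2
      exact add_right_cancel h2
    have hsum : ∑ k ∈ Finset.range e, w k = (e : F) • v₀ := by
      simp only [w]
      rw [Finset.sum_comm, Finset.sum_eq_single 0]
      · simp [mat, Nat.cast_smul_eq_nsmul]
      · intro j hj hj0
        rw [← Finset.sum_smul]
        have : ∑ k ∈ Finset.range e, (γ ^ k) ^ j = 0 := by
          rw [Finset.sum_congr rfl fun k _ => show (γ ^ k) ^ j = (γ ^ j) ^ k by rw [← pow_mul, ← pow_mul, mul_comm]]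
          have h1 : γ ^ j ≠ 1 := hγ.pow_ne_one_of_pos_of_lt hj0 (Finset.mem_range.1 hj)
          rw [geom_sum_eq h1, ← pow_mul, mul_comm, pow_mul, hγ.pow_eq_one, one_pow, sub_self, zero_div]
        rw [this, zero_smul]
      · simp [he0.ne']
    obtain ⟨k, -, hk⟩ : ∃ k ∈ Finset.range e, w k ≠ 0 :=
      Finset.exists_ne_zero_of_sum_ne_zero (by rw [hsum]; exact smul_ne_zero heF hv₀)
    refine ⟨(γ ^ k)⁻¹, by rw [inv_pow, ← pow_mul, mul_comm, pow_mul, hγ.pow_eq_one, one_pow, inv_one], ?_⟩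
    let E : Submodule F (ι → F) := LinearMap.ker (Matrix.toLin' (mat a) - (γ ^ k)⁻¹ • LinearMap.id)
    have hE : ∀ u, u ∈ E ↔ mat a *ᵥ u = (γ ^ k)⁻¹ • u := fun u => by
      rw [LinearMap.mem_ker, LinearMap.sub_apply, LinearMap.smul_apply, LinearMap.id_apply, Matrix.toLin'_apply, sub_eq_zero]
    have hinv : Inv A (U ⊓ E) := fun b hb u hu => ⟨hUi b hb u hu.1, (hE _).2 (by
      rw [mulVec_mul, hAc a ha b hb, ← mulVec_mul, (hE u).1 hu.2, Matrix.mulVec_smul])⟩
    have hwU : w k ∈ U := Submodule.sum_mem _ fun j _ => Submodule.smul_mem _ _ (hUi _ (pow_mem ha j) _ hv₀U)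
    have hne : U ⊓ E ≠ ⊥ := fun h => hk ((Submodule.mem_bot F).1 (h ▸ ⟨hwU, (hE _).2 (hw k)⟩))
    have heq : U ⊓ E = U := Submodule.eq_of_le_of_finrank_le inf_le_left
      (hUd.le.trans (Nat.sInf_le ⟨_, hinv, hne, rfl⟩))
    exact fun u hu => (hE u).1 (heq.ge hu).2
  choose! lam hlam_pow hlam using heig
  -- the basis
  have hw : ∀ a ∈ R, ∀ y ∈ R, ∃ c : Fˣ, scHom c = a * y * a⁻¹ * y⁻¹ := fun a ha y hy => exists_scHom (hR.comm a ha y hy)
  choose! c hc using hw
  have hchar : ∀ a ∈ A, ∀ y ∈ R, mat a *ᵥ (mat y *ᵥ v₀) = ((c a y : F) * lam a) • (mat y *ᵥ v₀) := by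
    intro a ha y hy
    rw [mulVec_mul, show a * y = (a * y * a⁻¹ * y⁻¹) * (y * a) by group, ← hc a (hAR ha) y hy, ← mulVec_mul,
      ← mulVec_mul, hlam a ha v₀ hv₀U, mat_scHom, smul_one_mulVec, Matrix.mulVec_smul, smul_smul]
  have hcpow : ∀ a ∈ R, ∀ y ∈ R, (c a y : F) ^ e = 1 := fun a ha y hy => by
    have h1 : scHom (c a y ^ e) = (1 : GL ι F) := by
      rw [map_pow, hc a ha y hy]
      exact hR.pow _ (mul_mem (mul_mem (mul_mem ha hy) (inv_mem ha)) (inv_mem hy))
    have h2 := scHom_injective (h1.trans (map_one _).symm)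
    rw [← Units.val_pow_eq_pow_val, h2, Units.val_one]
  let A₀ : Subgroup R := A.subgroupOf R
  haveI : Fintype (R ⧸ A₀) := Fintype.ofFinite _
  let t : R ⧸ A₀ → GL ι F := fun q => (Quotient.out q : R).1
  have ht : ∀ q, t q ∈ R := fun q => (Quotient.out q : R).2
  let v : R ⧸ A₀ → (ι → F) := fun q => mat (t q) *ᵥ v₀
  have hv0 : ∀ q, v q ≠ 0 := fun q h => hv₀ (mulVec_injective (t q) (h.trans (Matrix.mulVec_zero _).symm))
  have hdist : Function.Injective fun (q : R ⧸ A₀) (a : A) => (c a.1 (t q) : F) * lam a.1 := by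
    intro q q' h
    rw [← Quotient.out_eq' q, ← Quotient.out_eq' q', QuotientGroup.eq, Subgroup.mem_subgroupOf]
    refine hself _ (mul_mem (inv_mem (ht q)) (ht q')) fun a ha => ?_
    have hl0 : lam a ≠ 0 := fun h0 => by
      have := hlam_pow a ha; rw [h0, zero_pow he0.ne'] at this; exact zero_ne_one this
    have h1 : c a (t q) = c a (t q') := Units.ext (mul_right_cancel₀ hl0 (congrFun h ⟨a, ha⟩))
    have e1 : ∀ y ∈ R, a * y * a⁻¹ = scHom (c a y) * y := fun y hy => by rw [hc a (hAR ha) y hy]; group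
    have h2 : a * ((t q)⁻¹ * t q') * a⁻¹ = (t q)⁻¹ * t q' := by
      rw [show a * ((t q)⁻¹ * t q') * a⁻¹ = (a * t q * a⁻¹)⁻¹ * (a * t q' * a⁻¹) by group, e1 _ (ht q), e1 _ (ht q'), h1]
      rw [_root_.mul_inv_rev, mul_assoc, inv_mul_cancel_left]
    exact (mul_inv_eq_iff_eq_mul.1 h2).symm
  have hli : LinearIndependent F v :=
    linearIndependent_of_eigen (fun a : A => Matrix.toLin' (mat a.1)) v _ hv0
      (fun q a => by rw [Matrix.toLin'_apply]; exact hchar a.1 a.2 _ (ht q)) hdist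
  have hmono : ∀ x ∈ R, ∀ q, ∃ (q' : R ⧸ A₀) (s : F), s ^ e = 1 ∧ mat x *ᵥ v q = s • v q' := by
    intro x hx q
    let y : R := ⟨x, hx⟩ * Quotient.out q
    let q' : R ⧸ A₀ := QuotientGroup.mk y
    have hmem : (t q')⁻¹ * y.1 ∈ A := by
      have h1 : (Quotient.out q' : R)⁻¹ * y ∈ A₀ := QuotientGroup.eq.1 (Quotient.out_eq' q')
      exact h1
    refine ⟨q', lam ((t q')⁻¹ * y.1), hlam_pow _ hmem, ?_⟩
    show mat x *ᵥ (mat (t q) *ᵥ v₀) = _ • (mat (t q') *ᵥ v₀)
    rw [mulVec_mul, show x * t q = t q' * ((t q')⁻¹ * y.1) by rw [mul_inv_cancel_left]; rfl, ← mulVec_mul,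
      hlam _ hmem v₀ hv₀U, Matrix.mulVec_smul]
  have hspan : Submodule.span F (Set.range v) = ⊤ := by
    refine ((abs_iff.1 hR.abs).1 _ fun x hx u hu => ?_).resolve_left fun h => ?_
    · induction hu using Submodule.span_induction with
      | mem u hu =>
        obtain ⟨q, rfl⟩ := hu
        obtain ⟨q', s, -, hs⟩ := hmono x hx q
        rw [hs]
        exact Submodule.smul_mem _ _ (Submodule.subset_span ⟨q', rfl⟩)
      | zero => rw [Matrix.mulVec_zero]; exact zero_mem _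
      | add u u' _ _ h1 h2 => rw [Matrix.mulVec_add]; exact add_mem h1 h2
      | smul b u _ h1 => rw [Matrix.mulVec_smul]; exact Submodule.smul_mem _ _ h1
    · exact hv0 (QuotientGroup.mk 1) ((Submodule.mem_bot F).1 (h ▸ Submodule.subset_span ⟨_, rfl⟩))
  let b := Module.Basis.mk hli hspan.ge
  have hcardq : Fintype.card (R ⧸ A₀) = Fintype.card ι := by
    rw [← Module.finrank_fintype_fun_eq_card F (η := ι), Module.finrank_eq_card_basis b]
  constructor
  · let es : ι ≃ R ⧸ A₀ := Fintype.equivOfCardEq hcardq.symm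
    obtain ⟨Q, hQ⟩ : IsUnit (Matrix.of fun x i => v (es i) x : Matrix ι ι F) :=
      Matrix.linearIndependent_cols_iff_isUnit.1 (hli.comp es es.injective)
    refine ⟨Q⁻¹, fun x hx i j => ?_⟩
    obtain ⟨q', s, hs, hxq⟩ := hmono x hx (es j)
    have hcol : ∀ l, mat Q *ᵥ Pi.single l 1 = v (es l) := fun l => by
      rw [show mat Q = _ from hQ, Matrix.mulVec_single_one]; funext m; simp [Matrix.col_apply]
    have h1 : mat (Q⁻¹ * x * Q⁻¹⁻¹) *ᵥ Pi.single j 1 = s • (Pi.single (es.symm q') 1 : ι → F) := by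
      rw [inv_inv, ← mulVec_mul, hcol, ← mulVec_mul, hxq, Matrix.mulVec_smul]
      conv_lhs => rw [← es.apply_symm_apply q', ← hcol, inv_mulVec_cancel]
    have h2 := congrFun h1 i
    rw [Matrix.mulVec_single_one, Matrix.col_apply, Pi.smul_apply, Pi.single_apply, smul_eq_mul, mul_ite, mul_one,
      mul_zero] at h2
    rw [h2]
    split_ifs
    · exact Or.inr hs
    · exact Or.inl rfl
  -- the order
  have hzc : ∀ z, z ∈ Subgroup.center R ↔ (z : GL ι F) ∈ scalars ι F := fun z =>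
    ⟨fun h => (hR.scalar_iff z.2).2 fun y hy => (congrArg Subtype.val (Subgroup.mem_center_iff.1 h ⟨y, hy⟩)).symm,
      fun h => Subgroup.mem_center_iff.2 fun y => Subtype.ext (scalar_comm' h y.1).symm⟩
  have hle : Subgroup.center R ≤ A₀ := fun z hz => hscA z.1 z.2 ((hzc z).1 hz)
  set Z₀ := (Subgroup.center R).subgroupOf A₀ with hZ₀
  haveI : Fintype (A₀ ⧸ Z₀) := Fintype.ofFinite _
  have hcmul : ∀ a ∈ R, ∀ y ∈ R, ∀ y' ∈ R, c a (y * y') = c a y * c a y' := by
    intro a ha y hy y' hy'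
    refine scHom_injective (ι := ι) (F := F) ?_
    rw [map_mul, hc a ha _ (mul_mem hy hy'), hc a ha y hy, hc a ha y' hy',
      show a * (y * y') * a⁻¹ * (y * y')⁻¹ = a * y * a⁻¹ * ((a * y' * a⁻¹ * y'⁻¹) * y⁻¹) by group,
      scalar_comm' (hR.comm a ha y' hy') y⁻¹]
    group
  have hcmul' : ∀ a ∈ R, ∀ a' ∈ R, ∀ y ∈ R, c (a * a') y = c a y * c a' y := by
    intro a ha a' ha' y hy
    refine scHom_injective (ι := ι) (F := F) ?_
    rw [mul_comm (c a y), map_mul, hc _ (mul_mem ha ha') y hy, hc a ha y hy, hc a' ha' y hy]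
    calc a * a' * y * (a * a')⁻¹ * y⁻¹ = a * (a' * y * a'⁻¹ * y⁻¹) * (y * a⁻¹ * y⁻¹) := by group
      _ = (a' * y * a'⁻¹ * y⁻¹) * a * (y * a⁻¹ * y⁻¹) := by rw [scalar_comm' (hR.comm a' ha' y hy) a]
      _ = _ := by group
  -- the two bounds
  let φ : A₀ ⧸ Z₀ → (R →* F) := fun x =>
    { toFun := fun y => (c (Quotient.out x).1.1 y.1 : F)
      map_one' := by
        have h1 := hcmul _ (Quotient.out x).1.2 _ (one_mem R) _ (one_mem R)
        rw [one_mul] at h1
        show (c (Quotient.out x).1.1 1 : F) = 1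
        rw [mul_eq_left.1 h1.symm, Units.val_one]
      map_mul' := fun y y' => by
        show (c _ (y.1 * y'.1) : F) = _
        rw [hcmul _ (Quotient.out x).1.2 _ y.2 _ y'.2, Units.val_mul] }
  have hφinj : Function.Injective φ := by
    intro x x' h
    rw [← Quotient.out_eq' x, ← Quotient.out_eq' x', QuotientGroup.eq, Subgroup.mem_subgroupOf, hzc]
    set a := (Quotient.out x).1
    set a' := (Quotient.out x').1
    refine (hR.scalar_iff (mul_mem (inv_mem a.2) a'.2)).2 fun y hy => ?_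
    have h1 : c a.1 y = c a'.1 y := Units.ext (DFunLike.congr_fun h ⟨y, hy⟩)
    have e1 : ∀ b ∈ R, b * y * b⁻¹ = scHom (c b y) * y := fun b hb => by rw [hc b hb y hy]; group
    have h2 : a.1⁻¹ * a'.1 * y * (a.1⁻¹ * a'.1)⁻¹ = y := by
      calc a.1⁻¹ * a'.1 * y * (a.1⁻¹ * a'.1)⁻¹ = a.1⁻¹ * (a'.1 * y * a'.1⁻¹) * a.1 := by group
        _ = a.1⁻¹ * (a.1 * y * a.1⁻¹) * a.1 := by rw [e1 _ a'.2, ← h1, ← e1 _ a.2]
        _ = y := by group
    exact mul_inv_eq_iff_eq_mul.1 h2
  have hrestr : ∀ x (y : R), φ x y = φ x (Quotient.out (QuotientGroup.mk y : R ⧸ A₀)) := by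
    intro x y
    set y' := Quotient.out (QuotientGroup.mk y : R ⧸ A₀)
    have h1 : y'⁻¹ * y ∈ A₀ := QuotientGroup.eq.1 (Quotient.out_eq' _)
    have h2 : φ x (y'⁻¹ * y) = 1 := by
      have h3 : c (Quotient.out x).1.1 (y'⁻¹ * y).1 = 1 := scHom_injective (ι := ι) (F := F) (by
        rw [hc _ (Quotient.out x).1.2 _ (y'⁻¹ * y).2, map_one,
          show (Quotient.out x).1.1 * (y'⁻¹ * y).1 = (y'⁻¹ * y).1 * (Quotient.out x).1.1 from
            hAc _ (Quotient.out x).2 _ h1, mul_inv_cancel_right, mul_inv_cancel])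
      show (c (Quotient.out x).1.1 (y'⁻¹ * y).1 : F) = 1
      rw [h3, Units.val_one]
    conv_lhs => rw [← mul_inv_cancel_left y' y, map_mul, h2, mul_one]
  have hup : Fintype.card (A₀ ⧸ Z₀) ≤ Fintype.card (R ⧸ A₀) := by
    have h1 : LinearIndependent F (fun x : A₀ ⧸ Z₀ => (φ x : R → F)) :=
      (linearIndependent_monoidHom R F).comp φ hφinj
    have h2 : LinearIndependent F (fun (x : A₀ ⧸ Z₀) (q : R ⧸ A₀) => φ x (Quotient.out q)) := by
      rw [Fintype.linearIndependent_iff] at h1 ⊢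
      intro g hg
      refine h1 g (funext fun y => ?_)
      have h3 := congrFun hg (QuotientGroup.mk y)
      simp only [Finset.sum_apply, Pi.smul_apply, Pi.zero_apply] at h3 ⊢
      rw [← h3]
      exact Finset.sum_congr rfl fun x _ => by rw [hrestr]
    have h3 := h2.fintype_card_le_finrank
    rwa [Module.finrank_fintype_fun_eq_card] at h3
  let ψ : R ⧸ A₀ → (A₀ →* F) := fun q =>
    { toFun := fun a => (c a.1.1 (t q) : F)
      map_one' := by
        have h1 := hcmul' _ (one_mem R) _ (one_mem R) (t q) (ht q)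
        rw [one_mul] at h1
        show (c 1 (t q) : F) = 1
        rw [mul_eq_left.1 h1.symm, Units.val_one]
      map_mul' := fun a a' => by
        show (c (a.1.1 * a'.1.1) (t q) : F) = _
        rw [hcmul' _ a.1.2 _ a'.1.2 (t q) (ht q), Units.val_mul] }
  have hψinj : Function.Injective ψ := fun q q' h => hdist (funext fun a => by
    have h1 := DFunLike.congr_fun h ⟨⟨a.1, hAR a.2⟩, a.2⟩
    exact congrArg (· * lam a.1) h1)
  have hdown : Fintype.card (R ⧸ A₀) ≤ Fintype.card (A₀ ⧸ Z₀) := by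
    have h1 : LinearIndependent F (fun q : R ⧸ A₀ => (ψ q : A₀ → F)) :=
      (linearIndependent_monoidHom A₀ F).comp ψ hψinj
    have hr' : ∀ q (a : A₀), ψ q a = ψ q (Quotient.out (QuotientGroup.mk a : A₀ ⧸ Z₀)) := by
      intro q a
      set a' := Quotient.out (QuotientGroup.mk a : A₀ ⧸ Z₀)
      have h1 : a'⁻¹ * a ∈ Z₀ := QuotientGroup.eq.1 (Quotient.out_eq' _)
      have h2 : ψ q (a'⁻¹ * a) = 1 := by
        have h3 : c (a'⁻¹ * a).1.1 (t q) = 1 := scHom_injective (ι := ι) (F := F) (by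
          rw [hc _ (a'⁻¹ * a).1.2 _ (ht q), map_one,
            (show (a'⁻¹ * a).1.1 * t q = t q * (a'⁻¹ * a).1.1 from scalar_comm' ((hzc _).1 h1) (t q)), mul_inv_cancel_right,
            mul_inv_cancel])
        show (c (a'⁻¹ * a).1.1 (t q) : F) = 1
        rw [h3, Units.val_one]
      conv_lhs => rw [← mul_inv_cancel_left a' a, map_mul, h2, mul_one]
    have h2 : LinearIndependent F (fun (q : R ⧸ A₀) (x : A₀ ⧸ Z₀) => ψ q (Quotient.out x)) := by
      rw [Fintype.linearIndependent_iff] at h1 ⊢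
      intro g hg
      refine h1 g (funext fun a => ?_)
      have h3 := congrFun hg (QuotientGroup.mk a)
      simp only [Finset.sum_apply, Pi.smul_apply, Pi.zero_apply] at h3 ⊢
      rw [← h3]
      exact Finset.sum_congr rfl fun q _ => by rw [hr']
    have h3 := h2.fintype_card_le_finrank
    rwa [Module.finrank_fintype_fun_eq_card] at h3
  rw [Subgroup.card_eq_card_quotient_mul_card_subgroup A₀, Subgroup.card_eq_card_quotient_mul_card_subgroup Z₀,
    Nat.card_congr (Subgroup.subgroupOfEquivOfLe hle).toEquiv, Nat.card_eq_fintype_card, Nat.card_eq_fintype_card,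
    le_antisymm hup hdown, hcardq]
  ring

/-- The group normalises a group of class six. -/
def ClassSix [Fintype F] (H : Subgroup (GL ι F)) : Prop :=
  ∃ (r : ℕ) (R : Subgroup (GL ι F)), IsLinearSymplecticTypeData r R ∧ IsSympNormal r H R ∧
    ∃ m, Fintype.card ι = r ^ m

/-- The group lies in a subfield group. -/
def SubfieldIn [Fintype F] (H : Subgroup (GL ι F)) : Prop :=
  ∃ (F₀ : Subfield F) (l : ℕ) (P : GL ι F), l.Prime ∧ Fintype.card F = Nat.card F₀ ^ l ∧ H ≤ subfieldSubgroup F₀ P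

/-- The three alternatives for a normal group of symplectic type. -/
theorem symp_cases [Fintype F] (h3 : 3 ≤ Fintype.card ι) (hR : IsSympNormal r H R) :
    ClassSix H ∨ SubfieldIn H ∨ InSim H := by
  classical
  have hr := hR.symp.prime
  obtain ⟨ζ, hζ⟩ := hR.root
  set e := r * Nat.gcd 2 r with he
  have hU : Nat.card Fˣ = Fintype.card F - 1 := by rw [Nat.card_units, Nat.card_eq_fintype_card]
  have hrU : r ∣ Nat.card Fˣ := by
    have h1 : orderOf ζ = r := hζ.eq_orderOf.symm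
    have h2 := (hζ.isUnit hr.ne_zero).unit_spec
    rw [← h1, ← h2, orderOf_units]
    exact orderOf_dvd_natCard _
  have hcase : r = 2 ∧ e = 4 ∨ Odd r ∧ e = r := by
    rcases hr.eq_two_or_odd' with h | h
    · exact Or.inl ⟨h, by rw [he, h]; rfl⟩
    · exact Or.inr ⟨h, by rw [he, (Nat.coprime_primes Nat.prime_two hr).2 (fun e => by rw [← e] at h; exact absurd h (by decide)), mul_one]⟩
  by_cases hdvd : e ∣ Nat.card Fˣ
  swap
  · -- too few roots of unity: a bilinear form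
    have hr2 : r = 2 := by
      rcases hcase with ⟨h, -⟩ | ⟨-, h⟩
      · exact h
      · exact absurd (h ▸ hrU) hdvd
    obtain ⟨G, hG, hfix⟩ := exists_fixed_form hR (RingEquiv.refl F) fun c hc => by
      rw [RingEquiv.refl_apply, ← Units.val_mul, ← pow_two]
      have h1 : c ^ Nat.gcd (Nat.card Fˣ) e = 1 := pow_gcd_eq_one.2 ⟨pow_card_eq_one', hc⟩
      have h2 : Nat.gcd (Nat.card Fˣ) e = 2 := by
        rcases hcase with ⟨-, he4⟩ | ⟨h, -⟩
        · rw [he4] at hdvd ⊢
          obtain ⟨k, hk, hk'⟩ := (Nat.dvd_prime_pow Nat.prime_two (m := 2)).1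
            (show Nat.gcd (Nat.card Fˣ) 4 ∣ 2 ^ 2 from Nat.gcd_dvd_right _ _)
          interval_cases k
          · exact absurd (Nat.dvd_gcd (hr2 ▸ hrU) (by norm_num : 2 ∣ 4)) (by rw [hk']; norm_num)
          · rw [hk', pow_one]
          · exact absurd (hk' ▸ Nat.gcd_dvd_left (Nat.card Fˣ) 4) (by simpa using hdvd)
        · exact absurd h (by rw [hr2]; decide)
      rw [h2] at h1
      rw [h1, Units.val_one]
    exact Or.inr (Or.inr (sim_of_bilinear (by omega) hR.abs hR.normalised hG hfix))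
  -- the degree of the minimal field
  obtain ⟨p, n, hp, hcp, hn0, hn⟩ := prime_card_pow (F := F)
  rw [Nat.card_eq_fintype_card] at hn
  haveI := Fact.mk hp
  have hrp : r ≠ p := fun h => hR.r_ne_zero (by rw [h]; exact CharP.cast_eq_zero F p)
  have he1 : 1 < e := by
    rcases hcase with ⟨-, h⟩ | ⟨-, h⟩
    · omega
    · rw [h]; exact hr.one_lt
  have hz : Nat.card (Subgroup.center R) = e := by rw [hR.card_center]; exact Nat.gcd_eq_right hdvd
  have hkey : ∀ d : ℕ, (p : ZMod e) ^ d = 1 ↔ e ∣ p ^ d - 1 := fun d => by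
    rw [← Nat.cast_pow, ← Nat.cast_one, ZMod.natCast_eq_natCast_iff,
      ← Nat.modEq_iff_dvd' (Nat.one_le_pow _ _ hp.pos)]
    exact ⟨Nat.ModEq.symm, Nat.ModEq.symm⟩
  have hpn : (p : ZMod e) ^ n = 1 := (hkey n).2 (by rwa [hU, hn] at hdvd)
  set e₀ := orderOf (p : ZMod e) with he₀
  have he₀n : e₀ ∣ n := orderOf_dvd_of_pow_eq_one hpn
  have he₀0 : 0 < e₀ := (orderOf_pos_iff.2 (isOfFinOrder_iff_pow_eq_one.2 ⟨n, hn0, hpn⟩))
  have hmin : ∀ d, 0 < d → d < e₀ → ¬ e ∣ p ^ d - 1 := fun d hd0 hd h =>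
    absurd (Nat.le_of_dvd hd0 (orderOf_dvd_of_pow_eq_one ((hkey d).2 h))) (not_le.2 hd)
  obtain ⟨⟨B, hB⟩, hcard⟩ := monomial hR hdvd
  rcases (Nat.le_of_dvd hn0 he₀n).lt_or_eq with hlt | heq
  · -- a smaller field
    let F₀ : Subfield F := RingHom.eqLocusField (powHom p e₀) (RingHom.id F)
    have hmem : ∀ x, x ∈ F₀ ↔ x ^ p ^ e₀ = x := fun x => by
      show powHom p e₀ x = x ↔ _
      rw [powHom_apply]
    have hF₀ : F₀ ≠ ⊤ := by
      intro htop
      have h1 := card_fixed_le (E := F) (p ^ e₀) (Nat.one_lt_pow he₀0.ne' hp.one_lt)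
      rw [Nat.card_congr (Equiv.subtypeUnivEquiv fun x => (hmem x).1 (htop ▸ Subfield.mem_top x)),
        Nat.card_eq_fintype_card, hn] at h1
      exact absurd h1 (not_le.2 (Nat.pow_lt_pow_right hp.one_lt hlt))
    obtain ⟨F₁, l, hl, hc, -, hle⟩ := le_subfield hR.abs hR.normalised hF₀ (B := B) fun x hx i j => by
      rcases hB x hx i j with h | h
      · rw [h]; exact zero_mem _
      · rw [hmem]
        obtain ⟨k, hk⟩ := (hkey e₀).1 (pow_orderOf_eq_one _)
        rw [show p ^ e₀ = e * k + 1 by have := Nat.one_le_pow e₀ _ hp.pos; omega, pow_succ, pow_mul, h, one_pow, one_mul]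
    exact Or.inr (Or.inl ⟨F₁, l, _, hl, hc, hle⟩)
  rcases Nat.even_or_odd e₀ with ⟨h, hh⟩ | hodd
  · -- a hermitian form
    obtain ⟨σ, hσ, hbar⟩ := exists_bar (F := F) (q := p ^ h) (by rw [hn, ← heq, hh, ← pow_mul, mul_comm, two_mul])
    have hu1 : ((p : ZMod e) ^ h) ^ 2 = 1 := by
      rw [← pow_mul, mul_comm, two_mul, ← hh]; exact pow_orderOf_eq_one _
    have hu2 : (p : ZMod e) ^ h ≠ 1 := fun h1 => by
      have := Nat.le_of_dvd (by omega : 0 < h) (orderOf_dvd_of_pow_eq_one h1)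
      rw [← he₀] at this
      omega
    have hu3 : (p : ZMod e) ^ h + 1 = 0 := by
      rcases hcase with ⟨-, he4⟩ | ⟨-, her⟩
      · have key : ∀ (m : ℕ) (_ : m = 4) (u : ZMod m), u ^ 2 = 1 → u ≠ 1 → u + 1 = 0 := by
          rintro m rfl; decide
        exact key e he4 _ hu1 hu2
      · haveI : Fact e.Prime := ⟨her ▸ hr⟩
        rcases sq_eq_one_iff.1 hu1 with h1 | h1
        · exact absurd h1 hu2
        · rw [h1, neg_add_cancel]
    obtain ⟨G, hG, hfix⟩ := exists_fixed_form hR σ fun c hc => by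
      rw [hσ, ← pow_succ', ← Units.val_pow_eq_pow_val]
      obtain ⟨k, hk⟩ := (ZMod.natCast_eq_zero_iff (p ^ h + 1) e).1 (by rw [Nat.cast_add, Nat.cast_pow, Nat.cast_one]; exact hu3)
      rw [hk, pow_mul, hc, one_pow, Units.val_one]
    exact Or.inr (Or.inr (sim_of_sesq hbar hR.abs hR.normalised hG hfix))
  -- class six
  haveI := Fact.mk hr
  obtain ⟨k, hk⟩ := IsPGroup.iff_card.1 hR.symp.pGroup
  obtain ⟨m, -, hm⟩ := (Nat.dvd_prime_pow hr).1 (show Fintype.card ι ∣ r ^ k by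
    rw [← hk, hcard, pow_two, ← mul_assoc]; exact dvd_mul_left _ _)
  refine Or.inl ⟨r, R, ⟨hR.symp, hR.abs, p, e₀, hrp, ⟨hp, hcp, by rw [hn, heq], ?_, fun d hd0 hd => ?_⟩, ?_⟩,
    hR, m, hm⟩
  · rw [hz]; exact (hkey e₀).1 (pow_orderOf_eq_one _)
  · rw [hz]; exact hmin d hd0 hd
  rcases hcase with ⟨hr2, he4⟩ | ⟨hrodd, her⟩
  · refine Or.inr (Or.inl ⟨hr2, ?_, by rw [hz, he4], ?_, m, ?_⟩)
    · have h2 : e₀ ∣ 2 := by
        refine orderOf_dvd_of_pow_eq_one ?_
        have key : ∀ (z : ℕ) (_ : z = 4) (u v : ZMod z), v * u = 1 → u ^ 2 = 1 := by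
          rintro z rfl; decide
        refine key e he4 _ ((p : ZMod e) ^ (e₀ - 1)) ?_
        rw [← pow_succ, Nat.sub_add_cancel he₀0]
        exact pow_orderOf_eq_one _
      rcases (Nat.dvd_prime Nat.prime_two).1 h2 with h | h
      · exact h
      · exact absurd (h ▸ hodd) (by decide)
    · rw [hm, hr2] at h3 ⊢
      rcases m with _ | _ | m
      · norm_num at h3
      · norm_num at h3
      · calc 4 = 2 ^ 2 := by norm_num
          _ ≤ 2 ^ (m + 1 + 1) := Nat.pow_le_pow_right (by norm_num) (by omega)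
    · rw [hcard, hz, he4, hm, hr2, ← pow_mul, pow_add, mul_comm m 2]; norm_num
  · refine Or.inl ⟨hrodd, hodd, by rw [hz, her], m, ?_, ?_⟩
    · rcases m with _ | m
      · rw [hm, pow_zero] at h3; omega
      · omega
    · rw [hcard, hz, her, hm, ← pow_mul, pow_add, pow_one, mul_comm m 2]

end Cfsg.Agent.Asch
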