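import Cfsg.Agent.Asch.FormPairs
import Cfsg.Agent.Asch.FormSlots
import Cfsg.Agent.Asch.SympCases
import Cfsg.Agent.Asch.Main

/-!
Tools for groups of isometries: scalars adjoined, congruent tensor factors, adjoints in a field,
and quadratic forms in characteristic two.
-/

set_option autoImplicit false
set_option linter.unusedSectionVars false

namespace Cfsg.Agent.Asch

open Matrix Cfsg.Geo Cfsg.Agent.PrimeDim
open scoped MatrixGroups Kronecker

variable {F : Type*} [Field F] [Finite F] {ι : Type} [Fintype ι] [DecidableEq ι]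

theorem normalised_sup {H N : Subgroup (GL ι F)} (hn : Normalised H N) :
    Normalised (H ⊔ scalars ι F) N := by
  haveI : (scalars ι F).Normal := inferInstance
  intro g hg x hx
  obtain ⟨a, ha, z, hz, rfl⟩ := Subgroup.mem_sup_of_normal_right.1 hg
  rw [show a * z * x * (a * z)⁻¹ = a * (z * x * z⁻¹) * a⁻¹ by group, scalar_comm' hz x, mul_inv_cancel_right]
  exact hn a ha x hx

/-- Absolute irreducibility passes to a group with the same elements modulo scalars. -/
theorem abs_of_scalar_mul {N N' : Subgroup (GL ι F)} (h : ∀ x ∈ N, ∃ a ∈ N', ∃ z ∈ scalars ι F, x = a * z)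
    (hN : ActsAbsolutelyIrreducibly (matrixSet N)) : ActsAbsolutelyIrreducibly (matrixSet N') := by
  obtain ⟨h1, h2⟩ := abs_iff.1 hN
  have key : ∀ x ∈ N, ∃ a ∈ N', ∃ c : F, mat x = c • mat a := fun x hx => by
    obtain ⟨a, ha, z, hz, rfl⟩ := h x hx
    obtain ⟨c, hc⟩ := (Cfsg.Geo.mem_scalars_iff z).1 hz
    refine ⟨a, ha, c, ?_⟩
    rw [show mat (a * z) = mat a * mat z from Units.val_mul _ _,
      show mat z = (c : F) • (1 : Matrix ι ι F) from hc, Matrix.mul_smul, mul_one]
  refine abs_iff.2 ⟨fun W hW => h1 W fun x hx v hv => ?_, fun A hA => h2 A fun x hx => ?_⟩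
  · obtain ⟨a, ha, c, hc⟩ := key x hx
    rw [hc, Matrix.smul_mulVec]
    exact W.smul_mem _ (hW a ha v hv)
  · obtain ⟨a, ha, c, hc⟩ := key x hx
    rw [hc, Matrix.mul_smul, Matrix.smul_mul, hA a ha]

theorem good_sup {H : Subgroup (GL ι F)} (hgood : Good H) : Good (H ⊔ scalars ι F) := by
  intro N hN hn hns
  haveI : (scalars ι F).Normal := inferInstance
  let N' : Subgroup (GL ι F) := (N ⊔ scalars ι F) ⊓ H
  have hN' : ∀ x ∈ N, ∃ a ∈ N', ∃ z ∈ scalars ι F, x = a * z := fun x hx => by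
    obtain ⟨a, ha, z, hz, rfl⟩ := Subgroup.mem_sup_of_normal_right.1 (hN hx)
    exact ⟨a, ⟨by simpa using mul_mem (Subgroup.mem_sup_left hx) (inv_mem (Subgroup.mem_sup_right hz)), ha⟩, z, hz, rfl⟩
  have hn' : Normalised H N' := by
    rintro g hg x ⟨hx, hxH⟩
    obtain ⟨y, hy, z, hz, rfl⟩ := Subgroup.mem_sup_of_normal_right.1 hx
    refine ⟨?_, H.mul_mem (H.mul_mem hg hxH) (H.inv_mem hg)⟩
    rw [show g * (y * z) * g⁻¹ = (g * y * g⁻¹) * (g * z * g⁻¹) by group]
    exact Subgroup.mul_mem _ (Subgroup.mem_sup_left (hn g (Subgroup.mem_sup_left hg) y hy))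
      (Subgroup.mem_sup_right (Subgroup.Normal.conj_mem inferInstance z hz g))
  have hns' : ¬ N' ≤ scalars ι F := fun h => hns fun x hx => by
    obtain ⟨a, ha, z, hz, rfl⟩ := hN' x hx
    exact mul_mem (h ha) hz
  refine abs_of_scalar_mul ?_ (hgood N' inf_le_right hn' hns')
  rintro x ⟨hx, -⟩
  obtain ⟨y, hy, z, hz, rfl⟩ := Subgroup.mem_sup_of_normal_right.1 hx
  exact ⟨y, hy, z, hz, rfl⟩

theorem irr_not_scalar {H : Subgroup (GL ι F)} (hH : Irr H) (hd : 2 ≤ Fintype.card ι) : ¬ H ≤ scalars ι F := by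
  classical
  intro hle
  obtain ⟨i⟩ : Nonempty ι := Fintype.card_pos_iff.1 (by omega)
  let W : Submodule F (ι → F) := Submodule.span F {Pi.single i (1 : F)}
  have hne : (Pi.single i (1 : F) : ι → F) ≠ 0 := by simp
  rcases hH W (fun g hg v hv => by
    obtain ⟨c, hc⟩ := (Cfsg.Geo.mem_scalars_iff g).1 (hle hg)
    rw [mat, hc, smul_one_mulVec]
    exact Submodule.smul_mem _ _ hv) with h1 | h1
  · exact hne ((Submodule.mem_bot F).1 (h1 ▸ Submodule.subset_span rfl))
  · have h3 : Module.finrank F W = 1 := finrank_span_singleton hne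
    rw [h1, finrank_top, Module.finrank_fintype_fun_eq_card] at h3
    omega

/-- An abelian-modulo-scalars normal subgroup gives a group of symplectic type inside `H` times the scalars. -/
theorem exists_symp_sup [Nonempty ι] {H N : Subgroup (GL ι F)} (hgood : Good H) (hle : N ≤ H) (hn : Normalised H N)
    (hns : ¬ N ≤ scalars ι F) (hcomm : ∀ x ∈ N, ∀ y ∈ N, x * y * x⁻¹ * y⁻¹ ∈ scalars ι F) :
    ∃ r R, IsSympNormal r (H ⊔ scalars ι F) R ∧ ∀ x ∈ R, ∃ a ∈ H, ∃ z ∈ scalars ι F, x = a * z := by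
  haveI : (scalars ι F).Normal := inferInstance
  obtain ⟨r, R, hR⟩ :=
    exists_symp le_sup_right (good_sup hgood) (hle.trans le_sup_left) (normalised_sup hn) hns hcomm
  refine ⟨r, R, hR, fun x hx => ?_⟩
  obtain ⟨a, ha, z, hz, rfl⟩ := Subgroup.mem_sup_of_normal_right.1 (hR.le hx)
  exact ⟨a, ha, z, hz, rfl⟩

section

variable {σ : F ≃+* F} {ε : F} {G : Matrix ι ι F} {H : Subgroup (GL ι F)}

theorem scalars_le_similarity : scalars ι F ≤ similarityGroup (formG σ G) := by
  intro z hz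
  obtain ⟨c, hc⟩ := (Cfsg.Geo.mem_scalars_iff z).1 hz
  refine ⟨c * Units.map σ.toRingHom.toMonoidHom c, fun u v => ?_⟩
  rw [show (z : Matrix ι ι F) = (c : F) • (1 : Matrix ι ι F) from hc, smul_one_mulVec, smul_one_mulVec,
    (isSesq_formG σ G).smul_left, (isSesq_formG σ G).smul_right, ← mul_assoc]
  rfl

theorem le_similarity_of_iso {H : Subgroup (GL ι F)} (hfix : Fixes σ H G) :
    H ≤ similarityGroup (formG σ G) :=
  fun g hg => ⟨1, fun u v => by rw [Units.val_one, one_mul]; exact iso_apply hfix hg u v⟩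

/-- Conjugate factors carry congruent forms. -/
theorem slots_uniform [Nonempty ι] {k : ℕ} {Qs : Fin k → Subgroup (GL ι F)} (hQ : IsFactors H Qs)
    (hG : IsRG σ ε G) (hN : Fixes σ H G) :
    ∃ (m : ℕ) (e : ι ≃ (Fin k → Fin m)) (P : GL ι F) (c s : F) (G₁ : Matrix (Fin m) (Fin m) F)
      (Q : Subgroup (GL ι F)) (X : Q → Matrix (Fin m) (Fin m) F),
      2 ≤ m ∧ H ≤ tensorWreathSubgroup m k e P ∧ c ≠ 0 ∧ G₁.det ≠ 0 ∧ G₁ᵀ = s • G₁.map σ ∧
      frG σ e P G = c • pureM (fun _ => G₁) ∧ ⁅Q, Q⁆ = Q ∧ ¬ Q ≤ scalars ι F ∧ Function.Injective X ∧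
      (∀ x y, X (x * y) = X x * X y) ∧ IrrFam X ∧ ∀ x, (X x)ᵀ * G₁ * (X x).map σ = G₁ := by
  classical
  obtain ⟨d, e, P, X, hd, hX, hirr⟩ := exists_slots hQ.commute hQ.abs
  have i₀ : Fin k := ⟨0, by have := hQ.two_le; omega⟩
  have hcardle := hQ.card_le
  obtain ⟨m, hm⟩ : ∃ m, ∀ i, d i = m := ⟨d i₀, fun i => by
    obtain ⟨g, hg, hij⟩ := hQ.transitive i i₀
    exact (exists_intertw hX hirr hij (hcardle _ _)).choose_spec.2.1⟩
  obtain rfl : d = fun _ => m := funext hm
  have hm0 : 0 < m := hd i₀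
  have hm2 : 2 ≤ m := by
    by_contra hcon
    obtain rfl : m = 1 := by omega
    haveI : Subsingleton ι := e.subsingleton
    obtain ⟨o⟩ := (inferInstance : Nonempty ι)
    refine hQ.nonscalar i₀ fun g _ => mem_scalars_of_smul (c := mat g o o) ?_
    ext a b
    rw [Subsingleton.elim a o, Subsingleton.elim b o]
    simp
  obtain ⟨c, Gs, hc, hfr, hGs⟩ := form_slots hQ.abs hX hirr hm0 hG fun g hg => hN g (iSup_le hQ.le hg)
  have hmul : ∀ i (x y : Qs i), X i (x * y) = X i x * X i y := fun i x y => by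
    refine slot_injective hd i ((frM e P).injective ?_)
    rw [hX, ← slot_mul_slot, map_mul, hX, hX, Subgroup.coe_mul]
    exact Units.val_mul _ _
  have hu : ∀ i (x : Qs i), IsUnit (X i x) := by
    intro i x
    have h1 : X i x * X i x⁻¹ = 1 := slot_injective hd i ((frM e P).injective (by
      rw [← slot_mul_slot, map_mul, hX, hX, slot_one, map_one]
      exact mat_mul_inv x.1))
    exact (Matrix.isUnit_iff_isUnit_det _).2 (Matrix.isUnit_det_of_right_inverse h1)
  have hsc : ∀ (A : Matrix (Fin m) (Fin m) F), (∀ x, A * X i₀ x = X i₀ x * A) → ∃ c : F, A = c • 1 := by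
    intro A hA
    obtain ⟨l, hl⟩ := (abs_iff.1 hQ.abs).2 (frM e P (slot (d := fun _ : Fin k => m) i₀ A)) fun g hg => by
      have hle : (⨆ j, Qs j : Subgroup (GL ι F)) ≤ commG (frM e P (slot (d := fun _ : Fin k => m) i₀ A)) :=
        iSup_le fun j x hx => by
          show Commute _ (mat x)
          rw [← hX j ⟨x, hx⟩]
          refine Commute.map ?_ (frM e P)
          rcases eq_or_ne i₀ j with rfl | hij
          · show _ = _
            rw [slot_mul_slot, slot_mul_slot, hA]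
          · exact slot_commute hij _ _
      exact (hle hg : Commute _ _)
    refine ⟨l, ?_⟩
    have h1 : slot (d := fun _ : Fin k => m) i₀ A = l • (1 : Matrix _ _ F) :=
      (frM e P).injective (by rw [hl, map_smul, map_one])
    ext a b
    have h2 := congrFun (congrFun h1 (Function.update (fun _ => ⟨0, hm0⟩) i₀ a))
      (Function.update (fun _ => ⟨0, hm0⟩) i₀ b)
    simp only [slot, Matrix.of_apply, Function.update_self, Matrix.smul_apply, Matrix.one_apply] at h2
    rw [if_pos fun j hj => by rw [Function.update_of_ne hj, Function.update_of_ne hj]] at h2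
    rw [h2, Matrix.smul_apply, Matrix.one_apply]
    congr 1
    exact if_congr ⟨fun h => by simpa using congrFun h i₀, fun h => by rw [h]⟩ rfl rfl
  have hcong : ∀ i, ∃ (U : GL (Fin m) F) (l : F), act σ (Gs i) (mat U) = l • Gs i₀ := by
    intro i
    obtain ⟨g, hg, hij⟩ := hQ.transitive i₀ i
    obtain ⟨α, hα0, -, hα⟩ := exists_intertw hX hirr hij (hcardle _ _)
    have hαu : IsUnit α := by
      refine isUnit_of_schur (hirr i₀) (b := fun x : Qs i₀ => X i ⟨g * x.1 * g⁻¹, hij _ x.2⟩) ?_ hα0 hα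
      intro W hW
      refine hirr i W fun y v hv => ?_
      have h1 : (Qs i₀).map (MulAut.conj g).toMonoidHom = Qs i := Subgroup.eq_of_le_of_card_ge
        (by rintro _ ⟨x, hx, rfl⟩; exact hij x hx)
        ((hcardle _ _).trans (Nat.card_congr ((Qs i₀).equivMapOfInjective _ (MulAut.conj g).injective).toEquiv).le)
      obtain ⟨x, hx, hxy⟩ := (h1.ge y.2 : y.1 ∈ (Qs i₀).map _)
      rw [← (Subtype.ext hxy : (⟨g * x * g⁻¹, hij x hx⟩ : Qs i) = y)]
      exact hW ⟨x, hx⟩ v hv
    obtain ⟨l, hl⟩ := form_scalar (hu i₀) hsc (hGs i₀).1 (hGs i₀).2.1 (Y := act σ (Gs i) α) fun x => by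
      rw [show (X i₀ x)ᵀ * act σ (Gs i) α * (X i₀ x).map σ = act σ (act σ (Gs i) α) (X i₀ x) from rfl, ← act_mul,
        ← hα x, act_mul]
      congr 1
      exact (hGs i).2.1 _
    exact ⟨hαu.unit, l, hl⟩
  choose U l hl using hcong
  obtain ⟨s, hs⟩ := (hGs i₀).2.2
  have hUmem : pureU U ∈ tensorWreathStandard m k F := Subgroup.subset_closure (Or.inl ⟨U, fun _ _ => rfl⟩)
  have hfr' : frG σ e (fr e P (pureU U) * P) G = (c * ∏ i, l i) • pureM fun _ : Fin k => Gs i₀ := by
    rw [frG_change, hfr, show mat (pureU U) = pureM fun i => mat (U i) from rfl, act_pureM, ← smul_smul]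
    congr 1
    ext x y
    simp [pureM, hl, Finset.prod_mul_distrib]
  have hl0 : ∏ i, l i ≠ 0 := Finset.prod_ne_zero_iff.2 fun i _ e0 => by
    haveI : Nonempty (Fin m) := ⟨⟨0, hm0⟩⟩
    have h1 := hl i
    rw [e0, zero_smul] at h1
    have hd' : (act σ (Gs i) (mat (U i))).det ≠ 0 := by
      have hd := ((Matrix.isUnit_iff_isUnit_det _).1 (U i).isUnit).ne_zero
      rw [det_act]
      exact mul_ne_zero (mul_ne_zero hd (hGs i).1) ((map_ne_zero σ).2 hd)
    exact ne_zero_of_det hd' h1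
  refine ⟨m, e, _, _, s, Gs i₀, Qs i₀, X i₀, hm2, wreath_change hUmem (wreath_of_slots hQ hm0 hX hirr),
    mul_ne_zero hc hl0, (hGs i₀).1, hs, hfr', hQ.perfect i₀, hQ.nonscalar i₀, fun x y h => ?_, hmul i₀, hirr i₀,
    (hGs i₀).2.1⟩
  refine Subtype.ext (Units.ext ?_)
  show mat x.1 = mat y.1
  rw [← hX i₀ x, ← hX i₀ y, h]

end

/-- The adjoint map of a field for a bilinear form. -/
theorem adj_field_cases {ε : F} {G : Matrix ι ι F} (hG : IsRG (RingEquiv.refl F) ε G) {r : ℕ}
    {K : Subalgebra F (Matrix ι ι F)} (hr : r.Prime) (hK : IsFieldSubalgebra r K)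
    (hadj : IsAdjointClosedFor (formG (RingEquiv.refl F) G) K) :
    IsSelfAdjointFor (formG (RingEquiv.refl F) G) K ∨
      (r = 2 ∧ ∀ x ∈ K, (∀ u v, formG (RingEquiv.refl F) G (x *ᵥ u) v = formG (RingEquiv.refl F) G u (x *ᵥ v)) →
        ∃ a : F, x = a • 1) := by
  classical
  have hs := isSesq_formG (RingEquiv.refl F) G
  let Adj : Matrix ι ι F → Matrix ι ι F → Prop := fun x y =>
    ∀ u v, formG (RingEquiv.refl F) G (x *ᵥ u) v = formG (RingEquiv.refl F) G u (y *ᵥ v)
  have hadd : ∀ {x y x' y'}, Adj x y → Adj x' y' → Adj (x + x') (y + y') := fun h h' u v => by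
    rw [Matrix.add_mulVec, Matrix.add_mulVec, hs.add_left, hs.add_right, h, h']
  have hsm : ∀ (c : F) {x y}, Adj x y → Adj (c • x) (c • y) := fun c x y h u v => by
    rw [Matrix.smul_mulVec, Matrix.smul_mulVec, hs.smul_left, hs.smul_right, RingEquiv.refl_apply, h]
  have hneg : ∀ {x y}, Adj x y → Adj (-x) (-y) := fun {x y} h => by
    rw [← neg_one_smul F x, ← neg_one_smul F y]; exact hsm _ h
  have hsub : ∀ {x y x' y'}, Adj x y → Adj x' y' → Adj (x - x') (y - y') := fun h h' => by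
    rw [sub_eq_add_neg, sub_eq_add_neg]; exact hadd h (hneg h')
  have hmul : ∀ {x y x' y'}, Adj x y → Adj x' y' → Adj (x * x') (y' * y) := fun h h' u v => by
    rw [← Matrix.mulVec_mulVec, ← Matrix.mulVec_mulVec, h, h']
  have huniq : ∀ {x y y'}, Adj x y → Adj x y' → y = y' := fun h h' => adj_unique hG fun u v => by rw [← h, h']
  by_cases hid : ∀ x ∈ K, Adj x x
  · exact Or.inl hid
  push Not at hid
  obtain ⟨θ, hθK, hθ⟩ := hid
  right
  obtain ⟨θ', hθ'K, hθθ'⟩ := hadj θ hθK
  replace hθθ' : Adj θ θ' := hθθ'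
  have hd : θ - θ' ≠ 0 := fun e => hθ (by rw [← sub_eq_zero.1 e] at hθθ'; exact hθθ')
  have hdd : Adj (θ - θ') (θ' - θ) := hsub hθθ' (adj_symm hG hθθ')
  obtain ⟨η, hηK, hη⟩ := hK.inv _ (sub_mem hθK hθ'K) hd
  have hη' : η * (θ - θ') = 1 := by rw [hK.comm η hηK _ (sub_mem hθK hθ'K)]; exact hη
  have hηη : Adj η (-η) := by
    obtain ⟨η₁, hη₁K, h1⟩ := hadj η hηK
    have h2 : η₁ * (θ' - θ) = 1 := huniq (hmul hdd h1) (fun u v => by rw [hη, Matrix.one_mulVec, Matrix.one_mulVec])
    suffices η₁ = -η by rwa [this] at h1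
    calc η₁ = η₁ * ((θ' - θ) * -η) := by rw [mul_neg, ← neg_mul, neg_sub, hη, mul_one]
      _ = -η := by rw [← mul_assoc, h2, one_mul]
  let S : Submodule F (Matrix ι ι F) :=
    { carrier := {x | x ∈ K ∧ Adj x x}
      zero_mem' := ⟨zero_mem K, fun u v => by simp [formG_zero_right]; simp [formG]⟩
      add_mem' := fun {x y} hx hy => ⟨add_mem hx.1 hy.1, hadd hx.2 hy.2⟩
      smul_mem' := fun c x hx => ⟨Subalgebra.smul_mem K hx.1 c, hsm c hx.2⟩ }
  have hθu : IsUnit θ := by
    obtain ⟨y, -, hy⟩ := hK.inv θ hθK fun e => hθ (by rw [e]; intro u v; simp [formG_zero_right]; simp [formG])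
    exact (Matrix.isUnit_iff_isUnit_det _).2 (Matrix.isUnit_det_of_right_inverse hy)
  have hinj : Function.Injective (LinearMap.mulRight F θ) := fun x y e => hθu.mul_right_cancel e
  have hsup : S ⊔ S.map (LinearMap.mulRight F θ) = Subalgebra.toSubmodule K := by
    refine le_antisymm (sup_le (fun x hx => hx.1) ?_) fun x hx => ?_
    · rintro _ ⟨x, hx, rfl⟩
      exact K.mul_mem hx.1 hθK
    obtain ⟨y, hy, hxy⟩ := hadj x hx
    replace hxy : Adj x y := hxy
    have hbK : (x - y) * η ∈ K := mul_mem (sub_mem hx hy) hηK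
    have hb : Adj ((x - y) * η) ((x - y) * η) := by
      have h1 := hmul (hsub hxy (adj_symm hG hxy)) hηη
      rwa [neg_mul, hK.comm η hηK _ (sub_mem hy hx), ← neg_mul, neg_sub] at h1
    have ha : Adj (x - (x - y) * η * θ) (x - (x - y) * η * θ) := by
      have h1 := hsub hxy (hmul hb hθθ')
      rw [hK.comm θ' hθ'K _ hbK] at h1
      have e : x - (x - y) * η * θ = y - (x - y) * η * θ' := by
        rw [sub_eq_sub_iff_sub_eq_sub, ← mul_sub, mul_assoc, hη', mul_one]
      rw [← e] at h1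
      exact h1
    rw [show x = (x - (x - y) * η * θ) + (x - y) * η * θ by abel]
    exact Submodule.add_mem_sup ⟨sub_mem hx (mul_mem hbK hθK), ha⟩ ⟨_, ⟨hbK, hb⟩, rfl⟩
  have hinf : S ⊓ S.map (LinearMap.mulRight F θ) = ⊥ := by
    rw [eq_bot_iff]
    rintro _ ⟨hx, b, hb, rfl⟩
    have h1 : b * θ = θ' * b := huniq hx.2 (hmul hb.2 hθθ')
    rw [hK.comm θ' hθ'K b hb.1, ← sub_eq_zero, ← mul_sub] at h1
    have hb0 : b = 0 := by
      have h3 := congrArg (· * η) h1
      simpa [mul_assoc, hη] using h3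
    rw [hb0, map_zero]
    exact zero_mem _
  have hrank := Submodule.finrank_sup_add_finrank_inf_eq S (S.map (LinearMap.mulRight F θ))
  rw [hsup, hinf, finrank_bot, ← (Submodule.equivMapOfInjective _ hinj S).finrank_eq,
    show Module.finrank F (Subalgebra.toSubmodule K) = r from hK.finrank_eq, add_zero] at hrank
  have hr2 : r = 2 := ((Nat.prime_dvd_prime_iff_eq Nat.prime_two hr).1 ⟨Module.finrank F S, by omega⟩).symm
  refine ⟨hr2, fun x hx hxs => ?_⟩
  have h1ne : (⟨1, one_mem K, fun u v => by rw [Matrix.one_mulVec, Matrix.one_mulVec]⟩ : S) ≠ 0 := fun e => by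
    have e' : (1 : Matrix ι ι F) = 0 := congrArg Subtype.val e
    exact hd (by rw [← one_mul (θ - θ'), e', zero_mul])
  have hS1 : Module.finrank F S = 1 := by omega
  obtain ⟨a, ha⟩ := (finrank_eq_one_iff_of_nonzero' _ h1ne).1 hS1 ⟨x, hx, hxs⟩
  exact ⟨a, (congrArg Subtype.val ha).symm⟩

/-! Characteristic two. -/

theorem exists_sqrt (h2 : (2 : F) = 0) (x : F) : ∃ y, y * y = x := by
  haveI : CharP F 2 := CharTwo.of_one_ne_zero_of_two_eq_zero one_ne_zero h2
  obtain ⟨y, hy⟩ := (Finite.injective_iff_surjective (f := frobenius F 2)).1 (frobenius_inj F 2) x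
  exact ⟨y, by rw [← hy, frobenius_def, pow_two]⟩

/-- An additive function homogeneous of degree two is zero if zero on a basis. -/
theorem sq_additive_ext {κ : Type} [Fintype κ] [DecidableEq κ] (D : (κ → F) → F)
    (hadd : ∀ u v, D (u + v) = D u + D v) (hsm : ∀ (c : F) v, D (c • v) = c ^ 2 * D v)
    (h : ∀ i, D (Pi.single i 1) = 0) (v : κ → F) : D v = 0 := by
  rw [pi_eq_sum_univ' v]
  show AddMonoidHom.mk' D hadd _ = 0
  rw [map_sum]
  refine Finset.sum_eq_zero fun i _ => ?_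
  show D _ = 0
  rw [hsm, h, mul_zero]

/-- An additive function homogeneous of degree two with invariant kernel is zero. -/
theorem sq_additive_zero (h2 : (2 : F) = 0) {κ : Type} [Fintype κ] [DecidableEq κ] (hκ : 2 ≤ Fintype.card κ)
    {γ : Type*} {a : γ → Matrix κ κ F} (ha : IrrFam a) (D : (κ → F) → F) (hadd : ∀ u v, D (u + v) = D u + D v)
    (hsm : ∀ (c : F) v, D (c • v) = c ^ 2 * D v) (hinv : ∀ g v, D v = 0 → D (a g *ᵥ v) = 0) (v : κ → F) :
    D v = 0 := by
  let W : Submodule F (κ → F) :=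
    { carrier := {v | D v = 0}
      add_mem' := fun {u v} hu hv => by
        show D (u + v) = 0
        rw [hadd, hu, hv, add_zero]
      zero_mem' := by
        show D 0 = 0
        simpa using hsm 0 0
      smul_mem' := fun c v hv => by
        show D (c • v) = 0
        rw [hsm, hv, mul_zero] }
  rcases ha W hinv with e | e
  swap
  · exact (e ▸ Submodule.mem_top : v ∈ W)
  exfalso
  obtain ⟨i, j, hij⟩ := Fintype.one_lt_card_iff.1 (show 1 < Fintype.card κ by omega)
  obtain ⟨x, hx⟩ := exists_sqrt h2 (D (Pi.single j 1))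
  obtain ⟨y, hy⟩ := exists_sqrt h2 (D (Pi.single i 1))
  by_cases h0 : x = 0
  · have hmem : (Pi.single j 1 : κ → F) ∈ W := by
      show D _ = 0
      rw [← hx, h0, mul_zero]
    rw [e, Submodule.mem_bot] at hmem
    simpa using congrFun hmem j
  · have hmem : (x • Pi.single i 1 + y • Pi.single j 1 : κ → F) ∈ W := by
      show D _ = 0
      rw [hadd, hsm, hsm, ← hx, ← hy]
      linear_combination (x * x * y * y) * h2
    rw [e, Submodule.mem_bot] at hmem
    exact h0 (by simpa [hij] using congrFun hmem i)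

/-- A quadratic form with the given polar form, fixed by the group. -/
def QuadMember (G : Matrix ι ι F) (H : Subgroup (GL ι F)) : Prop :=
  ∃ Q : (ι → F) → F, (2 : F) = 0 ∧ IsNondegenerateQuadraticForm Q ∧
    (∀ u v, QuadraticMap.polar Q u v = formG (RingEquiv.refl F) G u v) ∧ ∀ g ∈ H, ∀ v, Q (mat g *ᵥ v) = Q v

theorem quad_member_of (h2 : (2 : F) = 0) {G : Matrix ι ι F} {H : Subgroup (GL ι F)}
    (hG : IsRG (RingEquiv.refl F) (-1) G) (hfix : Fixes (RingEquiv.refl F) H G) (Q : (ι → F) → F)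
    (hsm : ∀ (c : F) v, Q (c • v) = c ^ 2 * Q v)
    (hpol : ∀ u v, QuadraticMap.polar Q u v = formG (RingEquiv.refl F) G u v)
    (hinv : ∀ g ∈ H, ∀ i, Q (mat g *ᵥ Pi.single i 1) = Q (Pi.single i 1)) : QuadMember G H := by
  have hs := isSesq_formG (RingEquiv.refl F) G
  have hp : QuadraticMap.polar Q = formG (RingEquiv.refl F) G := funext fun u => funext (hpol u)
  refine ⟨Q, h2, ⟨hsm, hp ▸ ⟨hs.add_left, hs.smul_left, hs.add_right, fun c v x => hs.smul_right c v x⟩,
    fun v hv => ?_⟩, hpol, fun g hg v => ?_⟩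
  · rw [hp]
    refine ⟨?_, ?_⟩
    · by_contra hcon
      push Not at hcon
      exact hv (hG.nondeg_right hcon)
    · by_contra hcon
      push Not at hcon
      exact hv (nondeg_left (σ := RingEquiv.refl F) hG.det hcon)
  · have hadd : ∀ u w, Q (mat g *ᵥ (u + w)) - Q (u + w) =
        (Q (mat g *ᵥ u) - Q u) + (Q (mat g *ᵥ w) - Q w) := fun u w => by
      have h1 := hpol (mat g *ᵥ u) (mat g *ᵥ w)
      rw [iso_apply hfix hg, ← hpol u w, QuadraticMap.polar, QuadraticMap.polar, ← Matrix.mulVec_add] at h1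
      linear_combination h1
    exact sub_eq_zero.1 (sq_additive_ext (fun w => Q (mat g *ᵥ w) - Q w) hadd
      (fun c w => by rw [Matrix.mulVec_smul, hsm, hsm]; ring) (fun i => sub_eq_zero.2 (hinv g hg i)) v)

/-- A quadratic form from a map whose symmetrisation is the identity. -/
theorem quad_of_idem (h2 : (2 : F) = 0) {G : Matrix ι ι F} {H : Subgroup (GL ι F)}
    (hG : IsRG (RingEquiv.refl F) (-1) G) (halt : ∀ v, formG (RingEquiv.refl F) G v v = 0)
    (hfix : Fixes (RingEquiv.refl F) H G) (T : Matrix ι ι F)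
    (hT : ∀ u v, formG (RingEquiv.refl F) G (T *ᵥ u) v + formG (RingEquiv.refl F) G (T *ᵥ v) u =
      formG (RingEquiv.refl F) G u v)
    (hinv : ∀ g ∈ H, T * mat g = mat g * T ∨ T * mat g = mat g * (1 - T)) : QuadMember G H := by
  have hs := isSesq_formG (RingEquiv.refl F) G
  refine quad_member_of h2 hG hfix (fun v => formG (RingEquiv.refl F) G (T *ᵥ v) v) (fun c v => ?_) (fun u v => ?_)
    fun g hg i => ?_
  · rw [Matrix.mulVec_smul, hs.smul_left, hs.smul_right, RingEquiv.refl_apply]; ring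
  · simp only [QuadraticMap.polar, Matrix.mulVec_add, hs.add_left, hs.add_right]
    rw [← hT u v]; ring
  · rw [Matrix.mulVec_mulVec]
    rcases hinv g hg with h | h <;> rw [h, ← Matrix.mulVec_mulVec, iso_apply hfix hg]
    rw [Matrix.sub_mulVec, Matrix.one_mulVec, sub_eq_add_neg, ← neg_one_smul F, hs.add_left, hs.smul_left, halt]
    linear_combination (-formG (RingEquiv.refl F) G (T *ᵥ Pi.single i 1) (Pi.single i 1)) * h2

/-- A quadratic form from a matrix in a frame. -/
theorem quad_of_tri (h2 : (2 : F) = 0) {G : Matrix ι ι F} {H : Subgroup (GL ι F)}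
    (hG : IsRG (RingEquiv.refl F) (-1) G) (hfix : Fixes (RingEquiv.refl F) H G) {κ : Type} [Fintype κ] [DecidableEq κ]
    (e : ι ≃ κ) (P : GL ι F) (U : Matrix κ κ F) (hU : U + Uᵀ = frG (RingEquiv.refl F) e P G)
    (hinv : ∀ g ∈ H.comap (fr e P).toMonoidHom, ∀ a : κ,
      (mat g *ᵥ Pi.single a 1) ⬝ᵥ (U *ᵥ (mat g *ᵥ Pi.single a 1)) = U a a) : QuadMember G H := by
  let q : (κ → F) → F := fun x => x ⬝ᵥ (U *ᵥ x)
  let L := (frL e P).symm
  have hqs : ∀ (c : F) x, q (c • x) = c ^ 2 * q x := fun c x => by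
    simp only [q, Matrix.mulVec_smul, dotProduct_smul, smul_dotProduct, smul_eq_mul]; ring
  have hqp : ∀ x y, q (x + y) - q x - q y = formG (RingEquiv.refl F) (frG (RingEquiv.refl F) e P G) x y := by
    intro x y
    show _ = x ⬝ᵥ (frG (RingEquiv.refl F) e P G *ᵥ y)
    rw [← hU, Matrix.add_mulVec, dotProduct_add]
    have e1 : x ⬝ᵥ (Uᵀ *ᵥ y) = y ⬝ᵥ (U *ᵥ x) := by
      rw [Matrix.mulVec_transpose, dotProduct_comm, ← Matrix.dotProduct_mulVec]
    simp only [q, Matrix.mulVec_add, dotProduct_add, add_dotProduct, e1]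
    ring
  have hinv' : ∀ g ∈ H.comap (fr e P).toMonoidHom, ∀ x, q (mat g *ᵥ x) = q x := fun g hg x => by
    have hf := fixes_comap e P hfix
    refine sub_eq_zero.1 (sq_additive_ext (fun w => q (mat g *ᵥ w) - q w) (fun u w => ?_)
      (fun c w => by rw [Matrix.mulVec_smul, hqs, hqs]; ring) (fun a => ?_) x)
    · have h1 := hqp (mat g *ᵥ u) (mat g *ᵥ w)
      rw [iso_apply hf hg, ← hqp u w, ← Matrix.mulVec_add] at h1
      linear_combination h1
    · refine sub_eq_zero.2 ((hinv g hg a).trans ?_)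
      simp [q, Matrix.mulVec_single_one]
  refine quad_member_of h2 hG hfix (fun v => q (L v)) (fun c v => by rw [map_smul, hqs]) (fun u v => ?_) fun g hg i => ?_
  · rw [QuadraticMap.polar, map_add, hqp, formG_frL, LinearEquiv.apply_symm_apply, LinearEquiv.apply_symm_apply]
  · obtain ⟨g', rfl⟩ := (fr e P).surjective g
    have hL : L (mat (fr e P g') *ᵥ Pi.single i 1) = mat g' *ᵥ L (Pi.single i 1) := (frL e P).injective (by
      rw [← fr_mulVec, LinearEquiv.apply_symm_apply, LinearEquiv.apply_symm_apply])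
    show q (L _) = q (L _)
    rw [hL]
    exact hinv' g' hg _

/-- Equal Kronecker products have proportional factors. -/
theorem kron_prop {d k : ℕ} {A A' : Matrix (Fin d) (Fin d) F} {B B' : Matrix (Fin k) (Fin k) F} (hA : A ≠ 0)
    (hB : B ≠ 0) (h : A' ⊗ₖ B' = A ⊗ₖ B) : ∃ a b : F, a * b = 1 ∧ A' = a • A ∧ B' = b • B := by
  obtain ⟨i, i', hi⟩ : ∃ i i', A i i' ≠ 0 := by
    by_contra hcon; push Not at hcon; exact hA (Matrix.ext hcon)
  obtain ⟨j, j', hj⟩ : ∃ j j', B j j' ≠ 0 := by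
    by_contra hcon; push Not at hcon; exact hB (Matrix.ext hcon)
  have key : ∀ x x' y y', A' x x' * B' y y' = A x x' * B y y' := fun x x' y y' =>
    congrFun (congrFun h (x, y)) (x', y')
  have h0 : A' i i' * B' j j' ≠ 0 := key i i' j j' ▸ mul_ne_zero hi hj
  have hA0 := left_ne_zero_of_mul h0
  have hB0 := right_ne_zero_of_mul h0
  refine ⟨B j j' / B' j j', A i i' / A' i i', ?_, ?_, ?_⟩
  · rw [div_mul_div_comm, mul_comm (B j j'), mul_comm (B' j j'), key, div_self (mul_ne_zero hi hj)]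
  · ext x x'
    rw [Matrix.smul_apply, smul_eq_mul]
    field_simp
    linear_combination key x x' j j'
  · ext y y'
    rw [Matrix.smul_apply, smul_eq_mul]
    field_simp
    linear_combination key i i' y y'

end Cfsg.Agent.Asch
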