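import Cfsg.Agent.Asch.FormFrame

/-!
Clifford theory for a normal subgroup of a group of isometries: paired blocks, a field closed under adjoints,
a tensor decomposition of the form, or absolute irreducibility.
-/

set_option autoImplicit false
set_option linter.unusedSectionVars false

namespace Cfsg.Agent.Asch

open Matrix Cfsg.Geo Cfsg.Agent.PrimeDim
open scoped MatrixGroups Kronecker

variable {F : Type*} [Field F] [Finite F]

/-- Matrices commuting with an irreducible family commute with each other. -/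
theorem comm_of_irr {m : Type} [Fintype m] [DecidableEq m] [Nonempty m] {γ : Type*} {a : γ → Matrix m m F}
    (ha : IrrFam a) {A B : Matrix m m F} (hA : ∀ g, A * a g = a g * A) (hB : ∀ g, B * a g = a g * B) :
    A * B = B * A := by
  let C : Subalgebra F (Matrix m m F) :=
    { carrier := {A | ∀ g, A * a g = a g * A}
      mul_mem' := fun {A B} hA hB g => by rw [mul_assoc, hB g, ← mul_assoc, hA g, mul_assoc]
      add_mem' := fun {A B} hA hB g => by rw [add_mul, mul_add, hA g, hB g]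
      algebraMap_mem' := fun c g => Algebra.commutes c (a g) }
  haveI : NoZeroDivisors C := ⟨fun {A B} hAB => by
    by_cases hA : (A : Matrix m m F) = 0
    · exact Or.inl (Subtype.ext hA)
    · refine Or.inr (Subtype.ext ((isUnit_of_schur ha ha hA fun g => (A.2 g).symm).mul_left_cancel ?_))
      rw [ZeroMemClass.coe_zero, mul_zero]
      exact congrArg Subtype.val hAB⟩
  haveI : IsDomain C := NoZeroDivisors.to_isDomain C
  haveI : Finite C := Subtype.finite
  exact congrArg Subtype.val ((Finite.isDomain_to_isField C).mul_comm (⟨A, hA⟩ : C) ⟨B, hB⟩)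

section

variable {d k : ℕ} {N H : Subgroup (GL (Fin d × Fin k) F)}
  {a : Fin k → GL (Fin d × Fin k) F → Matrix (Fin d) (Fin d) F}

theorem blk_mul (X Y : Matrix (Fin d × Fin k) (Fin d × Fin k) F) (i l : Fin k) :
    blk (X * Y) i l = ∑ j, blk X i j * blk Y j l := by
  ext p q
  simp only [blk_apply, Matrix.mul_apply, Matrix.sum_apply, Fintype.sum_prod_type]
  rw [Finset.sum_comm]

theorem blk_act {σ : F ≃+* F} (G : Matrix (Fin d × Fin k) (Fin d × Fin k) F) (b : Fin k → Matrix (Fin d) (Fin d) F)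
    (j l : Fin k) : blk (act σ G (blockDiagonal b)) j l = (b j)ᵀ * blk G j l * (b l).map σ := by
  rw [act, blockDiagonal_transpose, blockDiagonal_map _ _ (map_zero σ), blk_mul_bd, blk_bd_mul]

theorem isUnit_fr (hb : IsBlockFrame N a) (j : Fin k) {g : GL (Fin d × Fin k) F} (hg : g ∈ N) : IsUnit (a j g) := by
  have h1 := congrArg (fun X => blk X j j) (mat_mul_inv g)
  rw [hb.block g hg, hb.block _ (inv_mem hg)] at h1
  simp only [blk_bd_mul, blk_bd, if_true] at h1
  have h2 : a j g * a j g⁻¹ = 1 := by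
    rw [h1]; ext p q; simp [blk, Matrix.one_apply]
  exact (Matrix.isUnit_iff_isUnit_det _).2 (Matrix.isUnit_det_of_right_inverse h2)

variable {σ : F ≃+* F} {ε : F} {G : Matrix (Fin d × Fin k) (Fin d × Fin k) F}

theorem blk_fixed (hb : IsBlockFrame N a) (hN : Fixes σ N G) (j l : Fin k) (g : N) :
    (a j g.1)ᵀ * blk G j l * (a l g.1).map σ = blk G j l := by
  have h1 := congrArg (fun X => blk X j l) (hN g.1 g.2)
  rwa [hb.block g.1 g.2, blk_act] at h1

theorem det_blk_fixed (hb : IsBlockFrame N a) (hN : Fixes σ N G) {j l : Fin k} (hne : blk G j l ≠ 0) :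
    (blk G j l).det ≠ 0 :=
  det_block (a := fun g : N => a j g) (b := fun g : N => a l g) (hb.irr l) (fun g => isUnit_fr hb j g.2) hne
    (blk_fixed hb hN j l)

/-- The block on the other side of the diagonal. -/
theorem blk_swap (hG : IsRG σ ε G) (j l : Fin k) : (blk G j l)ᵀ = ε • (blk G l j).map σ := by
  ext p q
  exact congrFun (congrFun hG.symm (p, l)) (q, j)

/-- Blocks paired with the same class are in one class. -/
theorem pair_eq (hb : IsBlockFrame N a) (hN : Fixes σ N G) {j j' l l' : Fin k} (h1 : blk G j l ≠ 0)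
    (h2 : blk G j' l' ≠ 0) (hl : ∀ g ∈ N, a l g = a l' g) : ∀ g ∈ N, a j g = a j' g := by
  obtain ⟨X, hX⟩ := isUnit_of_det (det_blk_fixed hb hN h1)
  obtain ⟨Y, hY⟩ := isUnit_of_det (det_blk_fixed hb hN h2)
  set T : Matrix (Fin d) (Fin d) F := ((Y : Matrix (Fin d) (Fin d) F) * (↑X⁻¹ : Matrix (Fin d) (Fin d) F))ᵀ with hT
  have hT0 : T ≠ 0 := fun e => h2 (by
    rw [hT, Matrix.transpose_eq_zero] at e
    rw [← hY, ← mul_one (Y : Matrix (Fin d) (Fin d) F), ← Units.inv_mul X, ← mul_assoc, e, zero_mul])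
  refine hb.reduced j j' T hT0 fun g hg => ?_
  have e1 := blk_fixed hb hN j l ⟨g, hg⟩
  have e2 := blk_fixed hb hN j' l' ⟨g, hg⟩
  simp only [← hX, ← hY, ← hl g hg] at e1 e2
  have hS : IsUnit ((a l g).map σ) := (isUnit_fr hb l hg).map (σ.toRingHom.mapMatrix : Matrix (Fin d) (Fin d) F →+* _)
  have e3 : (Y : Matrix (Fin d) (Fin d) F) * (↑X⁻¹ : Matrix (Fin d) (Fin d) F) * (a j g)ᵀ * X = (a j' g)ᵀ * Y := by
    refine hS.mul_right_cancel ?_
    rw [e2, mul_assoc _ (a j g)ᵀ, mul_assoc _ ((a j g)ᵀ * _), e1, mul_assoc, Units.inv_mul, mul_one]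
  apply Matrix.transpose_injective
  rw [Matrix.transpose_mul, Matrix.transpose_mul, hT, Matrix.transpose_transpose]
  have e4 := congrArg (· * (↑X⁻¹ : Matrix (Fin d) (Fin d) F)) e3
  simp only [mul_assoc, Units.mul_inv, mul_one] at e4
  simpa only [mul_assoc] using e4

theorem cenCen_blocks (hb : IsBlockFrame N a) (j₀ : Fin k) (hone : ∀ j, ∀ g ∈ N, a j g = a j₀ g)
    {A : Matrix (Fin d × Fin k) (Fin d × Fin k) F} (hA : ∀ g ∈ N, Commute A (mat g)) (j l : Fin k) (g : N) :
    blk A j l * a j₀ g.1 = a j₀ g.1 * blk A j l := by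
  have h1 := congrArg (fun Y => blk Y j l) (hA g.1 g.2).eq
  rw [hb.block g.1 g.2] at h1
  simp only [blk_mul_bd, blk_bd_mul] at h1
  rwa [hone l g.1 g.2, hone j g.1 g.2] at h1

/-- A scalar multiple of a block in the commutant. -/
theorem diag_mem_cenCen [Nonempty (Fin d)] (hb : IsBlockFrame N a) (j₀ : Fin k)
    (hone : ∀ j, ∀ g ∈ N, a j g = a j₀ g) {e : Matrix (Fin d) (Fin d) F}
    (he : ∀ g ∈ N, e * a j₀ g = a j₀ g * e) : diagHom d k e ∈ cenCen N := by
  refine mem_cenCen.2 ⟨fun g hg => ?_, fun Z hZ => blk_ext fun j l => ?_⟩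
  · show _ * _ = _ * _
    rw [diagHom_apply, hb.block g hg, ← blockDiagonal_mul, ← blockDiagonal_mul]
    exact congrArg _ (funext fun j => by rw [hone j g hg]; exact he g hg)
  · rw [diagHom_apply, blk_bd_mul, blk_mul_bd]
    exact comm_of_irr (a := fun g : N => a j₀ g) (hb.irr j₀) (fun g => he g.1 g.2) (cenCen_blocks hb j₀ hone hZ j l)

theorem cenCen_unit [Nonempty (Fin d)] (hb : IsBlockFrame N a) (j₀ : Fin k)
    (hone : ∀ j, ∀ g ∈ N, a j g = a j₀ g) {X : Matrix (Fin d × Fin k) (Fin d × Fin k) F} (hX : X ∈ cenCen N)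
    (hX0 : X ≠ 0) : IsUnit X := by
  classical
  obtain ⟨h1, h2⟩ := mem_cenCen.1 hX
  let S : Fin k → Fin k → Matrix (Fin d × Fin k) (Fin d × Fin k) F := fun j l =>
    Matrix.of fun p q => if p.2 = j ∧ q.2 = l ∧ p.1 = q.1 then 1 else 0
  have hS : ∀ j l i i', blk (S j l) i i' = if i = j ∧ i' = l then 1 else 0 := fun j l i i' => by
    ext p q
    simp only [S, blk_apply, Matrix.of_apply]
    split_ifs <;> simp_all [Matrix.one_apply]
  have key : ∀ i j l, blk X i j = if i = j then blk X l l else 0 := by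
    intro i j l
    have hc := h2 (S j l) fun g hg => blk_ext fun p q => by
      rw [hb.block g hg, blk_mul_bd, blk_bd_mul, hS]
      split_ifs
      · rw [one_mul, mul_one, hone q g hg, hone p g hg]
      · rw [zero_mul, mul_zero]
    have h3 := congrArg (fun Y => blk Y i l) hc.eq
    simp only [blk_mul, hS, mul_ite, mul_one, mul_zero, ite_mul, one_mul, zero_mul, and_true] at h3
    rw [Finset.sum_ite_eq' Finset.univ j, if_pos (Finset.mem_univ j)] at h3
    rw [h3]
    split_ifs with h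
    · subst h; simp
    · simp [h]
  have hdiag : X = diagHom d k (blk X j₀ j₀) := blk_ext fun i j => by
    rw [diagHom_apply, blk_bd]; exact key i j j₀
  have he0 : blk X j₀ j₀ ≠ 0 := fun e => hX0 (by rw [hdiag, e, map_zero])
  rw [hdiag]
  exact (isUnit_of_schur (a := fun g : N => a j₀ g) (b := fun g : N => a j₀ g) (hb.irr j₀) (hb.irr j₀) he0
    fun g => (cenCen_blocks hb j₀ hone h1 j₀ j₀ g).symm).map (diagHom (F := F) d k)

/-- With scalar commutant the form is a Kronecker product. -/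
theorem gram_kron (hd : 0 < d) (hk : 0 < k) (hb : IsBlockFrame N a) (hG : IsRG σ ε G) (hN : Fixes σ N G) (j₀ : Fin k)
    (hone : ∀ j, ∀ g ∈ N, a j g = a j₀ g)
    (hsc : ∀ A : Matrix (Fin d) (Fin d) F, (∀ g ∈ N, A * a j₀ g = a j₀ g * A) →
      ∃ c : F, A = c • (1 : Matrix (Fin d) (Fin d) F)) :
    ∃ (G₀ : Matrix (Fin d) (Fin d) F) (B : Matrix (Fin k) (Fin k) F) (s t : F), G = G₀ ⊗ₖ B ∧ G₀.det ≠ 0 ∧
      B.det ≠ 0 ∧ G₀ᵀ = s • G₀.map σ ∧ Bᵀ = t • B.map σ ∧ s * t = ε := by
  haveI : Nonempty (Fin d) := ⟨⟨0, hd⟩⟩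
  haveI : Nonempty (Fin k) := ⟨⟨0, hk⟩⟩
  haveI : Nonempty (Fin d × Fin k) := inferInstance
  obtain ⟨j₁, l₁, hne⟩ : ∃ j l, blk G j l ≠ 0 := by
    by_contra hcon
    push Not at hcon
    refine ne_zero_of_det hG.det (blk_ext fun j l => ?_)
    rw [hcon j l]
    rfl
  have hG₀ := det_blk_fixed hb hN hne
  have hfix : ∀ j l, ∀ g : N, (a j₀ g.1)ᵀ * blk G j l * (a j₀ g.1).map σ = blk G j l := fun j l g => by
    have h1 := blk_fixed hb hN j l g
    rwa [hone j g.1 g.2, hone l g.1 g.2] at h1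
  have hall : ∀ j l, ∃ c : F, blk G j l = c • blk G j₁ l₁ := fun j l =>
    form_scalar (a := fun g : N => a j₀ g) (fun g => isUnit_fr hb j₀ g.2)
      (fun A hA => hsc A fun g hg => hA ⟨g, hg⟩) hG₀ (hfix j₁ l₁) (hfix j l)
  choose c hc using hall
  set G₀ := blk G j₁ l₁ with hG₀def
  have hmat : G = G₀ ⊗ₖ Matrix.of c := by
    ext ⟨i, j⟩ ⟨i', l⟩
    rw [← blk_apply G j l, hc j l, Matrix.smul_apply, smul_eq_mul, Matrix.kronecker_apply, Matrix.of_apply, mul_comm]
  have hdet : (Matrix.of c).det ≠ 0 := by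
    intro e
    refine hG.det ?_
    rw [hmat, Matrix.det_kronecker, e, zero_pow (by simp; omega), mul_zero]
  have hs : G₀ᵀ = (ε * σ (c l₁ j₁)) • G₀.map σ := by
    rw [hG₀def, blk_swap hG, hc l₁ j₁, ← hG₀def]
    ext p q
    simp only [Matrix.smul_apply, Matrix.map_apply, smul_eq_mul, map_mul]
    ring
  have hs0 : ε * σ (c l₁ j₁) ≠ 0 := by
    intro e
    refine hG₀ ?_
    rw [← Matrix.det_transpose, hs, e, zero_smul, Matrix.det_zero]
  refine ⟨G₀, Matrix.of c, _, ε / (ε * σ (c l₁ j₁)), hmat, hG₀, hdet, hs, ?_, mul_div_cancel₀ _ hs0⟩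
  obtain ⟨p, q, hpq⟩ : ∃ p q, σ (G₀ p q) ≠ 0 := by
    by_contra hcon
    push Not at hcon
    refine ne_zero_of_det hG₀ ?_
    ext p q
    exact (map_eq_zero σ).1 (hcon p q)
  ext j l
  have h1 := congrFun (congrFun hG.symm (p, j)) (q, l)
  rw [hmat] at h1
  simp only [Matrix.transpose_apply, Matrix.smul_apply, Matrix.map_apply, Matrix.kronecker_apply, smul_eq_mul,
    map_mul] at h1
  have h2 := congrFun (congrFun hs p) q
  simp only [Matrix.transpose_apply, Matrix.smul_apply, Matrix.map_apply, smul_eq_mul] at h2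
  rw [h2] at h1
  show (Matrix.of c) l j = ε / (ε * σ (c l₁ j₁)) * σ ((Matrix.of c) j l)
  rw [div_mul_eq_mul_div, eq_div_iff hs0]
  refine mul_right_cancel₀ hpq ?_
  linear_combination h1

end

variable {ι : Type} [Fintype ι] [DecidableEq ι]

/-- Paired decompositions preserved by the group. -/
def Paired (σ : F ≃+* F) (G : Matrix ι ι F) (H : Subgroup (GL ι F)) : Prop :=
  ∃ (t m : ℕ) (D : Fin t → Submodule F (ι → F)) (π : Fin t → Fin t), IsMDecomposition m D ∧
    H ≤ decompositionStabilizer D ∧ (∀ i, π (π i) = i) ∧ ∀ i j, j ≠ π i → AreOrthogonalFor (formG σ G) (D i) (D j)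

/-- A field closed under adjoints, normalised by the group and centralised by the subgroup. -/
def AdjField (σ : F ≃+* F) (G : Matrix ι ι F) (H N : Subgroup (GL ι F)) : Prop :=
  ∃ (r : ℕ) (K : Subalgebra F (Matrix ι ι F)), r.Prime ∧ IsFieldSubalgebra r K ∧ H ≤ subalgebraNormalizer K ∧
    IsAdjointClosedFor (formG σ G) K ∧ ∀ g ∈ N, ∀ x ∈ K, Commute x (mat g)

/-- A tensor decomposition of group and form. -/
def TensorForm (σ : F ≃+* F) (ε : F) (G : Matrix ι ι F) (H : Subgroup (GL ι F)) : Prop :=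
  ∃ (d k : ℕ) (e : ι ≃ Fin d × Fin k) (P : GL ι F) (G₀ : Matrix (Fin d) (Fin d) F) (B : Matrix (Fin k) (Fin k) F)
    (s t : F), 2 ≤ d ∧ 2 ≤ k ∧ H ≤ tensorProductSubgroup d k e P ∧ frG σ e P G = G₀ ⊗ₖ B ∧ G₀.det ≠ 0 ∧ B.det ≠ 0 ∧
      G₀ᵀ = s • G₀.map σ ∧ Bᵀ = t • B.map σ ∧ s * t = ε

variable {σ : F ≃+* F} {ε : F} {G : Matrix ι ι F} {H N : Subgroup (GL ι F)}

theorem adjField_of_not_scalar [Nonempty ι] (hn : Normalised H N) (hG : IsRG σ ε G) (hN : Fixes σ N G)
    (hu : ∀ X ∈ cenCen N, X ≠ 0 → IsUnit X) (h : ∃ X ∈ cenCen N, ∀ c : F, X ≠ c • 1) : AdjField σ G H N := by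
  set K := cenCen N with hKdef
  have hcomm : ∀ x ∈ K, ∀ y ∈ K, x * y = y * x := fun x hx y hy =>
    ((mem_cenCen.1 hx).2 y (mem_cenCen.1 hy).1).eq
  have hK : IsFieldSubalgebra (Module.finrank F K) K := by
    refine ⟨hcomm, fun x hx hx0 => ?_, rfl⟩
    obtain ⟨U, rfl⟩ := hu x hx hx0
    obtain ⟨h1, h2⟩ := mem_cenCen.1 hx
    exact ⟨(↑U⁻¹ : Matrix ι ι F), mem_cenCen.2 ⟨fun g hg => (h1 g hg).units_inv_left,
      fun Z hZ => (h2 Z hZ).units_inv_left⟩, Units.mul_inv U⟩
  have hne1 : Module.finrank F K ≠ 1 := by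
    intro h1
    obtain ⟨X, hX, hXs⟩ := h
    obtain ⟨c, hc⟩ := (finrank_eq_one_iff_of_nonzero' (1 : K) one_ne_zero).1 h1 ⟨X, hX⟩
    exact hXs c (congrArg Subtype.val hc).symm
  obtain ⟨K', hK', hle, hmem⟩ := exists_subfield_mem hK Module.finrank_pos (Nat.minFac_dvd _)
  refine ⟨_, K', Nat.minFac_prime hne1, hK', (cenCen_normaliser hn).trans hle, fun k hk => ?_,
    fun g hg x hx => (mem_cenCen.1 ((hmem x).1 hx).1).1 g hg⟩
  obtain ⟨hkK, hkQ⟩ := (hmem k).1 hk
  obtain ⟨k', hk', hadj⟩ := cenCen_adj hG hN k hkK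
  refine ⟨k', (hmem k').2 ⟨hk', adj_unique hG fun u v => ?_⟩, hadj⟩
  have hpow : ∀ n : ℕ, ∀ u v, formG σ G (k ^ n *ᵥ u) v = formG σ G u (k' ^ n *ᵥ v) := by
    intro n
    induction n with
    | zero => intro u v; simp
    | succ n ih =>
      intro u v
      rw [pow_succ, ← Matrix.mulVec_mulVec, ih, hadj, Matrix.mulVec_mulVec, ← pow_succ']
  rw [← hpow, hkQ, hadj]

set_option maxHeartbeats 1000000 in
/-- The Clifford alternatives for isometries. -/
theorem clifford_form [Nonempty ι] (hH : Irr H) (hn : Normalised H N) (hns : ¬ N ≤ scalars ι F) (hG : IsRG σ ε G)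
    (hN : Fixes σ N G) :
    Paired σ G H ∨ AdjField σ G H N ∨ TensorForm σ ε G H ∨ ActsAbsolutelyIrreducibly (matrixSet N) := by
  classical
  obtain ⟨d, k, e, P, a, hd, hk, hb⟩ := exists_frame hH hn
  haveI : Nonempty (Fin d) := ⟨⟨0, hd⟩⟩
  haveI : Nonempty (Fin k) := ⟨⟨0, hk⟩⟩
  have hn' := normalised_comap e P hn
  have hG' := hG.frame e P
  have hN' := fixes_comap e P hN
  set G' := frG σ e P G with hG'def
  rcases imprim_classes hd hk hb hn' (irr_comap e P hH) with ⟨t, m, cls, hcls, hD, hle⟩ | hiso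
  · left
    have hex : ∀ c : Fin t, ∃ c' : Fin t, ∃ j l, cls j = c' ∧ cls l = c ∧ blk G' j l ≠ 0 := by
      intro c
      obtain ⟨l, hl⟩ : ∃ l, cls l = c := by
        by_contra hcon
        push Not at hcon
        have h1 := hD.finrank_eq c
        rw [show ({p : Fin d × Fin k | cls p.2 = c}) = ∅ from Set.eq_empty_of_forall_notMem fun p hp => hcon _ hp] at h1
        rw [Set.image_empty, Submodule.span_empty, finrank_bot] at h1
        exact hD.pos.ne h1
      obtain ⟨U, hU⟩ := isUnit_of_det hG'.det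
      obtain ⟨j, hj⟩ := exists_blk_ne_zero (d := Fin d) (show (↑U⁻¹ : Matrix _ _ F) * G' = 1 by rw [← hU, Units.inv_mul]) l
      exact ⟨_, j, l, rfl, hl, hj⟩
    choose π j l hj hl hjl using hex
    have huniq : ∀ j' l', blk G' j' l' ≠ 0 → cls j' = π (cls l') := fun j' l' h => by
      rw [← hj (cls l')]
      exact (hcls _ _).2 (pair_eq hb hN' h (hjl (cls l')) ((hcls _ _).1 (hl (cls l')).symm))
    have hswap : ∀ j' l', blk G' j' l' ≠ 0 → blk G' l' j' ≠ 0 := fun j' l' h e => h (by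
      apply Matrix.transpose_injective
      rw [blk_swap hG', e, Matrix.transpose_zero]
      ext p q; simp)
    have hinv : ∀ c, π (π c) = c := fun c => by
      have h1 := huniq _ _ (hswap _ _ (hjl c))
      rw [hl c, hj c] at h1
      exact h1.symm
    refine ⟨t, m, fun c => (Submodule.span F (Pi.basisFun F (Fin d × Fin k) '' {p | cls p.2 = c})).map
      (frL e P).toLinearMap, π, ⟨hD.two_le, hD.pos, fun c => ?_, ?_, ?_⟩, fun g hg => ?_, hinv, fun i i' hne => ?_⟩
    · rw [LinearEquiv.finrank_map_eq]; exact hD.finrank_eq c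
    · exact hD.indep.map_orderIso (Submodule.orderIsoMapComap (frL e P))
    · rw [← Submodule.map_iSup, hD.iSup_eq_top, Submodule.map_top, LinearMap.range_eq_top.2 (frL e P).surjective]
    · obtain ⟨g', rfl⟩ := (fr e P).surjective g
      obtain ⟨τ, hτ⟩ := hle (show g' ∈ H.comap (fr e P).toMonoidHom from hg)
      refine ⟨τ, fun c => ?_⟩
      show (Submodule.map (frL e P).toLinearMap _).map (Matrix.toLin' (mat (fr e P g'))) =
        Submodule.map (frL e P).toLinearMap _
      have h1 : (Submodule.span F (Pi.basisFun F (Fin d × Fin k) '' {p | cls p.2 = c})).map (Matrix.toLin' (mat g')) =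
          Submodule.span F (Pi.basisFun F (Fin d × Fin k) '' {p | cls p.2 = τ c}) := hτ c
      rw [← h1, ← Submodule.map_comp, ← Submodule.map_comp]
      congr 1
      exact LinearMap.ext fun x => fr_mulVec e P g' x
    · rintro _ ⟨x, hx, rfl⟩ _ ⟨y, hy, rfl⟩
      rw [LinearEquiv.coe_coe, ← formG_frL, ← hG'def]
      simp only [SetLike.mem_coe, Module.Basis.mem_span_image, Set.subset_def, Finset.mem_coe,
        Finsupp.mem_support_iff, Pi.basisFun_repr, Set.mem_setOf_eq] at hx hy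
      rw [formG, dotProduct]
      refine Finset.sum_eq_zero fun p _ => ?_
      by_cases hxp : x p = 0
      · rw [hxp, zero_mul]
      rw [Matrix.mulVec, dotProduct, Finset.sum_eq_zero fun q _ => ?_, mul_zero]
      by_cases hyq : y q = 0
      · rw [hyq, map_zero, mul_zero]
      have h0 : blk G' p.2 q.2 = 0 := by
        by_contra h0
        have h1 := huniq _ _ h0
        rw [hx p hxp, hy q hyq] at h1
        exact hne (by rw [h1, hinv])
      rw [show G' p q = 0 from congrFun (congrFun h0 p.1) q.1, zero_mul]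
  right
  have j₀ : Fin k := ⟨0, hk⟩
  by_cases hsc : ∀ X ∈ cenCen N, ∃ c : F, X = c • 1
  swap
  · left
    push Not at hsc
    refine adjField_of_not_scalar hn hG hN (fun X hX hX0 => ?_) hsc
    obtain ⟨X', rfl⟩ := (frM e P).surjective X
    exact (cenCen_unit hb j₀ (fun j g hg => hiso j j₀ g hg) ((cenCen_frM e P X').1 hX)
      fun e' => hX0 (by rw [e', map_zero])).map (frM e P)
  right
  have hsc' : ∀ A : Matrix (Fin d) (Fin d) F, (∀ g ∈ N.comap (fr e P).toMonoidHom, A * a j₀ g = a j₀ g * A) →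
      ∃ c : F, A = c • (1 : Matrix (Fin d) (Fin d) F) := by
    intro A hA
    obtain ⟨c, hc⟩ := hsc _ ((cenCen_frM e P _).2 (diag_mem_cenCen hb j₀ (fun j g hg => hiso j j₀ g hg) hA))
    refine ⟨c, ?_⟩
    have h1 : diagHom d k A = diagHom d k (c • 1) := (frM e P).injective (by rw [hc, map_smul, map_smul, map_one, map_one])
    rw [diagHom_apply, diagHom_apply] at h1
    exact congrFun (blockDiagonal_injective h1) j₀
  rcases (show k = 1 ∨ 2 ≤ k by omega) with rfl | hk2
  · refine Or.inr (abs_of_comap e P (abs_of_scalar hb fun A hA => hsc' A fun g hg => ?_))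
    rw [show j₀ = 0 from Subsingleton.elim _ _]
    exact hA g hg
  rcases (show d = 1 ∨ 2 ≤ d by omega) with rfl | hd2
  · refine absurd ((comap_scalars e P).1 fun g hg => ?_) hns
    refine mem_scalars_of_smul (c := a j₀ g 0 0) ?_
    rw [hb.block g hg]
    ext ⟨i, j⟩ ⟨i', l⟩
    obtain rfl : i = 0 := Subsingleton.elim _ _
    obtain rfl : i' = 0 := Subsingleton.elim _ _
    simp [blockDiagonal_apply', Matrix.one_apply, hiso j j₀ g hg]
  left
  obtain ⟨G₀, B, s, t, h1, h2, h3, h4, h5, h6⟩ :=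
    gram_kron hd hk hb hG' hN' j₀ (fun j g hg => hiso j j₀ g hg) hsc'
  exact ⟨d, k, e, P, G₀, B, s, t, hd2, hk2, (le_map_of_comap_le e P (kron_of_scalar hd hk hb hn' j₀
    (fun j g hg => hiso j j₀ g hg) hsc')).trans (map_fr_eq_tensor e P).le, h1, h2, h3, h4, h5, h6⟩

end Cfsg.Agent.Asch
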