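import Cfsg.Agent.Asch.Clifford
import Cfsg.Agent.Asch.Forms
import Cfsg.Agent.PrimeDim.Perp

/-!
Forms in frames, adjoints, and the centre of a centraliser.
-/

set_option autoImplicit false
set_option linter.unusedSectionVars false

namespace Cfsg.Agent.Asch

open Matrix Cfsg.Geo Cfsg.Agent.PrimeDim
open scoped MatrixGroups Kronecker

variable {F : Type*} [Field F] {ι κ : Type} [Fintype ι] [DecidableEq ι] [Fintype κ] [DecidableEq κ]

/-- A non-degenerate form equal to a multiple of its conjugate transpose. -/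
structure IsRG (σ : F ≃+* F) (ε : F) (G : Matrix ι ι F) : Prop where
  det : G.det ≠ 0
  invol : ∀ a, σ (σ a) = a
  symm : Gᵀ = ε • G.map σ

/-- The Gram matrix seen in a frame. -/
def frG (σ : F ≃+* F) (e : ι ≃ κ) (P : GL ι F) (G : Matrix ι ι F) : Matrix κ κ F :=
  (act σ G (mat P)).submatrix e.symm e.symm

variable {σ : F ≃+* F} {ε : F} {G : Matrix ι ι F} {N : Subgroup (GL ι F)}

theorem formG_frL (e : ι ≃ κ) (P : GL ι F) (x y : κ → F) :
    formG σ (frG σ e P G) x y = formG σ G (frL e P x) (frL e P y) := by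
  show _ = formG σ G (mat P *ᵥ (x ∘ e)) (mat P *ᵥ (y ∘ e))
  rw [formG_mulVec, formG, formG, frG, Matrix.submatrix_mulVec_equiv, dotProduct, dotProduct, ← Equiv.sum_comp e]
  refine Finset.sum_congr rfl fun i _ => ?_
  simp only [Function.comp_apply, Equiv.symm_apply_apply, Equiv.symm_symm]
  rfl

theorem act_transpose (hinv : ∀ a, σ (σ a) = a) (hs : Gᵀ = ε • G.map σ) (g : Matrix ι ι F) :
    (act σ G g)ᵀ = ε • (act σ G g).map σ := by
  have hg : (g.map σ).map σ = g := by ext i j; exact hinv _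
  rw [act, Matrix.transpose_mul, Matrix.transpose_mul, Matrix.transpose_transpose, hs, Matrix.map_mul,
    Matrix.map_mul, hg, Matrix.smul_mul, Matrix.mul_smul, ← mul_assoc]
  rfl

theorem IsRG.act' (h : IsRG σ ε G) (P : GL ι F) : IsRG σ ε (act σ G (mat P)) := by
  refine ⟨?_, h.invol, act_transpose h.invol h.symm _⟩
  have hd : (mat P).det ≠ 0 := ((Matrix.isUnit_iff_isUnit_det _).1 P.isUnit).ne_zero
  rw [det_act]
  exact mul_ne_zero (mul_ne_zero hd h.det) ((map_ne_zero σ).2 hd)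

theorem IsRG.frame (h : IsRG σ ε G) (e : ι ≃ κ) (P : GL ι F) : IsRG σ ε (frG σ e P G) := by
  obtain ⟨h1, h2, h3⟩ := h.act' P
  refine ⟨by rw [frG, Matrix.det_submatrix_equiv_self]; exact h1, h2, ?_⟩
  rw [frG, Matrix.transpose_submatrix, h3]
  rfl

theorem fixes_comap (e : ι ≃ κ) (P : GL ι F) (h : Fixes σ N G) :
    Fixes σ (N.comap (fr e P).toMonoidHom) (frG σ e P G) := by
  intro g hg
  refine formG_ext (σ := σ) fun x y => ?_
  rw [← formG_mulVec, formG_frL, formG_frL, ← fr_mulVec, ← fr_mulVec, formG_mulVec, h (fr e P g) hg]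

theorem IsRG.eps_ne_zero [Nonempty ι] (h : IsRG σ ε G) : ε ≠ 0 := by
  intro e
  refine h.det ?_
  rw [← Matrix.det_transpose, h.symm, e, zero_smul, Matrix.det_zero]

/-- The form in the opposite order. -/
theorem IsRG.swap (h : IsRG σ ε G) (u v : ι → F) : formG σ G v u = ε * σ (formG σ G u v) := by
  have hG : ∀ a b, G a b = ε * σ (G b a) := fun a b => by
    have h1 := congrFun (congrFun h.symm b) a
    simpa using h1
  simp only [formG, dotProduct, Matrix.mulVec, Finset.mul_sum, map_sum, map_mul]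
  rw [Finset.sum_comm]
  refine Finset.sum_congr rfl fun a _ => Finset.sum_congr rfl fun b _ => ?_
  rw [h.invol, hG b a]
  ring

theorem IsRG.zero_swap (h : IsRG σ ε G) {u v : ι → F} (h0 : formG σ G u v = 0) : formG σ G v u = 0 := by
  rw [h.swap, h0, map_zero, mul_zero]

theorem IsRG.nondeg_right (h : IsRG σ ε G) {v : ι → F} (h0 : ∀ u, formG σ G u v = 0) : v = 0 :=
  nondeg_left h.det fun u => h.zero_swap (h0 u)

theorem formG_zero_right (v : ι → F) : formG σ G v 0 = 0 := by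
  rw [formG, show (fun i => σ ((0 : ι → F) i)) = 0 from funext fun i => map_zero σ, Matrix.mulVec_zero, dotProduct_zero]

theorem iso_apply (hN : Fixes σ N G) {g : GL ι F} (hg : g ∈ N) (u v : ι → F) :
    formG σ G (mat g *ᵥ u) (mat g *ᵥ v) = formG σ G u v := by
  rw [formG_mulVec, hN g hg]

/-- Adjoints exist. -/
theorem exists_adj (h : IsRG σ ε G) (X : Matrix ι ι F) :
    ∃ Y : Matrix ι ι F, ∀ u v, formG σ G (X *ᵥ u) v = formG σ G u (Y *ᵥ v) := by
  obtain ⟨U, hU⟩ := isUnit_of_det h.det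
  refine ⟨((↑U⁻¹ : Matrix ι ι F) * Xᵀ * G).map σ, fun u v => ?_⟩
  rw [formG, formG, map_mulVec_comp, show (((↑U⁻¹ : Matrix ι ι F) * Xᵀ * G).map σ).map σ = (↑U⁻¹ : Matrix ι ι F) * Xᵀ * G from
      Matrix.ext fun a b => h.invol _, Matrix.mulVec_mulVec,
    show G * ((↑U⁻¹ : Matrix ι ι F) * Xᵀ * G) = Xᵀ * G by rw [← hU, mul_assoc _ Xᵀ, Units.mul_inv_cancel_left],
    ← Matrix.mulVec_mulVec]
  conv_rhs => rw [Matrix.dotProduct_mulVec, Matrix.vecMul_transpose]

theorem adj_unique (h : IsRG σ ε G) {Y Y' : Matrix ι ι F}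
    (he : ∀ u v, formG σ G u (Y *ᵥ v) = formG σ G u (Y' *ᵥ v)) : Y = Y' := by
  refine Matrix.mulVec_injective (funext fun v => sub_eq_zero.1 (h.nondeg_right fun u => ?_))
  rw [sub_eq_add_neg, (isSesq_formG σ G).add_right, ← neg_one_smul F (Y' *ᵥ v), (isSesq_formG σ G).smul_right,
    map_neg, map_one, he u v]
  ring

theorem adj_symm (h : IsRG σ ε G) {X Y : Matrix ι ι F} (he : ∀ u v, formG σ G (X *ᵥ u) v = formG σ G u (Y *ᵥ v))
    (u v : ι → F) : formG σ G (Y *ᵥ u) v = formG σ G u (X *ᵥ v) := by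
  rw [h.swap v (Y *ᵥ u), ← he v u, ← h.swap (X *ᵥ v) u]

theorem adj_commute (h : IsRG σ ε G) (hN : Fixes σ N G) {X Y : Matrix ι ι F}
    (he : ∀ u v, formG σ G (X *ᵥ u) v = formG σ G u (Y *ᵥ v)) (hX : ∀ g ∈ N, Commute X (mat g)) :
    ∀ g ∈ N, Commute Y (mat g) := by
  intro g hg
  refine adj_unique h fun u v => ?_
  rw [← Matrix.mulVec_mulVec, ← Matrix.mulVec_mulVec, ← he, ← iso_apply hN (inv_mem hg), inv_mulVec_cancel,
    Matrix.mulVec_mulVec, ← (hX _ (inv_mem hg)).eq, ← Matrix.mulVec_mulVec, he, ← iso_apply hN hg,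
    mulVec_inv_cancel]

/-- The centre of the centraliser of a group. -/
def cenCen (N : Subgroup (GL ι F)) : Subalgebra F (Matrix ι ι F) where
  carrier := {X | (∀ g ∈ N, Commute X (mat g)) ∧
    ∀ Z : Matrix ι ι F, (∀ g ∈ N, Commute Z (mat g)) → Commute X Z}
  mul_mem' {a b} ha hb := ⟨fun g hg => (ha.1 g hg).mul_left (hb.1 g hg), fun Z hZ => (ha.2 Z hZ).mul_left (hb.2 Z hZ)⟩
  add_mem' {a b} ha hb := ⟨fun g hg => (ha.1 g hg).add_left (hb.1 g hg), fun Z hZ => (ha.2 Z hZ).add_left (hb.2 Z hZ)⟩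
  algebraMap_mem' c := ⟨fun g _ => Algebra.commutes c (mat g), fun Z _ => Algebra.commutes c Z⟩

theorem mem_cenCen {X : Matrix ι ι F} : X ∈ cenCen N ↔ (∀ g ∈ N, Commute X (mat g)) ∧
    ∀ Z : Matrix ι ι F, (∀ g ∈ N, Commute Z (mat g)) → Commute X Z := Iff.rfl

theorem cenCen_adj (h : IsRG σ ε G) (hN : Fixes σ N G) : IsAdjointClosedFor (formG σ G) (cenCen N) := by
  intro X hX
  obtain ⟨hX1, hX2⟩ := mem_cenCen.1 hX
  obtain ⟨Y, hY⟩ := exists_adj h X
  refine ⟨Y, mem_cenCen.2 ⟨adj_commute h hN hY hX1, fun Z hZ => ?_⟩, hY⟩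
  obtain ⟨Z', hZ'⟩ := exists_adj h Z
  have hc := hX2 Z' (adj_commute h hN hZ' hZ)
  refine adj_unique h fun u v => ?_
  rw [← Matrix.mulVec_mulVec, ← Matrix.mulVec_mulVec, ← hY, ← adj_symm h hZ', Matrix.mulVec_mulVec, ← hc.eq,
    ← Matrix.mulVec_mulVec, hY, adj_symm h hZ']

theorem cenCen_normaliser {H : Subgroup (GL ι F)} (hn : Normalised H N) :
    H ≤ subalgebraNormalizer (cenCen N) := by
  have key : ∀ h ∈ H, ∀ X ∈ cenCen N, mat h * X * mat h⁻¹ ∈ cenCen N := by
    intro h hh X hX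
    obtain ⟨h1, h2⟩ := mem_cenCen.1 hX
    have move : ∀ (Z W : Matrix ι ι F), Commute Z (mat h⁻¹ * W * mat h) → Commute (mat h * Z * mat h⁻¹) W := by
      intro Z W hc
      have := congrArg (fun T => mat h * T * mat h⁻¹) hc.eq
      simp only [mul_assoc, mat_mul_inv, mul_one] at this
      show _ = _
      simp only [← mul_assoc, mat_mul_inv, one_mul] at this
      simpa only [mul_assoc] using this
    refine mem_cenCen.2 ⟨fun g hg => move X _ ?_, fun Z hZ => move X _ (h2 _ fun g hg => ?_)⟩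
    · rw [show mat h⁻¹ * mat g * mat h = mat (h⁻¹ * g * h) by simp [mat]]
      exact h1 _ (hn.conj' hh hg)
    · have h3 := (hZ _ (hn h hh g hg)).eq
      rw [show mat (h * g * h⁻¹) = mat h * mat g * mat h⁻¹ by simp [mat]] at h3
      show _ = _
      have h4 := congrArg (fun T => mat h⁻¹ * T * mat h) h3
      simp only [← mul_assoc, mat_inv_mul, one_mul] at h4
      simp only [mul_assoc, mat_inv_mul, mul_one] at h4
      simpa only [mul_assoc] using h4
  intro h hh X
  refine ⟨key h hh X, fun hX => ?_⟩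
  have h1 := key h⁻¹ (inv_mem hh) _ hX
  rw [inv_inv] at h1
  rwa [show mat h⁻¹ * (mat h * X * mat h⁻¹) * mat h = X by
    simp only [mul_assoc, mat_inv_mul, mul_one]; rw [← mul_assoc, mat_inv_mul, one_mul]] at h1

theorem cenCen_frM (e : ι ≃ κ) (P : GL ι F) (X : Matrix κ κ F) :
    frM e P X ∈ cenCen N ↔ X ∈ cenCen (N.comap (fr e P).toMonoidHom) := by
  have hcomm : ∀ A B : Matrix κ κ F, Commute (frM e P A) (frM e P B) ↔ Commute A B := fun A B =>
    ⟨fun h => (frM e P).injective (by rw [map_mul, map_mul]; exact h), fun h => h.map (frM e P)⟩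
  have hg : ∀ A : Matrix κ κ F, (∀ g ∈ N, Commute (frM e P A) (mat g)) ↔
      ∀ g ∈ N.comap (fr e P).toMonoidHom, Commute A (mat g) := fun A => by
    constructor
    · intro h g hg
      rw [← hcomm, frM_mat]
      exact h _ hg
    · intro h g hg
      obtain ⟨k, rfl⟩ := (fr e P).surjective g
      rw [← frM_mat, hcomm]
      exact h k hg
  rw [mem_cenCen, mem_cenCen, hg]
  refine and_congr_right fun _ => ⟨fun h Z hZ => (hcomm _ _).1 (h _ ((hg Z).2 hZ)), fun h Z hZ => ?_⟩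
  obtain ⟨Z, rfl⟩ := (frM e P).surjective Z
  exact (hcomm _ _).2 (h Z ((hg Z).1 hZ))

/-- A block of a fixed form between irreducible families is non-singular. -/
theorem det_block {γ : Type*} {a b : γ → Matrix ι ι F} (hb : IrrFam b) (hu : ∀ g, IsUnit (a g))
    {X : Matrix ι ι F} (hX : X ≠ 0) (h : ∀ g, (a g)ᵀ * X * (b g).map σ = X) : X.det ≠ 0 := by
  let W : Submodule F (ι → F) :=
    { carrier := {v | X *ᵥ (fun i => σ (v i)) = 0}
      add_mem' := fun {u v} hu hv => by
        show X *ᵥ (fun i => σ ((u + v) i)) = 0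
        rw [show (fun i => σ ((u + v) i)) = (fun i => σ (u i)) + fun i => σ (v i) from funext fun i => map_add σ _ _,
          Matrix.mulVec_add, hu, hv, add_zero]
      zero_mem' := by
        show X *ᵥ (fun i => σ ((0 : ι → F) i)) = 0
        rw [show (fun i => σ ((0 : ι → F) i)) = 0 from funext fun i => map_zero σ, Matrix.mulVec_zero]
      smul_mem' := fun c v hv => by
        show X *ᵥ (fun i => σ ((c • v) i)) = 0
        rw [show (fun i => σ ((c • v) i)) = σ c • fun i => σ (v i) from funext fun i => map_mul σ _ _,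
          Matrix.mulVec_smul, hv, smul_zero] }
  have hW : ∀ g, ∀ v ∈ W, b g *ᵥ v ∈ W := by
    intro g v hv
    show X *ᵥ (fun i => σ ((b g *ᵥ v) i)) = 0
    refine Matrix.mulVec_injective_iff_isUnit.2 (isUnit_transpose (hu g)) ?_
    show (a g)ᵀ *ᵥ _ = (a g)ᵀ *ᵥ 0
    rw [map_mulVec_comp, Matrix.mulVec_mulVec, Matrix.mulVec_mulVec, h, hv, Matrix.mulVec_zero]
  intro hdet
  rcases hb W hW with e | e
  · obtain ⟨w, hw, hw0⟩ := Matrix.exists_mulVec_eq_zero_iff.2 hdet
    refine hw ?_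
    have h1 : (fun i => σ.symm (w i)) ∈ W := by
      show X *ᵥ (fun i => σ (σ.symm (w i))) = 0
      simp only [RingEquiv.apply_symm_apply]
      exact hw0
    rw [e, Submodule.mem_bot] at h1
    funext i
    exact σ.symm.injective ((congrFun h1 i).trans (map_zero _).symm)
  · refine hX (Matrix.ext_of_mulVec_single fun j => ?_)
    have h1 : (Pi.single j (1 : F) : ι → F) ∈ W := e ▸ Submodule.mem_top
    rw [Matrix.zero_mulVec]
    have h2 : X *ᵥ (fun i => σ ((Pi.single j 1 : ι → F) i)) = 0 := h1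
    rwa [single_comp] at h2

/-- Forms fixed by a family with scalar commutant are proportional. -/
theorem form_scalar {γ : Type*} {a : γ → Matrix ι ι F} (hu : ∀ g, IsUnit (a g))
    (hsc : ∀ A : Matrix ι ι F, (∀ g, A * a g = a g * A) → ∃ c : F, A = c • (1 : Matrix ι ι F))
    {X Y : Matrix ι ι F} (hX : X.det ≠ 0) (h : ∀ g, (a g)ᵀ * X * (a g).map σ = X)
    (h' : ∀ g, (a g)ᵀ * Y * (a g).map σ = Y) : ∃ c : F, Y = c • X := by
  obtain ⟨U, rfl⟩ := isUnit_of_det hX
  set A : Matrix ι ι F := (↑U⁻¹ : Matrix ι ι F) * Y with hA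
  have hXA : (U : Matrix ι ι F) * A = Y := by rw [hA, Units.mul_inv_cancel_left]
  obtain ⟨c, hc⟩ := hsc (A.map σ.symm) fun g => by
    have h1 : (a g)ᵀ * U * (A * (a g).map σ) = (a g)ᵀ * U * ((a g).map σ * A) := by
      rw [← mul_assoc _ A, mul_assoc _ _ A, hXA, h', ← mul_assoc _ _ A, h g, hXA]
    have h2 := ((isUnit_transpose (hu g)).mul U.isUnit).mul_left_cancel h1
    have h3 := congrArg (fun Z : Matrix ι ι F => Z.map σ.symm) h2
    simpa [Matrix.map_mul, Matrix.map_map, Function.comp_def] using h3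
  refine ⟨σ c, ?_⟩
  rw [← hXA, show A = (A.map σ.symm).map σ from Matrix.ext fun i j => (σ.apply_symm_apply _).symm, hc]
  ext i j
  simp only [Matrix.mul_apply, Matrix.map_apply, Matrix.smul_apply, smul_eq_mul, map_mul, Matrix.one_apply]
  simp [mul_comm]

theorem smul_mat_cancel {c d : F} {A : Matrix ι ι F} (hA : A ≠ 0) (h : c • A = d • A) : c = d :=
  smul_left_injective F hA h

theorem ne_zero_of_det [Nonempty ι] {A : Matrix ι ι F} (hA : A.det ≠ 0) : A ≠ 0 := fun e =>
  hA (by rw [e, Matrix.det_zero])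

end Cfsg.Agent.Asch
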