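import Cfsg.Agent.Asch.FormClifford

/-!
A paired decomposition is orthogonal, or a pair of totally singular subspaces, or merges into an orthogonal one.
-/

set_option autoImplicit false
set_option linter.unusedSectionVars false

namespace Cfsg.Agent.Asch

open Matrix Cfsg.Geo Cfsg.Agent.PrimeDim
open scoped MatrixGroups

variable {F : Type*} [Field F] [Finite F] {ι : Type} [Fintype ι] [DecidableEq ι]

variable {σ : F ≃+* F} {ε : F} {G : Matrix ι ι F} {H : Subgroup (GL ι F)}

/-- A vector orthogonal to every member of a spanning family. -/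
theorem eq_zero_of_orth {γ : Type*} (hG : IsRG σ ε G) {E : γ → Submodule F (ι → F)} (hE : iSup E = ⊤) {w : ι → F}
    (h : ∀ c, ∀ x ∈ E c, formG σ G w x = 0) : w = 0 := by
  refine nondeg_left (σ := σ) hG.det fun u => ?_
  refine Submodule.iSup_induction E (motive := fun u => formG σ G w u = 0) (hE ▸ Submodule.mem_top : u ∈ iSup E)
    h (formG_zero_right w) fun x y hx hy => ?_
  rw [(isSesq_formG σ G).add_right, hx, hy, add_zero]

theorem nondeg_of_orth {γ : Type*} (hG : IsRG σ ε G) {E : γ → Submodule F (ι → F)} (hE : iSup E = ⊤)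
    (ho : ∀ c c', c ≠ c' → AreOrthogonalFor (formG σ G) (E c) (E c')) (c : γ) :
    IsNondegenerateOn (formG σ G) (E c) := by
  intro w hw hw0
  obtain ⟨x, hx, hne⟩ : ∃ x ∈ E c, formG σ G w x ≠ 0 := by
    by_contra hcon
    push Not at hcon
    refine hw0 (eq_zero_of_orth hG hE fun c' x hx => ?_)
    rcases eq_or_ne c c' with rfl | h
    · exact hcon x hx
    · exact ho c c' h w hw x hx
  exact ⟨⟨x, hx, fun e => hne (hG.zero_swap e)⟩, ⟨x, hx, hne⟩⟩

theorem indep_of_orth {γ : Type*} (hG : IsRG σ ε G) {E : γ → Submodule F (ι → F)} (hE : iSup E = ⊤)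
    (ho : ∀ c c', c ≠ c' → AreOrthogonalFor (formG σ G) (E c) (E c')) : iSupIndep E := by
  intro c
  rw [disjoint_iff, eq_bot_iff]
  rintro w ⟨hw, hw'⟩
  rw [Submodule.mem_bot]
  by_contra hw0
  obtain ⟨-, x, hx, hne⟩ := nondeg_of_orth hG hE ho c w hw hw0
  refine hne ?_
  have key : ∀ v ∈ ⨆ (c' : γ) (_ : c' ≠ c), E c', formG σ G v x = 0 := by
    intro v hv
    let K : Submodule F (ι → F) :=
      { carrier := {v | formG σ G v x = 0}
        add_mem' := fun {a b} ha hb => by
          show formG σ G (a + b) x = 0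
          rw [(isSesq_formG σ G).add_left, ha, hb, add_zero]
        zero_mem' := by show formG σ G 0 x = 0; simp [formG]
        smul_mem' := fun s v hv => by
          show formG σ G (s • v) x = 0
          rw [(isSesq_formG σ G).smul_left, hv, mul_zero] }
    exact (iSup₂_le fun c' hc' y hy => ho c' c hc' y hy x hx : (⨆ (c' : γ) (_ : c' ≠ c), E c') ≤ K) hv
  exact key w hw'

/-- An irreducible group moves the members of a decomposition transitively. -/
theorem decomp_transitive {t m : ℕ} {D : Fin t → Submodule F (ι → F)} (hH : Irr H) (hD : IsMDecomposition m D)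
    (hle : H ≤ decompositionStabilizer D) (i j : Fin t) :
    ∃ g ∈ H, (D i).map (Matrix.toLin' (mat g)) = D j := by
  classical
  let S : Set (Fin t) := {j | ∃ g ∈ H, (D i).map (Matrix.toLin' (mat g)) = D j}
  let W : Submodule F (ι → F) := ⨆ j ∈ S, D j
  have hi : i ∈ S := ⟨1, one_mem H, by simp [mat]⟩
  have hW : Inv H W := by
    intro g hg v hv
    obtain ⟨τ, hτ⟩ := hle hg
    have h1 : W ≤ W.comap (Matrix.toLin' (mat g)) := iSup₂_le fun l hl => by
      rw [← Submodule.map_le_iff_le_comap, hτ l]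
      obtain ⟨g₀, hg₀, hl⟩ := hl
      refine le_iSup₂ (f := fun l (_ : l ∈ S) => D l) (τ l) ⟨g * g₀, mul_mem hg hg₀, ?_⟩
      rw [mat, Units.val_mul, Matrix.toLin'_mul, Submodule.map_comp, hl, hτ l]
    simpa [Matrix.toLin'_apply] using h1 hv
  have hne : ∀ l, D l ≠ ⊥ := fun l e => by
    have h1 := hD.finrank_eq l
    rw [e, finrank_bot] at h1
    exact hD.pos.ne h1
  by_contra hj
  rcases hH W hW with e | e
  · exact hne i (le_bot_iff.1 (e ▸ le_iSup₂ (f := fun l (_ : l ∈ S) => D l) i hi))
  · have h1 : Disjoint (D j) W := hD.indep.disjoint_biSup (x := j) (y := S) (fun h => hj h)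
    rw [e, disjoint_top] at h1
    exact hne j h1

/-- The three shapes of a paired decomposition. -/
theorem paired_cases [Nonempty ι] (hH : Irr H) (hG : IsRG σ ε G)
    (hsim : ∀ g ∈ H, ∀ u v, formG σ G u v = 0 → formG σ G (mat g *ᵥ u) (mat g *ᵥ v) = 0) (h : Paired σ G H) :
    (∃ (t m : ℕ) (D : Fin t → Submodule F (ι → F)), IsNondegenerateMDecomposition (formG σ G) m D ∧
      H ≤ decompositionStabilizer D ∧ ∀ i j, ∃ g ∈ H, (D i).map (Matrix.toLin' (mat g)) = D j) ∨
    (∃ (m : ℕ) (D : Fin 2 → Submodule F (ι → F)), 2 * m = Fintype.card ι ∧ IsMDecomposition m D ∧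
      (∀ i, IsTotallySingularFor (formG σ G) (D i)) ∧ H ≤ decompositionStabilizer D) := by
  classical
  obtain ⟨t, m, D, π, hD, hle, hinv, hort⟩ := h
  have htr := decomp_transitive hH hD hle
  have hne : ∀ l, D l ≠ ⊥ := fun l e => by
    have h1 := hD.finrank_eq l
    rw [e, finrank_bot] at h1
    exact hD.pos.ne h1
  have hpair : ∀ g ∈ H, ∀ i i' j, (D i).map (Matrix.toLin' (mat g)) = D i' →
      (D (π i)).map (Matrix.toLin' (mat g)) = D j → j = π i' := by
    intro g hg i i' j h1 h2
    by_contra hj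
    obtain ⟨w, hw, hw0⟩ := (D i).exists_mem_ne_zero_of_ne_bot (hne i)
    refine hw0 (eq_zero_of_orth hG hD.iSup_eq_top fun c x hx => ?_)
    rcases eq_or_ne c (π i) with rfl | hc
    · have h3 := hort i' j hj (Matrix.toLin' (mat g) w) (by rw [← h1]; exact ⟨w, hw, rfl⟩) (Matrix.toLin' (mat g) x)
        (by rw [← h2]; exact ⟨x, hx, rfl⟩)
      simp only [Matrix.toLin'_apply] at h3
      have h4 := hsim g⁻¹ (inv_mem hg) _ _ h3
      rwa [inv_mulVec_cancel, inv_mulVec_cancel] at h4
    · exact hort i c hc w hw x hx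
  by_cases hfix : ∀ i, π i = i
  · refine Or.inl ⟨t, m, D, ⟨hD, nondeg_of_orth hG hD.iSup_eq_top fun c c' hc => ?_, fun c c' hc => ?_⟩, hle, htr⟩
    all_goals exact hort c c' (by rw [hfix]; exact hc.symm)
  have hfree : ∀ i, π i ≠ i := by
    intro i hi
    refine hfix fun j => ?_
    obtain ⟨g, hg, hgij⟩ := htr i j
    exact (hpair g hg i j j hgij (by rw [hi]; exact hgij)).symm
  rcases (show t = 2 ∨ 3 ≤ t by have := hD.two_le; omega) with rfl | ht3
  · refine Or.inr ⟨m, D, ?_, hD, fun i u hu v hv => hort i i (fun e => hfree i e.symm) u hu v hv, hle⟩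
    have h1 := Submodule.finrank_sup_add_finrank_inf_eq (D 0) (D 1)
    have hdis : D 0 ⊓ D 1 = ⊥ := disjoint_iff.1 (hD.indep.pairwiseDisjoint (by decide))
    have htop : D 0 ⊔ D 1 = ⊤ := by
      rw [← hD.iSup_eq_top]
      exact le_antisymm (sup_le (le_iSup D 0) (le_iSup D 1))
        (iSup_le fun l => by fin_cases l <;> simp)
    rw [hdis, htop, finrank_top, finrank_bot, hD.finrank_eq, hD.finrank_eq, Module.finrank_fintype_fun_eq_card] at h1
    omega
  let C := {i : Fin t // i < π i}
  let cl : Fin t → C := fun i => if h : i < π i then ⟨i, h⟩ else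
    ⟨π i, by rw [hinv]; exact lt_of_le_of_ne (not_lt.1 h) (hfree i)⟩
  have hcl : ∀ i, i = (cl i).1 ∨ i = π (cl i).1 := fun i => by
    by_cases h : i < π i
    · exact Or.inl (by simp [cl, h])
    · exact Or.inr (by simp [cl, h, hinv])
  have hC : ∀ c c' : C, c.1 = c'.1 ∨ c.1 = π c'.1 → c = c' := by
    rintro c c' (h | h)
    · exact Subtype.ext h
    · exfalso
      have h1 := c.2
      have h2 := c'.2
      rw [h, hinv] at h1
      exact lt_asymm h1 h2
  let E : C → Submodule F (ι → F) := fun c => D c.1 ⊔ D (π c.1)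
  have hDE : ∀ i, D i ≤ E (cl i) := fun i => by
    rcases hcl i with h | h
    · conv_lhs => rw [h]
      exact le_sup_left
    · conv_lhs => rw [h]
      exact le_sup_right
  have hEtop : iSup E = ⊤ := eq_top_iff.2 (hD.iSup_eq_top ▸ iSup_le fun i => (hDE i).trans (le_iSup E _))
  have hEort : ∀ c c', c ≠ c' → AreOrthogonalFor (formG σ G) (E c) (E c') := by
    intro c c' hcc u hu v hv
    obtain ⟨u₁, hu₁, u₂, hu₂, rfl⟩ := Submodule.mem_sup.1 hu
    obtain ⟨v₁, hv₁, v₂, hv₂, rfl⟩ := Submodule.mem_sup.1 hv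
    have hf := isSesq_formG σ G
    rw [hf.add_left, hf.add_right, hf.add_right, hort c.1 c'.1 ?_ u₁ hu₁ v₁ hv₁, hort c.1 (π c'.1) ?_ u₁ hu₁ v₂ hv₂,
      hort (π c.1) c'.1 ?_ u₂ hu₂ v₁ hv₁, hort (π c.1) (π c'.1) ?_ u₂ hu₂ v₂ hv₂, add_zero, add_zero]
    · rw [hinv]; exact fun e => hcc (hC c c' (Or.inr e.symm))
    · rw [hinv]; exact fun e => hcc (hC c c' (Or.inl e.symm))
    · intro e
      exact hcc (hC c c' (Or.inl (by rw [← hinv c.1, ← e, hinv])))
    · intro e
      exact hcc (hC c' c (Or.inr e)).symm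
  have hrank : ∀ c, Module.finrank F (E c) = 2 * m := fun c => by
    have h1 := Submodule.finrank_sup_add_finrank_inf_eq (D c.1) (D (π c.1))
    rw [disjoint_iff.1 (hD.indep.pairwiseDisjoint (fun e => hfree c.1 e.symm)), finrank_bot, hD.finrank_eq,
      hD.finrank_eq] at h1
    show Module.finrank F ↥(D c.1 ⊔ D (π c.1)) = _
    omega
  have hcard : 2 * Fintype.card C = t := by
    let f : C ⊕ C → Fin t := Sum.elim (fun c => c.1) fun c => π c.1
    have hf : Function.Bijective f := by
      refine ⟨?_, fun i => ?_⟩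
      · rintro (c | c) (c' | c') h
        · exact congrArg Sum.inl (hC c c' (Or.inl h))
        · obtain rfl := hC c c' (Or.inr h)
          exact absurd h.symm (hfree c.1)
        · obtain rfl := hC c' c (Or.inr h.symm)
          exact absurd h (hfree _)
        · exact congrArg Sum.inr (hC c c' (Or.inl (by simpa [f, hinv] using congrArg π h)))
      · rcases hcl i with h | h
        · exact ⟨Sum.inl (cl i), h.symm⟩
        · exact ⟨Sum.inr (cl i), h.symm⟩
    have h1 := Fintype.card_of_bijective hf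
    rw [Fintype.card_sum, Fintype.card_fin] at h1
    omega
  let eC := (Fintype.equivFin C).symm
  have hmove : ∀ g ∈ H, ∀ c : C, ∀ i', (D c.1).map (Matrix.toLin' (mat g)) = D i' →
      (E c).map (Matrix.toLin' (mat g)) = E (cl i') := by
    intro g hg c i' h1
    obtain ⟨τ, hτ⟩ := hle hg
    have h2 := hpair g hg c.1 i' _ h1 (hτ (π c.1))
    show (D c.1 ⊔ D (π c.1)).map _ = _
    rw [Submodule.map_sup, h1, hτ (π c.1), h2]
    show _ = D (cl i').1 ⊔ D (π (cl i').1)
    rcases hcl i' with h | h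
    · conv_lhs => rw [h]
    · conv_lhs => rw [h, hinv]
      exact sup_comm _ _
  refine Or.inl ⟨Fintype.card C, 2 * m, fun c => E (eC c), ⟨⟨by omega, by have := hD.pos; omega, fun c => hrank _, ?_, ?_⟩,
    fun c => nondeg_of_orth hG hEtop hEort _, fun c c' hcc => hEort _ _ fun e => hcc (eC.injective e)⟩, fun g hg => ?_,
    fun c c' => ?_⟩
  · exact (indep_of_orth hG hEtop hEort).comp eC.injective
  · rw [← hEtop]; exact eC.iSup_comp (g := E)
  · obtain ⟨τ, hτ⟩ := hle hg
    have hinj : Function.Injective fun c : C => cl (τ c.1) := by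
      intro c c' e
      have hEi : Function.Injective E := fun a b hab => by
        by_contra hne'
        obtain ⟨w, hw, hw0⟩ := (E a).exists_mem_ne_zero_of_ne_bot fun e0 => by
          have := hrank a
          rw [e0, finrank_bot] at this
          exact absurd this (by have := hD.pos; omega)
        obtain ⟨-, x, hx, hne⟩ := nondeg_of_orth hG hEtop hEort a w hw hw0
        exact hne (hEort a b hne' w hw x (hab ▸ hx))
      refine hEi (Submodule.map_injective_of_injective (f := Matrix.toLin' (mat g)) (fun u v h => ?_) ?_)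
      · exact mulVec_injective g (by simpa [Matrix.toLin'_apply] using h)
      · rw [hmove g hg c _ (hτ c.1), hmove g hg c' _ (hτ c'.1)]
        exact congrArg E e
    refine ⟨(eC.trans (Equiv.ofBijective _ (Finite.injective_iff_bijective.1 hinj))).trans eC.symm, fun c => ?_⟩
    show (E (eC c)).map (Matrix.toLin' (mat g)) = E (eC (eC.symm (cl (τ (eC c).1))))
    rw [Equiv.apply_symm_apply]
    exact hmove g hg _ _ (hτ _)
  · obtain ⟨g, hg, h1⟩ := htr (eC c).1 (eC c').1
    refine ⟨g, hg, ?_⟩
    show (E (eC c)).map _ = E (eC c')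
    rw [hmove g hg _ _ h1]
    exact congrArg E (hC _ _ ((hcl (eC c').1).elim (fun h => Or.inl h.symm) fun h => Or.inr (by rw [h, hinv]; simp [← h])))

end Cfsg.Agent.Asch
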