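import Cfsg.Agent.Asch.SympMax

/-!
Similitudes of the determinant on two by two matrices.
-/

set_option autoImplicit false
set_option linter.unusedSectionVars false

namespace Cfsg.Agent.Asch

open Matrix
open scoped MatrixGroups

variable {F : Type*} [Field F]

/-- A linear map scaling the determinant of two by two matrices is a two-sided multiplication,
possibly after transposing. -/
theorem det_similitude (L : Matrix (Fin 2) (Fin 2) F →ₗ[F] Matrix (Fin 2) (Fin 2) F) {c : F} (hc : c ≠ 0)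
    (hL : ∀ x, (L x).det = c * x.det) :
    ∃ A B : Matrix (Fin 2) (Fin 2) F, A.det ≠ 0 ∧ B.det ≠ 0 ∧ ((∀ x, L x = A * x * B) ∨ (∀ x, L x = A * xᵀ * B)) := by
  have hM : IsUnit (L 1).det := by rw [hL, Matrix.det_one, mul_one]; exact hc.isUnit
  set e := (L 1)⁻¹ * L !![1, 0; 0, 0] with he
  have hinv : (L 1)⁻¹.det * c = 1 := by
    rw [← mul_one c, ← Matrix.det_one (n := Fin 2) (R := F), ← hL, ← Matrix.det_mul, Matrix.nonsing_inv_mul _ hM, Matrix.det_one]
  have hdet : ∀ x, ((L 1)⁻¹ * L x).det = x.det := fun x => by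
    rw [Matrix.det_mul, hL, ← mul_assoc, hinv, one_mul]
  have he0 : e 0 0 * e 1 1 - e 0 1 * e 1 0 = 0 := by
    rw [← Matrix.det_fin_two, he, hdet]; simp [Matrix.det_fin_two]
  have he1 : e 0 0 + e 1 1 = 1 := by
    have h1 := hdet (!![1, 0; 0, 0] + 1)
    rw [map_add, mul_add, ← he, Matrix.nonsing_inv_mul _ hM] at h1
    simp [Matrix.det_fin_two] at h1
    linear_combination h1 - he0
  obtain ⟨S, hS, heS⟩ : ∃ S : Matrix (Fin 2) (Fin 2) F, IsUnit S.det ∧ e * S = S * !![1, 0; 0, 0] := by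
    rcases eq_or_ne (e 0 0) 0 with h0 | h0
    · refine ⟨!![e 0 1, 1; 1, -e 1 0], ?_, ?_⟩
      · rw [Matrix.det_fin_two_of, show e 0 1 * -e 1 0 - 1 * 1 = -1 by linear_combination he0 - e 1 1 * h0]
        exact isUnit_one.neg
      · ext i j
        fin_cases i <;> fin_cases j <;> simp [Matrix.mul_apply, Fin.sum_univ_two] <;> grind
    · refine ⟨!![e 0 0, -e 0 1; e 1 0, e 0 0], ?_, ?_⟩
      · simp [Matrix.det_fin_two]
        rw [show e 0 0 * e 0 0 + e 0 1 * e 1 0 = e 0 0 by linear_combination e 0 0 * he1 - he0]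
        exact h0
      · ext i j
        fin_cases i <;> fin_cases j <;> simp [Matrix.mul_apply, Fin.sum_univ_two]
        · linear_combination e 0 0 * he1 - he0
        · ring
        · linear_combination e 1 0 * he1
        · linear_combination he0
  let M : Matrix (Fin 2) (Fin 2) F → Matrix (Fin 2) (Fin 2) F := fun x => S⁻¹ * ((L 1)⁻¹ * L x) * S
  have hMd : ∀ x, (M x).det = x.det := fun x => by
    show (S⁻¹ * ((L 1)⁻¹ * L x) * S).det = _
    rw [Matrix.det_mul, Matrix.det_mul, hdet, mul_right_comm, ← Matrix.det_mul, Matrix.nonsing_inv_mul _ hS,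
      Matrix.det_one, one_mul]
  have hMadd : ∀ x y, M (x + y) = M x + M y := fun x y => by simp only [M, map_add, mul_add, add_mul]
  have hMsm : ∀ (s : F) x, M (s • x) = s • M x := fun s x => by simp [M, map_smul]
  have hM1 : M 1 = 1 := by
    show S⁻¹ * ((L 1)⁻¹ * L 1) * S = 1
    rw [Matrix.nonsing_inv_mul _ hM, mul_one, Matrix.nonsing_inv_mul _ hS]
  have hM11 : M !![1, 0; 0, 0] = !![1, 0; 0, 0] := by
    show S⁻¹ * e * S = _
    rw [mul_assoc, heS, ← mul_assoc, Matrix.nonsing_inv_mul _ hS, one_mul]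
  have hM22 : M !![0, 0; 0, 1] = !![0, 0; 0, 1] := by
    have h1 : (!![0, 0; 0, 1] : Matrix (Fin 2) (Fin 2) F) = 1 + (-1 : F) • !![1, 0; 0, 0] := by
      ext i j; fin_cases i <;> fin_cases j <;> simp
    rw [h1, hMadd, hMsm, hM1, hM11]
  set a := M !![0, 1; 0, 0] with ha
  set b := M !![0, 0; 1, 0] with hb
  have hpol : ∀ x y, (M x + M y).det = (x + y).det := fun x y => by rw [← hMadd, hMd]
  have a1 := hMd !![0, 1; 0, 0]
  have b1 := hMd !![0, 0; 1, 0]
  have a2 := hpol !![0, 1; 0, 0] !![1, 0; 0, 0]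
  have a3 := hpol !![0, 1; 0, 0] !![0, 0; 0, 1]
  have b2 := hpol !![0, 0; 1, 0] !![1, 0; 0, 0]
  have b3 := hpol !![0, 0; 1, 0] !![0, 0; 0, 1]
  have ab := hpol !![0, 1; 0, 0] !![0, 0; 1, 0]
  rw [hM11, ← ha] at a2
  rw [hM22, ← ha] at a3
  rw [hM11, ← hb] at b2
  rw [hM22, ← hb] at b3
  rw [← ha, ← hb] at ab
  rw [← ha] at a1
  rw [← hb] at b1
  simp [Matrix.det_fin_two] at a1 b1 a2 a3 b2 b3 ab
  have za : a 1 1 = 0 := by linear_combination a2 - a1
  have za' : a 0 0 = 0 := by linear_combination a3 - a1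
  have zb : b 1 1 = 0 := by linear_combination b2 - b1
  have zb' : b 0 0 = 0 := by linear_combination b3 - b1
  rw [za, za', zb, zb'] at ab
  rw [za] at a1
  rw [zb] at b1
  have hform : ∀ x, M x = x 0 0 • !![1, 0; 0, 0] + x 0 1 • a + x 1 0 • b + x 1 1 • !![0, 0; 0, 1] := fun x => by
    conv_lhs => rw [show x = x 0 0 • !![1, 0; 0, 0] + x 0 1 • !![0, 1; 0, 0] + x 1 0 • !![0, 0; 1, 0] +
      x 1 1 • !![0, 0; 0, 1] by ext i j; fin_cases i <;> fin_cases j <;> simp]
    rw [hMadd, hMadd, hMadd, hMsm, hMsm, hMsm, hMsm, hM11, hM22]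
  have hLM : ∀ x, L x = L 1 * S * M x * S⁻¹ := fun x => by
    simp only [M, ← mul_assoc]
    rw [mul_assoc (L 1) S, Matrix.mul_nonsing_inv _ hS, mul_one, Matrix.mul_nonsing_inv _ hM, one_mul, mul_assoc,
      Matrix.mul_nonsing_inv _ hS, mul_one]
  have hdA : ∀ D : Matrix (Fin 2) (Fin 2) F, D.det ≠ 0 → (L 1 * S * D).det ≠ 0 := fun D hD => by
    rw [Matrix.det_mul, Matrix.det_mul]
    exact mul_ne_zero (mul_ne_zero hM.ne_zero hS.ne_zero) hD
  have hdB : ∀ D : Matrix (Fin 2) (Fin 2) F, D.det ≠ 0 → (D * S⁻¹).det ≠ 0 := fun D hD => by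
    rw [Matrix.det_mul]
    exact mul_ne_zero hD ((Matrix.isUnit_nonsing_inv_det _ hS)).ne_zero
  rcases eq_or_ne (a 1 0) 0 with h10 | h10
  · have hu : a 0 1 ≠ 0 := by
      intro e0
      grind
    have hb01 : b 0 1 = 0 := by
      rw [h10] at ab
      have hb10 : b 1 0 ≠ 0 := by intro e0; grind
      grind
    have hb10 : b 1 0 = (a 0 1)⁻¹ := by
      rw [h10, hb01] at ab
      field_simp
      linear_combination (norm := (simp <;> ring)) -ab
    refine ⟨L 1 * S * !![a 0 1, 0; 0, 1], !![(a 0 1)⁻¹, 0; 0, 1] * S⁻¹, hdA _ (by simp [Matrix.det_fin_two, hu]),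
      hdB _ (by simp [Matrix.det_fin_two, hu]), Or.inl fun x => ?_⟩
    rw [hLM, show M x = !![a 0 1, 0; 0, 1] * x * !![(a 0 1)⁻¹, 0; 0, 1] by
      rw [hform]
      ext i j
      simp only [Matrix.mul_apply, Fin.sum_univ_two, Matrix.add_apply, Matrix.smul_apply]
      fin_cases i <;> fin_cases j <;> simp [za, za', zb, zb', h10, hb01, hb10] <;> grind]
    simp only [mul_assoc]
  · have h01 : a 0 1 = 0 := by grind
    have hb10 : b 1 0 = 0 := by grind
    have hb01 : b 0 1 = (a 1 0)⁻¹ := by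
      rw [h01, hb10] at ab
      field_simp
      linear_combination (norm := (simp <;> ring)) -ab
    refine ⟨L 1 * S * !![1, 0; 0, a 1 0], !![1, 0; 0, (a 1 0)⁻¹] * S⁻¹, hdA _ (by simp [Matrix.det_fin_two, h10]),
      hdB _ (by simp [Matrix.det_fin_two, h10]), Or.inr fun x => ?_⟩
    rw [hLM, show M x = !![1, 0; 0, a 1 0] * xᵀ * !![1, 0; 0, (a 1 0)⁻¹] by
      rw [hform]
      ext i j
      simp only [Matrix.mul_apply, Fin.sum_univ_two, Matrix.add_apply, Matrix.smul_apply, Matrix.transpose_apply]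
      fin_cases i <;> fin_cases j <;> simp [za, za', zb, zb', h01, hb01, hb10] <;> grind]
    simp only [mul_assoc]

end Cfsg.Agent.Asch
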