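import Cfsg.Agent.Asch.SmallDecomp

/-!
Degree four over three and five elements: two exceptional decompositions.
-/

set_option autoImplicit false
set_option linter.unusedSectionVars false

namespace Cfsg.Agent.Asch

open Matrix Cfsg.Geo Cfsg.Agent.PrimeDim
open scoped MatrixGroups

variable {F : Type*} [Field F] [Fintype F]

/-- Two planes over three elements: a symplectic form up to sign. -/
theorem planes_three {D : Fin 2 → Submodule F (Fin 4 → F)} (hD : IsMDecomposition 2 D)
    {H : Subgroup (GL (Fin 4) F)} (hSL : H ≤ specialLinear (Fin 4) F) (hle : H ≤ decompositionStabilizer D)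
    (hq : Fintype.card F = 3) : InSim H := by
  classical
  obtain ⟨χ, emb, hP⟩ := exists_planes hD
  refine symp_of_planes hP hle fun g hg σ hσ => ?_
  let E : (Fin 4 → F) ≃ₗ[F] (Fin 2 × Fin 2 → F) :=
    { toFun := fun v q => χ q.2 v q.1
      map_add' := fun u v => funext fun q => by simp
      map_smul' := fun c v => funext fun q => by simp
      invFun := fun x => ∑ i, emb i fun a => x (a, i)
      left_inv := fun v => hP.sum v
      right_inv := fun x => funext fun q => by
        show χ q.2 (∑ i, emb i fun a => x (a, i)) q.1 = x q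
        rw [map_sum, Finset.sum_eq_single q.2 (fun i _ hi => hP.other i q.2 hi _) (by simp), hP.left] }
  let b := Module.Basis.ofEquivFun E
  have hb : ∀ a i, b (a, i) = emb i (Pi.single a 1) := fun a i => by
    rw [Module.Basis.coe_ofEquivFun]
    show ∑ j, emb j (fun c => (Pi.single (a, i) (1 : F) : Fin 2 × Fin 2 → F) (c, j)) = _
    rw [Finset.sum_eq_single i (fun j _ hj => ?_) (by simp)]
    · congr 1
      funext c
      simp [Pi.single_apply]
    · rw [show (fun c => (Pi.single (a, i) (1 : F) : Fin 2 × Fin 2 → F) (c, j)) = 0 from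
        funext fun c => Pi.single_eq_of_ne (fun h => hj (congrArg Prod.snd h)) _, map_zero]
  let Λ : Fin 2 → Matrix (Fin 2) (Fin 2) F := fun i =>
    Matrix.of fun c a => χ (σ i) (mat g *ᵥ emb i (Pi.single a 1)) c
  let ρ : Equiv.Perm (Fin 2 × Fin 2) := Equiv.prodCongr (Equiv.refl _) σ.symm
  have hM : LinearMap.toMatrix b b (Matrix.toLin' (mat g)) = (blockDiagonal Λ).submatrix ρ id := by
    ext ⟨c, j⟩ ⟨a, i⟩
    rw [LinearMap.toMatrix_apply, hb, Matrix.toLin'_apply, Module.Basis.ofEquivFun_repr_apply]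
    show χ j (mat g *ᵥ emb i (Pi.single a 1)) c = blockDiagonal Λ (c, σ.symm j) (a, i)
    rw [blockDiagonal_apply]
    simp only
    split_ifs with h
    · subst h
      show _ = χ (σ (σ.symm j)) _ c
      rw [Equiv.apply_symm_apply]
    · rw [hσ i (Pi.single a 1), hP.other (σ i) j (fun e => h (by rw [← e, Equiv.symm_apply_apply]))]
      rfl
  have hdetg : (mat g).det = 1 := congrArg Units.val (show Matrix.GeneralLinearGroup.det g = 1 from hSL hg)
  have hΛ : (Λ 0).det * (Λ 1).det = 1 := by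
    rw [← LinearMap.det_toLin', ← LinearMap.det_toMatrix b, hM, Matrix.det_permute, Matrix.det_blockDiagonal,
      Fin.prod_univ_two] at hdetg
    have hsign : ∀ τ : Equiv.Perm (Fin 2), Equiv.Perm.sign (Equiv.prodCongr (Equiv.refl (Fin 2)) τ) = 1 := by decide
    rwa [show Equiv.Perm.sign ρ = 1 from hsign σ.symm, Units.val_one, Int.cast_one, one_mul] at hdetg
  have hpow := FiniteField.pow_card_sub_one_eq_one ((Λ 0).det) (left_ne_zero_of_mul_eq_one hΛ)
  rw [hq, show 3 - 1 = 2 from rfl, pow_two] at hpow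
  have heq : (Λ 1).det = (Λ 0).det := mul_left_cancel₀ (left_ne_zero_of_mul_eq_one hΛ) (hΛ.trans hpow.symm)
  refine ⟨(Λ 0).det, fun i => ?_⟩
  have hi : (Λ i).det = (Λ 0).det := by
    fin_cases i
    · rfl
    · exact heq
  rw [← hi, Matrix.det_fin_two]
  simp only [det2, Λ, Matrix.of_apply]
  rw [show (Pi.single 0 1 : Fin 2 → F) = ![1, 0] by ext k; fin_cases k <;> simp,
    show (Pi.single 1 1 : Fin 2 → F) = ![0, 1] by ext k; fin_cases k <;> simp]
  ring

/-- Antisymmetric matrices on one of six lines. -/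
def OnSix (ω : Matrix (Fin 4) (Fin 4) F) : Prop :=
  (∀ a b, ω b a = -ω a b) ∧ (∀ a, ω a a = 0) ∧
    ∀ a b c d, a ≠ b → a ≠ c → a ≠ d → b ≠ c → b ≠ d → c ≠ d → ω a b ^ 2 = ω c d ^ 2 ∧ ω a b * ω a c = 0

set_option maxHeartbeats 2000000 in
theorem onSix_of {ω : Matrix (Fin 4) (Fin 4) F} (hs : ∀ a b, ω b a = -ω a b) (hd : ∀ a, ω a a = 0)
    (h1 : ω 0 1 ^ 2 = ω 2 3 ^ 2) (h2 : ω 0 2 ^ 2 = ω 1 3 ^ 2) (h3 : ω 0 3 ^ 2 = ω 1 2 ^ 2)
    (h4 : ω 0 1 * ω 0 2 = 0) (h5 : ω 0 1 * ω 0 3 = 0) (h6 : ω 0 2 * ω 0 3 = 0) : OnSix ω := by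
  refine ⟨hs, hd, fun a b c d hab hac had hbc hbd hcd => ?_⟩
  have e := hs 0 1; have e' := hs 0 2; have e'' := hs 0 3
  have f := hs 1 2; have f' := hs 1 3; have f'' := hs 2 3
  rcases eq_or_ne (ω 0 1) 0 with g1 | g1
  · have k1 : ω 2 3 = 0 := by simpa [g1] using h1.symm
    rcases eq_or_ne (ω 0 2) 0 with g2 | g2
    · have k2 : ω 1 3 = 0 := by simpa [g2] using h2.symm
      fin_cases a <;> fin_cases b <;> (try contradiction) <;> fin_cases c <;> (try contradiction) <;>
        fin_cases d <;> (try contradiction) <;> simp [hd, g1, g2, k1, k2, e, e', e'', f, f', f'', h3]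
    · have g3 : ω 0 3 = 0 := (mul_eq_zero.1 h6).resolve_left g2
      have k3 : ω 1 2 = 0 := by simpa [g3] using h3.symm
      fin_cases a <;> fin_cases b <;> (try contradiction) <;> fin_cases c <;> (try contradiction) <;>
        fin_cases d <;> (try contradiction) <;> simp [hd, g1, g3, k1, k3, e, e', e'', f, f', f'', h2]
  · have g2 : ω 0 2 = 0 := (mul_eq_zero.1 h4).resolve_left g1
    have g3 : ω 0 3 = 0 := (mul_eq_zero.1 h5).resolve_left g1
    have k2 : ω 1 3 = 0 := by simpa [g2] using h2.symm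
    have k3 : ω 1 2 = 0 := by simpa [g3] using h3.symm
    fin_cases a <;> fin_cases b <;> (try contradiction) <;> fin_cases c <;> (try contradiction) <;>
      fin_cases d <;> (try contradiction) <;> simp [hd, g2, g3, k2, k3, e, e', e'', f, f', f'', h1]

/-- The group of the six lines. -/
def sixLines : Subgroup (GL (Fin 4) F) where
  carrier := {g | ∀ ω, OnSix ω → OnSix (mat g * ω * (mat g)ᵀ)}
  mul_mem' := fun {g h} hg hh ω hω => by
    have e : mat (g * h) * ω * (mat (g * h))ᵀ = mat g * (mat h * ω * (mat h)ᵀ) * (mat g)ᵀ := by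
      simp only [mat, Units.val_mul, Matrix.transpose_mul, mul_assoc]
    rw [e]
    exact hg _ (hh ω hω)
  one_mem' := fun ω hω => by simpa [mat] using hω
  inv_mem' := fun {g} hg => by
    have hp : ∀ k : ℕ, ∀ ω, OnSix ω → OnSix (mat (g ^ k) * ω * (mat (g ^ k))ᵀ) := by
      intro k
      induction k with
      | zero => intro ω hω; simpa [mat] using hω
      | succ k ih =>
        intro ω hω
        have e : mat (g ^ (k + 1)) * ω * (mat (g ^ (k + 1)))ᵀ =
            mat g * (mat (g ^ k) * ω * (mat (g ^ k))ᵀ) * (mat g)ᵀ := by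
          simp only [mat, pow_succ', Units.val_mul, Matrix.transpose_mul, mul_assoc]
        rw [e]
        exact hg _ (ih ω hω)
    have hinv : g⁻¹ = g ^ (orderOf g - 1) := inv_eq_of_mul_eq_one_right (by
      rw [← pow_succ', Nat.sub_add_cancel (orderOf_pos g), pow_orderOf_eq_one])
    exact hinv ▸ hp _

theorem monomial_sixLines (hq : Fintype.card F = 5) {g : GL (Fin 4) F} {π : Equiv.Perm (Fin 4)} {c : Fin 4 → F}
    (hc : ∀ i, c i ≠ 0) (hg : ∀ x a, mat g x a = if x = π a then c a else 0) (hdet : (mat g).det = 1) :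
    g ∈ sixLines := by
  intro ω ⟨hs, hd, h⟩
  have hent : ∀ x y, (mat g * ω * (mat g)ᵀ) x y = c (π.symm x) * c (π.symm y) * ω (π.symm x) (π.symm y) := by
    intro x y
    simp only [Matrix.mul_apply, Matrix.transpose_apply, hg, ite_mul, mul_ite, zero_mul, mul_zero,
      ← Equiv.symm_apply_eq, Finset.sum_ite_eq, Finset.mem_univ, if_true]
    ring
  have hprod : (∏ i, c i) ^ 2 = 1 := by
    have e : mat g = (Matrix.diagonal c).submatrix π.symm id := by
      ext x a
      rw [hg, Matrix.submatrix_apply, Matrix.diagonal_apply, id]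
      by_cases hxa : x = π a
      · rw [if_pos hxa, if_pos (by rw [hxa, Equiv.symm_apply_apply]), hxa, Equiv.symm_apply_apply]
      · rw [if_neg hxa, if_neg fun e => hxa (by rw [← e, Equiv.apply_symm_apply])]
    rw [e, Matrix.det_permute, Matrix.det_diagonal] at hdet
    rcases Int.units_eq_one_or (Equiv.Perm.sign π.symm) with hs' | hs' <;> rw [hs'] at hdet <;>
      simp only [Units.val_one, Units.val_neg, Int.cast_one, Int.cast_neg] at hdet
    · linear_combination ((∏ i, c i) + 1) * hdet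
    · linear_combination (-(∏ i, c i) + 1) * hdet
  refine ⟨fun x y => by rw [hent, hent, hs]; ring, fun x => by rw [hent, hd, mul_zero],
    fun x y z w hxy hxz hxw hyz hyw hzw => ?_⟩
  obtain ⟨a, rfl⟩ := π.surjective x
  obtain ⟨b, rfl⟩ := π.surjective y
  obtain ⟨e, rfl⟩ := π.surjective z
  obtain ⟨f, rfl⟩ := π.surjective w
  simp only [ne_eq, π.injective.eq_iff] at hxy hxz hxw hyz hyw hzw
  obtain ⟨hsq, hz⟩ := h a b e f hxy hxz hxw hyz hyw hzw
  rw [hent, hent, hent]
  simp only [Equiv.symm_apply_apply]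
  refine ⟨?_, by linear_combination (c a * c b * (c a * c e)) * hz⟩
  have huniv : ∏ i, c i = c a * c b * (c e * c f) := by
    have hu : (Finset.univ : Finset (Fin 4)) = {a, b, e, f} :=
      (Finset.eq_univ_of_card _ (by simp [hxy, hxz, hxw, hyz, hyw, hzw])).symm
    rw [hu, Finset.prod_insert (by simp [hxy, hxz, hxw]), Finset.prod_insert (by simp [hyz, hyw]),
      Finset.prod_insert (by simp [hzw]), Finset.prod_singleton]
    ring
  rw [huniv] at hprod
  have h4 := FiniteField.pow_card_sub_one_eq_one (c e * c f) (mul_ne_zero (hc e) (hc f))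
  rw [hq, show 5 - 1 = 4 from rfl] at h4
  have hab : (c a * c b) ^ 2 = (c e * c f) ^ 2 := by
    linear_combination ((c e * c f) ^ 2) * hprod - ((c a * c b) ^ 2) * h4
  linear_combination (c a * c b) ^ 2 * hsq + ω e f ^ 2 * hab

/-- Four lines over five elements: not maximal. -/
theorem lines_five (hq : Fintype.card F = 5) {D : Fin 4 → Submodule F (Fin 4 → F)} (hD : IsMDecomposition 1 D) :
    ∃ K : Subgroup (GL (Fin 4) F), decompositionStabilizer D ⊓ specialLinear (Fin 4) F < K ∧
      K < specialLinear (Fin 4) F := by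
  classical
  have h5 : (5 : F) = 0 := by
    have h := FiniteField.cast_card_eq_zero F
    rw [hq] at h
    exact_mod_cast h
  choose v hv using fun i => finrank_eq_one_iff'.1 (hD.finrank_eq i)
  have hli : LinearIndependent F fun i => ((v i : D i) : Fin 4 → F) :=
    hD.indep.linearIndependent _ (fun i => (v i).2) fun i h => (hv i).1 (Subtype.ext h)
  let b : Module.Basis (Fin 4) F (Fin 4 → F) := basisOfLinearIndependentOfCardEqFinrank hli
    (by rw [Module.finrank_fintype_fun_eq_card])
  have hb : ∀ i, b i = ((v i : D i) : Fin 4 → F) := fun i => by simp [b]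
  set P := ofBasis b with hPdef
  let K : Subgroup (GL (Fin 4) F) := sixLines.map (MulAut.conj P).toMonoidHom ⊓ specialLinear (Fin 4) F
  refine ⟨K, lt_of_le_not_ge ?_ fun hle => ?_, lt_of_le_not_ge inf_le_right fun hle => ?_⟩
  · rintro g ⟨hgM, hgS⟩
    refine ⟨⟨P⁻¹ * g * P, ?_, by simp [mul_assoc]⟩, hgS⟩
    obtain ⟨π, c, hc, hπ⟩ := exists_perm (b := b) (g := g) fun i => by
      obtain ⟨σ, hσ⟩ := hgM
      have h1 : mat g *ᵥ b i ∈ D (σ i) := hσ i ▸ ⟨b i, (hb i).symm ▸ (v i).2, Matrix.toLin'_apply _ _⟩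
      obtain ⟨c, hc⟩ := (hv (σ i)).2 ⟨_, h1⟩
      exact ⟨σ i, c, (congrArg Subtype.val hc).symm.trans (by rw [hb (σ i)]; rfl)⟩
    refine monomial_sixLines hq hc (π := π) (fun x a => ?_) ?_
    · have h1 := congrFun (conj_single b g (hπ a)) x
      rw [Matrix.mulVec_single_one, Matrix.col_apply] at h1
      rw [h1, Pi.smul_apply, Pi.single_apply, smul_eq_mul, mul_ite, mul_one, mul_zero]
    · have h1 : Matrix.GeneralLinearGroup.det (P⁻¹ * g * P) = 1 := by
        rw [map_mul, map_mul, map_inv, show Matrix.GeneralLinearGroup.det g = 1 from hgS, mul_one, inv_mul_cancel]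
      exact congrArg Units.val h1
  · let G₀ : Matrix (Fin 4) (Fin 4) F := !![1, 0, 1, 0; 0, 1, 0, 1; 2, 0, -2, 0; 0, 2, 0, -2]
    have hd : G₀.det = 1 := by
      simp [G₀, Matrix.det_succ_row_zero, Fin.sum_univ_succ, Fin.succAbove]
      linear_combination (3 : F) * h5
    let g₀ : GL (Fin 4) F := Matrix.GeneralLinearGroup.mkOfDetNeZero G₀ (by rw [hd]; exact one_ne_zero)
    have hg₀S : g₀ ∈ specialLinear (Fin 4) F := Units.ext hd
    have hg₀K : g₀ ∈ sixLines := by
      intro ω ⟨hs, hd', h⟩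
      show OnSix (G₀ * ω * G₀ᵀ)
      have hskew : ω ᵀ = -ω := by ext a c; exact hs a c
      have e1 := (h 0 1 2 3 (by decide) (by decide) (by decide) (by decide) (by decide) (by decide))
      have e2 := (h 0 2 1 3 (by decide) (by decide) (by decide) (by decide) (by decide) (by decide))
      have e3 := (h 0 3 1 2 (by decide) (by decide) (by decide) (by decide) (by decide) (by decide))
      have e4 := (h 0 2 3 1 (by decide) (by decide) (by decide) (by decide) (by decide) (by decide))
      have s := hs 0 1; have s' := hs 0 2; have s'' := hs 0 3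
      have t := hs 1 2; have t' := hs 1 3; have t'' := hs 2 3
      have hskew' : ∀ a c, (G₀ * ω * G₀ᵀ) c a = -(G₀ * ω * G₀ᵀ) a c := fun a c => by
        have h1 : (G₀ * ω * G₀ᵀ)ᵀ = -(G₀ * ω * G₀ᵀ) := by
          rw [Matrix.transpose_mul, Matrix.transpose_mul, Matrix.transpose_transpose, hskew, Matrix.neg_mul,
            Matrix.mul_neg, mul_assoc]
        exact congrFun (congrFun h1 a) c
      refine onSix_of hskew' (fun a => ?_) ?_ ?_ ?_ ?_ ?_ ?_ <;>
        simp only [G₀, Matrix.mul_apply, Matrix.transpose_apply, Fin.sum_univ_four]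
      · fin_cases a <;> simp [hd', s, s', s'', t, t', t''] <;> ring
      all_goals simp [hd', s, s', s'', t, t', t'']
      all_goals rcases mul_eq_zero.1 e1.2 with z | z <;> rcases mul_eq_zero.1 e3.2 with z' | z' <;>
        rcases mul_eq_zero.1 e4.2 with z'' | z'' <;>
        first
          | grobner
          | skip
    have hmem : P * g₀ * P⁻¹ ∈ K := ⟨⟨g₀, hg₀K, rfl⟩, mem_sl_conj hg₀S⟩
    obtain ⟨σ, hσ⟩ := (hle hmem).1
    have h1 : mat (P * g₀ * P⁻¹) *ᵥ b 0 = b 0 + (2 : F) • b 2 := by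
      rw [← mulVec_mul, ← mulVec_mul, hPdef, ← ofBasis_single b 0, inv_mulVec_cancel,
        show mat g₀ *ᵥ (Pi.single 0 1 : Fin 4 → F) = Pi.single 0 1 + (2 : F) • Pi.single 2 1 by
          ext k; fin_cases k <;> simp [g₀, G₀, mat, Matrix.GeneralLinearGroup.mkOfDetNeZero],
        Matrix.mulVec_add, Matrix.mulVec_smul, ofBasis_single, ofBasis_single]
    have h2 : b 0 + (2 : F) • b 2 ∈ D (σ 0) := by
      rw [← h1, ← hσ 0]
      exact ⟨b 0, (hb 0).symm ▸ (v 0).2, Matrix.toLin'_apply _ _⟩
    obtain ⟨c, hc⟩ := (hv (σ 0)).2 ⟨_, h2⟩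
    have h3 : c • b (σ 0) = b 0 + (2 : F) • b 2 := by rw [hb (σ 0)]; exact congrArg Subtype.val hc
    have e0 := congrArg (fun u => b.repr u 0) h3
    have e2 := congrArg (fun u => b.repr u 2) h3
    simp at e0 e2
    have h20 : (2 : F) ≠ 0 := fun h => one_ne_zero (α := F) (by linear_combination h5 - 2 * h)
    by_cases hs0 : σ 0 = 0
    · simp [hs0] at e2
      exact h20 e2.symm
    · simp [hs0] at e0
  · obtain ⟨g, hg, hg'⟩ := (hle (mem_sl_conj (P := P) (el_mem (0 : Fin 4) 2 (by decide) (1 : F)))).1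
    have hge : g = el 0 2 (by decide) 1 := (MulAut.conj P).injective hg'
    subst hge
    let ω : Matrix (Fin 4) (Fin 4) F := !![0, 1, 0, 0; -1, 0, 0, 0; 0, 0, 0, 1; 0, 0, -1, 0]
    have hω : OnSix ω := onSix_of (fun a c => by fin_cases a <;> fin_cases c <;> simp [ω])
      (fun a => by fin_cases a <;> simp [ω]) (by simp [ω]) (by simp [ω]) (by simp [ω]) (by simp [ω]) (by simp [ω])
      (by simp [ω])
    have h1 := ((hg ω hω).2.2 0 1 3 2 (by decide) (by decide) (by decide) (by decide) (by decide) (by decide)).2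
    simp [ω, mat_el, Matrix.transvection, Matrix.mul_apply, Fin.sum_univ_four, Matrix.one_apply,
      Matrix.single_apply] at h1

end Cfsg.Agent.Asch
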