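import Cfsg.Agent.Asch.Blocks

/-!
A frame in which a normal subgroup of an irreducible group is block diagonal, with irreducible blocks that are equal
whenever they are equivalent.
-/

set_option autoImplicit false
set_option linter.unusedSectionVars false

namespace Cfsg.Agent.Asch

open Matrix Cfsg.Geo Cfsg.Agent.PrimeDim
open scoped MatrixGroups

variable {F : Type*} [Field F] [Finite F] {ι : Type} [Fintype ι] [DecidableEq ι]

set_option maxHeartbeats 1000000 in
/-- Translates of one irreducible subspace form a basis. -/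
theorem exists_translates [Nonempty ι] {H N : Subgroup (GL ι F)} (hH : Irr H) (hn : Normalised H N) :
    ∃ (d k : ℕ) (u : Fin d → ι → F) (h : Fin k → GL ι F), 0 < d ∧ (∀ j, h j ∈ H) ∧
      Inv N (Submodule.span F (Set.range u)) ∧
      (∀ W, Inv N W → W ≤ Submodule.span F (Set.range u) → W = ⊥ ∨ W = Submodule.span F (Set.range u)) ∧
      Fintype.card ι = d * k ∧ LinearIndependent F (fun p : Fin d × Fin k => mat (h p.2) *ᵥ u p.1) := by
  classical
  let T : Set ℕ := {m | ∃ W : Submodule F (ι → F), Inv N W ∧ W ≠ ⊥ ∧ Module.finrank F W = m}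
  haveI : Nontrivial (ι → F) := Function.nontrivial
  obtain ⟨U, hUi, hU0, hUd⟩ := Nat.sInf_mem (s := T) ⟨_, ⊤, fun _ _ _ _ => Submodule.mem_top, top_ne_bot, rfl⟩
  have hmin : ∀ X : Submodule F (ι → F), Inv N X → X ≤ U → X = ⊥ ∨ X = U := fun X h1 h2 => by
    by_cases h0 : X = ⊥
    · exact Or.inl h0
    · exact Or.inr (Submodule.eq_of_le_of_finrank_le h2 (hUd.le.trans (Nat.sInf_le ⟨X, h1, h0, rfl⟩)))
  let bU := Module.finBasis F U
  set d := Module.finrank F U with hd
  let u : Fin d → ι → F := fun i => (bU i : ι → F)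
  have hu : Submodule.span F (Set.range u) = U := by
    rw [show u = U.subtype ∘ bU from rfl, Set.range_comp, ← Submodule.map_span, bU.span_eq, Submodule.map_top,
      Submodule.range_subtype]
  have huli : LinearIndependent F u := bU.linearIndependent.map' _ (LinearMap.ker_eq_bot.2 U.subtype_injective)
  have hd0 : 0 < d := Nat.pos_of_ne_zero fun e => hU0 (Submodule.finrank_eq_zero.1 e)
  let T' : Set ℕ := {k | ∃ h : Fin k → GL ι F, (∀ j, h j ∈ H) ∧
    LinearIndependent F (fun p : Fin d × Fin k => mat (h p.2) *ᵥ u p.1)}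
  have hbound : ∀ k ∈ T', k ≤ Fintype.card ι := by
    rintro k ⟨h, -, hli⟩
    have := hli.fintype_card_le_finrank
    rw [Fintype.card_prod, Fintype.card_fin, Fintype.card_fin, Module.finrank_fintype_fun_eq_card] at this
    exact le_trans (Nat.le_mul_of_pos_left k hd0) this
  have hne : T'.Nonempty := by
    refine ⟨0, Fin.elim0, fun j => j.elim0, ?_⟩
    exact linearIndependent_empty_type
  obtain ⟨k, ⟨h, hhH, hli⟩, hmax⟩ := ((Set.finite_Iic (Fintype.card ι)).subset hbound).exists_maximal hne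
  refine ⟨d, k, u, h, hd0, hhH, hu ▸ hUi, fun W h1 h2 => hu ▸ hmin W h1 (hu ▸ h2), ?_, hli⟩
  set v := fun p : Fin d × Fin k => mat (h p.2) *ᵥ u p.1 with hv
  set W := Submodule.span F (Set.range v) with hW
  have hWi : Inv N W := by
    intro g hg w hw
    induction hw using Submodule.span_induction with
    | mem x hx =>
      obtain ⟨⟨i, j⟩, rfl⟩ := hx
      have h1 : mat ((h j)⁻¹ * g * h j) *ᵥ u i ∈ U :=
        hUi _ (hn.conj' (hhH j) hg) _ (bU i).2
      rw [← hu] at h1
      rw [hv, ← mulVec_conj g (h j)]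
      have h2 : Submodule.span F (Set.range u) ≤ W.comap (Matrix.toLin' (mat (h j))) := by
        rw [Submodule.span_le]
        rintro _ ⟨l, rfl⟩
        exact Submodule.subset_span ⟨(l, j), (Matrix.toLin'_apply _ _).symm⟩
      simpa [Matrix.toLin'_apply] using h2 h1
    | zero => rw [Matrix.mulVec_zero]; exact zero_mem _
    | add x y _ _ hx hy => rw [Matrix.mulVec_add]; exact add_mem hx hy
    | smul c x _ hx => rw [Matrix.mulVec_smul]; exact Submodule.smul_mem _ _ hx
  have hWtop : W = ⊤ := by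
    by_contra hne
    obtain ⟨g, hgH, hg⟩ : ∃ g ∈ H, ¬ tr g U ≤ W := by
      by_contra hcon
      push Not at hcon
      let X : Submodule F (ι → F) := ⨆ g : H, tr (g : GL ι F) U
      have hX : Inv H X := by
        intro g hg w hw
        have : X ≤ X.comap (Matrix.toLin' (mat g)) := iSup_le fun g' x hx => by
          rw [Submodule.mem_comap, Matrix.toLin'_apply]
          refine Submodule.mem_iSup_of_mem ((⟨g, hg⟩ : H) * g') ?_
          rw [mem_tr] at hx ⊢
          rw [mulVec_mul, Subgroup.coe_mul, _root_.mul_inv_rev, inv_mul_cancel_right]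
          exact hx
        simpa [Matrix.toLin'_apply] using this hw
      rcases hH X hX with e | e
      · refine hU0 (le_bot_iff.1 (e ▸ le_trans ?_ (le_iSup _ (1 : H))))
        intro x hx
        rw [mem_tr]
        simpa [mat] using hx
      · exact hne (top_le_iff.1 (e ▸ iSup_le fun g => hcon g g.2))
    have htr : Inv N (tr g U) := by
      intro x hx w hw
      rw [mem_tr] at hw ⊢
      have := hUi _ (hn.conj' hgH hx) _ hw
      rwa [mulVec_mul, mul_assoc, mul_inv_cancel, mul_one, ← mulVec_mul] at this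
    have hinf : tr g U ⊓ W = ⊥ := by
      by_contra h0
      have h1 : Module.finrank F ↥(tr g U ⊓ W) = Module.finrank F ↥(tr g U) := le_antisymm
        (Submodule.finrank_mono inf_le_left) ((finrank_tr g U).trans hUd |>.le.trans
          (Nat.sInf_le ⟨_, (fun x hx w hw => ⟨htr x hx w hw.1, hWi x hx w hw.2⟩ : Inv N (tr g U ⊓ W)), h0, rfl⟩))
      exact hg (inf_eq_left.1 (Submodule.eq_of_le_of_finrank_eq inf_le_left h1))
    let h' : Fin (k + 1) → GL ι F := Fin.snoc h g
    have hli' : LinearIndependent F (fun p : Fin d × Fin (k + 1) => mat (h' p.2) *ᵥ u p.1) := by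
      let f : (Fin d × Fin k) ⊕ Fin d → Fin d × Fin (k + 1) := Sum.elim (fun p => (p.1, p.2.castSucc))
        (fun i => (i, Fin.last k))
      have hf : Function.Bijective f := by
        rw [Fintype.bijective_iff_injective_and_card]
        refine ⟨?_, by simp [Nat.mul_succ]⟩
        rintro (⟨i, j⟩ | i) (⟨i', j'⟩ | i') he
        · simpa [f] using he
        · exact absurd (congrArg Prod.snd he) (Fin.castSucc_lt_last j).ne
        · exact absurd (congrArg Prod.snd he).symm (Fin.castSucc_lt_last j').ne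
        · simpa [f] using he
      rw [← linearIndependent_equiv (Equiv.ofBijective f hf)]
      rw [show (fun p : Fin d × Fin (k + 1) => mat (h' p.2) *ᵥ u p.1) ∘ Equiv.ofBijective f hf =
        Sum.elim v (fun i => mat g *ᵥ u i) by
        funext p; rcases p with ⟨i, j⟩ | i <;> simp [f, h', v]]
      refine LinearIndependent.sum_type hli ((huli.map' (Matrix.toLin' (mat g)) (LinearMap.ker_eq_bot.2 fun x y e =>
        mulVec_injective g (by simpa [Matrix.toLin'_apply] using e)))) ?_
      rw [disjoint_iff, eq_bot_iff]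
      rintro x ⟨hx1, hx2⟩
      rw [← hinf]
      refine ⟨?_, hx1⟩
      have h3 : Submodule.span F (Set.range fun i => mat g *ᵥ u i) ≤ tr g U := by
        rw [Submodule.span_le]
        rintro _ ⟨i, rfl⟩
        rw [SetLike.mem_coe, mem_tr, inv_mulVec_cancel]
        exact (bU i).2
      exact h3 hx2
    have hk1 : k + 1 ∈ T' := ⟨h', fun j => by
      induction j using Fin.lastCases with
      | last => simp only [h', Fin.snoc_last]; exact hgH
      | cast j => simp only [h', Fin.snoc_castSucc]; exact hhH j, hli'⟩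
    exact absurd (hmax hk1 (Nat.le_succ k)) (Nat.not_succ_le_self k)
  have := finrank_span_eq_card hli
  rw [← hW, hWtop, finrank_top, Module.finrank_fintype_fun_eq_card, Fintype.card_prod, Fintype.card_fin,
    Fintype.card_fin] at this
  exact this

/-- The data of a reduced block frame. -/
structure IsBlockFrame {d J : Type} [Fintype d] [DecidableEq d] [Fintype J]
    [DecidableEq J] (N : Subgroup (GL (d × J) F)) (a : J → GL (d × J) F → Matrix d d F) : Prop where
  block : ∀ g ∈ N, mat g = blockDiagonal fun j => a j g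
  irr : ∀ j, IrrFam fun g : N => a j g
  reduced : ∀ (j k : J) (X : Matrix d d F), X ≠ 0 → (∀ g ∈ N, a j g * X = X * a k g) → ∀ g ∈ N, a j g = a k g

/-- A block frame exists. -/
theorem exists_frame [Nonempty ι] {H N : Subgroup (GL ι F)} (hH : Irr H) (hn : Normalised H N) :
    ∃ (d k : ℕ) (e : ι ≃ Fin d × Fin k) (P : GL ι F) (a : Fin k → GL (Fin d × Fin k) F → Matrix (Fin d) (Fin d) F),
      0 < d ∧ 0 < k ∧ IsBlockFrame (N.comap (fr e P).toMonoidHom) a := by
  classical
  obtain ⟨d, k, u, h, hd, hhH, hUi, hUmin, hcard, hli⟩ := exists_translates hH hn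
  have hk : 0 < k := Nat.pos_of_ne_zero fun e => Fintype.card_ne_zero (α := ι) (by rw [hcard, e, mul_zero])
  let e₀ : ι ≃ Fin d × Fin k := Fintype.equivOfCardEq (by rw [hcard, Fintype.card_prod, Fintype.card_fin, Fintype.card_fin])
  set v := fun p : Fin d × Fin k => mat (h p.2) *ᵥ u p.1 with hv
  obtain ⟨P₀, hP₀⟩ : IsUnit (Matrix.of fun x i => v (e₀ i) x : Matrix ι ι F) := by
    refine Matrix.linearIndependent_cols_iff_isUnit.1 ?_
    exact hli.comp e₀ e₀.injective
  have hfr : ∀ p, frL e₀ P₀ (Pi.single p 1) = v p := by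
    intro p
    show mat P₀ *ᵥ ((Pi.single p (1 : F) : Fin d × Fin k → F) ∘ e₀) = v p
    rw [show (Pi.single p (1 : F) : Fin d × Fin k → F) ∘ e₀ = Pi.single (e₀.symm p) 1 by
      funext i; simp [Pi.single_apply, Equiv.eq_symm_apply]]
    rw [show mat P₀ = _ from hP₀, Matrix.mulVec_single_one]
    funext x
    simp [Matrix.col_apply]
  set U := Submodule.span F (Set.range u) with hU
  have huli : LinearIndependent F u := by
    have h1 := hli.comp (fun i : Fin d => (i, (⟨0, hk⟩ : Fin k))) fun i i' e => congrArg Prod.fst e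
    exact LinearIndependent.of_comp (Matrix.toLin' (mat (h ⟨0, hk⟩))) (by simpa [Function.comp_def] using h1)
  let bU := Module.Basis.span huli
  have hbU : ∀ i, ((bU i : U) : ι → F) = u i := fun i => congrArg Subtype.val (Module.Basis.span_apply huli i)
  let N' := N.comap (fr e₀ P₀).toMonoidHom
  -- the blocks
  let a₀ : Fin k → GL (Fin d × Fin k) F → Matrix (Fin d) (Fin d) F := fun j g => Matrix.of fun l i =>
    if hm : mat ((h j)⁻¹ * fr e₀ P₀ g * h j) *ᵥ u i ∈ U then bU.repr ⟨_, hm⟩ l else 0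
  have ha₀ : ∀ g ∈ N', ∀ j i, mat ((h j)⁻¹ * fr e₀ P₀ g * h j) *ᵥ u i = ∑ l, a₀ j g l i • u l := by
    intro g hg j i
    have hm : mat ((h j)⁻¹ * fr e₀ P₀ g * h j) *ᵥ u i ∈ U :=
      hUi _ (hn.conj' (hhH j) hg) _ (Submodule.subset_span ⟨i, rfl⟩)
    have h1 := congrArg Subtype.val (bU.sum_repr ⟨_, hm⟩)
    simp only [Submodule.coe_sum, Submodule.coe_smul, hbU] at h1
    simp only [a₀, Matrix.of_apply, dif_pos hm]
    exact h1.symm
  have hblock : ∀ g ∈ N', mat g = blockDiagonal fun j => a₀ j g := by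
    intro g hg
    refine Matrix.ext_of_mulVec_single fun p => (frL e₀ P₀).injective ?_
    obtain ⟨i, j⟩ := p
    rw [← fr_mulVec, hfr, hv]
    dsimp only
    rw [← mulVec_conj (fr e₀ P₀ g) (h j), ha₀ g hg j i, Matrix.mulVec_sum]
    rw [show (blockDiagonal (fun j => a₀ j g) *ᵥ Pi.single (i, j) 1) =
      ∑ l, a₀ j g l i • (Pi.single (l, j) 1 : Fin d × Fin k → F) by
      funext q
      obtain ⟨m, j'⟩ := q
      simp only [Matrix.mulVec_single_one, Matrix.col_apply, blockDiagonal_apply', Finset.sum_apply, Pi.smul_apply,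
        Pi.single_apply, Prod.ext_iff, smul_eq_mul, mul_ite, mul_one, mul_zero]
      by_cases hj : j' = j
      · subst hj; simp
      · simp [hj]]
    simp only [map_sum, map_smul, hfr, hv, Matrix.mulVec_smul]
  have hirr : ∀ j, IrrFam fun g : N' => a₀ j g := by
    intro j W hW
    let Φ : (Fin d → F) →ₗ[F] (ι → F) := Fintype.linearCombination F u
    have hΦ : ∀ x, Φ x = ∑ i, x i • u i := fun x => Fintype.linearCombination_apply F u x
    have hΦi : Function.Injective Φ := huli.fintypeLinearCombination_injective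
    have key : ∀ g ∈ N, ∀ x ∈ W, mat g *ᵥ Φ x ∈ W.map Φ := by
      intro g hg x hx
      obtain ⟨g', hg'⟩ := (fr e₀ P₀).surjective (h j * g * (h j)⁻¹)
      have hg'N : g' ∈ N' := by
        rw [Subgroup.mem_comap, MulEquiv.coe_toMonoidHom, hg']
        exact hn _ (hhH j) g hg
      refine ⟨a₀ j g' *ᵥ x, hW ⟨g', hg'N⟩ x hx, ?_⟩
      have e1 : (h j)⁻¹ * fr e₀ P₀ g' * h j = g := by rw [hg']; group
      have e2 : ∀ i, mat g *ᵥ u i = ∑ l, a₀ j g' l i • u l := fun i => by rw [← ha₀ g' hg'N j i, e1]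
      rw [hΦ, hΦ, Matrix.mulVec_sum]
      simp only [Matrix.mulVec_smul, e2, Finset.smul_sum, smul_smul]
      rw [Finset.sum_comm]
      refine Finset.sum_congr rfl fun l _ => ?_
      simp only [Matrix.mulVec, dotProduct, Finset.sum_smul, mul_comm]
    have hle : W.map Φ ≤ U := by
      rintro _ ⟨x, -, rfl⟩
      rw [hΦ]
      exact Submodule.sum_mem _ fun i _ => Submodule.smul_mem _ _ (Submodule.subset_span ⟨i, rfl⟩)
    rcases hUmin (W.map Φ) (fun g hg v hv => by
      obtain ⟨x, hx, rfl⟩ := hv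
      exact key g hg x hx) hle with h1 | h1
    · refine Or.inl (le_bot_iff.1 fun x hx => (Submodule.mem_bot F).2 (hΦi ?_))
      rw [map_zero]
      exact (Submodule.mem_bot F).1 (h1 ▸ Submodule.mem_map_of_mem hx)
    · refine Or.inr (eq_top_iff.2 fun x _ => ?_)
      obtain ⟨y, hy, hy'⟩ : Φ x ∈ W.map Φ := h1 ▸ hΦ x ▸
        Submodule.sum_mem _ fun i _ => Submodule.smul_mem _ _ (Submodule.subset_span ⟨i, rfl⟩)
      exact hΦi hy' ▸ hy
  -- make equivalent blocks equal
  let R : Fin k → Fin k → Prop := fun j l => ∃ X : Matrix (Fin d) (Fin d) F, IsUnit X ∧ ∀ g ∈ N', a₀ l g * X = X * a₀ j g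
  let st : Setoid (Fin k) :=
    ⟨R, fun j => ⟨1, isUnit_one, fun g _ => by rw [mul_one, one_mul]⟩, fun {x y} ⟨X, hX, hx⟩ => by
      obtain ⟨U', rfl⟩ := hX
      refine ⟨↑U'⁻¹, Units.isUnit _, fun g hg => ?_⟩
      rw [Units.eq_inv_mul_iff_mul_eq, ← mul_assoc, ← hx g hg, mul_assoc, Units.mul_inv, mul_one],
    fun {x y z} ⟨X, hX, hx⟩ ⟨Y, hY, hy⟩ => ⟨Y * X, hY.mul hX, fun g hg => by
      rw [← mul_assoc, hy g hg, mul_assoc, hx g hg, mul_assoc]⟩⟩
  let rep : Fin k → Fin k := fun j => (Quotient.mk st j).out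
  have hrep : ∀ j, ∃ X : (Matrix (Fin d) (Fin d) F)ˣ, ∀ g ∈ N', a₀ (rep j) g * (X : Matrix (Fin d) (Fin d) F) =
      (X : Matrix (Fin d) (Fin d) F) * a₀ j g := by
    intro j
    obtain ⟨X, ⟨U', rfl⟩, hx⟩ : R j (rep j) := st.iseqv.symm (Quotient.mk_out (s := st) j)
    exact ⟨U', hx⟩
  choose X hX using hrep
  let B : GL (Fin d × Fin k) F := ⟨blockDiagonal fun j => (↑(X j)⁻¹ : Matrix (Fin d) (Fin d) F),
    blockDiagonal fun j => (X j : Matrix (Fin d) (Fin d) F),
    by rw [← blockDiagonal_mul, ← blockDiagonal_one]; exact congrArg _ (funext fun j => Units.inv_mul _),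
    by rw [← blockDiagonal_mul, ← blockDiagonal_one]; exact congrArg _ (funext fun j => Units.mul_inv _)⟩
  refine ⟨d, k, e₀, fr e₀ P₀ B * P₀, fun j g => a₀ (rep j) (B * g * B⁻¹), hd, hk, ?_, ?_, ?_⟩
  · intro g hg
    have hg' : B * g * B⁻¹ ∈ N' := by
      rw [Subgroup.mem_comap, MulEquiv.coe_toMonoidHom, fr_conj]
      exact hg
    have h1 := hblock _ hg'
    have e : mat g = mat B⁻¹ * mat (B * g * B⁻¹) * mat B := by
      simp only [mat, ← Units.val_mul]
      congr 1
      group
    rw [e, h1]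
    show blockDiagonal (fun j => (X j : Matrix (Fin d) (Fin d) F)) * _ * blockDiagonal (fun j => (↑(X j)⁻¹ : Matrix (Fin d) (Fin d) F)) = _
    rw [← blockDiagonal_mul, ← blockDiagonal_mul]
    congr 1
    funext j
    rw [← hX j _ hg', mul_assoc, Units.mul_inv, mul_one]
  · intro j W hW
    refine hirr (rep j) W fun g w hw => ?_
    have hg : B⁻¹ * g.1 * B ∈ N.comap (fr e₀ (fr e₀ P₀ B * P₀)).toMonoidHom := by
      rw [Subgroup.mem_comap, MulEquiv.coe_toMonoidHom, ← fr_conj, show B * (B⁻¹ * g.1 * B) * B⁻¹ = g.1 by group]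
      exact g.2
    have := hW ⟨_, hg⟩ w hw
    simp only at this
    rwa [show B * (B⁻¹ * g.1 * B) * B⁻¹ = g.1 by group] at this
  · intro j l Y hY0 hY g hg
    have hall : ∀ g ∈ N', a₀ (rep j) g * Y = Y * a₀ (rep l) g := by
      intro g hg
      have hg' : B⁻¹ * g * B ∈ N.comap (fr e₀ (fr e₀ P₀ B * P₀)).toMonoidHom := by
        rw [Subgroup.mem_comap, MulEquiv.coe_toMonoidHom, ← fr_conj, show B * (B⁻¹ * g * B) * B⁻¹ = g by group]
        exact hg
      have := hY _ hg'
      rwa [show B * (B⁻¹ * g * B) * B⁻¹ = g by group] at this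
    have hu := isUnit_of_schur (a := fun g : N' => a₀ (rep l) g) (b := fun g : N' => a₀ (rep j) g) (hirr _) (hirr _) hY0
      fun g => hall g.1 g.2
    have hR : R (rep l) (rep j) := ⟨Y, hu, hall⟩
    have e : rep j = rep l := by
      have h1 : Quotient.mk st (rep l) = Quotient.mk st (rep j) := Quotient.sound hR
      have h2 : Quotient.mk st l = Quotient.mk st j := by simpa only [rep, Quotient.out_eq] using h1
      simp only [rep, h2]
    rw [e]

end Cfsg.Agent.Asch
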