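import Cfsg.Agent.Asch.SmallDecomp
import Cfsg.Agent.NotMax.TensorFour

/-!
Maximal subgroups of special linear groups, by outcome.
-/

set_option autoImplicit false
set_option linter.unusedSectionVars false

namespace Cfsg.Agent.Asch

open Matrix Cfsg.Geo Cfsg.Agent.PrimeDim
open scoped MatrixGroups

variable {F : Type*} [Field F] [Fintype F] {n : ℕ}

/-- A maximal subgroup inside a group of similitudes. -/
theorem max_of_sim (hn : 3 ≤ n) {H : Subgroup (GL (Fin n) F)} (hH : IsMaximalIn (specialLinear (Fin n) F) H)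
    (h : InSim H) :
    (Odd (Fintype.card F) ∧ ∃ Q : (Fin n → F) → F, IsNondegenerateQuadraticForm Q ∧
      H = quadSimilarityGroup Q ⊓ specialLinear (Fin n) F) ∨
    (Even n ∧ ∃ f : (Fin n → F) → (Fin n → F) → F, IsSymplecticForm f ∧
      H = similarityGroup f ⊓ specialLinear (Fin n) F) ∨
    (∃ (σ : F ≃+* F) (f : (Fin n → F) → (Fin n → F) → F), IsUnitaryForm σ f ∧
      H = similarityGroup f ⊓ specialLinear (Fin n) F) := by
  have hc : 2 < Fintype.card (Fin n) := by rw [Fintype.card_fin]; omega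
  rcases h with ⟨f, hf, hev, hle⟩ | ⟨σ, f, hf, hle⟩ | ⟨Q, hQ, h2, hle⟩
  · refine Or.inr (Or.inl ⟨by rwa [Fintype.card_fin] at hev, f, hf, eq_inf_of_maximal hH hle fun hle' => ?_⟩)
    have hs := isSesq_of_bilinear hf.bilinear
    refine sl_not_similitude hc (σ := RingEquiv.refl F) (hs.det_ne_zero hf.nondegenerate) fun g hg => ?_
    obtain ⟨c, hc'⟩ := hle' hg
    refine ⟨c, formG_ext (σ := RingEquiv.refl F) fun u v => ?_⟩
    rw [← formG_mulVec, formG_smul, ← hs.eq_formG, ← hs.eq_formG]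
    exact hc' u v
  · exact Or.inr (Or.inr ⟨σ, f, hf, eq_inf_of_maximal hH hle (sl_not_unitary hc hf)⟩)
  · exact Or.inl ⟨odd_of_two_ne_zero h2, Q, hQ, eq_inf_of_maximal hH hle (sl_not_quad hc hQ)⟩

/-- The arithmetic of a group of class six. -/
theorem six_arith {r : ℕ} {R : Subgroup (GL (Fin n) F)} (hn : 3 ≤ n) (hd : IsLinearSymplecticTypeData r R) :
    4 ≤ Fintype.card F ∧ (r = 2 → ∃ p : ℕ, p.Prime ∧ Fintype.card F = p ∧ p % 4 = 1) ∧
      (r = 3 → ∃ p : ℕ, p.Prime ∧ Fintype.card F = p ∧ p % 3 = 1) := by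
  obtain ⟨p, e, hrp, ⟨hp, -, hcard, hdvd, hmin⟩, hor⟩ := hd.field
  have h2 := hp.two_le
  rcases hor with ⟨hr, he, hz, -⟩ | ⟨hr, he, hz, -, -⟩ | ⟨-, -, hι, -⟩
  · rw [hz] at hdvd hmin
    have hpos : 0 < p ^ e - 1 := by
      have : 1 < p ^ e := Nat.one_lt_pow he.pos.ne' hp.one_lt
      omega
    have h3 : 3 ≤ r := by
      have := hd.symplecticType.prime.two_le
      rcases hr with ⟨k, hk⟩
      omega
    refine ⟨by rw [hcard]; have := Nat.le_of_dvd hpos hdvd; omega, fun h => absurd (h ▸ hr) (by decide), ?_⟩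
    rintro rfl
    have he2 : e ≤ 2 := by
      by_contra hlt
      refine hmin 2 (by omega) (by omega) ?_
      have h1 : (p : ZMod 3) ≠ 0 := fun h => hrp
        ((Nat.prime_dvd_prime_iff_eq Nat.prime_three hp).1 ((ZMod.natCast_eq_zero_iff p 3).1 h))
      rw [← Nat.modEq_iff_dvd' (Nat.one_le_pow _ _ hp.pos), ← ZMod.natCast_eq_natCast_iff, Nat.cast_pow, Nat.cast_one]
      exact ((by decide : ∀ u : ZMod 3, u ≠ 0 → u ^ 2 = 1) _ h1).symm
    obtain ⟨k, hk⟩ := he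
    obtain rfl : e = 1 := by omega
    rw [pow_one] at hcard hdvd
    exact ⟨p, hp, hcard, by omega⟩
  · subst he
    rw [hz, pow_one] at hdvd
    rw [pow_one] at hcard
    have : 4 ≤ p - 1 := Nat.le_of_dvd (by omega) hdvd
    refine ⟨by omega, fun _ => ⟨p, hp, hcard, by omega⟩, fun h => absurd (hr.symm.trans h) (by decide)⟩
  · rw [Fintype.card_fin] at hι
    omega

/-- The possibilities for a maximal subgroup. -/
theorem linear_max (hn : 3 ≤ n) {H : Subgroup (GL (Fin n) F)} (hH : IsMaximalIn (specialLinear (Fin n) F) H) :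
    (∃ W : Submodule F (Fin n → F), W ≠ ⊥ ∧ W ≠ ⊤ ∧ H = subspaceStabilizer W ⊓ specialLinear (Fin n) F) ∨
    (∃ (t m : ℕ) (D : Fin t → Submodule F (Fin n → F)), t * m = n ∧ 2 ≤ t ∧ ¬ (m = 1 ∧ Fintype.card F ≤ 4) ∧
      ¬ (m = 2 ∧ Fintype.card F = 2) ∧ IsMDecomposition m D ∧
      H = decompositionStabilizer D ⊓ specialLinear (Fin n) F) ∨
    (∃ (r : ℕ) (K : Subalgebra F (Matrix (Fin n) (Fin n) F)), r.Prime ∧ r ∣ n ∧ IsFieldSubalgebra r K ∧
      H = subalgebraNormalizer K ⊓ specialLinear (Fin n) F) ∨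
    (∃ (d k : ℕ) (e : Fin n ≃ Fin d × Fin k) (P : GL (Fin n) F), d * k = n ∧ 2 ≤ d ∧ d < k ∧
      ¬ (d = 2 ∧ Fintype.card F = 2) ∧ H = tensorProductSubgroup d k e P ⊓ specialLinear (Fin n) F) ∨
    (∃ (F₀ : Subfield F) (r : ℕ) (P : GL (Fin n) F), r.Prime ∧ Fintype.card F = Nat.card F₀ ^ r ∧
      H = subfieldSubgroup F₀ P ⊓ specialLinear (Fin n) F) ∨
    (∃ (r m : ℕ) (R : Subgroup (GL (Fin n) F)), r.Prime ∧ n = r ^ m ∧
      (r = 2 → ∃ p : ℕ, p.Prime ∧ Fintype.card F = p ∧ p % 4 = 1) ∧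
      (r = 3 → ∃ p : ℕ, p.Prime ∧ Fintype.card F = p ∧ p % 3 = 1) ∧
      IsLinearSymplecticTypeData r R ∧ H = subgroupNormalizer R ⊓ specialLinear (Fin n) F) ∨
    (∃ (m t : ℕ) (e : Fin n ≃ (Fin t → Fin m)) (P : GL (Fin n) F), m ^ t = n ∧ 3 ≤ m ∧ 2 ≤ t ∧
      H = tensorWreathSubgroup m t e P ⊓ specialLinear (Fin n) F) ∨
    (Odd (Fintype.card F) ∧ ∃ Q : (Fin n → F) → F, IsNondegenerateQuadraticForm Q ∧
      H = quadSimilarityGroup Q ⊓ specialLinear (Fin n) F) ∨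
    (Even n ∧ ∃ f : (Fin n → F) → (Fin n → F) → F, IsSymplecticForm f ∧
      H = similarityGroup f ⊓ specialLinear (Fin n) F) ∨
    (∃ (σ : F ≃+* F) (f : (Fin n → F) → (Fin n → F) → F), IsUnitaryForm σ f ∧
      H = similarityGroup f ⊓ specialLinear (Fin n) F) ∨
    InLinearResidualClass H := by
  classical
  haveI : Nonempty (Fin n) := ⟨⟨0, by omega⟩⟩
  have hsim : ∀ P : Prop, InSim H → P ∨ (Odd (Fintype.card F) ∧ ∃ Q : (Fin n → F) → F, IsNondegenerateQuadraticForm Q ∧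
      H = quadSimilarityGroup Q ⊓ specialLinear (Fin n) F) ∨ (Even n ∧ ∃ f : (Fin n → F) → (Fin n → F) → F,
      IsSymplecticForm f ∧ H = similarityGroup f ⊓ specialLinear (Fin n) F) ∨
      (∃ (σ : F ≃+* F) (f : (Fin n → F) → (Fin n → F) → F), IsUnitaryForm σ f ∧
        H = similarityGroup f ⊓ specialLinear (Fin n) F) ∨ InLinearResidualClass H := fun P h => by
    rcases max_of_sim hn hH h with h | h | h
    exacts [Or.inr (Or.inl h), Or.inr (Or.inr (Or.inl h)), Or.inr (Or.inr (Or.inr (Or.inl h)))]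
  rcases linear_cases hn H with hout | hres
  swap
  · iterate 10 right
    exact hres
  have hle' : H ≤ H ⊔ scalars (Fin n) F := le_sup_left
  rcases hout with ⟨W, hb, ht, hle⟩ | ⟨t, m, D, hD, hle⟩ | ⟨r, K, hr, hK, hle⟩ | ⟨d, k, e, P, hd, hlt, hle⟩ |
    ⟨F₀, l, P, hl, hcard, hle⟩ | ⟨r, R, hd, hR, m, hm⟩ | ⟨m, t, e, P, hm, ht, hle⟩ | hs
  · exact Or.inl ⟨W, hb, ht, eq_inf_of_maximal hH (hle'.trans hle) (sl_not_stab hb ht)⟩
  · have hle2 := hle'.trans hle
    have htm : t * m = n := by simpa using NotMax.mul_card_eq' hD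
    by_cases h1 : m = 1 ∧ Fintype.card F ≤ 4
    · obtain ⟨rfl, hq⟩ := h1
      rcases small_lines hn hD hle2 hq with ⟨W, hb, ht, hW⟩ | hs
      · exact Or.inl ⟨W, hb, ht, eq_inf_of_maximal hH hW (sl_not_stab hb ht)⟩
      · iterate 6 right
        exact hsim _ hs
    by_cases h2 : m = 2 ∧ Fintype.card F = 2
    · obtain ⟨rfl, hq⟩ := h2
      iterate 6 right
      exact hsim _ (small_planes hD hle2 hq)
    exact Or.inr (Or.inl ⟨t, m, D, htm, hD.two_le, h1, h2, hD, eq_inf_of_maximal hH hle2 (sl_not_mdecomp hD)⟩)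
  · have hdvd := field_dvd hK
    rw [Fintype.card_fin] at hdvd
    exact Or.inr (Or.inr (Or.inl ⟨r, K, hr, hdvd, hK, eq_inf_of_maximal hH (hle'.trans hle)
      (sl_not_field hr.one_lt (by rw [Fintype.card_fin]; omega) hK)⟩))
  · have hdk : d * k = n := by simpa using (Fintype.card_congr e).symm
    have heq := eq_inf_of_maximal hH (hle'.trans hle) (sl_not_tensor hd (by omega) e P)
    refine Or.inr (Or.inr (Or.inr (Or.inl ⟨d, k, e, P, hdk, hd, hlt, ?_, heq⟩)))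
    rintro ⟨rfl, hq⟩
    obtain ⟨K, hK1, hK2⟩ := NotMax.linear_tensor_four_not_max hq (by omega) e P
    rw [← heq] at hK1
    rcases hH.2 K hK1.le hK2.le with h | h
    · exact hK1.ne h.symm
    · exact hK2.ne h
  · refine Or.inr (Or.inr (Or.inr (Or.inr (Or.inl ⟨F₀, l, P, hl, hcard,
      eq_inf_of_maximal hH (hle'.trans hle) (sl_not_subfield (by rw [Fintype.card_fin]; omega) (fun e => ?_) P)⟩))))
    have h1 : Nat.card F₀ = Fintype.card F := by
      rw [e, ← Nat.card_eq_fintype_card]; exact Nat.card_congr Subfield.topEquiv.toEquiv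
    rw [h1] at hcard
    exact absurd hcard (Nat.ne_of_lt (lt_self_pow₀ Fintype.one_lt_card hl.one_lt))
  · obtain ⟨hq, h2, h3⟩ := six_arith hn hd
    rw [Fintype.card_fin] at hm
    exact Or.inr (Or.inr (Or.inr (Or.inr (Or.inr (Or.inl ⟨r, m, R, hd.symplecticType.prime, hm, h2, h3, hd,
      eq_inf_of_maximal hH (hle'.trans (le_normalizer hR.normalised))
        (sl_not_symp_normalizer (by rw [Fintype.card_fin]; omega) hq hR)⟩)))))
  · iterate 6 right
    have hmt : m ^ t = n := by simpa using (Fintype.card_congr e).symm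
    exact Or.inl ⟨m, t, e, P, hmt, hm, ht, eq_inf_of_maximal hH (hle'.trans hle) (sl_not_wreath (by omega) ht e P)⟩
  · iterate 6 right
    refine hsim _ ?_
    rcases hs with ⟨f, hf, hev, hle⟩ | ⟨σ, f, hf, hle⟩ | ⟨Q, hQ, h2, hle⟩
    exacts [Or.inl ⟨f, hf, hev, hle'.trans hle⟩, Or.inr (Or.inl ⟨σ, f, hf, hle'.trans hle⟩),
      Or.inr (Or.inr ⟨Q, hQ, h2, hle'.trans hle⟩)]

end Cfsg.Agent.Asch
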