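import Cfsg.Agent.S5673
import Cfsg.Agent.Asch.SmallMove
import Cfsg.Agent.NotMax.Blocks

/-!
The odd orthogonal groups lie in none of the stabilisers of large geometric structures.
-/

set_option autoImplicit false
set_option linter.unusedSectionVars false

namespace Cfsg.Agent.Asch

open Matrix Cfsg.Geo Cfsg.Agent.PrimeDim QuadraticMap
open scoped MatrixGroups Kronecker
open Cfsg.Agent.Classical

variable {F : Type*} [Field F] {ι : Type} [Fintype ι] [DecidableEq ι] {G : Matrix ι ι F} {A : Subgroup (GL ι F)}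

/-- Two orthogonal hyperbolic pairs. -/
structure Pairs (G : Matrix ι ι F) (e₁ e₂ f₁ f₂ : ι → F) : Prop where
  h11 : bf G e₁ e₁ = 0
  h22 : bf G e₂ e₂ = 0
  h12 : bf G e₁ e₂ = 0
  g11 : bf G f₁ f₁ = 0
  g22 : bf G f₂ f₂ = 0
  g12 : bf G f₁ f₂ = 0
  k11 : bf G e₁ f₁ = 1
  k22 : bf G e₂ f₂ = 1
  k12 : bf G e₁ f₂ = 0
  k21 : bf G e₂ f₁ = 0

theorem siegel_sub_mem (hs : Gᵀ = G) (c : F) (p w x : ι → F) :
    siegelMat G c p w *ᵥ x - x ∈ Submodule.span F ({p, w} : Set (ι → F)) := by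
  rw [siegelMat_mulVec hs, show x + bf G x w • p - bf G x p • w - (c * bf G x p) • p - x =
    (bf G x w - c * bf G x p) • p + (-bf G x p) • w by module]
  exact add_mem (Submodule.smul_mem _ _ (Submodule.subset_span (by simp)))
    (Submodule.smul_mem _ _ (Submodule.subset_span (by simp)))

theorem finrank_span_pair_le (p w : ι → F) : Module.finrank F (Submodule.span F ({p, w} : Set (ι → F))) ≤ 2 := by
  classical
  have h3 := finrank_span_le_card (R := F) ({p, w} : Set (ι → F))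
  have h4 : ({p, w} : Set (ι → F)).toFinset.card ≤ 2 := by simpa using Finset.card_le_two (a := p) (b := w)
  omega

theorem siegel_small (hs : Gᵀ = G) {c : F} {p w : ι → F} {g : GL ι F} (hg : mat g = siegelMat G c p w) : Small 2 g :=
  small_of_image _ (finrank_span_pair_le p w) fun x => hg ▸ siegel_sub_mem hs c p w x

/-- The Siegel elements lie in no stabiliser of a decomposition into members of dimension at least three. -/
theorem siegel_not_blocks (hG : G.det ≠ 0) (hs : Gᵀ = G) (h2 : (2 : F) ≠ 0) (hA : HasSiegel G A)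
    (h5 : 5 ≤ Fintype.card ι) (hspan : ∀ v : ι → F, v ≠ 0 → ∃ p, bf G p p = 0 ∧ bf G v p ≠ 0) {t m : ℕ}
    {D : Fin t → Submodule F (ι → F)} (hD : IsMDecomposition m D) (hm : 3 ≤ m) : ¬ A ≤ decompositionStabilizer D := by
  intro hle
  let i₀ : Fin t := ⟨0, by have := hD.two_le; omega⟩
  have hA' : HasSiegel G (A ⊓ subspaceStabilizer (D i₀)) := by
    intro p w hp hpw
    obtain ⟨g, hg, hgm⟩ := hA p w hp hpw
    refine ⟨g, ⟨hg, fun v => ?_⟩, hgm⟩
    have h1 := (siegel_small hs hgm).fixes_blocks hD (show 2 < m by omega) (hle hg) i₀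
    show v ∈ D i₀ ↔ mat g *ᵥ v ∈ D i₀
    refine ⟨fun hv => h1 ▸ ⟨v, hv, Matrix.toLin'_apply _ _⟩, fun hv => ?_⟩
    obtain ⟨u, hu, he⟩ : mat g *ᵥ v ∈ (D i₀).map (Matrix.toLin' (mat g)) := h1.symm ▸ hv
    rw [Matrix.toLin'_apply] at he
    exact mulVec_injective g he ▸ hu
  have h1 := hD.finrank_eq i₀
  rcases omega_irr hG hs h2 hA' h5 hspan (D i₀) (fun g hg v hv => (hg.2 v).1 hv) with e | e
  · rw [e, finrank_bot] at h1
    omega
  · rw [e, finrank_top, Module.finrank_fintype_fun_eq_card] at h1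
    have h3 := NotMax.mul_card_eq hD
    have h4 := hD.two_le
    rw [← h1] at h3
    have : 2 * Fintype.card ι ≤ t * Fintype.card ι := Nat.mul_le_mul_right _ h4
    omega

theorem siegel_not_field (hs : Gᵀ = G) (hA : HasSiegel G A) {e₁ e₂ f₁ f₂ : ι → F} (hP : Pairs G e₁ e₂ f₁ f₂) {r : ℕ}
    {K : Subalgebra F (Matrix ι ι F)} (hK : IsFieldSubalgebra r K) (hr : 3 ≤ r) (hn : 5 ≤ Fintype.card ι) :
    ¬ A ≤ subalgebraNormalizer K := by
  intro hle
  obtain ⟨g, hg, hgm⟩ := hA e₁ e₂ hP.h11 hP.h12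
  have h1 := (siegel_small hs hgm).field_eq_one hK (by omega) (by omega) (hle hg)
  rw [h1] at hgm
  have h3 := congrArg (· *ᵥ f₁) hgm
  simp only [mat, Units.val_one, Matrix.one_mulVec] at h3
  rw [siegelMat_mulVec hs, hP.h22, bf_symm hs f₁ e₂, hP.k21, bf_symm hs f₁ e₁, hP.k11] at h3
  have h4 : e₂ = 0 := by simpa using h3.symm
  have h5 := hP.k22
  rw [h4] at h5
  simp [bf, formG] at h5

theorem siegel_not_wreath [Fintype F] (hs : Gᵀ = G) (h2 : (2 : F) ≠ 0) (hA : HasSiegel G A) {e₁ e₂ f₁ f₂ : ι → F}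
    (hP : Pairs G e₁ e₂ f₁ f₂) {m : ℕ} (hm : 3 ≤ m) (e : ι ≃ (Fin 2 → Fin m)) (P : GL ι F) :
    ¬ A ≤ tensorWreathSubgroup m 2 e P := by
  intro hle
  obtain ⟨g, hg, hgm⟩ := hA e₁ e₂ hP.h11 hP.h12
  have hsm : Small 2 (g * g) := small_of_image _ (finrank_span_pair_le e₁ e₂) fun x => by
    rw [show mat (g * g) = mat g * mat g from Units.val_mul _ _, ← Matrix.mulVec_mulVec,
      show mat g *ᵥ (mat g *ᵥ x) - x = (mat g *ᵥ (mat g *ᵥ x) - mat g *ᵥ x) + (mat g *ᵥ x - x) by abel, hgm]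
    exact add_mem (siegel_sub_mem hs _ _ _ _) (siegel_sub_mem hs _ _ _ _)
  have h1 := hsm.kron_eq_one (show 2 < m by omega) (show 2 < m by omega) (sq_mem_kron (hle hg))
  have h3 := congrArg (fun x : GL ι F => mat x *ᵥ f₁) h1
  rw [show mat (g * g) = mat g * mat g from Units.val_mul _ _, ← Matrix.mulVec_mulVec, hgm] at h3
  simp only [mat, Units.val_one, Matrix.one_mulVec] at h3
  have hstep : siegelMat G ((2 : F)⁻¹ * bf G e₂ e₂) e₁ e₂ *ᵥ f₁ = f₁ - e₂ := by
    rw [siegelMat_mulVec hs, hP.h22, bf_symm hs f₁ e₂, hP.k21, bf_symm hs f₁ e₁, hP.k11]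
    simp
  have hfix : siegelMat G ((2 : F)⁻¹ * bf G e₂ e₂) e₁ e₂ *ᵥ e₂ = e₂ := by
    rw [siegelMat_mulVec hs, hP.h22, bf_symm hs e₂ e₁, hP.h12]
    simp
  rw [hstep, Matrix.mulVec_sub, hstep, hfix] at h3
  have h4 : (2 : F) • e₂ = 0 := by
    rw [two_smul]
    have h5 := sub_eq_zero.2 h3
    rw [show f₁ - e₂ - e₂ - f₁ = -(e₂ + e₂) by abel, neg_eq_zero] at h5
    exact h5
  have h5 := hP.k22
  rw [(smul_eq_zero.1 h4).resolve_left h2] at h5
  simp [bf, formG] at h5

theorem siegel_not_subfield [Finite F] (hs : Gᵀ = G) (h2 : (2 : F) ≠ 0) (hA : HasSiegel G A)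
    (h5 : 5 ≤ Fintype.card ι) {e₁ e₂ f₁ f₂ : ι → F} (hP : Pairs G e₁ e₂ f₁ f₂)
    {F₁ : Subfield F} (hF₁ : F₁ ≠ ⊤) (P : GL ι F) : ¬ A ≤ subfieldSubgroup F₁ P := by
  obtain ⟨h11, h22, h12, g11, g22, g12, k11, k22, k12, k21⟩ := hP
  intro hle
  refine hF₁ (eq_top_iff.2 fun a _ => ?_)
  have hf := isSesq_formG (RingEquiv.refl F) G
  have hsc : ∀ (c : F) (x y : ι → F), bf G x (c • y) = c * bf G x y := fun c x y => hf.smul_right _ _ _
  have hscl : ∀ (c : F) (x y : ι → F), bf G (c • x) y = c * bf G x y := fun c x y => hf.smul_left _ _ _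
  obtain ⟨g, hg, hgm⟩ := hA e₁ (a • e₂) h11 (by rw [hsc, h12, mul_zero])
  obtain ⟨h, hh, hhm⟩ := hA f₁ f₂ g11 g12
  rw [hsc, hscl, h22, mul_zero, mul_zero, mul_zero] at hgm
  rw [g22, mul_zero] at hhm
  have hE : ∀ x ∈ A, ∀ (c : F) (p w : ι → F), mat x = siegelMat G c p w →
      Entries F₁ (mat (P⁻¹ * x * P)) := fun x hx c p w hm =>
    (siegel_small hs hm).entries (show 2 * 2 < Fintype.card ι by omega) (hle hx)
  have hEgh : Entries F₁ (mat (P⁻¹ * (g * h) * P)) := by
    rw [show P⁻¹ * (g * h) * P = (P⁻¹ * g * P) * (P⁻¹ * h * P) by group, mat, Units.val_mul]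
    exact (hE g hg _ _ _ hgm).mul (hE h hh _ _ _ hhm)
  have htr : (mat (g * h)).trace ∈ F₁ := by
    have e : (mat (g * h)).trace = (mat (P⁻¹ * (g * h) * P)).trace := by
      rw [show mat (P⁻¹ * (g * h) * P) = mat P⁻¹ * mat (g * h) * mat P by simp [mat], Matrix.trace_mul_cycle,
        mat_mul_inv, one_mul]
    rw [e]
    exact Subfield.sum_mem _ fun i _ => hEgh i i
  have e : ∀ a b : ι → F, (Matrix.vecMulVec a (G *ᵥ b)).trace = bf G a b := fun a b => by
    rw [Matrix.trace_vecMulVec]; rfl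
  have e' : ∀ a b : ι → F, ((G *ᵥ a) ⬝ᵥ b) = bf G b a := fun a b => by rw [dotProduct_comm]; rfl
  have key : (mat (g * h)).trace = (Fintype.card ι : F) + (-2) * a := by
    rw [mat, Units.val_mul]
    show (mat g * mat h).trace = _
    rw [hgm, hhm]
    simp only [siegelMat, zero_smul, sub_zero, mul_add, add_mul, mul_sub, sub_mul, one_mul, mul_one,
      Matrix.vecMulVec_mul_vecMulVec, Matrix.vecMulVec_smul, Matrix.trace_add, Matrix.trace_sub, Matrix.trace_smul,
      Matrix.trace_one, e, e', smul_eq_mul, hsc, hscl]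
    simp only [h12, g12, k12, k21, k11, k22, bf_symm hs e₂ e₁, bf_symm hs f₂ f₁, bf_symm hs f₁ e₁, bf_symm hs f₂ e₁,
      bf_symm hs f₁ e₂, bf_symm hs f₂ e₂]
    ring
  rw [key] at htr
  have h3 := sub_mem htr (natCast_mem F₁ (Fintype.card ι))
  rw [add_sub_cancel_left] at h3
  have h4 := div_mem h3 (neg_mem (natCast_mem F₁ 2))
  rwa [Nat.cast_ofNat, mul_div_assoc, mul_comm, div_mul_cancel₀ _ (neg_ne_zero.2 h2)] at h4

variable [Fintype F]

/-- What is used about `Ω` of the standard odd form. -/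
theorem omega_facts (hodd : Odd (Fintype.card F)) {m : ℕ} (hm : 3 ≤ m) :
    let G := gramMatrix (QuadraticMap.polar (Cfsg.quadFormOdd m F))
    HasSiegel G (omegaGL (Cfsg.quadFormOdd m F)) ∧
      (∀ v : (Unit ⊕ (Fin m ⊕ Fin m)) → F, v ≠ 0 → ∃ p, bf G p p = 0 ∧ bf G v p ≠ 0) ∧
      ∃ e₁ e₂ f₁ f₂, Pairs G e₁ e₂ f₁ f₂ := by
  intro G
  have h2 := PrimeDim.two_ne_zero_of_odd hodd
  obtain ⟨hpol, hset⟩ := S5673.odd_setting hodd hm (le_refl (omegaGL (Cfsg.quadFormOdd m F)))
  have hs : Gᵀ = G := by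
    ext i j
    show G j i = G i j
    simp only [G, gramMatrix]
    rw [QuadraticMap.polar_comm]
  have hpol' : ∀ u v, QuadraticMap.polar (Cfsg.quadFormOdd m F) u v = bf G u v := fun u v => by rw [hpol]
  have hcard : Fintype.card (Unit ⊕ (Fin m ⊕ Fin m)) = 2 * m + 1 := by simp; omega
  refine ⟨?_, ?_, ?_⟩
  · let QF : QuadraticForm F (Unit ⊕ (Fin m ⊕ Fin m) → F) :=
      (Quad.hyp (Quad.sqForm F) m).comp (Quad.oddCoord m).toLinearMap
    have hQe : ⇑QF = Cfsg.quadFormOdd m F := funext fun x => by simp [QF, Quad.oddCoord_map]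
    have hQnd : (QuadraticMap.polarBilin QF).Nondegenerate :=
      Quad.Iso.nondeg (Quad.Iso.symm ⟨Quad.oddCoord m, fun x => by simp [QF]⟩)
        (Quad.nondeg_hyp (Quad.nondeg_sqForm h2) m)
    intro p w hp hw
    have hp0 : QF p = 0 := by
      rw [hQe]
      exact (mul_eq_zero.1 ((hset.half p).symm.trans hp)).resolve_left h2
    have hw0 : QuadraticMap.polar (⇑QF) p w = 0 := by rw [hQe, hpol']; exact hw
    obtain ⟨g, hg, hgx⟩ := NotMax.exists_siegel hQnd (by rw [hcard]; omega) hp0 hw0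
    refine ⟨g, by rwa [hQe] at hg, Matrix.toLin'.injective (LinearMap.ext fun x => ?_)⟩
    rw [Matrix.toLin'_apply, Matrix.toLin'_apply, siegelMat_mulVec hs,
      show bf G w w = 2 * Cfsg.quadFormOdd m F w from hset.half w, inv_mul_cancel_left₀ h2]
    rw [hgx x, hQe, hpol', hpol']
    module
  all_goals
    let e : Fin m → (Unit ⊕ (Fin m ⊕ Fin m) → F) := fun i => Pi.single (.inr (.inl i)) 1
    let f : Fin m → (Unit ⊕ (Fin m ⊕ Fin m) → F) := fun i => Pi.single (.inr (.inr i)) 1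
    have hpe : ∀ v i, bf G v (e i) = v (.inr (.inr i)) := fun v i => by
      rw [← hpol', quadOdd_polar]; simp [e, Pi.single_apply, Finset.sum_add_distrib]
    have hpf : ∀ v i, bf G v (f i) = v (.inr (.inl i)) := fun v i => by
      rw [← hpol', quadOdd_polar]; simp [f, Pi.single_apply, Finset.sum_add_distrib]
  · intro v hv
    by_cases hi : ∃ i, v (.inr (.inr i)) ≠ 0
    · obtain ⟨i, hi⟩ := hi
      exact ⟨e i, by rw [hpe]; simp [e], by rw [hpe]; exact hi⟩
    by_cases hj : ∃ i, v (.inr (.inl i)) ≠ 0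
    · obtain ⟨i, hj⟩ := hj
      exact ⟨f i, by rw [hpf]; simp [f], by rw [hpf]; exact hj⟩
    push Not at hi hj
    have h0 : v (.inl ()) ≠ 0 := by
      intro h0
      refine hv (funext fun k => ?_)
      rcases k with ⟨⟩ | (k | k)
      · exact h0
      · exact hj k
      · exact hi k
    refine ⟨Pi.single (.inl ()) 1 + e ⟨0, by omega⟩ - f ⟨0, by omega⟩, ?_, ?_⟩
    · rw [← hpol', quadOdd_polar]
      simp [e, f, Pi.single_apply, Finset.sum_add_distrib]
      ring
    · rw [← hpol', quadOdd_polar]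
      simp [e, f, Pi.single_apply, hi, hj, h0, h2]
  · let i₀ : Fin m := ⟨0, by omega⟩
    let i₁ : Fin m := ⟨1, by omega⟩
    have hi01 : i₀ ≠ i₁ := fun h => absurd (congrArg Fin.val h) (by norm_num [i₀, i₁])
    exact ⟨e i₀, e i₁, f i₀, f i₁, by rw [hpe]; simp [e], by rw [hpe]; simp [e], by rw [hpe]; simp [e],
      by rw [hpf]; simp [f], by rw [hpf]; simp [f], by rw [hpf]; simp [f],
      by rw [hpf]; simp [e], by rw [hpf]; simp [e], by rw [hpf]; simp [e, hi01.symm],
      by rw [hpf]; simp [e, hi01]⟩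

variable {Q : (ι → F) → F} {H : Subgroup (GL ι F)}

theorem OddSetting.symm (h : OddSetting Q G H) : Gᵀ = G := by
  have h1 := h.rg.symm
  rwa [one_smul, map_refl] at h1

theorem OddSetting.polar_eq (h : OddSetting Q G H) (u v : ι → F) :
    formG (RingEquiv.refl F) G u v = Q (u + v) - Q u - Q v := by
  have hf := isSesq_formG (RingEquiv.refl F) G
  have hsym : formG (RingEquiv.refl F) G v u = formG (RingEquiv.refl F) G u v := bf_symm h.symm v u
  have h1 := h.half (u + v)
  rw [hf.add_left, hf.add_right, hf.add_right, hsym, h.half, h.half] at h1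
  exact mul_left_cancel₀ h.two (by linear_combination h1)

/-- Three isometric ternary members over three elements refine into lines. -/
theorem OddSetting.refine_three (h : OddSetting Q G H) (hq : Fintype.card F = 3) {t : ℕ}
    {D : Fin t → Submodule F (ι → F)} (hD : IsNondegenerateMDecomposition (formG (RingEquiv.refl F) G) 3 D)
    (hiso : ∀ i j, AreIsometricFor Q (D i) (D j)) (hle : H ≤ decompositionStabilizer D) :
    ∃ D' : Fin (Fintype.card ι) → Submodule F (ι → F),
      IsNondegenerateMDecomposition (formG (RingEquiv.refl F) G) 1 D' ∧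
      (∀ i j, AreIsometricFor Q (D' i) (D' j)) ∧ H ≤ decompositionStabilizer D' := by
  classical
  have hbf := isSesq_formG (RingEquiv.refl F) G
  have i₀ : Fin t := ⟨0, by have := hD.decomp.two_le; omega⟩
  let bb := Module.finBasisOfFinrankEq F (D i₀) (hD.decomp.finrank_eq i₀)
  let V : Matrix ι (Fin 3) F := Matrix.of fun a j => (bb j : ι → F) a
  have hV : ∀ s, V *ᵥ s = ((∑ j, s j • bb j : D i₀) : ι → F) := fun s => by
    funext a
    simp [V, Matrix.mulVec, dotProduct, mul_comm]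
  have hVG : ∀ s u, formG (RingEquiv.refl F) G (V *ᵥ s) (V *ᵥ u) = s ⬝ᵥ ((Vᵀ * G * V) *ᵥ u) := fun s u => by
    rw [← Matrix.mulVec_mulVec, ← Matrix.mulVec_mulVec, Matrix.dotProduct_mulVec s Vᵀ, Matrix.vecMul_transpose]
    simp [formG]
  have hA0 : (Vᵀ * G * V).det ≠ 0 := by
    intro e
    obtain ⟨u, hu, hu0⟩ := Matrix.exists_mulVec_eq_zero_iff.2 e
    have hmem : V *ᵥ u ∈ D i₀ := by rw [hV]; exact Subtype.mem _
    have hne : V *ᵥ u ≠ 0 := by
      rw [hV]
      exact fun e' => hu (funext fun j => Fintype.linearIndependent_iff.1 bb.linearIndependent u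
        (Subtype.ext e') j)
    obtain ⟨x, hx, hxne⟩ := (hD.nondegenerate i₀ _ hmem hne).1
    refine hxne ?_
    rw [show x = V *ᵥ (bb.repr ⟨x, hx⟩ : Fin 3 → F) by rw [hV, bb.sum_repr], hVG, hu0, dotProduct_zero]
  obtain ⟨P, c, hc, hP⟩ := congr_one h.two (by decide : Odd 3) hA0
    (by rw [Matrix.transpose_mul, Matrix.transpose_mul, Matrix.transpose_transpose, h.symm, Matrix.mul_assoc])
  let x : Fin 3 → D i₀ := fun j => ∑ k, mat P k j • bb k
  have hx : ∀ j, (x j : ι → F) = V *ᵥ (mat P *ᵥ Pi.single j 1) := fun j => by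
    rw [hV, Matrix.mulVec_single_one]; rfl
  have hgram : ∀ j k, formG (RingEquiv.refl F) G (x j).1 (x k).1 = c * (1 : Matrix (Fin 3) (Fin 3) F) j k := by
    intro j k
    rw [hx, hx, hVG]
    show formG (RingEquiv.refl F) (Vᵀ * G * V) (mat P *ᵥ Pi.single j 1) (mat P *ᵥ Pi.single k 1) = _
    rw [formG_mulVec, hP, formG_single, Matrix.smul_apply, smul_eq_mul]
  choose φ hφ using fun i => hiso i₀ i
  let v : Fin t × Fin 3 → ι → F := fun p => (φ p.1 (x p.2) : D p.1).1
  have hvD : ∀ p, v p ∈ D p.1 := fun p => (φ p.1 (x p.2)).2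
  have hvg : ∀ p q, formG (RingEquiv.refl F) G (v p) (v q) = if p = q then c else 0 := by
    rintro ⟨i, j⟩ ⟨i', j'⟩
    by_cases hi : i = i'
    · subst hi
      have h1 : formG (RingEquiv.refl F) G (v (i, j)) (v (i, j')) = formG (RingEquiv.refl F) G (x j).1 (x j').1 := by
        rw [h.polar_eq, h.polar_eq, show v (i, j) + v (i, j') = ((φ i (x j + x j') : D i) : ι → F) by simp [v],
          hφ, hφ, hφ]
        rfl
      rw [h1, hgram, Matrix.one_apply]
      by_cases hj : j = j' <;> simp [hj]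
    · rw [if_neg (fun e => hi (congrArg Prod.fst e))]
      exact hD.orthogonal i i' hi _ (hvD (i, j)) _ (hvD (i', j'))
  have hsum : ∀ (s : Fin t × Fin 3 → F) q, formG (RingEquiv.refl F) G (∑ p, s p • v p) (v q) = s q * c := by
    intro s q
    have e : formG (RingEquiv.refl F) G (∑ p, s p • v p) (v q) =
        ∑ p, formG (RingEquiv.refl F) G (s p • v p) (v q) := by
      simp [formG, sum_dotProduct]
    rw [e, Finset.sum_eq_single q (fun p _ hp => by rw [hbf.smul_left, hvg, if_neg hp, mul_zero]) (by simp),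
      hbf.smul_left, hvg, if_pos rfl]
  have hli : LinearIndependent F v := by
    refine Fintype.linearIndependent_iff.2 fun s hs q => ?_
    have h1 := hsum s q
    rw [hs] at h1
    simp [formG] at h1
    exact h1.resolve_right hc
  have hcard : Fintype.card (Fin t × Fin 3) = Fintype.card ι := by
    simp [NotMax.mul_card_eq hD.decomp]
  haveI : Nonempty (Fin t × Fin 3) := ⟨(i₀, 0)⟩
  let b₀ := basisOfLinearIndependentOfCardEqFinrank hli (by rw [hcard, Module.finrank_fintype_fun_eq_card])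
  have hb₀ : ∀ p, b₀ p = v p := fun p => by simp [b₀]
  let ee : Fin t × Fin 3 ≃ ι := Fintype.equivOfCardEq hcard
  let b := b₀.reindex ee
  have hb : ∀ p, b (ee p) = v p := fun p => by simp [b, hb₀]
  refine h.lines_decomp b ?_ (fun i j hij => ?_) hc fun i => ?_
  · intro g hg a
    obtain ⟨⟨i, j⟩, rfl⟩ := ee.surjective a
    obtain ⟨π, hπ⟩ := hle hg
    have hmem : ∀ j, mat g *ᵥ v (i, j) ∈ D (π i) := fun j =>
      hπ i ▸ ⟨v (i, j), hvD (i, j), Matrix.toLin'_apply _ _⟩
    let C : Matrix (Fin 3) (Fin 3) F :=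
      Matrix.of fun j' j => c⁻¹ * formG (RingEquiv.refl F) G (mat g *ᵥ v (i, j)) (v (π i, j'))
    have hexp : ∀ j, mat g *ᵥ v (i, j) = ∑ j', C j' j • v (π i, j') := by
      intro j
      obtain ⟨s, hs⟩ : ∃ s : Fin t × Fin 3 → F, mat g *ᵥ v (i, j) = ∑ p, s p • v p :=
        ⟨b₀.repr (mat g *ᵥ v (i, j)), by
          conv_lhs => rw [← b₀.sum_repr (mat g *ᵥ v (i, j))]
          exact Finset.sum_congr rfl fun p _ => by rw [hb₀]⟩
      have hsq : ∀ q, s q = c⁻¹ * formG (RingEquiv.refl F) G (mat g *ᵥ v (i, j)) (v q) := fun q => by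
        rw [hs, hsum, mul_comm (s q), inv_mul_cancel_left₀ hc]
      conv_lhs => rw [hs, Fintype.sum_prod_type]
      rw [Finset.sum_eq_single (π i)]
      · exact Finset.sum_congr rfl fun j' _ => by rw [hsq]; rfl
      · intro l _ hl
        refine Finset.sum_eq_zero fun j' _ => ?_
        rw [hsq, show formG (RingEquiv.refl F) G (mat g *ᵥ v (i, j)) (v (l, j')) = 0 from
          hD.orthogonal _ _ (Ne.symm hl) _ (hmem j) _ (hvD (l, j')), mul_zero, zero_smul]
      · simp
    have hC : Cᵀ * C = (1 : F) • (1 : Matrix (Fin 3) (Fin 3) F) := by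
      ext j k
      have h1 := h.iso hg (v (i, j)) (v (i, k))
      conv_lhs at h1 => rw [hexp k]
      rw [hvg] at h1
      have e : formG (RingEquiv.refl F) G (mat g *ᵥ v (i, j)) (∑ j', C j' k • v (π i, j')) =
          ∑ j', formG (RingEquiv.refl F) G (mat g *ᵥ v (i, j)) (C j' k • v (π i, j')) := by
        show _ ⬝ᵥ (G *ᵥ (∑ j', C j' k • v (π i, j'))) = ∑ j', _ ⬝ᵥ (G *ᵥ (C j' k • v (π i, j')))
        rw [Matrix.mulVec_sum, dotProduct_sum]
      rw [e] at h1
      rw [Matrix.mul_apply, one_smul, Matrix.one_apply]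
      refine mul_left_cancel₀ hc ?_
      rw [Finset.mul_sum, show c * (if j = k then (1 : F) else 0) = if ((i, j) : Fin t × Fin 3) = (i, k) then c else 0 by
        simp, ← h1]
      refine Finset.sum_congr rfl fun j' _ => ?_
      rw [Matrix.transpose_apply, hbf.smul_right, RingEquiv.refl_apply]
      show c * (c⁻¹ * _ * C j' k) = _
      field_simp
    have hdetC : C.det ≠ 0 := fun e => by
      have h1 := congrArg Matrix.det hC
      rw [Matrix.det_mul, e, mul_zero, one_smul, Matrix.det_one] at h1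
      exact zero_ne_one h1
    obtain ⟨r, hr⟩ := mono_three hq hC hdetC j
    refine ⟨ee (π i, r), C r j, ?_⟩
    rw [hb, hb, hexp, Finset.sum_eq_single r (fun j' _ hj' => by rw [hr j' hj', zero_smul]) (by simp)]
  · obtain ⟨p, rfl⟩ := ee.surjective i
    obtain ⟨q, rfl⟩ := ee.surjective j
    rw [hb, hb, hvg, if_neg (fun e => hij (congrArg ee e))]
  · obtain ⟨p, rfl⟩ := ee.surjective i
    rw [hb, hvg, if_pos rfl]

set_option maxHeartbeats 400000 in
/-- An invariant non-degenerate subspace gives an even one other than a plus plane over three elements. -/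
theorem OddSetting.even_member (h : OddSetting Q G H) {W : Submodule F (ι → F)} (hb : W ≠ ⊥) (ht : W ≠ ⊤)
    (hnd : IsNondegenerateOn (formG (RingEquiv.refl F) G) W) (hle : H ≤ subspaceStabilizer W) :
    ∃ U : Submodule F (ι → F), U ≠ ⊥ ∧ U ≠ ⊤ ∧ Even (Module.finrank F U) ∧
      IsNondegenerateOn (formG (RingEquiv.refl F) G) U ∧
      ¬ (Fintype.card F = 3 ∧ Module.finrank F U = 2 ∧ IsPlusTypeOn Q U) ∧ H ≤ subspaceStabilizer U := by
  classical
  have hbf := isSesq_formG (RingEquiv.refl F) G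
  have hW : Inv H W := fun g hg v hv => ((hle hg : _) v).1 hv
  have hrefl : Reflexive' (RingEquiv.refl F) G := fun u v => by rw [h.rg.swap v u, one_mul]
  have hI : W ⊓ perpG (RingEquiv.refl F) G W = ⊥ := by
    rw [eq_bot_iff]
    rintro v ⟨hv, hv'⟩
    rw [Submodule.mem_bot]
    by_contra h0
    obtain ⟨x, hx, hne⟩ := (hnd v hv h0).2
    exact hne (hv' x hx)
  obtain ⟨-, hnd', hdim⟩ := perp_cases h.rg.det hrefl hI
  obtain ⟨m, hm⟩ := h.odd
  rw [hm] at hdim
  have h7 := h.seven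
  obtain ⟨U, hUb, hUt, hUev, hUnd, hUi⟩ : ∃ U : Submodule F (ι → F), U ≠ ⊥ ∧ U ≠ ⊤ ∧
      Even (Module.finrank F U) ∧ IsNondegenerateOn (formG (RingEquiv.refl F) G) U ∧ Inv H U := by
    rcases Nat.even_or_odd (Module.finrank F W) with he | ho
    · exact ⟨W, hb, ht, he, hnd, hW⟩
    · obtain ⟨k, hk⟩ := ho
      refine ⟨_, fun e => ?_, fun e => ?_, ⟨m - k, by omega⟩, hnd', inv_perp h.fix hW⟩
      · rw [e, finrank_bot] at hdim
        exact ht (Submodule.eq_top_of_finrank_eq (by rw [Module.finrank_fintype_fun_eq_card, hm]; omega))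
      · rw [e, finrank_top, Module.finrank_fintype_fun_eq_card, hm] at hdim
        omega
  by_cases hexc : Fintype.card F = 3 ∧ Module.finrank F U = 2 ∧ IsPlusTypeOn Q U
  swap
  · exact ⟨U, hUb, hUt, hUev, hUnd, hexc, le_stab hUi⟩
  obtain ⟨hq3, hU2, U₀, hU₀, hU₀s, hU₀d⟩ := hexc
  rw [hU2] at hU₀d
  obtain ⟨a, ha, ha0⟩ := U₀.exists_mem_ne_zero_of_ne_bot (fun e => by rw [e, finrank_bot] at hU₀d; omega)
  have haa : formG (RingEquiv.refl F) G a a = 0 := by rw [h.half, hU₀s a ha, mul_zero]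
  obtain ⟨x, hx, hxa⟩ := (hUnd a (hU₀ ha) ha0).2
  obtain ⟨y, hyU, hay⟩ : ∃ y ∈ U, formG (RingEquiv.refl F) G a y = 1 :=
    ⟨(formG (RingEquiv.refl F) G a x)⁻¹ • x, U.smul_mem _ hx, by rw [hbf.smul_right]; exact inv_mul_cancel₀ hxa⟩
  have hya : formG (RingEquiv.refl F) G y a = 1 := (bf_symm h.symm y a).trans hay
  obtain ⟨z, hz⟩ : ∃ z, z = y + (-((2 : F)⁻¹ * formG (RingEquiv.refl F) G y y)) • a := ⟨_, rfl⟩
  have hzU : z ∈ U := hz ▸ add_mem hyU (U.smul_mem _ (hU₀ ha))
  have haz : formG (RingEquiv.refl F) G a z = 1 := by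
    rw [hz, hbf.add_right, hbf.smul_right, hay, haa, mul_zero, add_zero]
  have hzz : formG (RingEquiv.refl F) G z z = 0 := by
    rw [hz, hbf.add_left, hbf.add_right, hbf.add_right, hbf.smul_left, hbf.smul_right, hbf.smul_right,
      hbf.smul_left, hay, hya, haa, RingEquiv.refl_apply]
    have h2 := h.two
    field_simp
    ring
  have hza : formG (RingEquiv.refl F) G z a = 1 := (bf_symm h.symm z a).trans haz
  have h0 : ∀ u, formG (RingEquiv.refl F) G 0 u = 0 := fun u => by simp [formG]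
  have hindep : LinearIndependent F ![a, z] := by
    rw [LinearIndependent.pair_iff]
    intro s t hst
    have h1 := congrArg (fun v => formG (RingEquiv.refl F) G v z) hst
    have h3 := congrArg (fun v => formG (RingEquiv.refl F) G v a) hst
    simp only [hbf.add_left, hbf.smul_left, haz, hzz, hza, haa, h0] at h1 h3
    exact ⟨by linear_combination h1, by linear_combination h3⟩
  have hspanU : Submodule.span F (Set.range ![a, z]) = U := by
    refine Submodule.eq_of_le_of_finrank_le (Submodule.span_le.2 ?_) ?_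
    · rintro _ ⟨k, rfl⟩
      fin_cases k
      · exact hU₀ ha
      · exact hzU
    · rw [hU2, finrank_span_eq_card hindep]; simp
  set d := a + z with hd
  have hdd : formG (RingEquiv.refl F) G d d = 2 := by
    rw [hd, hbf.add_left, hbf.add_right, hbf.add_right, haz, hzz, hza, haa]
    ring
  have hd0 : d ≠ 0 := fun e => h.two (by rw [← hdd, e, h0])
  let L : Submodule F (ι → F) := Submodule.span F {d}
  have hL : Inv H L := by
    intro g hg v hv
    obtain ⟨t, rfl⟩ := Submodule.mem_span_singleton.1 hv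
    have h1 : mat g *ᵥ d ∈ U := hUi g hg d (add_mem (hU₀ ha) hzU)
    have h3 : formG (RingEquiv.refl F) G (mat g *ᵥ d) (mat g *ᵥ d) = 2 := by rw [h.iso hg]; exact hdd
    rw [← hspanU, Submodule.mem_span_range_iff_exists_fun] at h1
    obtain ⟨co, hco⟩ := h1
    simp [Fin.sum_univ_two] at hco
    rw [← hco] at h3
    simp only [hbf.add_left, hbf.add_right, hbf.smul_left, hbf.smul_right, RingEquiv.refl_apply, haz, hzz, hza,
      haa] at h3
    have h4 : co 0 * co 1 = 1 := mul_left_cancel₀ h.two (by linear_combination h3)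
    have h5 := FiniteField.pow_card_sub_one_eq_one (co 0) (left_ne_zero_of_mul_eq_one h4)
    rw [hq3] at h5
    have h6 : co 1 = co 0 := by
      calc co 1 = co 0 ^ 2 * co 1 := by rw [show co 0 ^ 2 = (1 : F) from h5, one_mul]
        _ = co 0 := by rw [pow_two, mul_assoc, h4, mul_one]
    rw [Matrix.mulVec_smul, ← hco, h6, ← smul_add, ← hd]
    exact L.smul_mem _ (L.smul_mem _ (Submodule.subset_span rfl))
  have hLI : L ⊓ perpG (RingEquiv.refl F) G L = ⊥ := by
    rw [eq_bot_iff]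
    rintro v ⟨hv, hv'⟩
    obtain ⟨t, rfl⟩ := Submodule.mem_span_singleton.1 hv
    have h1 := hv' d (Submodule.subset_span rfl)
    rw [hbf.smul_left, hdd] at h1
    rw [(mul_eq_zero.1 h1).resolve_right h.two, zero_smul]
    exact zero_mem _
  obtain ⟨-, hLnd, hLdim⟩ := perp_cases h.rg.det hrefl hLI
  have hL1 : Module.finrank F L = 1 := finrank_span_singleton hd0
  rw [hL1, hm] at hLdim
  refine ⟨_, fun e => ?_, fun e => ?_, ⟨m, by omega⟩, hLnd, fun h => ?_, le_stab (inv_perp h.fix hL)⟩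
  · rw [e, finrank_bot] at hLdim; omega
  · rw [e, finrank_top, Module.finrank_fintype_fun_eq_card, hm] at hLdim; omega
  · omega

end Cfsg.Agent.Asch
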