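import Cfsg.Agent.Asch.Proper

/-!
Decompositions over very small fields: their stabilisers fix a form or a vector.
-/

set_option autoImplicit false
set_option linter.unusedSectionVars false

namespace Cfsg.Agent.Asch

open Matrix Cfsg.Geo Cfsg.Agent.PrimeDim
open scoped MatrixGroups

variable {F : Type*} [Field F] [Fintype F]

/-- Monomial groups over at most four elements. -/
theorem small_lines {n t : ℕ} (hn : 3 ≤ n) {D : Fin t → Submodule F (Fin n → F)} (hD : IsMDecomposition 1 D)
    {H : Subgroup (GL (Fin n) F)} (hle : H ≤ decompositionStabilizer D) (hq : Fintype.card F ≤ 4) :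
    (∃ W : Submodule F (Fin n → F), W ≠ ⊥ ∧ W ≠ ⊤ ∧ H ≤ subspaceStabilizer W) ∨ InSim H := by
  classical
  haveI : Nonempty (Fin n) := ⟨⟨0, by omega⟩⟩
  have htn : t = n := by
    have := NotMax.mul_card_eq' hD
    rwa [mul_one, Fintype.card_fin] at this
  subst htn
  choose v hv using fun i => finrank_eq_one_iff'.1 (hD.finrank_eq i)
  have hli : LinearIndependent F fun i => ((v i : D i) : Fin t → F) :=
    hD.indep.linearIndependent _ (fun i => (v i).2) fun i h => (hv i).1 (Subtype.ext h)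
  let b : Module.Basis (Fin t) F (Fin t → F) := basisOfLinearIndependentOfCardEqFinrank hli
    (by rw [Module.finrank_fintype_fun_eq_card])
  have hb : ∀ i, b i = ((v i : D i) : Fin t → F) := fun i => by
    simp [b]
  have hmono : ∀ g ∈ H, ∃ (π : Equiv.Perm (Fin t)) (c : Fin t → F), (∀ i, c i ≠ 0) ∧
      ∀ i, mat g *ᵥ b i = c i • b (π i) := fun g hg => exists_perm fun i => by
    obtain ⟨σ, hσ⟩ := hle hg
    have h1 : mat g *ᵥ b i ∈ D (σ i) := hσ i ▸ ⟨b i, (hb i).symm ▸ (v i).2, Matrix.toLin'_apply _ _⟩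
    obtain ⟨c, hc⟩ := (hv (σ i)).2 ⟨_, h1⟩
    exact ⟨σ i, c, (congrArg Subtype.val hc).symm.trans (by rw [hb (σ i)]; rfl)⟩
  have hpw : ∀ c : Fin t → F, (∀ i, c i ≠ 0) → ∀ i, c i ^ (Fintype.card F - 1) = 1 := fun c hc i =>
    FiniteField.pow_card_sub_one_eq_one _ (hc i)
  have h1 := Fintype.one_lt_card (α := F)
  rcases (show Fintype.card F = 2 ∨ Fintype.card F = 3 ∨ Fintype.card F = 4 by omega) with hq | hq | hq
  · left
    let W : Submodule F (Fin t → F) := Submodule.span F {∑ i, b i}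
    have hne : (∑ i, b i) ≠ 0 := by
      intro e
      have h2 := congrArg (fun v => b.repr v (Classical.arbitrary _)) e
      simp [Finsupp.single_apply] at h2
    have hW : Inv H W := by
      intro g hg v hv
      obtain ⟨π, c, hc, hπ⟩ := hmono g hg
      obtain ⟨a, rfl⟩ := Submodule.mem_span_singleton.1 hv
      have hc1 : ∀ i, c i = 1 := fun i => by
        have h2 := hpw c hc i
        rw [hq] at h2
        simpa using h2
      rw [Matrix.mulVec_smul, Matrix.mulVec_sum]
      simp only [hπ, hc1, one_smul]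
      rw [Equiv.sum_comp π (fun i => b i)]
      exact W.smul_mem _ (Submodule.subset_span rfl)
    refine ⟨W, fun e => hne ((Submodule.mem_bot F).1 (e ▸ Submodule.subset_span rfl)), fun e => ?_, le_stab hW⟩
    have h2 : Module.finrank F W = 1 := finrank_span_singleton hne
    rw [e, finrank_top, Module.finrank_fintype_fun_eq_card, Fintype.card_fin] at h2
    omega
  · right
    have hodd : Odd (Fintype.card F) := by rw [hq]; decide
    have hfix : Fixes (RingEquiv.refl F) H (act (RingEquiv.refl F) 1 (mat (ofBasis b)⁻¹)) :=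
      fixes_of_mono b fun g hg => by
        obtain ⟨π, c, hc, hπ⟩ := hmono g hg
        refine ⟨π, c, fun i => ?_, hπ⟩
        have h2 := hpw c hc i
        rw [hq] at h2
        rw [RingEquiv.refl_apply, ← pow_two]
        exact h2
    have hQ : IsNondegenerateQuadraticForm
        (fun v => formG (RingEquiv.refl F) (act (RingEquiv.refl F) 1 (mat (ofBasis b)⁻¹)) v v) :=
      isQuad_formG (two_ne_zero_of_odd hodd) (det_act_one_ne_zero _ _) (by
        have h2 := herm_act_one (σ := RingEquiv.refl F) (fun _ => rfl) (mat (ofBasis b)⁻¹)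
        rwa [show (act (RingEquiv.refl F) 1 (mat (ofBasis b)⁻¹)).map (RingEquiv.refl F) =
          act (RingEquiv.refl F) 1 (mat (ofBasis b)⁻¹) from Matrix.map_id _] at h2)
    refine Or.inr (Or.inr ⟨_, hQ, two_ne_zero_of_odd hodd, fun g hg => ⟨1, fun v => ?_⟩⟩)
    simp only [Units.val_one, one_mul, formG_mulVec, hfix g hg]
  · right
    obtain ⟨σ, hσ, hbar⟩ := exists_bar (F := F) (q := 2) (by rw [hq]; rfl)
    have hfix : Fixes σ H (act σ 1 (mat (ofBasis b)⁻¹)) := fixes_of_mono b fun g hg => by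
      obtain ⟨π, c, hc, hπ⟩ := hmono g hg
      refine ⟨π, c, fun i => ?_, hπ⟩
      have h2 := hpw c hc i
      rw [hq] at h2
      rw [hσ, ← pow_succ']
      exact h2
    refine Or.inr (Or.inl ⟨σ, _, isUnitaryForm_formG hbar (det_act_one_ne_zero σ (ofBasis b)⁻¹)
      (herm_act_one hbar.involutive _), fun g hg => ⟨1, fun u v => ?_⟩⟩)
    rw [Units.val_one, one_mul, formG_mulVec, hfix g hg]

/-- The alternating form on pairs. -/
def det2 (a b : Fin 2 → F) : F := a 0 * b 1 - a 1 * b 0

theorem det2_map (L : (Fin 2 → F) →ₗ[F] (Fin 2 → F)) (a b : Fin 2 → F) :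
    det2 (L a) (L b) = det2 (L ![1, 0]) (L ![0, 1]) * det2 a b := by
  have h : ∀ a : Fin 2 → F, L a = a 0 • L ![1, 0] + a 1 • L ![0, 1] := fun a => by
    rw [← map_smul, ← map_smul, ← map_add]
    congr 1
    funext i
    fin_cases i <;> simp
  rw [h a, h b]
  simp only [det2, Pi.add_apply, Pi.smul_apply, smul_eq_mul]
  ring

variable {ι : Type} [Fintype ι] [DecidableEq ι]

/-- Coordinates adapted to planes. -/
structure IsPlanes {t : ℕ} (D : Fin t → Submodule F (ι → F)) (χ : Fin t → (ι → F) →ₗ[F] (Fin 2 → F))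
    (emb : Fin t → (Fin 2 → F) →ₗ[F] (ι → F)) : Prop where
  mem : ∀ i a, emb i a ∈ D i
  left : ∀ i a, χ i (emb i a) = a
  other : ∀ i j, i ≠ j → ∀ a, χ j (emb i a) = 0
  sum : ∀ v, ∑ i, emb i (χ i v) = v
  surj : ∀ i, ∀ v ∈ D i, emb i (χ i v) = v

theorem exists_planes {t : ℕ} {D : Fin t → Submodule F (ι → F)} (hD : IsMDecomposition 2 D) :
    ∃ χ emb, IsPlanes D χ emb := by
  obtain ⟨p, hp⟩ := NotMax.exists_parts hD
  let ψ : ∀ i, D i ≃ₗ[F] (Fin 2 → F) := fun i =>
    (Module.finBasisOfFinrankEq F (D i) (hD.finrank_eq i)).equivFun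
  refine ⟨fun i => (ψ i).toLinearMap.comp ((p i).codRestrict (D i) (hp.mem i)),
    fun i => (D i).subtype.comp (ψ i).symm.toLinearMap, fun i a => Submodule.coe_mem _, fun i a => ?_,
    fun i j hij a => ?_, fun v => ?_, fun i v hv => ?_⟩
  · show ψ i ⟨p i ((ψ i).symm a : ι → F), _⟩ = a
    rw [show (⟨p i ((ψ i).symm a : ι → F), hp.mem i _⟩ : D i) = (ψ i).symm a from
      Subtype.ext (hp.same i _ (Submodule.coe_mem _)), LinearEquiv.apply_symm_apply]
  · show ψ j ⟨p j ((ψ i).symm a : ι → F), _⟩ = 0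
    rw [show (⟨p j ((ψ i).symm a : ι → F), hp.mem j _⟩ : D j) = 0 from
      Subtype.ext (hp.other i j hij _ (Submodule.coe_mem _)), map_zero]
  · refine Eq.trans (Finset.sum_congr rfl fun i _ => ?_) (hp.sum v)
    show (((ψ i).symm (ψ i ⟨p i v, hp.mem i v⟩) : D i) : ι → F) = p i v
    rw [LinearEquiv.symm_apply_apply]
  · show (((ψ i).symm (ψ i ⟨p i v, hp.mem i v⟩) : D i) : ι → F) = v
    rw [LinearEquiv.symm_apply_apply]
    exact hp.same i v hv

/-- Plane stabilisers with a common determinant on the planes are symplectic similitudes. -/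
theorem symp_of_planes [Nonempty ι] {t : ℕ} {D : Fin t → Submodule F (ι → F)} {χ : Fin t → (ι → F) →ₗ[F] (Fin 2 → F)}
    {emb : Fin t → (Fin 2 → F) →ₗ[F] (ι → F)} (hP : IsPlanes D χ emb) {H : Subgroup (GL ι F)}
    (hle : H ≤ decompositionStabilizer D)
    (hdet : ∀ g ∈ H, ∀ σ : Equiv.Perm (Fin t),
      (∀ i a, mat g *ᵥ emb i a = emb (σ i) (χ (σ i) (mat g *ᵥ emb i a))) →
      ∃ c : F, ∀ i, det2 (χ (σ i) (mat g *ᵥ emb i ![1, 0])) (χ (σ i) (mat g *ᵥ emb i ![0, 1])) = c) :
    InSim H := by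
  classical
  let f : (ι → F) → (ι → F) → F := fun u v => ∑ i, det2 (χ i u) (χ i v)
  have hnd : IsNondegenerateForm f := by
    have key : ∀ u : ι → F, u ≠ 0 → ∃ x, f u x ≠ 0 := by
      intro u hu
      obtain ⟨i, hi⟩ : ∃ i, χ i u ≠ 0 := by
        by_contra hcon
        push Not at hcon
        refine hu ?_
        rw [← hP.sum u]
        exact Finset.sum_eq_zero fun i _ => by rw [hcon i, map_zero]
      have h2 : ∀ a, f u (emb i a) = det2 (χ i u) a := fun a => by
        show ∑ j, _ = _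
        rw [Finset.sum_eq_single i (fun j _ hj => by rw [hP.other i j hj.symm]; simp [det2]) (by simp), hP.left]
      by_cases h0 : χ i u 0 = 0
      · refine ⟨emb i ![1, 0], ?_⟩
        rw [h2]
        intro h
        refine hi (funext fun k => ?_)
        fin_cases k
        · exact h0
        · simpa [det2] using h
      · exact ⟨emb i ![0, 1], by rw [h2]; simpa [det2] using h0⟩
    intro u hu
    obtain ⟨x, hx⟩ := key u hu
    refine ⟨⟨x, fun h => hx ?_⟩, x, hx⟩
    have : f u x = - f x u := by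
      simp only [f, det2, ← Finset.sum_neg_distrib]
      exact Finset.sum_congr rfl fun j _ => by ring
    rw [this, h, neg_zero]
  have hf : IsSymplecticForm f := by
    refine ⟨⟨fun x y v => ?_, fun c x v => ?_, fun v x y => ?_, fun c v x => ?_⟩, fun v w => ?_, fun v => ?_, hnd⟩
    · simp only [f, det2, map_add, Pi.add_apply, ← Finset.sum_add_distrib]
      exact Finset.sum_congr rfl fun j _ => by ring
    · simp only [f, det2, map_smul, Pi.smul_apply, smul_eq_mul, Finset.mul_sum]
      exact Finset.sum_congr rfl fun j _ => by ring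
    · simp only [f, det2, map_add, Pi.add_apply, ← Finset.sum_add_distrib]
      exact Finset.sum_congr rfl fun j _ => by ring
    · simp only [f, det2, map_smul, Pi.smul_apply, smul_eq_mul, Finset.mul_sum]
      exact Finset.sum_congr rfl fun j _ => by ring
    · simp only [f, det2, ← Finset.sum_neg_distrib]
      exact Finset.sum_congr rfl fun j _ => by ring
    · simp only [f, det2]
      exact Finset.sum_eq_zero fun j _ => by ring
  refine Or.inl ⟨f, hf, even_of_symp hf, fun g hg => ?_⟩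
  obtain ⟨σ, hσ⟩ := hle hg
  have hemb : ∀ i a, mat g *ᵥ emb i a = emb (σ i) (χ (σ i) (mat g *ᵥ emb i a)) := fun i a =>
    (hP.surj _ _ (hσ i ▸ ⟨_, hP.mem i a, Matrix.toLin'_apply _ _⟩)).symm
  obtain ⟨c, hc⟩ := hdet g hg σ hemb
  have hχ : ∀ i u, χ (σ i) (mat g *ᵥ u) = χ (σ i) (mat g *ᵥ emb i (χ i u)) := fun i u => by
    conv_lhs => rw [← hP.sum u]
    rw [Matrix.mulVec_sum, map_sum, Finset.sum_eq_single i (fun j _ hj => ?_) (by simp)]
    rw [hemb j, hP.other (σ j) (σ i) (σ.injective.ne hj)]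
  let L : ∀ i, (Fin 2 → F) →ₗ[F] (Fin 2 → F) := fun i => (χ (σ i)).comp ((mat g).mulVecLin.comp (emb i))
  have hfg : ∀ u v, f (mat g *ᵥ u) (mat g *ᵥ v) = c * f u v := fun u v => by
    simp only [f, Finset.mul_sum]
    rw [← Equiv.sum_comp σ]
    refine Finset.sum_congr rfl fun i _ => ?_
    rw [hχ i u, hχ i v, ← hc i]
    exact det2_map (L i) (χ i u) (χ i v)
  refine ⟨Units.mk0 c fun h0 => ?_, hfg⟩
  obtain ⟨i₀⟩ := ‹Nonempty ι›
  obtain ⟨x, hx⟩ := (hnd (Pi.single i₀ 1) (by simp)).1
  refine hx ?_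
  have h1 := hfg (mat g⁻¹ *ᵥ x) (mat g⁻¹ *ᵥ Pi.single i₀ 1)
  rwa [mulVec_inv_cancel, mulVec_inv_cancel, h0, zero_mul] at h1

/-- Planes over two elements. -/
theorem small_planes [Nonempty ι] {t : ℕ} {D : Fin t → Submodule F (ι → F)} (hD : IsMDecomposition 2 D) {H : Subgroup (GL ι F)}
    (hle : H ≤ decompositionStabilizer D) (hq : Fintype.card F = 2) : InSim H := by
  obtain ⟨χ, emb, hP⟩ := exists_planes hD
  refine symp_of_planes hP hle fun g hg σ hσ => ⟨1, fun i => ?_⟩
  let L : (Fin 2 → F) →ₗ[F] (Fin 2 → F) := (χ (σ i)).comp ((mat g).mulVecLin.comp (emb i))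
  have hL : Function.Injective L := (injective_iff_map_eq_zero L).2 fun a ha => by
    have h1 : mat g *ᵥ emb i a = 0 := by
      rw [hσ i a, show χ (σ i) (mat g *ᵥ emb i a) = 0 from ha, map_zero]
    rw [← hP.left i a, mulVec_injective g (h1.trans (Matrix.mulVec_zero _).symm), map_zero]
  have h2 : det2 (L ![1, 0]) (L ![0, 1]) ≠ 0 := by
    intro h0
    obtain ⟨a, ha⟩ := LinearMap.injective_iff_surjective.1 hL ![1, 0]
    obtain ⟨b, hb⟩ := LinearMap.injective_iff_surjective.1 hL ![0, 1]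
    have h3 := det2_map L a b
    rw [ha, hb, h0, zero_mul] at h3
    simp [det2] at h3
  have h4 := FiniteField.pow_card_sub_one_eq_one _ h2
  rwa [hq, show 2 - 1 = 1 from rfl, pow_one] at h4

end Cfsg.Agent.Asch
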