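import Cfsg.Agent.Asch.SympMax
import Cfsg.Agent.Asch.FourSimilitude
import Cfsg.Agent.Classical.SympGroup

/-!
The symplectic group of dimension eight: tensor products with a factor of plus type are not maximal.
-/

set_option autoImplicit false
set_option linter.unusedSectionVars false

namespace Cfsg.Agent.Asch

open Matrix Cfsg.Geo Cfsg.Agent.PrimeDim
open scoped MatrixGroups Kronecker

variable {F : Type*} [Field F] [Fintype F]

/-- The symplectic group of dimension eight is larger than any tensor wreath group. -/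
theorem sp_eight_not_wreath (hodd : Odd (Fintype.card F)) (e : (Fin 4 ⊕ Fin 4) ≃ (Fin 3 → Fin 2))
    (P : GL (Fin 4 ⊕ Fin 4) F) : ¬ Cfsg.spGL 4 F ≤ tensorWreathSubgroup 2 3 e P := by
  classical
  intro hle
  set q := Fintype.card F with hq
  let S := Matrix.symplecticGroup (Fin 4) F
  let ι₁ : S → GL (Fin 4 ⊕ Fin 4) F := fun A =>
    Matrix.GeneralLinearGroup.mk'' A.1 (SymplecticGroup.symplectic_det A.2)
  have hι : ∀ A, ι₁ A ∈ tensorWreathSubgroup 2 3 e P := fun A => hle fun u v => by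
    have h := (Cfsg.Agent.Classical.mem_symplectic_iff A.1).1 A.2 u v
    rw [Cfsg.Agent.Classical.sympB_apply, Cfsg.Agent.Classical.sympB_apply] at h
    exact h
  have hinj : Function.Injective ι₁ := fun A B h => Subtype.ext (congrArg mat h)
  have h1 : Nat.card S ≤ Nat.card (tensorWreathSubgroup 2 3 e P) :=
    Nat.card_le_card_of_injective (fun A => (⟨ι₁ A, hι A⟩ : tensorWreathSubgroup 2 3 e P))
      fun A B h => hinj (congrArg Subtype.val h)
  let π : (Fin 3 → GL (Fin 2) F) × Equiv.Perm (Fin 3) → tensorWreathSubgroup 2 3 e P := fun x =>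
    ⟨fr e P (pureU x.1 * permU x.2), (map_fr_eq_wreath e P).le ⟨_, pureU_mul_permU_mem _ _, rfl⟩⟩
  have h2 : Nat.card (tensorWreathSubgroup 2 3 e P) ≤ Nat.card ((Fin 3 → GL (Fin 2) F) × Equiv.Perm (Fin 3)) := by
    refine Nat.card_le_card_of_surjective π fun g => ?_
    obtain ⟨X, hX, hgX⟩ := (map_fr_eq_wreath e P).ge g.2
    obtain ⟨gs, τ, rfl⟩ := mem_standard hX
    exact ⟨(gs, τ), Subtype.ext hgX⟩
  have h3 : Nat.card (GL (Fin 2) F) ≤ q ^ 4 := by
    have h5 : Nat.card (GL (Fin 2) F) ≤ Nat.card (Matrix (Fin 2) (Fin 2) F) :=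
      Nat.card_le_card_of_injective _ Units.val_injective
    refine h5.trans_eq ?_
    rw [Nat.card_eq_fintype_card (α := Matrix (Fin 2) (Fin 2) F)]
    show Fintype.card (Fin 2 → Fin 2 → F) = q ^ 4
    simp [← pow_mul, hq]
  rw [Nat.card_prod, Nat.card_pi, Fin.prod_univ_three, Nat.card_perm, Nat.card_fin,
    show Nat.factorial 3 = 6 from rfl] at h2
  have hq3 : 3 ≤ q := by
    have := Fintype.one_lt_card (α := F)
    obtain ⟨l, hl⟩ := hodd
    omega
  have h4 : q ^ 16 ≤ Nat.card S := by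
    rw [Cfsg.Agent.Classical.card_symplecticGroup rfl 4]
    refine Nat.le_mul_of_pos_right _ (Finset.prod_pos fun i _ => ?_)
    have : 1 < q ^ (2 * (i + 1)) := Nat.one_lt_pow (by omega) (by omega)
    show 0 < q ^ (2 * (i + 1)) - 1
    omega
  have h5 : Nat.card (GL (Fin 2) F) * Nat.card (GL (Fin 2) F) * Nat.card (GL (Fin 2) F) * 6 ≤ q ^ 4 * q ^ 4 * q ^ 4 * 6 := by
    gcongr
  have h6 : q ^ 4 * q ^ 4 * q ^ 4 * 6 < q ^ 16 := by
    rw [← pow_add, ← pow_add, show 16 = 12 + 4 by rfl, pow_add q 12 4]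
    have h7 : 6 < q ^ 4 := lt_of_lt_of_le (by norm_num) (Nat.pow_le_pow_left hq3 4)
    exact Nat.mul_lt_mul_of_pos_left h7 (pow_pos (by omega) 12)
  exact absurd (h4.trans (h1.trans (h2.trans h5))) (not_le.2 h6)

/-- A frame in which a symmetric form of plus type on a four-space is the determinant. -/
theorem plus_frame (h2 : (2 : F) ≠ 0) {f₂ : (Fin 4 → F) → (Fin 4 → F) → F} (hf : IsSymmetricForm f₂)
    (hplus : IsPlusTypeOn (fun v : Fin 4 → F => f₂ v v) ⊤) :
    ∃ Q : GL (Fin 4) F, (mat Q)ᵀ * gramMatrix f₂ * mat Q =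
      !![0, 0, 0, 1; 0, 0, -1, 0; 0, -1, 0, 0; 1, 0, 0, 0] := by
  classical
  obtain ⟨U, -, hU, hrk⟩ := hplus
  rw [finrank_top, Module.finrank_fintype_fun_eq_card, Fintype.card_fin] at hrk
  have hs := isSesq_of_bilinear hf.bilinear
  have hts : ∀ a ∈ U, ∀ b ∈ U, f₂ a b = 0 := fun a ha b hb => by
    have z : f₂ (a + b) (a + b) = 0 := hU _ (add_mem ha hb)
    rw [hs.add_left, hs.add_right, hs.add_right, show f₂ a a = 0 from hU a ha, show f₂ b b = 0 from hU b hb,
      hf.symm b a] at z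
    exact (mul_eq_zero.1 (show (2 : F) * f₂ a b = 0 by linear_combination z)).resolve_left h2
  let β := Module.finBasisOfFinrankEq F U (show Module.finrank F U = 2 by omega)
  set u₁ : Fin 4 → F := ((β 0 : U) : Fin 4 → F) with hu₁
  set u₂ : Fin 4 → F := ((β 1 : U) : Fin 4 → F) with hu₂
  let φ : (Fin 4 → F) →ₗ[F] F × F :=
    { toFun := fun b => (f₂ u₁ b, f₂ u₂ b)
      map_add' := fun b c => Prod.ext (hs.add_right _ _ _) (hs.add_right _ _ _)
      map_smul' := fun c b => Prod.ext (hs.smul_right _ _ _) (hs.smul_right _ _ _) }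
  have hker : ∀ x y : F, (∀ v, x * f₂ u₁ v + y * f₂ u₂ v = 0) → x = 0 ∧ y = 0 := by
    intro x y h
    have h0 : x • u₁ + y • u₂ = 0 := by
      by_contra hne
      obtain ⟨-, v, hv⟩ := hf.nondegenerate _ hne
      exact hv (by rw [hs.add_left, hs.smul_left, hs.smul_left]; exact h v)
    have h5 : x • β 0 + y • β 1 = 0 := Subtype.ext h0
    have h6 := Fintype.linearIndependent_iff.1 β.linearIndependent ![x, y] (by simpa [Fin.sum_univ_two] using h5)
    exact ⟨h6 0, h6 1⟩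
  have hsurj : Function.Surjective φ := by
    rw [← LinearMap.range_eq_top]
    by_contra hne
    obtain ⟨ψ, hψ0, hψ⟩ := (LinearMap.range φ).exists_le_ker_of_lt_top (lt_top_iff_ne_top.2 hne)
    obtain ⟨hx, hy⟩ := hker (ψ (1, 0)) (ψ (0, 1)) fun v => by
      have h1 := hψ ⟨v, rfl⟩
      rw [LinearMap.mem_ker, show φ v = f₂ u₁ v • ((1, 0) : F × F) + f₂ u₂ v • ((0, 1) : F × F) by ext <;> simp [φ],
        map_add, map_smul, map_smul, smul_eq_mul, smul_eq_mul] at h1
      linear_combination h1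
    exact hψ0 (LinearMap.ext fun p => by
      rw [show p = p.1 • ((1, 0) : F × F) + p.2 • ((0, 1) : F × F) by ext <;> simp, map_add, map_smul, map_smul, hx, hy]
      simp)
  obtain ⟨v₁, hv₁⟩ := hsurj (1, 0)
  obtain ⟨v₂, hv₂⟩ := hsurj (0, 1)
  have k11 : f₂ u₁ v₁ = 1 := congrArg Prod.fst hv₁
  have k21 : f₂ u₂ v₁ = 0 := congrArg Prod.snd hv₁
  have k12 : f₂ u₁ v₂ = 0 := congrArg Prod.fst hv₂
  have k22 : f₂ u₂ v₂ = 1 := congrArg Prod.snd hv₂
  have m₁ : u₁ ∈ U := (β 0).2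
  have m₂ : u₂ ∈ U := (β 1).2
  have hneg : ∀ u v, f₂ u (-v) = - f₂ u v := fun u v => by rw [← neg_one_smul F v, hs.smul_right]; simp
  have hneg' : ∀ u v, f₂ (-u) v = - f₂ u v := fun u v => by rw [← neg_one_smul F u, hs.smul_left]; simp
  let w₁ := v₁ + (-(f₂ v₁ v₁ / 2)) • u₁
  let w₂ := v₂ + (-(f₂ v₁ v₂)) • u₁ + (-(f₂ v₂ v₂ / 2)) • u₂
  let cols : Fin 4 → Fin 4 → F := ![u₁, u₂, (-1 : F) • w₂, w₁]
  have hgram : ∀ j l, f₂ (cols j) (cols l) =
      (!![0, 0, 0, 1; 0, 0, -1, 0; 0, -1, 0, 0; 1, 0, 0, 0] : Matrix (Fin 4) (Fin 4) F) j l := by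
    intro j l
    fin_cases j <;> fin_cases l <;>
      simp [cols, w₁, w₂, hneg, hneg', hs.add_left, hs.add_right, hs.smul_left, hs.smul_right, hts _ m₁ _ m₁, hts _ m₁ _ m₂,
        hts _ m₂ _ m₁, hts _ m₂ _ m₂, k11, k12, k21, k22, hf.symm v₁ u₁, hf.symm v₁ u₂, hf.symm v₂ u₁, hf.symm v₂ u₂,
        hf.symm v₂ v₁] <;> (try field_simp) <;> (try ring)
  let Q : Matrix (Fin 4) (Fin 4) F := Matrix.of fun i j => cols j i
  have hQ : Qᵀ * gramMatrix f₂ * Q = !![0, 0, 0, 1; 0, 0, -1, 0; 0, -1, 0, 0; 1, 0, 0, 0] := by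
    ext j l
    rw [← hgram]
    have h1 := formG_mulVec (RingEquiv.refl F) (gramMatrix f₂) Q (Pi.single j 1) (Pi.single l 1)
    rw [formG_single, ← hs.eq_formG, act, map_refl_eq, Matrix.mulVec_single_one, Matrix.mulVec_single_one] at h1
    exact h1.symm
  have hd : Q.det ≠ 0 := by
    intro e0
    have h1 := congrArg Matrix.det hQ
    rw [Matrix.det_mul, e0, mul_zero] at h1
    have h5 : (!![0, 0, 0, 1; 0, 0, -1, 0; 0, -1, 0, 0; 1, 0, 0, 0] : Matrix (Fin 4) (Fin 4) F) *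
        !![0, 0, 0, 1; 0, 0, -1, 0; 0, -1, 0, 0; 1, 0, 0, 0] = 1 := by
      ext i j
      simp only [Matrix.mul_apply, Fin.sum_univ_four]
      fin_cases i <;> fin_cases j <;> simp
    have h6 := congrArg Matrix.det h5
    rw [Matrix.det_mul, ← h1, zero_mul, Matrix.det_one] at h6
    exact zero_ne_one h6
  exact ⟨Matrix.GeneralLinearGroup.mk'' Q hd.isUnit, hQ⟩

/-- The frame of three factors. -/
def eightEquiv : Fin 2 × Fin 4 ≃ (Fin 3 → Fin 2) where
  toFun p := ![p.1, (finProdFinEquiv (m := 2) (n := 2)).symm p.2 |>.1, (finProdFinEquiv (m := 2) (n := 2)).symm p.2 |>.2]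
  invFun x := (x 0, finProdFinEquiv (x 1, x 2))
  left_inv := by decide
  right_inv := by decide

/-- A similitude of the determinant is a product, possibly with exchanged factors. -/
theorem four_similitude (h2 : (2 : F) ≠ 0) {b : GL (Fin 4) F} {μ : F} (hμ : μ ≠ 0)
    (hb : (mat b)ᵀ * !![0, 0, 0, 1; 0, 0, -1, 0; 0, -1, 0, 0; 1, 0, 0, 0] * mat b =
      μ • !![0, 0, 0, 1; 0, 0, -1, 0; 0, -1, 0, 0; 1, 0, 0, 0]) :
    ∃ A B : GL (Fin 2) F,
      (∀ p r : Fin 2 × Fin 2, mat b (finProdFinEquiv p) (finProdFinEquiv r) = mat A p.1 r.1 * mat B p.2 r.2) ∨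
      (∀ p r : Fin 2 × Fin 2, mat b (finProdFinEquiv p) (finProdFinEquiv r) = mat A p.1 r.2 * mat B p.2 r.1) := by
  classical
  let vc : Matrix (Fin 2) (Fin 2) F → (Fin 4 → F) := fun x p =>
    x ((finProdFinEquiv (m := 2) (n := 2)).symm p).1 ((finProdFinEquiv (m := 2) (n := 2)).symm p).2
  let L : Matrix (Fin 2) (Fin 2) F →ₗ[F] Matrix (Fin 2) (Fin 2) F :=
    { toFun := fun x => Matrix.of fun i j => (mat b *ᵥ vc x) (finProdFinEquiv (i, j))
      map_add' := fun x y => by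
        ext i j
        show (mat b *ᵥ (vc x + vc y)) _ = _
        rw [Matrix.mulVec_add]; rfl
      map_smul' := fun s x => by
        ext i j
        show (mat b *ᵥ (s • vc x)) _ = _
        rw [Matrix.mulVec_smul]; rfl }
  have hE : ∀ x : Matrix (Fin 2) (Fin 2) F, formG (RingEquiv.refl F)
      (!![0, 0, 0, 1; 0, 0, -1, 0; 0, -1, 0, 0; 1, 0, 0, 0] : Matrix (Fin 4) (Fin 4) F) (vc x) (vc x) = 2 * x.det := fun x => by
    simp [formG, dotProduct, Matrix.mulVec, Fin.sum_univ_four, vc, finProdFinEquiv, Fin.divNat, Fin.modNat, Matrix.det_fin_two]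
    ring
  obtain ⟨A, B, hA, hB, hcase⟩ := det_similitude L hμ fun x => by
    have h1 := formG_mulVec (RingEquiv.refl F)
      (!![0, 0, 0, 1; 0, 0, -1, 0; 0, -1, 0, 0; 1, 0, 0, 0] : Matrix (Fin 4) (Fin 4) F) (mat b) (vc x) (vc x)
    rw [act, map_refl_eq, hb, formG_smul, hE, show mat b *ᵥ vc x = vc (L x) from funext fun p => by
      show _ = (mat b *ᵥ vc x) ((finProdFinEquiv (m := 2) (n := 2)) (((finProdFinEquiv (m := 2) (n := 2)).symm p).1,
        ((finProdFinEquiv (m := 2) (n := 2)).symm p).2))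
      rw [Prod.mk.eta, Equiv.apply_symm_apply], hE] at h1
    exact mul_left_cancel₀ h2 (by linear_combination h1)
  have hread : ∀ p r : Fin 2 × Fin 2, mat b (finProdFinEquiv p) (finProdFinEquiv r) =
      L (Matrix.single r.1 r.2 1) p.1 p.2 := fun p r => by
    show _ = (mat b *ᵥ vc (Matrix.single r.1 r.2 1)) (finProdFinEquiv p)
    rw [show vc (Matrix.single r.1 r.2 1) = Pi.single (finProdFinEquiv r) 1 from funext fun s => by
      obtain ⟨s, rfl⟩ := (finProdFinEquiv (m := 2) (n := 2)).surjective s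
      simp [vc, Matrix.single_apply, Pi.single_apply, Prod.ext_iff, eq_comm], Matrix.mulVec_single_one]
    rfl
  have hBt : Bᵀ.det ≠ 0 := by rwa [Matrix.det_transpose]
  refine ⟨Matrix.GeneralLinearGroup.mk'' A hA.isUnit, Matrix.GeneralLinearGroup.mk'' Bᵀ hBt.isUnit, ?_⟩
  rcases hcase with h | h
  · refine Or.inl fun p r => ?_
    rw [hread, h]
    show _ = A p.1 r.1 * Bᵀ p.2 r.2
    obtain ⟨i, j⟩ := r
    fin_cases i <;> fin_cases j <;> simp [Matrix.mul_apply, Fin.sum_univ_two, Matrix.single_apply]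
  · refine Or.inr fun p r => ?_
    rw [hread, h]
    show _ = A p.1 r.2 * Bᵀ p.2 r.1
    obtain ⟨i, j⟩ := r
    fin_cases i <;> fin_cases j <;> simp [Matrix.mul_apply, Fin.sum_univ_two, Matrix.single_apply]

/-- The tensor product with a factor of plus type is not maximal. -/
theorem plus_not_max (hodd : Odd (Fintype.card F)) {H : Subgroup (GL (Fin 4 ⊕ Fin 4) F)}
    (hH : IsMaximalIn (Cfsg.spGL 4 F) H) {e : (Fin 4 ⊕ Fin 4) ≃ Fin 2 × Fin 4} {P : GL (Fin 4 ⊕ Fin 4) F}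
    {f₁ : (Fin 2 → F) → (Fin 2 → F) → F} {f₂ : (Fin 4 → F) → (Fin 4 → F) → F} (hf₁ : IsSymplecticForm f₁)
    (hf₂ : IsSymmetricForm f₂) (hst : IsTensorFormStructure id (Cfsg.sympForm 4 F) f₁ f₂ e P)
    (hplus : IsPlusTypeOn (fun v : Fin 4 → F => f₂ v v) ⊤)
    (hHeq : H = tensorProductSubgroup 2 4 e P ⊓ Cfsg.spGL 4 F) : False := by
  classical
  have h2 : (2 : F) ≠ 0 := PrimeDim.two_ne_zero_of_odd hodd
  obtain ⟨c, hc, hst⟩ := hst
  obtain ⟨Q, hQ⟩ := plus_frame h2 hf₂ hplus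
  set σ := RingEquiv.refl F
  set G := Matrix.J (Fin 4) F
  set G₁ := gramMatrix f₁ with hG₁
  set G₂ := gramMatrix f₂
  set E : Matrix (Fin 4) (Fin 4) F := !![0, 0, 0, 1; 0, 0, -1, 0; 0, -1, 0, 0; 1, 0, 0, 0] with hE
  set γ := G₁ 0 1 with hγ
  have hs₁ := isSesq_of_bilinear hf₁.bilinear
  have hG10 : G₁ 1 0 = -γ := by
    have h1 := hf₁.alternating (Pi.single 0 1 + Pi.single 1 1)
    rw [hs₁.add_left, hs₁.add_right, hs₁.add_right, hf₁.alternating, hf₁.alternating] at h1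
    show f₁ (Pi.single 1 1) (Pi.single 0 1) = -(f₁ (Pi.single 0 1) (Pi.single 1 1))
    linear_combination h1
  have hG00 : ∀ i, G₁ i i = 0 := fun i => hf₁.alternating _
  have hγ0 : γ ≠ 0 := by
    intro e0
    refine hs₁.det_ne_zero hf₁.nondegenerate ?_
    show G₁.det = 0
    rw [Matrix.det_fin_two, hG00, hG00, hG10, ← hγ, e0]; ring
  have hfrG : frG σ e P G = c • (G₁ ⊗ₖ G₂) := formG_ext (σ := σ) fun x y => by
    rw [formG_frL, formG_smul]
    refine Eq.trans ?_ ((hst x y).trans ?_)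
    · rw [sympForm_eq_formG]; rfl
    · simp only [formG, formOfGram, dotProduct, Matrix.mulVec, Finset.mul_sum, mul_assoc]
      rfl
  let U : GL (Fin 2 × Fin 4) F :=
    { val := (1 : Matrix (Fin 2) (Fin 2) F) ⊗ₖ mat Q
      inv := (1 : Matrix (Fin 2) (Fin 2) F) ⊗ₖ mat Q⁻¹
      val_inv := by rw [← Matrix.mul_kronecker_mul, one_mul, mat_mul_inv, Matrix.one_kronecker_one]
      inv_val := by rw [← Matrix.mul_kronecker_mul, one_mul, mat_inv_mul, Matrix.one_kronecker_one] }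
  set P' := fr e P U * P with hP'
  set e' := e.trans eightEquiv with he'
  have hpow : frG σ e' P' G = (c / (γ * γ)) • pureM fun _ => G₁ := by
    have h1 : frG σ e P' G = c • (G₁ ⊗ₖ E) := by
      rw [hP', frG_change, hfrG, act, map_refl_eq, Matrix.mul_smul, Matrix.smul_mul]
      show c • (((1 : Matrix (Fin 2) (Fin 2) F) ⊗ₖ mat Q)ᵀ * (G₁ ⊗ₖ G₂) * ((1 : Matrix (Fin 2) (Fin 2) F) ⊗ₖ mat Q)) = _
      rw [← Matrix.kroneckerMap_transpose, Matrix.transpose_one, ← Matrix.mul_kronecker_mul, ← Matrix.mul_kronecker_mul,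
        one_mul, mul_one, hQ]
    have h5 : frG σ e' P' G = (frG σ e P' G).submatrix eightEquiv.symm eightEquiv.symm := by
      show ((act σ G (mat P')).submatrix _ _) = ((act σ G (mat P')).submatrix _ _).submatrix _ _
      rw [Matrix.submatrix_submatrix]; rfl
    rw [h5, h1]
    ext x y
    have hb : ∀ a b : Fin 2 × Fin 2, E (finProdFinEquiv a) (finProdFinEquiv b) =
        (γ * γ)⁻¹ * (G₁ a.1 b.1 * G₁ a.2 b.2) := by
      rintro ⟨a₁, a₂⟩ ⟨b₁, b₂⟩
      fin_cases a₁ <;> fin_cases a₂ <;> fin_cases b₁ <;> fin_cases b₂ <;>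
        simp [E, finProdFinEquiv, hG00, hG10, ← hγ] <;> field_simp
    show c * (G₁ (x 0) (y 0) * E (finProdFinEquiv (x 1, x 2)) (finProdFinEquiv (y 1, y 2))) =
      c / (γ * γ) * ∏ i, G₁ (x i) (y i)
    rw [hb, Fin.prod_univ_three]
    ring
  have hfr' : ∀ X : GL (Fin 2 × Fin 4) F,
      fr e P X = fr e' P' (glReindex eightEquiv (U⁻¹ * X * U)) := fun X => by
    have h1 : fr e (fr e P U * P) (U⁻¹ * X * U) = fr e P X := by
      rw [← fr_conj]; congr 1; group
    rw [← h1, ← hP', he', ← fr_reindex]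
    congr 1
    exact Units.ext (by ext; simp [glReindex])
  have hentry : ∀ (X : GL (Fin 2 × Fin 4) F) (a : GL (Fin 2) F) (b : GL (Fin 4) F),
      mat X = (a : Matrix (Fin 2) (Fin 2) F) ⊗ₖ (b : Matrix (Fin 4) (Fin 4) F) → ∀ x y,
      mat (glReindex eightEquiv (U⁻¹ * X * U)) x y =
        mat a (x 0) (y 0) * mat (Q⁻¹ * b * Q) (finProdFinEquiv (x 1, x 2)) (finProdFinEquiv (y 1, y 2)) := by
    intro X a b hX x y
    show (((1 : Matrix (Fin 2) (Fin 2) F) ⊗ₖ mat Q⁻¹) * mat X * ((1 : Matrix (Fin 2) (Fin 2) F) ⊗ₖ mat Q))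
      (x 0, finProdFinEquiv (x 1, x 2)) (y 0, finProdFinEquiv (y 1, y 2)) = _
    rw [hX, ← Matrix.mul_kronecker_mul, ← Matrix.mul_kronecker_mul, one_mul, mul_one]
    rfl
  -- the group lies in the wreath
  have hW : H ≤ tensorWreathSubgroup 2 3 e' P' := by
    intro g hg
    rw [hHeq] at hg
    obtain ⟨X, ⟨a, b, hX⟩, rfl⟩ := (map_fr_eq_tensor e P).ge hg.1
    have hiso : act σ (frG σ e P G) (mat X) = frG σ e P G := formG_ext (σ := σ) fun x y => by
      rw [← formG_mulVec, formG_frL, formG_frL, ← fr_mulVec, ← fr_mulVec]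
      exact hg.2 _ _
    rw [hfrG, act, map_refl_eq, Matrix.mul_smul, Matrix.smul_mul] at hiso
    have hiso' := smul_right_injective (Matrix (Fin 2 × Fin 4) (Fin 2 × Fin 4) F) hc hiso
    rw [show mat X = (a : Matrix (Fin 2) (Fin 2) F) ⊗ₖ (b : Matrix (Fin 4) (Fin 4) F) from hX,
      ← Matrix.kroneckerMap_transpose, ← Matrix.mul_kronecker_mul, ← Matrix.mul_kronecker_mul] at hiso'
    have haG : (mat a)ᵀ * G₁ * mat a = (mat a).det • G₁ := by
      ext i j
      fin_cases i <;> fin_cases j <;>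
        simp [Matrix.mul_apply, Fin.sum_univ_two, Matrix.det_fin_two, hG00, hG10, ← hγ] <;> ring
    rw [haG, Matrix.smul_kronecker] at hiso'
    have hbG : (mat a).det • ((mat b)ᵀ * G₂ * mat b) = G₂ := by
      ext i j
      have h5 := congrFun (congrFun hiso' (0, i)) (1, j)
      simp only [Matrix.smul_apply, Matrix.kronecker_apply, smul_eq_mul, ← hγ] at h5 ⊢
      exact mul_left_cancel₀ hγ0 (by linear_combination h5)
    have hda : (mat a).det ≠ 0 := ((Matrix.isUnit_iff_isUnit_det _).1 a.isUnit).ne_zero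
    have hb' : (mat (Q⁻¹ * b * Q))ᵀ * E * mat (Q⁻¹ * b * Q) = (mat a).det⁻¹ • E := by
      have hQi : (mat Q⁻¹)ᵀ * E * mat Q⁻¹ = G₂ := by
        rw [← hQ]
        simp only [Matrix.mul_assoc]
        rw [mat_mul_inv, Matrix.mul_one, ← Matrix.mul_assoc (mat Q⁻¹)ᵀ, ← Matrix.transpose_mul, mat_mul_inv,
          Matrix.transpose_one, Matrix.one_mul]
      have hb5 : (mat b)ᵀ * G₂ * mat b = (mat a).det⁻¹ • G₂ := by
        conv_rhs => rw [← hbG, smul_smul, inv_mul_cancel₀ hda, one_smul]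
      show (mat Q⁻¹ * mat b * mat Q)ᵀ * E * (mat Q⁻¹ * mat b * mat Q) = _
      calc (mat Q⁻¹ * mat b * mat Q)ᵀ * E * (mat Q⁻¹ * mat b * mat Q)
          = (mat Q)ᵀ * ((mat b)ᵀ * ((mat Q⁻¹)ᵀ * E * mat Q⁻¹) * mat b) * mat Q := by
            simp only [Matrix.transpose_mul, Matrix.mul_assoc]
        _ = _ := by rw [hQi, hb5, Matrix.mul_smul, Matrix.smul_mul, hQ]
    obtain ⟨A, B, hAB | hAB⟩ := four_similitude h2 (inv_ne_zero hda) hb'
    · refine (map_fr_eq_wreath e' P').le ⟨_, pureU_mul_permU_mem ![a, A, B] 1, ?_⟩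
      refine Eq.trans (congrArg (fr e' P') (Units.ext (Matrix.ext fun x y => ?_))) (hfr' X).symm
      refine Eq.trans (pureU_mul_permU_apply _ _ x y) (Eq.trans ?_ (hentry X a b hX x y).symm)
      rw [hAB, Fin.prod_univ_three]
      simp [mul_assoc]
    · refine (map_fr_eq_wreath e' P').le ⟨_, pureU_mul_permU_mem ![a, A, B] (Equiv.swap 1 2), ?_⟩
      refine Eq.trans (congrArg (fr e' P') (Units.ext (Matrix.ext fun x y => ?_))) (hfr' X).symm
      refine Eq.trans (pureU_mul_permU_apply _ _ x y) (Eq.trans ?_ (hentry X a b hX x y).symm)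
      rw [hAB, Fin.prod_univ_three]
      simp [Equiv.swap_apply_of_ne_of_ne]
      ring
  have hWA := eq_of_max hH hW (sp_eight_not_wreath hodd e' P')
  -- an exchange of factors outside the group
  let w : GL (Fin 3 → Fin 2) F := permU (Equiv.swap 0 1)
  have hw : fr e' P' w ∈ H := by
    rw [hWA]
    refine ⟨(map_fr_eq_wreath e' P').le ⟨w, Subgroup.subset_closure (Or.inr ⟨_, fun _ _ => rfl⟩), rfl⟩, fun u v => ?_⟩
    obtain ⟨x, rfl⟩ := (frL e' P').surjective u
    obtain ⟨y, rfl⟩ := (frL e' P').surjective v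
    show Cfsg.sympForm 4 F (mat (fr e' P' w) *ᵥ frL e' P' x) (mat (fr e' P' w) *ᵥ frL e' P' y) =
      Cfsg.sympForm 4 F (frL e' P' x) (frL e' P' y)
    rw [sympForm_eq_formG, fr_mulVec, fr_mulVec, ← formG_frL, ← formG_frL, formG_mulVec, hpow]
    congr 1
    rw [act, map_refl_eq, Matrix.mul_smul, Matrix.smul_mul]
    congr 1
    show (permM (Equiv.swap 0 1))ᵀ * (pureM fun _ => G₁) * permM (Equiv.swap 0 1) = _
    ext x y
    rw [Matrix.mul_apply, Finset.sum_eq_single (y ∘ Equiv.swap 0 1), Matrix.mul_apply,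
      Finset.sum_eq_single (x ∘ Equiv.swap 0 1)]
    · simp only [permM, pureM, Matrix.transpose_apply, Matrix.of_apply, Function.comp_assoc]
      simp [Fin.prod_univ_three, Function.comp_def, Equiv.swap_apply_of_ne_of_ne]
      grind
    · intro z _ hz
      simp only [permM, Matrix.transpose_apply, Matrix.of_apply]
      rw [if_neg fun hh => hz (by rw [hh, Function.comp_assoc]; simp [Function.comp_def]), zero_mul]
    · simp
    · intro z _ hz
      simp only [permM, Matrix.of_apply]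
      rw [if_neg fun hh => hz (by rw [hh, Function.comp_assoc]; simp [Function.comp_def]), mul_zero]
    · simp
  rw [hHeq] at hw
  obtain ⟨X, ⟨a, b, hX⟩, hXw⟩ := (map_fr_eq_tensor e P).ge hw.1
  have hwX : w = glReindex eightEquiv (U⁻¹ * X * U) := (fr e' P').injective (hXw.symm.trans (hfr' X))
  have hw' : ∀ x y : Fin 3 → Fin 2, (if y = x ∘ Equiv.swap 0 1 then (1 : F) else 0) =
      mat a (x 0) (y 0) * mat (Q⁻¹ * b * Q) (finProdFinEquiv (x 1, x 2)) (finProdFinEquiv (y 1, y 2)) := fun x y => by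
    rw [← hentry X a b hX, ← hwX]; rfl
  have e1 := hw' ![0, 0, 0] ![0, 0, 0]
  have e2 := hw' ![1, 0, 0] ![0, 1, 0]
  have e3 := hw' ![1, 0, 0] ![0, 0, 0]
  rw [if_pos (by decide)] at e1 e2
  rw [if_neg (by decide)] at e3
  simp at e1 e2 e3
  rcases e3 with h | h
  · rw [h, zero_mul] at e2; exact one_ne_zero e2
  · rw [h, mul_zero] at e1; exact one_ne_zero e1

end Cfsg.Agent.Asch
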