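import Cfsg.Agent.Asch.SympMax

/-!
The symplectic group of dimension four over three elements.
-/

set_option autoImplicit false
set_option linter.unusedSectionVars false

namespace Cfsg.Agent.Asch

open Matrix Cfsg.Geo Cfsg.Agent.PrimeDim
open scoped MatrixGroups

variable {F : Type*} [Field F] [Fintype F] {ι : Type} [Fintype ι] [DecidableEq ι] {G : Matrix ι ι F}

theorem three_cases (h3 : Fintype.card F = 3) (x : F) : x = 0 ∨ x = 1 ∨ x = -1 := by
  rcases NotMax.sq_cases h3 x with h | h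
  · exact Or.inl h
  · exact Or.inr (mul_self_eq_one_iff.1 h)

/-- Over three elements a pair of totally singular planes gives a pair of orthogonal planes. -/
theorem pair_three (h3 : Fintype.card F = 3) (hG : IsRG (RingEquiv.refl F) (-1) G) (hn : Fintype.card ι = 4)
    {H : Subgroup (GL ι F)} (hfix : Fixes (RingEquiv.refl F) H G) {D : Fin 2 → Submodule F (ι → F)}
    (hD : IsMDecomposition 2 D) (hts : ∀ i, IsTotallySingularFor (formG (RingEquiv.refl F) G) (D i))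
    (hle : H ≤ decompositionStabilizer D) :
    ∃ E : Fin 2 → Submodule F (ι → F), IsNondegenerateMDecomposition (formG (RingEquiv.refl F) G) 2 E ∧
      H ≤ decompositionStabilizer E := by
  classical
  set f := formG (RingEquiv.refl F) G with hf
  have hs : IsSesq (RingEquiv.refl F) f := isSesq_formG (RingEquiv.refl F) G
  have h2 : (2 : F) ≠ 0 := PrimeDim.two_ne_zero_of_odd (by rw [h3]; decide)
  have hsk : ∀ u v, f v u = - f u v := fun u v => by
    show formG _ _ v u = _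
    rw [hG.swap u v, RingEquiv.refl_apply, neg_one_mul]
  have hsup : D 0 ⊔ D 1 = ⊤ := by
    rw [← hD.iSup_eq_top]
    exact le_antisymm (sup_le (le_iSup D 0) (le_iSup D 1)) (iSup_le fun l => by fin_cases l <;> simp)
  have hdec : ∀ u : ι → F, ∃ a ∈ D 0, ∃ b ∈ D 1, a + b = u := fun u =>
    Submodule.mem_sup.1 (hsup ▸ Submodule.mem_top)
  let β := Module.finBasisOfFinrankEq F (D 0) (hD.finrank_eq 0)
  set a₁ : ι → F := ((β 0 : D 0) : ι → F) with ha₁
  set a₂ : ι → F := ((β 1 : D 0) : ι → F) with ha₂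
  have hA : ∀ u ∈ D 0, ∃ x y : F, u = x • a₁ + y • a₂ := fun u hu => ⟨_, _, by
    have h1 := congrArg (fun w : D 0 => (w : ι → F)) (β.sum_repr ⟨u, hu⟩)
    simp only [Fin.sum_univ_two, Submodule.coe_add, SetLike.val_smul] at h1
    exact h1.symm⟩
  let φ : D 1 →ₗ[F] F × F :=
    { toFun := fun b => (f a₁ b, f a₂ b)
      map_add' := fun b c => Prod.ext (hs.add_right _ _ _) (hs.add_right _ _ _)
      map_smul' := fun c b => Prod.ext (hs.smul_right _ _ _) (hs.smul_right _ _ _) }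
  have hφ : Function.Injective φ := by
    refine (injective_iff_map_eq_zero φ).2 fun b hb => Subtype.ext (hG.nondeg_right fun u => ?_)
    obtain ⟨p, hp, q, hq, rfl⟩ := hdec u
    obtain ⟨x, y, rfl⟩ := hA p hp
    have h1 : f a₁ b = 0 := congrArg Prod.fst hb
    have h5 : f a₂ b = 0 := congrArg Prod.snd hb
    show f (x • a₁ + y • a₂ + q) b = 0
    rw [hs.add_left, hs.add_left, hs.smul_left, hs.smul_left, h1, h5, hts 1 q hq b b.2]
    ring
  have hφs : Function.Surjective φ := (LinearMap.injective_iff_surjective_of_finrank_eq_finrank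
    (by rw [hD.finrank_eq, Module.finrank_prod, Module.finrank_self])).1 hφ
  obtain ⟨B₁, hB₁⟩ := hφs (1, 0)
  obtain ⟨B₂, hB₂⟩ := hφs (0, 1)
  set b₁ : ι → F := ((B₁ : D 1) : ι → F) with hb₁
  set b₂ : ι → F := ((B₂ : D 1) : ι → F) with hb₂
  have k11 : f a₁ b₁ = 1 := congrArg Prod.fst hB₁
  have k21 : f a₂ b₁ = 0 := congrArg Prod.snd hB₁
  have k12 : f a₁ b₂ = 0 := congrArg Prod.fst hB₂
  have k22 : f a₂ b₂ = 1 := congrArg Prod.snd hB₂
  have za : ∀ u ∈ D 0, ∀ v ∈ D 0, f u v = 0 := hts 0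
  have zb : ∀ u ∈ D 1, ∀ v ∈ D 1, f u v = 0 := hts 1
  have ma₁ : a₁ ∈ D 0 := (β 0).2
  have ma₂ : a₂ ∈ D 0 := (β 1).2
  have mb₁ : b₁ ∈ D 1 := B₁.2
  have mb₂ : b₂ ∈ D 1 := B₂.2
  have hB : ∀ u ∈ D 1, u = f a₁ u • b₁ + f a₂ u • b₂ := fun u hu =>
    congrArg (fun w : D 1 => (w : ι → F)) (hφ (a₁ := ⟨u, hu⟩)
      (a₂ := f a₁ u • B₁ + f a₂ u • B₂) (by rw [map_add, map_smul, map_smul, hB₁, hB₂]; simp [φ]))
  have hA' : ∀ u ∈ D 0, u = f u b₁ • a₁ + f u b₂ • a₂ := fun u hu => by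
    obtain ⟨x, y, rfl⟩ := hA u hu
    rw [hs.add_left, hs.add_left, hs.smul_left, hs.smul_left, hs.smul_left, hs.smul_left, k11, k12, k21, k22]
    module
  let E : Fin 2 → Submodule F (ι → F) :=
    ![Submodule.span F {a₁ + b₂, a₂ - b₁}, Submodule.span F {a₁ - b₂, a₂ + b₁}]
  have hfs : ∀ u v w, f u (v - w) = f u v - f u w := fun u v w => by
    rw [sub_eq_add_neg, ← neg_one_smul F w, hs.add_right, hs.smul_right]; simp [sub_eq_add_neg]
  have hsf : ∀ u v w, f (v - w) u = f v u - f w u := fun u v w => by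
    rw [sub_eq_add_neg, ← neg_one_smul F w, hs.add_left, hs.smul_left]; simp [sub_eq_add_neg]
  have hort : AreOrthogonalFor f (E 0) (E 1) := by
    intro u hu v hv
    obtain ⟨x, y, rfl⟩ := Submodule.mem_span_pair.1 hu
    obtain ⟨z, w, rfl⟩ := Submodule.mem_span_pair.1 hv
    simp only [hs.add_left, hs.add_right, hs.smul_left, hs.smul_right, hfs, hsf, za _ ma₁ _ ma₁, za _ ma₁ _ ma₂,
      za _ ma₂ _ ma₁, za _ ma₂ _ ma₂, zb _ mb₁ _ mb₁, zb _ mb₁ _ mb₂, zb _ mb₂ _ mb₁, zb _ mb₂ _ mb₂, k11, k12, k21,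
      k22, hsk a₁ b₁, hsk a₁ b₂, hsk a₂ b₁, hsk a₂ b₂, RingEquiv.refl_apply]
    ring
  have htop : E 0 ⊔ E 1 = ⊤ := by
    rw [eq_top_iff, ← hsup]
    have e1 : a₁ + b₂ ∈ E 0 ⊔ E 1 := Submodule.mem_sup_left (Submodule.subset_span (by simp))
    have e2 : a₂ - b₁ ∈ E 0 ⊔ E 1 := Submodule.mem_sup_left (Submodule.subset_span (by simp))
    have e3 : a₁ - b₂ ∈ E 0 ⊔ E 1 := Submodule.mem_sup_right (Submodule.subset_span (by simp))
    have e4 : a₂ + b₁ ∈ E 0 ⊔ E 1 := Submodule.mem_sup_right (Submodule.subset_span (by simp))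
    have half : ∀ {u : ι → F}, (2 : F) • u ∈ E 0 ⊔ E 1 → u ∈ E 0 ⊔ E 1 := fun {u} h => by
      have h5 := Submodule.smul_mem _ (2 : F)⁻¹ h
      rwa [smul_smul, inv_mul_cancel₀ h2, one_smul] at h5
    have m1 := half (u := a₁) (by rw [show (2 : F) • a₁ = (a₁ + b₂) + (a₁ - b₂) by module]; exact add_mem e1 e3)
    have m2 := half (u := a₂) (by rw [show (2 : F) • a₂ = (a₂ + b₁) + (a₂ - b₁) by module]; exact add_mem e4 e2)
    have m3 := half (u := b₁) (by rw [show (2 : F) • b₁ = (a₂ + b₁) - (a₂ - b₁) by module]; exact sub_mem e4 e2)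
    have m4 := half (u := b₂) (by rw [show (2 : F) • b₂ = (a₁ + b₂) - (a₁ - b₂) by module]; exact sub_mem e1 e3)
    refine sup_le (fun u hu => ?_) fun u hu => ?_
    · rw [hA' u hu]; exact add_mem (Submodule.smul_mem _ _ m1) (Submodule.smul_mem _ _ m2)
    · rw [hB u hu]; exact add_mem (Submodule.smul_mem _ _ m3) (Submodule.smul_mem _ _ m4)
  have hiSup : iSup E = ⊤ := eq_top_iff.2 (htop ▸ sup_le (le_iSup E 0) (le_iSup E 1))
  have hort' : ∀ c c', c ≠ c' → AreOrthogonalFor f (E c) (E c') := by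
    intro c c' hcc u hu v hv
    fin_cases c <;> fin_cases c' <;> first | exact absurd rfl hcc | exact hort u hu v hv | exact hG.zero_swap (hort v hv u hu)
  have hnd := nondeg_of_orth hG hiSup hort'
  have hrle : ∀ i, Module.finrank F (E i) ≤ 2 := fun i => by
    have key : ∀ u v : ι → F, Module.finrank F (Submodule.span F ({u, v} : Set (ι → F))) ≤ 2 := fun u v => by
      have h5 := finrank_span_le_card (R := F) ({u, v} : Set (ι → F))
      have h6 : ({u, v} : Set (ι → F)).toFinset.card ≤ 2 := by simpa using Finset.card_le_two (a := u) (b := v)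
      omega
    fin_cases i <;> exact key _ _
  have hrk : Module.finrank F (E 0) = 2 ∧ Module.finrank F (E 1) = 2 ∧ E 0 ⊓ E 1 = ⊥ := by
    have h5 := Submodule.finrank_sup_add_finrank_inf_eq (E 0) (E 1)
    rw [htop, finrank_top, Module.finrank_fintype_fun_eq_card, hn] at h5
    have := hrle 0
    have := hrle 1
    exact ⟨by omega, by omega, Submodule.finrank_eq_zero.1 (by omega)⟩
  refine ⟨E, ⟨pair_decomp two_pos hrk.1 hrk.2.1 hrk.2.2 htop, hnd, hort'⟩,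
    le_pair_stabilizer (hrk.1.trans hrk.2.1.symm) fun g hg => ?_⟩
  have hgf : ∀ u v, f (mat g *ᵥ u) (mat g *ᵥ v) = f u v := iso_apply hfix hg
  have hlin : ∀ {W : Submodule F (ι → F)} {u v : ι → F}, mat g *ᵥ u ∈ W → mat g *ᵥ v ∈ W →
      ∀ x ∈ Submodule.span F ({u, v} : Set (ι → F)), mat g *ᵥ x ∈ W := fun {W u v} hu hv x hx => by
    obtain ⟨p, q, rfl⟩ := Submodule.mem_span_pair.1 hx
    rw [Matrix.mulVec_add, Matrix.mulVec_smul, Matrix.mulVec_smul]
    exact add_mem (W.smul_mem _ hu) (W.smul_mem _ hv)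
  have ev : ∀ {W : Submodule F (ι → F)} {u x : ι → F}, x ∈ W → u = x → u ∈ W := fun h e => e ▸ h
  have mem0 : ∀ x y : F, x • (a₁ + b₂) + y • (a₂ - b₁) ∈ E 0 := fun x y => Submodule.mem_span_pair.2 ⟨x, y, rfl⟩
  have mem1 : ∀ x y : F, x • (a₁ - b₂) + y • (a₂ + b₁) ∈ E 1 := fun x y => Submodule.mem_span_pair.2 ⟨x, y, rfl⟩
  obtain ⟨τ, hτ⟩ := hle hg
  have hmap : ∀ i, ∀ a ∈ D i, mat g *ᵥ a ∈ D (τ i) := fun i a ha => by
    rw [← hτ i]
    exact ⟨a, ha, Matrix.toLin'_apply _ _⟩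
  rcases ((by decide : ∀ τ : Equiv.Perm (Fin 2), τ 0 = 0 ∧ τ 1 = 1 ∨ τ 0 = 1 ∧ τ 1 = 0) τ) with ⟨e0, e1⟩ | ⟨e0, e1⟩
  · -- both planes fixed
    obtain ⟨α, β', hg1⟩ := hA _ (e0 ▸ hmap 0 a₁ ma₁)
    obtain ⟨γ, δ, hg2⟩ := hA _ (e0 ▸ hmap 0 a₂ ma₂)
    have hq : ∀ b ∈ D 1, α * f a₁ (mat g *ᵥ b) + β' * f a₂ (mat g *ᵥ b) = f a₁ b ∧
        γ * f a₁ (mat g *ᵥ b) + δ * f a₂ (mat g *ᵥ b) = f a₂ b := fun b _ => by
      constructor
      · rw [← hgf a₁ b, hg1, hs.add_left, hs.smul_left, hs.smul_left]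
      · rw [← hgf a₂ b, hg2, hs.add_left, hs.smul_left, hs.smul_left]
    obtain ⟨p1, p2⟩ := hq b₁ mb₁
    obtain ⟨q1, q2⟩ := hq b₂ mb₂
    rw [k11] at p1; rw [k21] at p2; rw [k12] at q1; rw [k22] at q2
    set d := α * δ - β' * γ with hd
    have hd0 : d ≠ 0 := by
      intro e
      have : d * (f a₁ (mat g *ᵥ b₁) * f a₂ (mat g *ᵥ b₂) - f a₁ (mat g *ᵥ b₂) * f a₂ (mat g *ᵥ b₁)) = 1 := by
        rw [hd]
        linear_combination (γ * f a₁ (mat g *ᵥ b₂) + δ * f a₂ (mat g *ᵥ b₂)) * p1 -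
          (α * f a₁ (mat g *ᵥ b₂) + β' * f a₂ (mat g *ᵥ b₂)) * p2 + q2
      rw [e, zero_mul] at this
      exact zero_ne_one this
    have hdd : d * d = 1 := (NotMax.sq_cases h3 d).resolve_left hd0
    have u11 : f a₁ (mat g *ᵥ b₁) = d * δ := by linear_combination (-(f a₁ (mat g *ᵥ b₁))) * hdd + (d * δ) * p1 - (d * β') * p2
    have u21 : f a₂ (mat g *ᵥ b₁) = -(d * γ) := by linear_combination (-(f a₂ (mat g *ᵥ b₁))) * hdd + (-(d * γ)) * p1 + (d * α) * p2
    have u12 : f a₁ (mat g *ᵥ b₂) = -(d * β') := by linear_combination (-(f a₁ (mat g *ᵥ b₂))) * hdd + (d * δ) * q1 - (d * β') * q2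
    have u22 : f a₂ (mat g *ᵥ b₂) = d * α := by linear_combination (-(f a₂ (mat g *ᵥ b₂))) * hdd + (-(d * γ)) * q1 + (d * α) * q2
    have hgb1 : mat g *ᵥ b₁ = (d * δ) • b₁ + (-(d * γ)) • b₂ := by
      rw [← u11, ← u21]; exact hB _ (e1 ▸ hmap 1 b₁ mb₁)
    have hgb2 : mat g *ᵥ b₂ = (-(d * β')) • b₁ + (d * α) • b₂ := by
      rw [← u12, ← u22]; exact hB _ (e1 ▸ hmap 1 b₂ mb₂)
    rcases mul_self_eq_one_iff.1 hdd with hd1 | hd1
    · refine Or.inl ⟨hlin ?_ ?_, hlin ?_ ?_⟩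
      · exact ev (mem0 α β') (by rw [Matrix.mulVec_add, hg1, hgb2, hd1]; module)
      · exact ev (mem0 γ δ) (by rw [Matrix.mulVec_sub, hg2, hgb1, hd1]; module)
      · exact ev (mem1 α β') (by rw [Matrix.mulVec_sub, hg1, hgb2, hd1]; module)
      · exact ev (mem1 γ δ) (by rw [Matrix.mulVec_add, hg2, hgb1, hd1]; module)
    · refine Or.inr ⟨hlin ?_ ?_, hlin ?_ ?_⟩
      · exact ev (mem1 α β') (by rw [Matrix.mulVec_add, hg1, hgb2, hd1]; module)
      · exact ev (mem1 γ δ) (by rw [Matrix.mulVec_sub, hg2, hgb1, hd1]; module)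
      · exact ev (mem0 α β') (by rw [Matrix.mulVec_sub, hg1, hgb2, hd1]; module)
      · exact ev (mem0 γ δ) (by rw [Matrix.mulVec_add, hg2, hgb1, hd1]; module)
  · -- planes exchanged
    set α := f a₁ (mat g *ᵥ a₁)
    set β' := f a₂ (mat g *ᵥ a₁)
    set γ := f a₁ (mat g *ᵥ a₂)
    set δ := f a₂ (mat g *ᵥ a₂)
    have hg1 : mat g *ᵥ a₁ = α • b₁ + β' • b₂ := hB _ (e0 ▸ hmap 0 a₁ ma₁)
    have hg2 : mat g *ᵥ a₂ = γ • b₁ + δ • b₂ := hB _ (e0 ▸ hmap 0 a₂ ma₂)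
    obtain ⟨x, y, hx⟩ := hA _ (e1 ▸ hmap 1 b₁ mb₁)
    obtain ⟨z, w, hz⟩ := hA _ (e1 ▸ hmap 1 b₂ mb₂)
    have p1 := hgf a₁ b₁
    have p2 := hgf a₂ b₁
    have q1 := hgf a₁ b₂
    have q2 := hgf a₂ b₂
    simp only [hg1, hx, hs.add_left, hs.add_right, hs.smul_left, hs.smul_right, RingEquiv.refl_apply, hsk a₁ b₁,
      hsk a₁ b₂, hsk a₂ b₁, hsk a₂ b₂, k11, k12, k21, k22] at p1
    simp only [hg2, hx, hs.add_left, hs.add_right, hs.smul_left, hs.smul_right, RingEquiv.refl_apply, hsk a₁ b₁,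
      hsk a₁ b₂, hsk a₂ b₁, hsk a₂ b₂, k11, k12, k21, k22] at p2
    simp only [hg1, hz, hs.add_left, hs.add_right, hs.smul_left, hs.smul_right, RingEquiv.refl_apply, hsk a₁ b₁,
      hsk a₁ b₂, hsk a₂ b₁, hsk a₂ b₂, k11, k12, k21, k22] at q1
    simp only [hg2, hz, hs.add_left, hs.add_right, hs.smul_left, hs.smul_right, RingEquiv.refl_apply, hsk a₁ b₁,
      hsk a₁ b₂, hsk a₂ b₁, hsk a₂ b₂, k11, k12, k21, k22] at q2
    ring_nf at p1 p2 q1 q2
    set d := α * δ - β' * γ with hd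
    have hd0 : d ≠ 0 := by
      intro e
      have : d * (x * w - y * z) = 1 := by
        rw [hd]
        linear_combination -((δ * w + γ * z) * p1 - (α * z + β' * w) * p2 - q2)
      rw [e, zero_mul] at this
      exact zero_ne_one this
    have hdd : d * d = 1 := (NotMax.sq_cases h3 d).resolve_left hd0
    have ux : x = -(d * δ) := by linear_combination (-x) * hdd - (d * δ) * p1 + (d * β') * p2
    have uy : y = d * γ := by linear_combination (-y) * hdd + (d * γ) * p1 - (d * α) * p2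
    have uz : z = d * β' := by linear_combination (-z) * hdd - (d * δ) * q1 + (d * β') * q2
    have uw : w = -(d * α) := by linear_combination (-w) * hdd + (d * γ) * q1 - (d * α) * q2
    rcases mul_self_eq_one_iff.1 hdd with hd1 | hd1
    · refine Or.inl ⟨hlin ?_ ?_, hlin ?_ ?_⟩
      · exact ev (mem0 β' (-α)) (by rw [Matrix.mulVec_add, hg1, hz, uz, uw, hd1]; module)
      · exact ev (mem0 δ (-γ)) (by rw [Matrix.mulVec_sub, hg2, hx, ux, uy, hd1]; module)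
      · exact ev (mem1 (-β') α) (by rw [Matrix.mulVec_sub, hg1, hz, uz, uw, hd1]; module)
      · exact ev (mem1 (-δ) γ) (by rw [Matrix.mulVec_add, hg2, hx, ux, uy, hd1]; module)
    · refine Or.inr ⟨hlin ?_ ?_, hlin ?_ ?_⟩
      · exact ev (mem1 (-β') α) (by rw [Matrix.mulVec_add, hg1, hz, uz, uw, hd1]; module)
      · exact ev (mem1 (-δ) γ) (by rw [Matrix.mulVec_sub, hg2, hx, ux, uy, hd1]; module)
      · exact ev (mem0 β' (-α)) (by rw [Matrix.mulVec_sub, hg1, hz, uz, uw, hd1]; module)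
      · exact ev (mem0 δ (-γ)) (by rw [Matrix.mulVec_add, hg2, hx, ux, uy, hd1]; module)

end Cfsg.Agent.Asch
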