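import Cfsg.Agent.Asch.SympMax

/-!
The normaliser of an anti-self-adjoint quadratic field in the symplectic group of dimension four over three elements.
-/

set_option autoImplicit false
set_option linter.unusedSectionVars false

namespace Cfsg.Agent.Asch

open Matrix Cfsg.Geo Cfsg.Agent.PrimeDim
open scoped MatrixGroups

namespace SpFour

abbrev Z3 := ZMod 3
abbrev I4 := Fin 2 ⊕ Fin 2

def eps : Matrix (Fin 2) (Fin 2) Z3 := !![0, 1; -1, 0]
def c3 : Matrix I4 I4 Z3 := Matrix.fromBlocks !![1, 0; 0, -1] 0 0 !![1, 0; 0, -1]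
def c4 : Matrix I4 I4 Z3 := Matrix.fromBlocks !![0, 1; 1, 0] 0 0 !![0, 1; 1, 0]
def c5 : Matrix I4 I4 Z3 := Matrix.fromBlocks 0 eps (-eps) 0
def a1 : Matrix I4 I4 Z3 := Matrix.fromBlocks eps eps eps (-eps)
def a2 : Matrix I4 I4 Z3 := Matrix.fromBlocks eps (-eps) (-eps) (-eps)
def smat : Matrix I4 I4 Z3 := (a1 - c3) * (c4 - c5)
def jmat : Matrix I4 I4 Z3 := Matrix.fromBlocks 0 (-1) 1 0
def tmat : Matrix I4 I4 Z3 := Matrix.fromBlocks 1 !![1, 0; 0, 0] 0 1
def umat : Matrix I4 I4 Z3 := Matrix.fromBlocks 1 !![-1, 0; 0, 0] 0 1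

variable {F : Type*} [Field F]

local notation "J₄" => Matrix.J (Fin 2) F

theorem j_map (φ : Z3 →+* F) : jmat.map φ = J₄ := by
  rw [jmat, Matrix.fromBlocks_map]
  show Matrix.fromBlocks _ _ _ _ = Matrix.fromBlocks 0 (-1) 1 0
  congr 1 <;> ext i j <;> fin_cases i <;> fin_cases j <;> simp

theorem smat_spec :
    smatᵀ * jmat * smat = jmat ∧ smat * jmat ≠ jmat * smat ∧ smat * jmat ≠ -(jmat * smat) ∧
      smat * c3 = a1 * smat ∧ smat * a1 = c3 * smat ∧ smat * a2 = a2 * smat ∧ smat * c4 = c5 * smat ∧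
      smat * c5 = c4 * smat := by decide +kernel

theorem jmat_spec :
    jmat * c3 = c3 * jmat ∧ jmat * c4 = c4 * jmat ∧ jmat * c5 = c5 * jmat ∧ jmat * a1 = -(a1 * jmat) ∧
      jmat * a2 = -(a2 * jmat) := by decide +kernel

theorem tmat_spec :
    tmatᵀ * jmat * tmat = jmat ∧ tmat * umat = 1 ∧ jmat * (tmat * c4 * umat) ≠ tmat * c4 * umat * jmat ∧
      jmat * (tmat * c4 * umat) ≠ -(tmat * c4 * umat * jmat) ∧
      (jmat * c4)ᵀ = -(jmat * c4) ∧ c4 * c4 = 1 ∧ c4.trace = 0 := by decide +kernel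

/-- Self-adjoint involutions of trace zero that commute or anticommute with the complex structure. -/
def Mark (Y : Matrix I4 I4 F) : Prop :=
  Y * Y = 1 ∧ Y.trace = 0 ∧ (J₄ * Y)ᵀ = -(J₄ * Y) ∧ (J₄ * Y = Y * J₄ ∨ J₄ * Y = -(Y * J₄))

variable [Fintype F]

theorem square_sum (h3 : Fintype.card F = 3) {a x y : F} (h : a * a + x * x + y * y = 1) :
    (x = 0 ∧ y = 0) ∨ a = 0 := by
  haveI : CharP F 3 := charP_of_card_eq_prime (hp := ⟨Nat.prime_three⟩) (by rw [← h3])
  have h30 : (3 : F) = 0 := by simpa using CharP.cast_eq_zero F 3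
  rcases NotMax.sq_cases h3 a with ha | ha
  · exact Or.inr ha
  refine Or.inl ?_
  rcases NotMax.sq_cases h3 x with hx | hx <;> rcases NotMax.sq_cases h3 y with hy | hy
  · exact ⟨hx, hy⟩
  · exfalso; rw [ha, hy, hx] at h; exact one_ne_zero (by linear_combination h : (1 : F) = 0)
  · exfalso; rw [ha, hy, hx] at h; exact one_ne_zero (by linear_combination h : (1 : F) = 0)
  · exfalso; rw [ha, hx, hy] at h; exact one_ne_zero (by linear_combination -h + h30 : (1 : F) = 0)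

theorem square_two (h3 : Fintype.card F = 3) {a b : F} (h : a * a + b * b = -1) : b = a ∨ b = -a := by
  haveI : CharP F 3 := charP_of_card_eq_prime (hp := ⟨Nat.prime_three⟩) (by rw [← h3])
  have h30 : (3 : F) = 0 := by simpa using CharP.cast_eq_zero F 3
  rcases NotMax.sq_cases h3 a with ha | ha <;> rcases NotMax.sq_cases h3 b with hb | hb
  · exfalso; rw [ha, hb] at h; exact one_ne_zero (by linear_combination h : (1 : F) = 0)
  · exfalso; rw [ha, hb] at h; exact one_ne_zero (by linear_combination -h + h30 : (1 : F) = 0)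
  · exfalso; rw [ha, hb] at h; exact one_ne_zero (by linear_combination -h + h30 : (1 : F) = 0)
  · exact mul_self_eq_mul_self_iff.1 (hb.trans ha.symm)

set_option maxHeartbeats 3200000 in
theorem mark_cases (φ : Z3 →+* F) (h3 : Fintype.card F = 3) {Y : Matrix I4 I4 F} (hY : Mark Y) :
    (∃ a : F, Y = a • c3.map φ) ∨ (∃ x y : F, Y = x • c4.map φ + y • c5.map φ) ∨
    (∃ a : F, Y = a • a1.map φ) ∨ (∃ a : F, Y = a • a2.map φ) := by
  haveI : CharP F 3 := charP_of_card_eq_prime (hp := ⟨Nat.prime_three⟩) (by rw [← h3])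
  have h2 : (2 : F) ≠ 0 := PrimeDim.two_ne_zero_of_odd (by rw [h3]; decide)
  have z : ∀ {a : F}, 2 * a = 0 → a = 0 := fun h => (mul_eq_zero.1 h).resolve_left h2
  obtain ⟨hsq, htr, hsk, hJ⟩ := hY
  have k : ∀ i j, (J₄ * Y) j i = -(J₄ * Y) i j := fun i j => congrFun (congrFun hsk i) j
  have q := congrFun (congrFun hsq (Sum.inl 0)) (Sum.inl 0)
  have q1 := k (Sum.inl 0) (Sum.inl 0)
  have q2 := k (Sum.inl 0) (Sum.inl 1)
  have q3 := k (Sum.inl 1) (Sum.inl 1)
  have q4 := k (Sum.inr 0) (Sum.inr 0)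
  have q5 := k (Sum.inr 0) (Sum.inr 1)
  have q6 := k (Sum.inr 1) (Sum.inr 1)
  have q7 := k (Sum.inl 0) (Sum.inr 0)
  have q8 := k (Sum.inl 0) (Sum.inr 1)
  have q9 := k (Sum.inl 1) (Sum.inr 0)
  have q10 := k (Sum.inl 1) (Sum.inr 1)
  simp [Matrix.J, Matrix.mul_apply, Matrix.fromBlocks, Fintype.sum_sum_type, Fin.sum_univ_two, Matrix.trace]
    at q q1 q2 q3 q4 q5 q6 q7 q8 q9 q10 htr
  have e1 : Y (Sum.inr 0) (Sum.inl 0) = 0 := z (by linear_combination -q1)
  have e3 : Y (Sum.inr 1) (Sum.inl 1) = 0 := z (by linear_combination -q3)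
  have e4 : Y (Sum.inl 0) (Sum.inr 0) = 0 := z (by linear_combination q4)
  have e6 : Y (Sum.inl 1) (Sum.inr 1) = 0 := z (by linear_combination q6)
  rcases hJ with hJ | hJ
  · have j : ∀ i l, (J₄ * Y) i l = (Y * J₄) i l := fun i l => congrFun (congrFun hJ i) l
    have r1 := j (Sum.inl 0) (Sum.inl 0)
    have r2 := j (Sum.inl 0) (Sum.inl 1)
    have r3 := j (Sum.inl 1) (Sum.inl 0)
    have r4 := j (Sum.inl 1) (Sum.inl 1)
    have r5 := j (Sum.inl 0) (Sum.inr 0)
    have r6 := j (Sum.inl 0) (Sum.inr 1)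
    have r7 := j (Sum.inl 1) (Sum.inr 0)
    have r8 := j (Sum.inl 1) (Sum.inr 1)
    simp [Matrix.J, Matrix.mul_apply, Matrix.fromBlocks, Fintype.sum_sum_type, Fin.sum_univ_two]
      at r1 r2 r3 r4 r5 r6 r7 r8
    set a := Y (Sum.inl 0) (Sum.inl 0) with ha
    set x := Y (Sum.inl 0) (Sum.inl 1) with hx
    set y := Y (Sum.inl 0) (Sum.inr 1) with hy
    have d1 : Y (Sum.inl 1) (Sum.inl 1) = -a := by
      have : 2 * (Y (Sum.inl 1) (Sum.inl 1) + a) = 0 := by grind
      linear_combination z this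
    have hYe : Y = a • c3.map φ + x • c4.map φ + y • c5.map φ := by
      ext i l
      rcases i with i | i <;> rcases l with l | l <;> fin_cases i <;> fin_cases l <;>
        simp [c3, c4, c5, eps] <;> grind
    rcases square_sum h3 (a := a) (x := x) (y := y) (by grind) with ⟨x0, y0⟩ | a0
    · exact Or.inl ⟨a, by rw [hYe, x0, y0]; simp⟩
    · exact Or.inr (Or.inl ⟨x, y, by rw [hYe, a0]; simp⟩)
  · have j : ∀ i l, (J₄ * Y) i l = -(Y * J₄) i l := fun i l => congrFun (congrFun hJ i) l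
    have r1 := j (Sum.inl 0) (Sum.inl 0)
    have r2 := j (Sum.inl 0) (Sum.inl 1)
    have r3 := j (Sum.inl 1) (Sum.inl 0)
    have r4 := j (Sum.inl 1) (Sum.inl 1)
    have r5 := j (Sum.inl 0) (Sum.inr 0)
    have r6 := j (Sum.inl 0) (Sum.inr 1)
    have r7 := j (Sum.inl 1) (Sum.inr 0)
    have r8 := j (Sum.inl 1) (Sum.inr 1)
    simp [Matrix.J, Matrix.mul_apply, Matrix.fromBlocks, Fintype.sum_sum_type, Fin.sum_univ_two]
      at r1 r2 r3 r4 r5 r6 r7 r8
    set a := Y (Sum.inl 0) (Sum.inl 1) with ha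
    set b := Y (Sum.inl 0) (Sum.inr 1) with hb
    have d1 : Y (Sum.inl 0) (Sum.inl 0) = 0 := z (by grind)
    have d2 : Y (Sum.inl 1) (Sum.inl 1) = 0 := z (by grind)
    rcases square_two h3 (a := a) (b := b) (by grind) with hba | hba
    · refine Or.inr (Or.inr (Or.inl ⟨a, ?_⟩))
      ext i l
      rcases i with i | i <;> rcases l with l | l <;> fin_cases i <;> fin_cases l <;> simp [a1, eps] <;> grind
    · refine Or.inr (Or.inr (Or.inr ⟨a, ?_⟩))
      ext i l
      rcases i with i | i <;> rcases l with l | l <;> fin_cases i <;> fin_cases l <;> simp [a2, eps] <;> grind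

theorem mark_conj {g : GL I4 F} (hg : (mat g)ᵀ * J₄ * mat g = J₄) {Y : Matrix I4 I4 F} (hY : Mark Y)
    (hJ : J₄ * (mat g * Y * mat g⁻¹) = mat g * Y * mat g⁻¹ * J₄ ∨
      J₄ * (mat g * Y * mat g⁻¹) = -(mat g * Y * mat g⁻¹ * J₄)) : Mark (mat g * Y * mat g⁻¹) := by
  obtain ⟨hsq, htr, hsk, -⟩ := hY
  have hig : mat g⁻¹ * mat g = 1 := mat_inv_mul g
  refine ⟨?_, ?_, ?_, hJ⟩
  · calc mat g * Y * mat g⁻¹ * (mat g * Y * mat g⁻¹) = mat g * Y * (mat g⁻¹ * mat g) * (Y * mat g⁻¹) := by noncomm_ring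
      _ = mat g * (Y * Y) * mat g⁻¹ := by rw [hig]; noncomm_ring
      _ = 1 := by rw [hsq, Matrix.mul_one, mat_mul_inv]
  · rw [Matrix.trace_mul_comm, ← Matrix.mul_assoc, hig, Matrix.one_mul, htr]
  · have h1 : J₄ * mat g = (mat g⁻¹)ᵀ * J₄ := by
      calc J₄ * mat g = ((mat g⁻¹)ᵀ * (mat g)ᵀ) * (J₄ * mat g) := by
            rw [← Matrix.transpose_mul, mat_mul_inv, Matrix.transpose_one, Matrix.one_mul]
        _ = (mat g⁻¹)ᵀ * ((mat g)ᵀ * J₄ * mat g) := by noncomm_ring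
        _ = _ := by rw [hg]
    have h5 : J₄ * (mat g * Y * mat g⁻¹) = (mat g⁻¹)ᵀ * (J₄ * Y) * mat g⁻¹ := by
      rw [← Matrix.mul_assoc, ← Matrix.mul_assoc, h1, Matrix.mul_assoc _ J₄ Y]
    rw [h5, Matrix.transpose_mul, Matrix.transpose_mul, Matrix.transpose_transpose, hsk]
    noncomm_ring

theorem mem_sp {g : GL I4 F} : g ∈ Cfsg.spGL 2 F ↔ (mat g)ᵀ * J₄ * mat g = J₄ := by
  have h1 := (isSesq_formG (RingEquiv.refl F) (Matrix.J (Fin 2) F)).fixes_iff g
  simp only [gram_formG, map_refl_eq] at h1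
  exact ⟨fun h => h1.1 (fun u v => h u v), fun h u v => h1.2 h u v⟩

omit [Fintype F] in
theorem conj_eq {g : GL I4 F} {Y Y' : Matrix I4 I4 F} (h : mat g * Y = Y' * mat g) : mat g * Y * mat g⁻¹ = Y' := by
  rw [h, Matrix.mul_assoc, mat_mul_inv, Matrix.mul_one]

variable (F) in
/-- The subgroup of the symplectic group permuting the marks. -/
def markGroup : Subgroup (GL I4 F) where
  carrier := {g | g ∈ Cfsg.spGL 2 F ∧ ∀ Y, Mark Y → Mark (mat g * Y * mat g⁻¹)}
  mul_mem' {a b} ha hb := ⟨mul_mem ha.1 hb.1, fun Y hY => by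
    have := ha.2 _ (hb.2 _ hY)
    rw [_root_.mul_inv_rev]
    simpa only [mat, Units.val_mul, Matrix.mul_assoc] using this⟩
  one_mem' := ⟨one_mem _, fun Y hY => by simpa [mat] using hY⟩
  inv_mem' {g} hg := ⟨inv_mem hg.1, fun Y hY => by
    let c : {Y : Matrix I4 I4 F // Mark Y} → {Y : Matrix I4 I4 F // Mark Y} := fun Z => ⟨_, hg.2 _ Z.2⟩
    have hc : Function.Injective c := fun Z W h => Subtype.ext (by
      have := congrArg (fun V => mat g⁻¹ * V.1 * mat g) h
      simpa only [c, Matrix.mul_assoc, mat_inv_mul, Matrix.mul_one, ← Matrix.mul_assoc (mat g⁻¹) (mat g),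
        Matrix.one_mul] using this)
    obtain ⟨Z, hZ⟩ := (Finite.injective_iff_surjective.1 hc) ⟨Y, hY⟩
    obtain rfl : mat g * Z.1 * mat g⁻¹ = Y := congrArg Subtype.val hZ
    rw [inv_inv]
    simpa only [Matrix.mul_assoc, mat_inv_mul, Matrix.mul_one, ← Matrix.mul_assoc (mat g⁻¹) (mat g),
        Matrix.one_mul] using Z.2⟩

/-- Elements normalising the complex structure. -/
theorem le_markGroup {g : GL I4 F} (hg : g ∈ Cfsg.spGL 2 F) (hgJ : mat g * J₄ = J₄ * mat g ∨ mat g * J₄ = -(J₄ * mat g)) :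
    g ∈ markGroup F := by
  refine ⟨hg, fun Y hY => mark_conj (mem_sp.1 hg) hY ?_⟩
  obtain ⟨s, hs, hgs⟩ : ∃ s : F, s * s = 1 ∧ mat g * J₄ = s • (J₄ * mat g) := by
    rcases hgJ with h | h
    · exact ⟨1, by ring, by rw [h, one_smul]⟩
    · exact ⟨-1, by ring, by rw [h, neg_one_smul]⟩
  have h1 : J₄ * mat g = s • (mat g * J₄) := by rw [hgs, smul_smul, hs, one_smul]
  have h2 : mat g⁻¹ * J₄ = s • (J₄ * mat g⁻¹) := by
    calc mat g⁻¹ * J₄ = mat g⁻¹ * (J₄ * mat g) * mat g⁻¹ := by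
          rw [Matrix.mul_assoc, Matrix.mul_assoc, mat_mul_inv, Matrix.mul_one]
      _ = s • (J₄ * mat g⁻¹) := by rw [h1, Matrix.mul_smul, Matrix.smul_mul, ← Matrix.mul_assoc, mat_inv_mul, Matrix.one_mul]
  have L : J₄ * (mat g * Y * mat g⁻¹) = s • (mat g * (J₄ * Y) * mat g⁻¹) := by
    rw [← Matrix.mul_assoc, ← Matrix.mul_assoc, h1, Matrix.smul_mul, Matrix.smul_mul, Matrix.mul_assoc _ J₄ Y]
  have R : mat g * Y * mat g⁻¹ * J₄ = s • (mat g * (Y * J₄) * mat g⁻¹) := by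
    rw [Matrix.mul_assoc, h2, Matrix.mul_smul, ← Matrix.mul_assoc, Matrix.mul_assoc (mat g) Y J₄]
  rcases hY.2.2.2 with h | h
  · exact Or.inl (by rw [L, R, h])
  · exact Or.inr (by rw [L, R, h, Matrix.mul_neg, Matrix.neg_mul, smul_neg])

/-- The normaliser of the complex structure is not maximal. -/
theorem markGroup_strict (h3 : Fintype.card F = 3) :
    (∃ g ∈ markGroup F, mat g * J₄ ≠ J₄ * mat g ∧ mat g * J₄ ≠ -(J₄ * mat g)) ∧ markGroup F < Cfsg.spGL 2 F := by
  classical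
  haveI : CharP F 3 := charP_of_card_eq_prime (hp := ⟨Nat.prime_three⟩) (by rw [← h3])
  set φ : Z3 →+* F := ZMod.castHom dvd_rfl F
  have hinj : Function.Injective φ := φ.injective
  have e : ∀ {A B : Matrix I4 I4 Z3}, A = B → A.map φ = B.map φ := fun h => h ▸ rfl
  have ne : ∀ {A B : Matrix I4 I4 Z3}, A ≠ B → A.map φ ≠ B.map φ := fun h h' => h (Matrix.map_injective hinj h')
  have hj := j_map φ
  have hn : ∀ A : Matrix I4 I4 Z3, (-A).map φ = -(A.map φ) := fun A => by ext i j; simp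
  have ht' : ∀ A : Matrix I4 I4 Z3, Aᵀ.map φ = (A.map φ)ᵀ := fun A => rfl
  obtain ⟨s0, s1, s2, s3, s4, s5, s6, s7⟩ := smat_spec
  obtain ⟨j3, j4, j5, j1, j2⟩ := jmat_spec
  obtain ⟨t0, t1, t2, t3, k1, k2, k3⟩ := tmat_spec
  replace s0 := e s0; replace s1 := ne s1; replace s2 := ne s2
  replace s3 := e s3; replace s4 := e s4; replace s5 := e s5; replace s6 := e s6; replace s7 := e s7
  replace j1 := e j1; replace j2 := e j2; replace j3 := e j3; replace j4 := e j4; replace j5 := e j5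
  replace t0 := e t0; replace t1 := e t1; replace t2 := ne t2; replace t3 := ne t3; replace k1 := e k1; replace k2 := e k2
  simp only [Matrix.map_mul, ht', hn, hj, Matrix.map_one φ φ.map_zero φ.map_one]
    at s0 s1 s2 s3 s4 s5 s6 s7 j1 j2 j3 j4 j5 t0 t1 t2 t3 k1 k2
  have mk : ∀ A : Matrix I4 I4 F, Aᵀ * J₄ * A = J₄ → ∃ g : GL I4 F, mat g = A := fun A hA => by
    have hd : IsUnit A.det := by
      have hu : IsUnit (J₄ : Matrix I4 I4 F).det := Matrix.isUnit_det_J (Fin 2) F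
      rw [← hA, Matrix.det_mul, Matrix.det_mul] at hu
      exact isUnit_of_mul_isUnit_right hu
    exact ⟨Matrix.GeneralLinearGroup.mk'' A hd, rfl⟩
  obtain ⟨s, hs⟩ := mk _ s0
  obtain ⟨t, ht⟩ := mk _ t0
  rw [← hs] at s0 s1 s2 s3 s4 s5 s6 s7
  have hsA : s ∈ Cfsg.spGL 2 F := mem_sp.2 s0
  refine ⟨⟨s, ⟨hsA, fun Y hY => mark_conj s0 hY ?_⟩, s1, s2⟩,
    lt_of_le_of_ne (fun g hg => hg.1) fun heq => ?_⟩
  · rcases mark_cases φ h3 hY with ⟨a, rfl⟩ | ⟨x, y, rfl⟩ | ⟨a, rfl⟩ | ⟨a, rfl⟩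
    · refine Or.inr ?_
      rw [conj_eq (g := s) (Y' := a • a1.map φ) (by rw [Matrix.mul_smul, s3, Matrix.smul_mul]), Matrix.mul_smul, j1,
        Matrix.smul_mul, smul_neg]
    · refine Or.inl ?_
      rw [conj_eq (g := s) (Y' := x • c5.map φ + y • c4.map φ)
        (by rw [Matrix.mul_add, Matrix.mul_smul, Matrix.mul_smul, s6, s7, Matrix.add_mul, Matrix.smul_mul, Matrix.smul_mul]),
        Matrix.mul_add, Matrix.mul_smul, Matrix.mul_smul, j4, j5, Matrix.add_mul, Matrix.smul_mul, Matrix.smul_mul]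
    · refine Or.inl ?_
      rw [conj_eq (g := s) (Y' := a • c3.map φ) (by rw [Matrix.mul_smul, s4, Matrix.smul_mul]), Matrix.mul_smul, j3,
        Matrix.smul_mul]
    · refine Or.inr ?_
      rw [conj_eq (g := s) (Y' := a • a2.map φ) (by rw [Matrix.mul_smul, s5, Matrix.smul_mul]), Matrix.mul_smul, j2,
        Matrix.smul_mul, smul_neg]
  · have htm : t ∈ markGroup F := heq.symm ▸ mem_sp.2 (by rw [ht]; exact t0)
    have hm : Mark (c4.map φ : Matrix I4 I4 F) :=
      ⟨k2, by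
        show ∑ i, φ (c4 i i) = 0
        rw [← map_sum]
        exact (congrArg φ k3).trans φ.map_zero, k1, Or.inl j4⟩
    have hti : mat t⁻¹ = umat.map φ := by
      rw [← Matrix.one_mul (umat.map φ), ← mat_inv_mul t, Matrix.mul_assoc, ht, t1, Matrix.mul_one]
    have := (htm.2 _ hm).2.2.2
    rw [ht, hti] at this
    rcases this with h | h
    · exact t2 h
    · exact t3 h

end SpFour

variable {F : Type*} [Field F] [Fintype F]

open SpFour in
/-- Over three elements the normaliser of an anti-self-adjoint quadratic field contains no maximal subgroup. -/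
theorem field_three_not_max (h3 : Fintype.card F = 3) {H : Subgroup (GL I4 F)}
    (hH : IsMaximalIn (Cfsg.spGL 2 F) H) {K : Subalgebra F (Matrix I4 I4 F)} (hK : IsFieldSubalgebra 2 K)
    (hadj : IsAdjointClosedFor (formG (RingEquiv.refl F) (Matrix.J (Fin 2) F)) K)
    (hnsa : ¬ IsSelfAdjointFor (formG (RingEquiv.refl F) (Matrix.J (Fin 2) F)) K)
    (hle : H ≤ subalgebraNormalizer K) : False := by
  classical
  have hG := (symp_setting (F := F) (m := 2) le_rfl hH.1.le).rg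
  set f := formG (RingEquiv.refl F) (Matrix.J (Fin 2) F) with hf
  have hs : IsSesq (RingEquiv.refl F) f := isSesq_formG (RingEquiv.refl F) (Matrix.J (Fin 2) F)
  have h2 : (2 : F) ≠ 0 := PrimeDim.two_ne_zero_of_odd (by rw [h3]; decide)
  have halt : ∀ v, f v v = 0 := sympForm_alt_std
  have hsk : ∀ u v, f v u = - f u v := fun u v => by
    have h1 := halt (u + v)
    rw [hs.add_left, hs.add_right, hs.add_right, halt, halt] at h1
    linear_combination h1
  have hnd : ∀ u, (∀ v, f u v = 0) → u = 0 := fun u h => nondeg_left (σ := RingEquiv.refl F) hG.det h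
  have hnegl : ∀ u v, f (-u) v = - f u v := fun u v => by
    rw [← neg_one_smul F u, hs.smul_left, neg_one_mul]
  have hnegr : ∀ u v, f u (-v) = - f u v := fun u v => by
    rw [← neg_one_smul F v, hs.smul_right]; simp
  obtain ⟨k₀, hk₀, u₀, v₀, huv⟩ : ∃ k ∈ K, ∃ u v, f (k *ᵥ u) v ≠ f u (k *ᵥ v) := by
    by_contra hcon
    push Not at hcon
    exact hnsa hcon
  obtain ⟨k', hk', hkk⟩ := hadj k₀ hk₀
  have hkk' : ∀ u v, f (k' *ᵥ u) v = f u (k₀ *ᵥ v) := fun u v => by rw [hsk, ← hkk, ← hsk]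
  set X := k₀ - k' with hX
  have hXK : X ∈ K := sub_mem hk₀ hk'
  have hXskew : ∀ u v, f (X *ᵥ u) v = - f u (X *ᵥ v) := fun u v => by
    simp only [hX, Matrix.sub_mulVec]
    simp only [sub_eq_add_neg, hs.add_left, hs.add_right, hnegl, hnegr]
    rw [hkk, hkk']
    ring
  have hX0 : X ≠ 0 := fun e => huv (by rw [hkk, ← sub_eq_zero.1 e])
  -- self-adjoint elements are scalars
  have hsc : ∀ y ∈ K, (∀ u v, f (y *ᵥ u) v = f u (y *ᵥ v)) → ∃ c : F, y = c • 1 := by
    intro y hy hysa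
    by_contra hcon
    push Not at hcon
    have hli : LinearIndependent F ![(⟨1, one_mem K⟩ : K), ⟨y, hy⟩] := by
      refine LinearIndependent.pair_iff.2 fun s t h => ?_
      have h1 : s • (1 : Matrix I4 I4 F) + t • y = 0 := congrArg Subtype.val h
      rcases eq_or_ne t 0 with rfl | ht
      · rw [zero_smul, add_zero, smul_eq_zero] at h1
        exact ⟨h1.resolve_right one_ne_zero, rfl⟩
      · refine absurd ?_ (hcon (-(t⁻¹ * s)))
        linear_combination (norm := skip) t⁻¹ • h1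
        match_scalars <;> field_simp <;> ring
    obtain ⟨s, t, hst⟩ : ∃ s t : F, k₀ = s • 1 + t • y := by
      have hspan := hli.span_eq_top_of_card_eq_finrank (by rw [hK.finrank_eq]; rfl)
      have hm : (⟨k₀, hk₀⟩ : K) ∈ Submodule.span F (Set.range ![(⟨1, one_mem K⟩ : K), ⟨y, hy⟩]) := hspan ▸ Submodule.mem_top
      rw [Matrix.range_cons_cons_empty] at hm
      obtain ⟨s, t, h⟩ := Submodule.mem_span_pair.1 hm
      exact ⟨s, t, (congrArg Subtype.val h).symm⟩
    refine huv ?_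
    rw [hst, Matrix.add_mulVec, Matrix.add_mulVec, hs.add_left, hs.add_right, Matrix.smul_mulVec, Matrix.smul_mulVec,
      Matrix.smul_mulVec, Matrix.smul_mulVec, Matrix.one_mulVec, Matrix.one_mulVec, hs.smul_left, hs.smul_left,
      hs.smul_right, hs.smul_right, hysa]
    rfl
  obtain ⟨c, hc⟩ := hsc (X * X) (mul_mem hXK hXK) fun u v => by
    rw [← Matrix.mulVec_mulVec, ← Matrix.mulVec_mulVec, hXskew, hXskew, neg_neg]
  have hXinv : ∀ v, X *ᵥ v = 0 → v = 0 := fun v hv => by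
    obtain ⟨X', hX', hXX⟩ := hK.inv X hXK hX0
    have h1 : (X * X') *ᵥ v = v := by rw [hXX, Matrix.one_mulVec]
    rw [hK.comm X hXK X' hX'] at h1
    rw [← h1, ← Matrix.mulVec_mulVec, hv, Matrix.mulVec_zero]
  have hc1 : c = -1 := by
    rcases NotMax.sq_cases h3 c with h | h
    · exfalso
      rw [h, zero_smul] at hc
      refine hX0 (Matrix.mulVec_injective (funext fun v => ?_))
      rw [Matrix.zero_mulVec]
      refine hXinv _ (hXinv _ ?_)
      rw [Matrix.mulVec_mulVec, Matrix.mulVec_mulVec, hc, Matrix.zero_mul, Matrix.zero_mulVec]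
    · refine (mul_self_eq_one_iff.1 h).resolve_left fun e => ?_
      rw [e, one_smul] at hc
      have hp : (X - 1) * (X + 1) = 0 := by noncomm_ring; rw [hc]; simp
      have hscal : X = 1 ∨ X = -1 := by
        rcases eq_or_ne (X - 1) 0 with h0 | h0
        · exact Or.inl (sub_eq_zero.1 h0)
        · obtain ⟨z, hz, hzz⟩ := hK.inv _ (sub_mem hXK (one_mem K)) h0
          refine Or.inr (add_eq_zero_iff_eq_neg.1 ?_)
          have h1 := congrArg (z * ·) hp
          rwa [← mul_assoc, mul_zero, hK.comm z hz _ (sub_mem hXK (one_mem K)), hzz, one_mul] at h1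
      refine hX0 (Matrix.mulVec_injective (funext fun v => ?_))
      rw [Matrix.zero_mulVec]
      refine hnd _ fun w => (mul_eq_zero.1 (show (2 : F) * f (X *ᵥ v) w = 0 from ?_)).resolve_left h2
      rcases hscal with h' | h' <;>
        linear_combination (norm := (simp [h', hnegl, hnegr, Matrix.neg_mulVec]; ring)) hXskew v w
  rw [hc1] at hc
  have hXX : ∀ v, X *ᵥ (X *ᵥ v) = -v := fun v => by
    rw [Matrix.mulVec_mulVec, hc, neg_one_smul, Matrix.neg_mulVec, Matrix.one_mulVec]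
  have hfXX : ∀ u v, f (X *ᵥ u) (X *ᵥ v) = f u v := fun u v => by rw [hXskew, hXX, hnegr, neg_neg]
  -- the frame
  have hpick : ∀ W : Submodule F (I4 → F), (∀ u ∈ W, X *ᵥ u ∈ W) →
      (∀ u ∈ W, (∀ v ∈ W, f u v = 0) → u = 0) → W ≠ ⊥ → ∃ v ∈ W, f v (X *ᵥ v) = -1 := by
    intro W hWX hWnd hW
    obtain ⟨v, hv, hv0⟩ : ∃ v ∈ W, f v (X *ᵥ v) ≠ 0 := by
      by_contra hcon
      push Not at hcon
      obtain ⟨w, hw, hw0⟩ := W.exists_mem_ne_zero_of_ne_bot hW
      refine hw0 (hWnd w hw fun v hv => ?_)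
      have h1 := hcon (w + X *ᵥ v) (add_mem hw (hWX v hv))
      rw [Matrix.mulVec_add, hs.add_left, hs.add_right, hs.add_right, hcon w hw, hcon _ (hWX v hv), hfXX, hXX, hnegr,
        hsk w v] at h1
      refine (mul_eq_zero.1 (show (2 : F) * f w v = 0 from ?_)).resolve_left h2
      linear_combination -h1
    rcases NotMax.sq_cases h3 (f v (X *ᵥ v)) with h | h
    · exact absurd h hv0
    rcases mul_self_eq_one_iff.1 h with h | h
    · refine ⟨v + X *ᵥ v, add_mem hv (hWX v hv), ?_⟩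
      rw [Matrix.mulVec_add, hXX, hs.add_left, hs.add_right, hs.add_right, hnegr, hnegr, halt, hsk v (X *ᵥ v), h, halt]
      haveI : CharP F 3 := charP_of_card_eq_prime (hp := ⟨Nat.prime_three⟩) (by rw [← h3])
      have h30 : (3 : F) = 0 := by simpa using CharP.cast_eq_zero F 3
      linear_combination h30
    · exact ⟨v, hv, h⟩
  obtain ⟨v, -, hv⟩ := hpick ⊤ (fun _ _ => Submodule.mem_top)
    (fun u _ h => hnd u fun w => h w Submodule.mem_top) (by
      intro e
      have := Module.finrank_fintype_fun_eq_card F (η := I4)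
      rw [← finrank_top, e, finrank_bot] at this
      simp at this)
  let W : Submodule F (I4 → F) :=
    { carrier := {w | f v w = 0 ∧ f (X *ᵥ v) w = 0}
      add_mem' := fun {a b} ha hb => ⟨by rw [hs.add_right, ha.1, hb.1, add_zero], by rw [hs.add_right, ha.2, hb.2, add_zero]⟩
      zero_mem' := ⟨by rw [← zero_smul F (0 : I4 → F), hs.smul_right]; simp, by rw [← zero_smul F (0 : I4 → F), hs.smul_right]; simp⟩
      smul_mem' := fun c a ha => ⟨by rw [hs.smul_right, ha.1, mul_zero], by rw [hs.smul_right, ha.2, mul_zero]⟩ }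
  have hproj : ∀ u, u - f (X *ᵥ v) u • v + f v u • (X *ᵥ v) ∈ W := fun u => by
    refine ⟨?_, ?_⟩
    · rw [sub_eq_add_neg, hs.add_right, hs.add_right, hnegr, hs.smul_right, hs.smul_right, halt, hv]; simp
    · rw [sub_eq_add_neg, hs.add_right, hs.add_right, hnegr, hs.smul_right, hs.smul_right, halt, hsk v (X *ᵥ v), hv]
      simp
  obtain ⟨w, ⟨hw1, hw2⟩, hw⟩ := hpick W
    (fun u hu => ⟨by rw [← neg_eq_zero, ← hXskew]; exact hu.2, by rw [hfXX]; exact hu.1⟩)
    (fun u hu h => hnd u fun z => by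
      have h1 := h _ (hproj z)
      rw [sub_eq_add_neg, hs.add_right, hs.add_right, hnegr, hs.smul_right, hs.smul_right, hsk v u, hu.1,
        hsk (X *ᵥ v) u, hu.2] at h1
      simpa using h1)
    (fun e => by
      have hle' : (⊤ : Submodule F (I4 → F)) ≤ Submodule.span F {v, X *ᵥ v} := fun u _ => by
        have h1 := hproj u
        rw [e, Submodule.mem_bot] at h1
        refine Submodule.mem_span_pair.2 ⟨f (X *ᵥ v) u, -f v u, ?_⟩
        linear_combination (norm := module) -h1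
      have h1 := Submodule.finrank_mono hle'
      have h5 := finrank_span_le_card (R := F) ({v, X *ᵥ v} : Set (I4 → F))
      have h6 : ({v, X *ᵥ v} : Set (I4 → F)).toFinset.card ≤ 2 := by
        simpa using Finset.card_le_two (a := v) (b := X *ᵥ v)
      rw [finrank_top, Module.finrank_fintype_fun_eq_card] at h1
      simp at h1
      omega)
  let cols : I4 → (I4 → F) := Sum.elim ![v, w] ![X *ᵥ v, X *ᵥ w]
  let Q : Matrix I4 I4 F := Matrix.of fun i j => cols j i
  have hcol : ∀ j, Q *ᵥ Pi.single j 1 = cols j := fun j => by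
    rw [Matrix.mulVec_single_one]; rfl
  have hQJ : Qᵀ * Matrix.J (Fin 2) F * Q = Matrix.J (Fin 2) F := by
    ext j l
    have h1 := formG_mulVec (RingEquiv.refl F) (Matrix.J (Fin 2) F) Q (Pi.single j 1) (Pi.single l 1)
    rw [formG_single, hcol, hcol, act, map_refl_eq] at h1
    rw [← h1]
    show f (cols j) (cols l) = _
    have z1 : f v (X *ᵥ w) = 0 := by rw [← neg_eq_zero, ← hXskew]; exact hw2
    rcases j with j | j <;> rcases l with l | l <;> fin_cases j <;> fin_cases l <;>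
      simp [cols, Matrix.J, halt, hv, hw, hw1, hw2, z1, hfXX, hsk v w, hsk v (X *ᵥ v), hsk w (X *ᵥ w),
        hsk v (X *ᵥ w), hsk (X *ᵥ v) w]
  have hXQ : X * Q = Q * Matrix.J (Fin 2) F := by
    refine Matrix.ext_of_mulVec_single fun j => ?_
    rw [← Matrix.mulVec_mulVec, hcol, ← Matrix.mulVec_mulVec]
    have hJ : ∀ i : Fin 2, Matrix.J (Fin 2) F *ᵥ Pi.single (Sum.inl i) 1 = Pi.single (Sum.inr i) 1 ∧
        Matrix.J (Fin 2) F *ᵥ Pi.single (Sum.inr i) 1 = -Pi.single (Sum.inl i) 1 := fun i => by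
      constructor <;> (ext l; rcases l with l | l <;> fin_cases i <;> fin_cases l <;>
        simp [Matrix.mulVec_single_one, Matrix.J])
    rcases j with j | j
    · rw [(hJ j).1, hcol]; fin_cases j <;> simp [cols]
    · rw [(hJ j).2, Matrix.mulVec_neg, hcol]; fin_cases j <;> simp [cols, hXX]
  have hdQ : IsUnit Q.det := by
    have hu : IsUnit (Matrix.J (Fin 2) F).det := Matrix.isUnit_det_J (Fin 2) F
    rw [← hQJ, Matrix.det_mul, Matrix.det_mul] at hu
    exact isUnit_of_mul_isUnit_right hu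
  set q : GL I4 F := Matrix.GeneralLinearGroup.mk'' Q hdQ
  have hq : mat q = Q := rfl
  have hqA : q ∈ Cfsg.spGL 2 F := mem_sp.2 (by rw [hq]; exact hQJ)
  let L : Subgroup (GL I4 F) := (markGroup F).comap (MulAut.conj q⁻¹).toMonoidHom
  have hLA : ∀ g ∈ L, g ∈ Cfsg.spGL 2 F := fun g hg => by
    have h1 : q⁻¹ * g * q⁻¹⁻¹ ∈ Cfsg.spGL 2 F := hg.1
    have h5 := mul_mem (mul_mem hqA h1) (inv_mem hqA)
    rwa [show q * (q⁻¹ * g * q⁻¹⁻¹) * q⁻¹ = g by group] at h5
  have hXJ : Matrix.J (Fin 2) F = mat q⁻¹ * X * mat q := by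
    rw [hq, Matrix.mul_assoc, hXQ, ← Matrix.mul_assoc, ← hq, mat_inv_mul, Matrix.one_mul]
  have hpm : ∀ g ∈ subalgebraNormalizer K ⊓ Cfsg.spGL 2 F, mat g * X = X * mat g ∨ mat g * X = -(X * mat g) := by
    intro g hg
    have hY : mat g * X * mat g⁻¹ ∈ K := (hg.1 X).1 hXK
    set Y := mat g * X * mat g⁻¹ with hYd
    have hYg : Y * mat g = mat g * X := by rw [hYd, Matrix.mul_assoc, mat_inv_mul, Matrix.mul_one]
    clear_value Y
    have hgi : ∀ a b, f (mat g *ᵥ a) (mat g *ᵥ b) = f a b := fun a b => hg.2 a b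
    have hYskew : ∀ a b, f (Y *ᵥ a) b = - f a (Y *ᵥ b) := fun a b => by
      obtain ⟨a, rfl⟩ : ∃ a', mat g *ᵥ a' = a := ⟨mat g⁻¹ *ᵥ a, by rw [Matrix.mulVec_mulVec, mat_mul_inv, Matrix.one_mulVec]⟩
      obtain ⟨b, rfl⟩ : ∃ b', mat g *ᵥ b' = b := ⟨mat g⁻¹ *ᵥ b, by rw [Matrix.mulVec_mulVec, mat_mul_inv, Matrix.one_mulVec]⟩
      rw [Matrix.mulVec_mulVec, Matrix.mulVec_mulVec _ Y, hYg, ← Matrix.mulVec_mulVec, ← Matrix.mulVec_mulVec, hgi, hgi, hXskew]
    obtain ⟨d, hd⟩ := hsc (Y * X) (mul_mem hY hXK) fun a b => by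
      rw [← Matrix.mulVec_mulVec, ← Matrix.mulVec_mulVec, hYskew, hXskew, neg_neg, Matrix.mulVec_mulVec,
        hK.comm X hXK Y hY, ← Matrix.mulVec_mulVec]
    have hYX : Y = (-d) • X := by
      have h1 := congrArg (· * X) hd
      simp only [Matrix.mul_assoc, hc, Matrix.mul_smul, Matrix.smul_mul, Matrix.mul_one, Matrix.one_mul] at h1
      rw [neg_smul, ← h1, neg_one_smul, neg_neg]
    rcases NotMax.sq_cases h3 (-d) with h | h
    · exfalso
      refine hX0 ?_
      have h1 : mat g⁻¹ * Y * mat g = 0 := by rw [hYX, h, zero_smul, Matrix.mul_zero, Matrix.zero_mul]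
      rwa [Matrix.mul_assoc, hYg, ← Matrix.mul_assoc, mat_inv_mul, Matrix.one_mul] at h1
    rcases mul_self_eq_one_iff.1 h with h | h
    · left; rw [← hYg, hYX, h, one_smul]
    · right; rw [← hYg, hYX, h, neg_one_smul, Matrix.neg_mul]
  have hML : subalgebraNormalizer K ⊓ Cfsg.spGL 2 F ≤ L := fun g hg => by
    refine le_markGroup (g := q⁻¹ * g * q⁻¹⁻¹) (mul_mem (mul_mem (inv_mem hqA) hg.2) (inv_mem (inv_mem hqA))) ?_
    have e1 : mat (q⁻¹ * g * q⁻¹⁻¹) * Matrix.J (Fin 2) F = mat q⁻¹ * (mat g * X) * mat q := by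
      rw [inv_inv, hXJ]
      show mat q⁻¹ * mat g * mat q * (mat q⁻¹ * X * mat q) = _
      simp only [Matrix.mul_assoc]
      rw [← Matrix.mul_assoc (mat q) (mat q⁻¹), mat_mul_inv, Matrix.one_mul]
    have e2 : Matrix.J (Fin 2) F * mat (q⁻¹ * g * q⁻¹⁻¹) = mat q⁻¹ * (X * mat g) * mat q := by
      rw [inv_inv, hXJ]
      show mat q⁻¹ * X * mat q * (mat q⁻¹ * mat g * mat q) = _
      simp only [Matrix.mul_assoc]
      rw [← Matrix.mul_assoc (mat q) (mat q⁻¹), mat_mul_inv, Matrix.one_mul]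
    rcases hpm g hg with h | h
    · left; rw [e1, e2, h]
    · right; rw [e1, e2, h, Matrix.mul_neg, Matrix.neg_mul]
  obtain ⟨⟨s, hs1, hs2, hs3⟩, hlt⟩ := markGroup_strict h3
  have hsL : q * s * q⁻¹ ∈ L := by
    show q⁻¹ * (q * s * q⁻¹) * q⁻¹⁻¹ ∈ markGroup F
    rwa [show q⁻¹ * (q * s * q⁻¹) * q⁻¹⁻¹ = s by group]
  refine not_max_between hH hle (K := L) (lt_of_le_of_ne hML fun e => ?_) (lt_of_le_of_ne hLA fun e => ?_)
  · have hm := hpm _ (e.symm ▸ hsL)
    have E1 : mat (q * s * q⁻¹) * X = Q * (mat s * Matrix.J (Fin 2) F) * mat q⁻¹ := by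
      rw [hXJ, ← hq]
      show mat q * mat s * mat q⁻¹ * X = _
      simp only [Matrix.mul_assoc, mat_mul_inv, Matrix.mul_one]
    have E2 : X * mat (q * s * q⁻¹) = Q * (Matrix.J (Fin 2) F * mat s) * mat q⁻¹ := by
      show X * (mat q * mat s * mat q⁻¹) = _
      rw [hq, ← Matrix.mul_assoc, ← Matrix.mul_assoc, hXQ]
      simp only [Matrix.mul_assoc]
    have hcan : ∀ {A B : Matrix I4 I4 F}, Q * A * mat q⁻¹ = Q * B * mat q⁻¹ → A = B := fun {A B} h => by
      have h1 := congrArg (fun Z => mat q⁻¹ * Z * Q) h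
      simpa only [← hq, Matrix.mul_assoc, mat_inv_mul, Matrix.mul_one, ← Matrix.mul_assoc (mat q⁻¹) (mat q),
        Matrix.one_mul] using h1
    rcases hm with h | h
    · exact hs2 (hcan (by rw [← E1, ← E2, h]))
    · exact hs3 (hcan (by rw [← E1, Matrix.mul_neg, Matrix.neg_mul, ← E2, h]))
  · refine hlt.ne (le_antisymm hlt.le fun x hx => ?_)
    have h1 : q * x * q⁻¹ ∈ L := e.symm ▸ mul_mem (mul_mem hqA hx) (inv_mem hqA)
    have h5 : q⁻¹ * (q * x * q⁻¹) * q⁻¹⁻¹ ∈ markGroup F := h1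
    rwa [show q⁻¹ * (q * x * q⁻¹) * q⁻¹⁻¹ = x by group] at h5

end Cfsg.Agent.Asch
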