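import Cfsg.Agent.Asch.Transport
import Cfsg.Agent.PrimeDim.Extra

/-!
From a normal subgroup with scalar commutators to a normal group of symplectic type.
-/

set_option autoImplicit false
set_option linter.unusedSectionVars false

namespace Cfsg.Agent.Asch

open Matrix Cfsg.Geo Cfsg.Agent.PrimeDim
open scoped MatrixGroups

variable {F : Type*} [Field F] {ι : Type} [Fintype ι] [DecidableEq ι]

/-- The scalar embedding of the units. -/
def scHom : Fˣ →* GL ι F := Units.map (Matrix.scalar ι : F →+* Matrix ι ι F).toMonoidHom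

theorem scHom_mem (c : Fˣ) : (scHom c : GL ι F) ∈ scalars ι F := ⟨c, rfl⟩

theorem exists_scHom {g : GL ι F} (h : g ∈ scalars ι F) : ∃ c : Fˣ, scHom c = g := h

theorem mat_scHom (c : Fˣ) : mat (scHom c : GL ι F) = (c : F) • (1 : Matrix ι ι F) := by
  simp [scHom, mat, Matrix.smul_one_eq_diagonal]

theorem scHom_injective [Nonempty ι] : Function.Injective (scHom : Fˣ →* GL ι F) := by
  intro a b h
  obtain ⟨i⟩ := (inferInstance : Nonempty ι)
  have h1 := congrArg (fun g : GL ι F => mat g i i) h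
  simp only [mat_scHom] at h1
  exact Units.ext (by simpa using h1)

theorem scalar_comm' {z : GL ι F} (hz : z ∈ scalars ι F) (g : GL ι F) : z * g = g * z :=
  (scalar_comm hz g).eq

/-- The power of a product when the commutator is scalar. -/
theorem mul_pow_scalar {x y z : GL ι F} (hz : z ∈ scalars ι F) (h : y * x = z * (x * y)) (n : ℕ) :
    (x * y) ^ n = z ^ (n * (n - 1) / 2) * (x ^ n * y ^ n) := by
  have hc : ∀ (m : ℕ) (g : GL ι F), g * z ^ m = z ^ m * g := fun m g =>
    ((scalar_comm hz g).pow_left m).eq.symm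
  have hy' : ∀ n : ℕ, y ^ n * x = z ^ n * x * y ^ n := by
    intro n
    induction n with
    | zero => simp
    | succ n ih =>
      rw [pow_succ', mul_assoc, ih]
      calc y * (z ^ n * x * y ^ n) = z ^ n * (y * x) * y ^ n := by
            rw [← mul_assoc, ← mul_assoc, hc n y, mul_assoc (z ^ n) y x]
        _ = z ^ (n + 1) * x * (y * y ^ n) := by rw [h, pow_succ]; simp only [mul_assoc]
        _ = _ := by rw [← pow_succ']
  induction n with
  | zero => simp
  | succ n ih =>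
    have e : (n + 1) * (n + 1 - 1) / 2 = n * (n - 1) / 2 + n := by
      rw [← Finset.sum_range_id, ← Finset.sum_range_id, Finset.sum_range_succ]
    rw [pow_succ, ih, e, pow_add]
    calc z ^ (n * (n - 1) / 2) * (x ^ n * y ^ n) * (x * y)
        = z ^ (n * (n - 1) / 2) * (x ^ n * (y ^ n * x) * y) := by simp only [mul_assoc]
      _ = z ^ (n * (n - 1) / 2) * (z ^ n * (x ^ n * x * (y ^ n * y))) := by
          rw [hy' n, show x ^ n * (z ^ n * x * y ^ n) = z ^ n * (x ^ n * x * y ^ n) by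
            rw [← mul_assoc, ← mul_assoc, hc n (x ^ n)]; simp only [mul_assoc]]
          simp only [mul_assoc]
      _ = _ := by rw [← pow_succ, ← pow_succ, mul_assoc]

theorem swap_eq (x y : GL ι F) : y * x = (y * x * y⁻¹ * x⁻¹) * (x * y) := by group

/-- A normal group of symplectic type. -/
structure IsSympNormal (r : ℕ) (H R : Subgroup (GL ι F)) : Prop where
  le : R ≤ H
  normalised : Normalised H R
  nonscalar : ¬ R ≤ scalars ι F
  abs : ActsAbsolutelyIrreducibly (matrixSet R)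
  noncomm : ¬ Comm R
  pow : ∀ x ∈ R, x ^ (r * Nat.gcd 2 r) = 1
  comm : ∀ x ∈ R, ∀ y ∈ R, x * y * x⁻¹ * y⁻¹ ∈ scalars ι F
  symp : IsSymplecticTypeGroup r R
  scalar_mem : ∀ c : Fˣ, c ^ (r * Nat.gcd 2 r) = 1 → (scHom c : GL ι F) ∈ R
  root : ∃ ζ : F, IsPrimitiveRoot ζ r

set_option maxHeartbeats 1000000 in
/-- A normal group of symplectic type exists. -/
theorem exists_symp [Finite F] [Nonempty ι] {H N : Subgroup (GL ι F)} (hsc : scalars ι F ≤ H) (hgood : Good H)
    (hle : N ≤ H) (hn : Normalised H N) (hns : ¬ N ≤ scalars ι F)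
    (hcomm : ∀ x ∈ N, ∀ y ∈ N, x * y * x⁻¹ * y⁻¹ ∈ scalars ι F) : ∃ r R, IsSympNormal r H R := by
  classical
  set Z := scalars ι F with hZ
  haveI hZn : Z.Normal := inferInstance
  let T : Set ℕ := {k | ∃ M : Subgroup (GL ι F), M ≤ H ∧ Z ≤ M ∧ Normalised H M ∧ ¬ M ≤ Z ∧
    (∀ x ∈ M, ∀ y ∈ M, x * y * x⁻¹ * y⁻¹ ∈ Z) ∧ Nat.card M = k}
  have hne : T.Nonempty := by
    refine ⟨_, N ⊔ Z, sup_le hle hsc, le_sup_right, fun h hh x hx => ?_, fun h => hns (le_sup_left.trans h),
      fun x hx y hy => ?_, rfl⟩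
    · obtain ⟨a, ha, z, hz, rfl⟩ := Subgroup.mem_sup_of_normal_right.1 hx
      rw [show h * (a * z) * h⁻¹ = (h * a * h⁻¹) * (h * z * h⁻¹) by group]
      exact Subgroup.mul_mem_sup (hn h hh a ha) (hZn.conj_mem z hz h)
    · obtain ⟨a, ha, z, hz, rfl⟩ := Subgroup.mem_sup_of_normal_right.1 hx
      obtain ⟨b, hb, w, hw, rfl⟩ := Subgroup.mem_sup_of_normal_right.1 hy
      have e : a * z * (b * w) * (a * z)⁻¹ * (b * w)⁻¹ = a * b * a⁻¹ * b⁻¹ := by
        calc a * z * (b * w) * (a * z)⁻¹ * (b * w)⁻¹ = a * (z * (b * w)) * z⁻¹ * a⁻¹ * w⁻¹ * b⁻¹ := by group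
          _ = a * b * (w * a⁻¹) * w⁻¹ * b⁻¹ := by rw [scalar_comm' hz (b * w)]; group
          _ = _ := by rw [scalar_comm' hw a⁻¹]; group
      rw [e]; exact hcomm a ha b hb
  obtain ⟨M, hMH, hZM, hMn, hMns, hMc, hMk⟩ := Nat.sInf_mem hne
  have hmin : ∀ M' ≤ M, Z ≤ M' → Normalised H M' → ¬ M' ≤ Z → M' = M := fun M' h1 h2 h3 h4 =>
    Subgroup.eq_of_le_of_card_ge h1 (hMk.le.trans (Nat.sInf_le
      ⟨M', h1.trans hMH, h2, h3, h4, fun x hx y hy => hMc x (h1 hx) y (h1 hy), rfl⟩))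
  have hMabs := hgood M hMH hMn hMns
  have hMnc := not_comm_of_abs hMabs hMns
  haveI : (Z.subgroupOf M).Normal := hZn.subgroupOf M
  let π : M →* M ⧸ Z.subgroupOf M := QuotientGroup.mk' _
  have hπ : ∀ x : M, π x = 1 ↔ (x : GL ι F) ∈ Z := fun x => by
    rw [QuotientGroup.mk'_apply, QuotientGroup.eq_one_iff, Subgroup.mem_subgroupOf]
  have hQ1 : Nat.card (M ⧸ Z.subgroupOf M) ≠ 1 := fun e => hMns fun x hx => by
    haveI := (Nat.card_eq_one_iff_unique.1 e).1
    exact (hπ ⟨x, hx⟩).1 (Subsingleton.elim _ _)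
  set r := (Nat.card (M ⧸ Z.subgroupOf M)).minFac with hrdef
  have hr : r.Prime := Nat.minFac_prime hQ1
  haveI := Fact.mk hr
  obtain ⟨q₀, hq₀⟩ := exists_prime_orderOf_dvd_card' (G := M ⧸ Z.subgroupOf M) r (Nat.minFac_dvd _)
  obtain ⟨x₀, rfl⟩ := QuotientGroup.mk'_surjective _ q₀
  have hmul : ∀ x ∈ M, ∀ y ∈ M, ∀ n : ℕ, x ^ n ∈ Z → y ^ n ∈ Z → (x * y) ^ n ∈ Z := fun x hx y hy n h1 h2 => by
    rw [mul_pow_scalar (hMc y hy x hx) (swap_eq x y)]
    exact mul_mem (pow_mem (hMc y hy x hx) _) (mul_mem h1 h2)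
  have hMpow : ∀ x ∈ M, x ^ r ∈ Z := by
    let M' : Subgroup (GL ι F) :=
      { carrier := {x | x ∈ M ∧ x ^ r ∈ Z}
        mul_mem' := fun {a b} ha hb => ⟨mul_mem ha.1 hb.1, hmul a ha.1 b hb.1 r ha.2 hb.2⟩
        one_mem' := ⟨one_mem _, by rw [one_pow]; exact one_mem _⟩
        inv_mem' := fun {a} ha => ⟨inv_mem ha.1, by rw [inv_pow]; exact inv_mem ha.2⟩ }
    have hM' : M' = M := by
      refine hmin M' (fun x hx => hx.1) (fun z hz => ⟨hZM hz, pow_mem hz r⟩)
        (fun h hh x hx => ⟨hMn h hh x hx.1, by rw [conj_pow]; exact hZn.conj_mem _ hx.2 h⟩) fun h => ?_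
      have h1 : (x₀ : GL ι F) ∈ M' := ⟨x₀.2, by
        have h2 : π (x₀ ^ r) = 1 := by rw [map_pow, ← hq₀]; exact pow_orderOf_eq_one _
        exact (hπ _).1 h2⟩
      have h3 := (hπ x₀).2 (h h1)
      rw [show QuotientGroup.mk' (Z.subgroupOf M) x₀ = 1 from h3, orderOf_one] at hq₀
      exact hr.ne_one hq₀.symm
    exact fun x hx => (hM'.symm ▸ hx : x ∈ M').2
  have hcpow : ∀ x ∈ M, ∀ y ∈ M, (y * x * y⁻¹ * x⁻¹) ^ r = 1 := by
    intro x hx y hy
    set z := y * x * y⁻¹ * x⁻¹ with hz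
    have hzs : z ∈ Z := hMc y hy x hx
    have h1 : y * x ^ r * y⁻¹ = z ^ r * x ^ r := by
      rw [← conj_pow, show y * x * y⁻¹ = z * x by rw [hz]; group, (scalar_comm hzs x).mul_pow]
    rw [← scalar_comm' (hMpow x hx) y, mul_inv_cancel_right] at h1
    exact mul_eq_right.1 h1.symm
  -- a primitive root
  obtain ⟨ζ, hζ⟩ : ∃ ζ : F, IsPrimitiveRoot ζ r := by
    have h1 := hMnc
    unfold Comm at h1
    push Not at h1
    obtain ⟨x, hx, y, hy, hxy⟩ := h1
    obtain ⟨c, hc⟩ := exists_scHom (hMc y hy x hx)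
    have h2 : c ^ r = 1 := scHom_injective (by rw [map_pow, hc, map_one]; exact hcpow x hx y hy)
    refine ⟨c, IsPrimitiveRoot.iff_orderOf.2 (orderOf_eq_prime (by rw [← Units.val_pow_eq_pow_val, h2, Units.val_one]) fun e => hxy ?_)⟩
    have h3 : y * x * y⁻¹ * x⁻¹ = 1 := by rw [← hc, Units.ext (e.trans Units.val_one.symm), map_one]
    rw [mul_inv_eq_one, mul_inv_eq_iff_eq_mul] at h3
    exact h3.symm
  have hval : ∀ x : M, ∃ c : Fˣ, scHom c = (x : GL ι F) ^ r := fun x => exists_scHom (hMpow x.1 x.2)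
  choose u hu using hval
  -- every coset has a representative of exponent dividing `e`
  set e := r * Nat.gcd 2 r with he
  have hcase : r = 2 ∧ e = 4 ∨ Odd r ∧ e = r := by
    rcases hr.eq_two_or_odd' with h | h
    · exact Or.inl ⟨h, by rw [he, h]; rfl⟩
    · exact Or.inr ⟨h, by rw [he, (Nat.coprime_primes Nat.prime_two hr).2 (fun e => by rw [← e] at h; exact absurd h (by decide)), mul_one]⟩
  have hrep : ∀ x ∈ M, ∃ c : Fˣ, (x * scHom c) ^ e = 1 := by
    intro x hx
    have hstep : ∀ c : Fˣ, (x * scHom c) ^ r = scHom (u ⟨x, hx⟩ * c ^ r) := fun c => by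
      rw [(Commute.symm (scalar_comm (scHom_mem c) x)).mul_pow, map_mul, map_pow, hu]
    by_cases hB : Odd r ∨ ∃ i : Fˣ, i ^ 2 = -1
    · let S : Subgroup Fˣ := (powMonoidHom r).range
      let ψ : M →* Fˣ ⧸ S :=
        { toFun := fun y => QuotientGroup.mk (u y)
          map_one' := by
            rw [show u 1 = 1 from scHom_injective (by rw [hu, map_one]; simp)]; rfl
          map_mul' := fun y y' => by
            obtain ⟨w, hw⟩ := exists_scHom (hMc y'.1 y'.2 y.1 y.2)
            have hwr : w ^ r = 1 := scHom_injective (by rw [map_pow, hw, map_one]; exact hcpow y.1 y.2 y'.1 y'.2)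
            have h1 : u (y * y') = w ^ (r * (r - 1) / 2) * (u y * u y') := scHom_injective (by
              rw [hu, map_mul, map_mul, map_pow, hw, hu, hu, Subgroup.coe_mul]
              exact mul_pow_scalar (hMc y'.1 y'.2 y.1 y.2) (swap_eq y.1 y'.1) r)
            rw [h1, ← QuotientGroup.mk_mul]
            refine (QuotientGroup.eq.2 ?_).symm
            rw [mul_comm (w ^ _), inv_mul_cancel_left]
            rcases hr.eq_two_or_odd' with h2 | ⟨k, hk⟩
            · obtain ⟨i, hi⟩ := hB.resolve_left (by rw [h2]; decide)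
              have h3 : ((w : F) - 1) * ((w : F) + 1) = 0 := by
                have h4 := congrArg (fun v : Fˣ => (v : F)) hwr
                simp only [Units.val_pow_eq_pow_val, Units.val_one, h2] at h4
                linear_combination h4
              rw [h2]
              rcases mul_eq_zero.1 h3 with h4 | h4
              · exact ⟨1, by
                  rw [powMonoidHom_apply, one_pow, show w = 1 from Units.ext (sub_eq_zero.1 h4), one_pow]⟩
              · exact ⟨i, by
                  rw [powMonoidHom_apply, h2, hi, show w = -1 from Units.ext (eq_neg_of_add_eq_zero_left h4)]; norm_num⟩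
            · rw [show r * (r - 1) / 2 = r * k by
                rw [hk, Nat.add_sub_cancel, show (2 * k + 1) * (2 * k) = 2 * ((2 * k + 1) * k) by ring,
                  Nat.mul_div_cancel_left _ two_pos], pow_mul, hwr, one_pow]
              exact one_mem _ }
      let M' : Subgroup (GL ι F) := ψ.ker.map M.subtype
      by_cases hker : M' ≤ Z
      · exfalso
        have hc : ψ.ker ≤ Subgroup.center M := fun y hy => Subgroup.mem_center_iff.2 fun y' =>
          Subtype.ext (scalar_comm' (hker ⟨y, hy, rfl⟩) y'.1).symm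
        haveI : IsCyclic (Fˣ ⧸ S) := isCyclic_of_surjective _ (QuotientGroup.mk'_surjective S)
        exact hMnc fun a ha b hb => congrArg Subtype.val (commutative_of_cyclic_center_quotient ψ hc ⟨a, ha⟩ ⟨b, hb⟩)
      have hZM' : Z ≤ M' := by
        intro z hz
        obtain ⟨c, rfl⟩ := exists_scHom hz
        refine ⟨⟨scHom c, hZM hz⟩, (QuotientGroup.eq_one_iff _).2 ?_, rfl⟩
        rw [show u ⟨scHom c, hZM hz⟩ = c ^ r from scHom_injective (by rw [hu, map_pow])]
        exact ⟨c, rfl⟩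
      have hM' : M' = M := by
        refine hmin M' (Subgroup.map_subtype_le _) hZM' (fun h hh y hy => ?_) hker
        obtain ⟨y, hy, rfl⟩ := hy
        refine ⟨⟨h * y.1 * h⁻¹, hMn h hh y.1 y.2⟩, ?_, rfl⟩
        show QuotientGroup.mk (u _) = 1
        rw [show u ⟨h * y.1 * h⁻¹, hMn h hh y.1 y.2⟩ = u y from scHom_injective (by
          rw [hu, hu, conj_pow, ← hu, ← scalar_comm' (scHom_mem _) h, mul_inv_cancel_right])]
        exact hy
      obtain ⟨y, hy, hyx⟩ := (hM'.symm ▸ hx : x ∈ M')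
      obtain ⟨c, hc⟩ := (QuotientGroup.eq_one_iff _).1 (hy : QuotientGroup.mk (u y) = 1)
      refine ⟨c⁻¹, ?_⟩
      have hyx' : y = ⟨x, hx⟩ := Subtype.ext hyx
      have h1 : (x * scHom c⁻¹) ^ r = 1 := by
        rw [hstep, ← hyx', ← hc, powMonoidHom_apply, inv_pow, mul_inv_cancel, map_one]
      rw [he, pow_mul, h1, one_pow]
    · push Not at hB
      obtain ⟨hB1, hB2⟩ := hB
      have h2 : r = 2 := hr.eq_two_or_odd'.resolve_right (Nat.not_odd_iff_even.2 (Nat.not_odd_iff_even.1 hB1))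
      have hsq : ∃ c : F, c ^ 2 = (u ⟨x, hx⟩ : F) ∨ c ^ 2 = -(u ⟨x, hx⟩ : F) := by
        haveI : Fintype F := Fintype.ofFinite F
        have hm1 : ¬ IsSquare (-1 : F) := by
          rintro ⟨i, hi⟩
          have hi0 : i ≠ 0 := fun e => by rw [e, mul_zero] at hi; exact neg_ne_zero.2 one_ne_zero hi
          exact hB2 (Units.mk0 i hi0) (Units.ext (by simp [pow_two, ← hi]))
        by_cases hu1 : IsSquare (u ⟨x, hx⟩ : F)
        · obtain ⟨c, hc⟩ := hu1; exact ⟨c, Or.inl (by rw [hc, pow_two])⟩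
        · have h3 : quadraticChar F (-(u ⟨x, hx⟩ : F)) = 1 := by
            rw [neg_eq_neg_one_mul, map_mul, quadraticChar_neg_one_iff_not_isSquare.2 hm1,
              quadraticChar_neg_one_iff_not_isSquare.2 hu1]
            norm_num
          obtain ⟨c, hc⟩ := (quadraticChar_one_iff_isSquare (neg_ne_zero.2 (Units.ne_zero _))).1 h3
          exact ⟨c, Or.inr (by rw [hc, pow_two])⟩
      obtain ⟨c, hc⟩ := hsq
      have hc0 : c ≠ 0 := by
        rintro rfl
        rcases hc with hc | hc <;> rw [zero_pow two_ne_zero] at hc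
        · exact Units.ne_zero _ hc.symm
        · exact neg_ne_zero.2 (Units.ne_zero _) hc.symm
      refine ⟨(Units.mk0 c hc0)⁻¹, ?_⟩
      rw [show e = r * 2 by rw [he, h2]; rfl, pow_mul, hstep, ← map_pow,
        show (u ⟨x, hx⟩ * (Units.mk0 c hc0)⁻¹ ^ r) ^ 2 = 1 from ?_, map_one]
      refine Units.ext ?_
      simp only [Units.val_pow_eq_pow_val, Units.val_mul, Units.val_inv_eq_inv_val, Units.val_mk0, Units.val_one, h2,
        inv_pow]
      rcases hc with hc | hc
      · rw [hc, mul_inv_cancel₀ (Units.ne_zero _), one_pow]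
      · rw [hc, inv_neg, mul_neg, mul_inv_cancel₀ (Units.ne_zero _), neg_one_sq]
  have hepow : ∀ x ∈ M, ∀ y ∈ M, x ^ e = 1 → y ^ e = 1 → (x * y) ^ e = 1 := by
    intro x hx y hy h1 h2
    rw [mul_pow_scalar (hMc y hy x hx) (swap_eq x y), h1, h2, mul_one, mul_one]
    rcases hcase with ⟨hr2, he4⟩ | ⟨⟨k, hk⟩, her⟩
    · have h := hcpow x hx y hy
      rw [hr2] at h
      rw [he4, show 4 * (4 - 1) / 2 = 2 * 3 from rfl, pow_mul, h, one_pow]
    · rw [her, show r * (r - 1) / 2 = r * k by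
        rw [hk, Nat.add_sub_cancel, show (2 * k + 1) * (2 * k) = 2 * ((2 * k + 1) * k) by ring,
          Nat.mul_div_cancel_left _ two_pos], pow_mul, hcpow x hx y hy, one_pow]
  let R : Subgroup (GL ι F) :=
    { carrier := {x | x ∈ M ∧ x ^ e = 1}
      mul_mem' := fun {a b} ha hb => ⟨mul_mem ha.1 hb.1, hepow a ha.1 b hb.1 ha.2 hb.2⟩
      one_mem' := ⟨one_mem _, one_pow e⟩
      inv_mem' := fun {a} ha => ⟨inv_mem ha.1, by rw [inv_pow, ha.2, inv_one]⟩ }
  have hRn : Normalised H R := fun h hh x hx => ⟨hMn h hh x hx.1, by rw [conj_pow, hx.2, mul_one, mul_inv_cancel]⟩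
  have hRdec : ∀ x ∈ M, ∃ y ∈ R, ∃ z ∈ Z, x = y * z := fun x hx => by
    obtain ⟨c, hc⟩ := hrep x hx
    exact ⟨x * scHom c, ⟨mul_mem hx (hZM (scHom_mem c)), hc⟩, _, inv_mem (scHom_mem c), by rw [mul_inv_cancel_right]⟩
  have hRH : R ≤ H := fun x hx => hMH hx.1
  have hRns : ¬ R ≤ Z := fun hR => hMns fun x hx => by
    obtain ⟨y, hy, z, hz, rfl⟩ := hRdec x hx
    exact mul_mem (hR hy) hz
  have hRabs := hgood R hRH hRn hRns
  have hRnc := not_comm_of_abs hRabs hRns
  refine ⟨r, R, hRH, hRn, hRns, hRabs, hRnc, fun x hx => hx.2, fun x hx y hy => hMc x hx.1 y hy.1,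
    ⟨hr, ?_, ?_, ?_⟩, fun c hc => ⟨hZM (scHom_mem c), by rw [← map_pow, hc, map_one]⟩, ζ, hζ⟩
  · intro x
    rcases hcase with ⟨hr2, he4⟩ | ⟨-, her⟩
    · exact ⟨2, Subtype.ext (by rw [hr2, SubmonoidClass.coe_pow, show (2 : ℕ) ^ 2 = 4 from rfl, ← he4]; exact x.2.2)⟩
    · exact ⟨1, Subtype.ext (by rw [pow_one, SubmonoidClass.coe_pow]; exact her ▸ x.2.2)⟩
  · intro A hA hAc
    let A' := A.map R.subtype
    have hA'n : Normalised H A' := by
      rintro h hh _ ⟨⟨x, hxR⟩, hxA, rfl⟩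
      let φ : R ≃* R :=
        { toFun := fun y => ⟨h * y.1 * h⁻¹, hRn h hh y.1 y.2⟩
          invFun := fun y => ⟨h⁻¹ * y.1 * h, hRn.conj' hh y.2⟩
          left_inv := fun y => Subtype.ext (by group)
          right_inv := fun y => Subtype.ext (by group)
          map_mul' := fun y y' => Subtype.ext (by simp [mul_assoc]) }
      refine ⟨φ ⟨x, hxR⟩, ?_, rfl⟩
      rw [← hA.fixed φ] at hxA
      exact hxA
    have hA'le : A' ≤ Z := by
      by_contra hcon
      refine not_comm_of_abs (hgood A' ((Subgroup.map_subtype_le A).trans hRH) hA'n hcon) hcon ?_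
      rintro _ ⟨x, hx, rfl⟩ _ ⟨y, hy, rfl⟩
      exact congrArg (fun w : A => (w.1 : GL ι F)) (hAc.is_comm.comm ⟨x, hx⟩ ⟨y, hy⟩)
    haveI : IsCyclic Z := isCyclic_of_surjective (scHom : Fˣ →* GL ι F).rangeRestrict (MonoidHom.rangeRestrict_surjective _)
    haveI : IsCyclic A' := Subgroup.isCyclic_of_le hA'le
    exact isCyclic_of_surjective (A.equivMapOfInjective _ R.subtype_injective).symm.toMonoidHom
      (A.equivMapOfInjective _ R.subtype_injective).symm.surjective
  · have hdvd : Monoid.exponent R ∣ e := Monoid.exponent_dvd_of_forall_pow_eq_one fun x => Subtype.ext x.2.2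
    have hne1 : Monoid.exponent R ≠ 1 := fun e1 => hRns fun x hx => by
      haveI := Monoid.exp_eq_one_iff.1 e1
      rw [show x = 1 from congrArg Subtype.val (Subsingleton.elim (⟨x, hx⟩ : R) 1)]
      exact one_mem _
    rcases hcase with ⟨hr2, he4⟩ | ⟨-, her⟩
    · rw [← he, he4]
      rw [he4, show (4 : ℕ) = 2 ^ 2 from rfl, Nat.dvd_prime_pow Nat.prime_two] at hdvd
      obtain ⟨k, hk2, hk⟩ := hdvd
      interval_cases k
      · exact absurd hk hne1
      · exfalso
        refine hRnc fun x hx y hy => ?_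
        have h2 : ∀ z : R, z * z = 1 := fun z => by
          rw [← pow_two]; exact (hk.trans (pow_one 2)) ▸ Monoid.pow_exponent_eq_one z
        exact congrArg Subtype.val (mul_comm_of_exponent_two (G := R) (hk.trans (pow_one 2)) ⟨x, hx⟩ ⟨y, hy⟩)
      · exact hk
    · rw [← he, her]
      exact (hr.eq_one_or_self_of_dvd _ (her ▸ hdvd)).resolve_left hne1

end Cfsg.Agent.Asch
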