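import Cfsg.Agent.Asch.SympStructure

/-!
The standard alternating form.
-/

set_option autoImplicit false
set_option linter.unusedSectionVars false

namespace Cfsg.Agent.Asch

open Matrix Cfsg.Geo Cfsg.Agent.PrimeDim
open scoped MatrixGroups

variable {F : Type*} [Field F] [Fintype F] {m : ℕ}

theorem sympForm_eq_formG : Cfsg.sympForm m F = formG (RingEquiv.refl F) (Matrix.J (Fin m) F) :=
  funext fun _ => funext fun _ => rfl

theorem sympForm_alt_std (v : Fin m ⊕ Fin m → F) : formG (RingEquiv.refl F) (Matrix.J (Fin m) F) v v = 0 := by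
  show v ⬝ᵥ (Matrix.J (Fin m) F *ᵥ v) = 0
  simp only [Matrix.J, dotProduct, Matrix.mulVec, Fintype.sum_sum_type, Matrix.fromBlocks_apply₁₁,
    Matrix.fromBlocks_apply₁₂, Matrix.fromBlocks_apply₂₁, Matrix.fromBlocks_apply₂₂, Matrix.zero_apply,
    Matrix.neg_apply, Matrix.one_apply, zero_mul, Finset.sum_const_zero, zero_add, add_zero, neg_mul, ite_mul,
    one_mul, Finset.sum_neg_distrib, Finset.sum_ite_eq, Finset.mem_univ, if_true, mul_neg]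
  rw [← Finset.sum_neg_distrib, ← Finset.sum_add_distrib]
  exact Finset.sum_eq_zero fun i _ => by ring

theorem symp_setting (hm : 2 ≤ m) {H : Subgroup (GL (Fin m ⊕ Fin m) F)} (hH : H ≤ Cfsg.spGL m F) :
    SympSetting (Matrix.J (Fin m) F) H := by
  refine ⟨⟨?_, fun _ => rfl, ?_⟩, sympForm_alt_std, fun g hg => ?_, ?_⟩
  · intro e
    have h1 := Matrix.J_det_mul_J_det (Fin m) F
    rw [e, zero_mul] at h1
    exact zero_ne_one h1
  · rw [map_refl_eq, neg_one_smul, Matrix.J_transpose]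
  · have h1 := ((isSesq_formG (RingEquiv.refl F) (Matrix.J (Fin m) F)).fixes_iff g).1 (fun u v => hH hg u v)
    rwa [gram_formG] at h1
  · simp; omega

set_option maxHeartbeats 1000000 in
/-- Members of the standard group. -/
theorem symp_class_of_member {H : Subgroup (GL (Fin m ⊕ Fin m) F)} (hH : H ≤ Cfsg.spGL m F)
    (hmem : SympMember (Matrix.J (Fin m) F) H) :
    ∃ M : Subgroup (GL (Fin m ⊕ Fin m) F), InSymplecticClass m F M ∧ H ≤ M := by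
  have hcard : Fintype.card (Fin m ⊕ Fin m) = 2 * m := by simp; omega
  have hsim : ∀ R : Subgroup (GL (Fin m ⊕ Fin m) F), R ≤ H → R ≤ similarityGroup (Cfsg.sympForm m F) := by
    intro R hR
    rw [sympForm_eq_formG]
    exact hR.trans (le_similarity_of_iso (G := Matrix.J (Fin m) F) (symp_setting' hH))
  rcases hmem with ⟨W, hb, hts, hle⟩ | ⟨W, hb, hnd, hlt, hle⟩ | ⟨t, k, D, hD, hle⟩ |
    ⟨k, D, hodd, hk, hD, hts, hle⟩ | ⟨F₀, r, P, ζ, hr, hc, hζ, hrat, hle⟩ |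
    ⟨R, p, k, hst, hab, hRH, hRn, hp, hpo, hq, hcard', hcen, hmin, -⟩ | ⟨Q, h2, hQ, hpol, hinv⟩ |
    ⟨r, K, hr, hK, hsa, halt, hle⟩ | ⟨K, hodd, hK, hadj, hnsa, hle⟩ |
    ⟨n₁, n₂, e, P, f₁, f₂, hodd, h3, hf₁, hf₂, hst, hle⟩ | ⟨k, t, e, P, f₁, hodd, hto, ht3, hex, hf₁, hst, hle⟩
  · exact ⟨_, Or.inl (Or.inl ⟨W, hb, hts, rfl⟩), le_inf hle hH⟩
  · exact ⟨_, Or.inl (Or.inr (Or.inl ⟨W, hb, hnd, by omega, rfl⟩)), le_inf hle hH⟩
  · exact ⟨_, Or.inl (Or.inr (Or.inr (Or.inl ⟨t, k, D, hD, rfl⟩))), le_inf hle hH⟩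
  · obtain rfl : k = m := by omega
    exact ⟨_, Or.inl (Or.inr (Or.inr (Or.inr (Or.inl ⟨D, hodd, hD, hts, rfl⟩)))), le_inf hle hH⟩
  · exact ⟨_, Or.inl (Or.inr (Or.inr (Or.inr (Or.inr (Or.inl ⟨F₀, r, P, ζ, hr, hc, hζ, hrat, rfl⟩))))), le_inf hle hH⟩
  · exact ⟨_, Or.inl (Or.inr (Or.inr (Or.inr (Or.inr (Or.inr (Or.inl ⟨R, p, k, hst, hab,
      hsim R hRH, hp, hpo, hq, hcard', hcen, hmin, rfl⟩)))))),
      le_inf (le_normalizer hRn) hH⟩
  · refine ⟨_, Or.inl (Or.inr (Or.inr (Or.inr (Or.inr (Or.inr (Or.inr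
      ⟨Q, fun ho => PrimeDim.two_ne_zero_of_odd ho h2, hQ, hpol, rfl⟩)))))), le_inf (fun g hg => ⟨1, fun v => ?_⟩) hH⟩
    rw [Units.val_one, one_mul]
    exact hinv g hg v
  · exact ⟨_, Or.inr (Or.inl ⟨r, K, hr, hK, hsa, halt, rfl⟩), le_inf hle hH⟩
  · exact ⟨_, Or.inr (Or.inr (Or.inl ⟨K, hodd, hK, hadj, hnsa, rfl⟩)), le_inf hle hH⟩
  · exact ⟨_, Or.inr (Or.inr (Or.inr (Or.inl ⟨n₁, n₂, e, P, f₁, f₂, hodd, h3, hf₁, hf₂, hst, rfl⟩))), le_inf hle hH⟩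
  · exact ⟨_, Or.inr (Or.inr (Or.inr (Or.inr ⟨k, t, e, P, f₁, hodd, hto, ht3, hex, hf₁, hst, rfl⟩))), le_inf hle hH⟩
where
  symp_setting' {H : Subgroup (GL (Fin m ⊕ Fin m) F)} (hH : H ≤ Cfsg.spGL m F) :
      Fixes (RingEquiv.refl F) H (Matrix.J (Fin m) F) := fun g hg => by
    have h1 := ((isSesq_formG (RingEquiv.refl F) (Matrix.J (Fin m) F)).fixes_iff g).1 (fun u v => hH hg u v)
    rwa [gram_formG] at h1

end Cfsg.Agent.Asch
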