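import Cfsg.Agent.Asch.SympShapes
import Cfsg.Agent.Asch.OrthOdd
import Cfsg.Agent.Asch.SympTypeTwo

/-!
Every group of isometries of an alternating form lies in a geometric member or is almost simple modulo scalars.
-/

set_option autoImplicit false
set_option linter.unusedSectionVars false

namespace Cfsg.Agent.Asch

open Matrix Cfsg.Geo Cfsg.Agent.PrimeDim
open scoped MatrixGroups Kronecker commutatorElement

variable {F : Type*} [Field F] [Fintype F] {ι : Type} [Fintype ι] [DecidableEq ι]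

/-- An alternating form and a group of its isometries. -/
structure SympSetting (G : Matrix ι ι F) (H : Subgroup (GL ι F)) : Prop where
  rg : IsRG (RingEquiv.refl F) (-1) G
  alt : ∀ v, formG (RingEquiv.refl F) G v v = 0
  fix : Fixes (RingEquiv.refl F) H G
  four : 4 ≤ Fintype.card ι

/-- The geometric members containing the group. -/
def SympMember (G : Matrix ι ι F) (H : Subgroup (GL ι F)) : Prop :=
  (∃ W : Submodule F (ι → F), W ≠ ⊥ ∧ IsTotallySingularFor (formG (RingEquiv.refl F) G) W ∧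
    H ≤ subspaceStabilizer W) ∨
  (∃ W : Submodule F (ι → F), W ≠ ⊥ ∧ IsNondegenerateOn (formG (RingEquiv.refl F) G) W ∧
    2 * Module.finrank F W < Fintype.card ι ∧ H ≤ subspaceStabilizer W) ∨
  (∃ (t k : ℕ) (D : Fin t → Submodule F (ι → F)),
    IsNondegenerateMDecomposition (formG (RingEquiv.refl F) G) k D ∧ H ≤ decompositionStabilizer D) ∨
  (∃ (m : ℕ) (D : Fin 2 → Submodule F (ι → F)), Odd (Fintype.card F) ∧ 2 * m = Fintype.card ι ∧
    IsMDecomposition m D ∧ (∀ i, IsTotallySingularFor (formG (RingEquiv.refl F) G) (D i)) ∧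
    H ≤ decompositionStabilizer D) ∨
  (∃ (F₀ : Subfield F) (r : ℕ) (P : GL ι F) (ζ : F), r.Prime ∧ Fintype.card F = Nat.card F₀ ^ r ∧ ζ ≠ 0 ∧
    IsFormRationalStructure (formG (RingEquiv.refl F) G) F₀ ζ P ∧ H ≤ subfieldSubgroup F₀ P) ∨
  (∃ (R : Subgroup (GL ι F)) (p k : ℕ), IsSymplecticTypeGroup 2 R ∧ ActsAbsolutelyIrreducibly (matrixSet R) ∧
    R ≤ H ∧ Normalised H R ∧ p.Prime ∧ Odd p ∧ Fintype.card F = p ∧ Nat.card R = 2 ^ (1 + 2 * k) ∧
    Nat.card (Subgroup.center R) = 2 ∧ IsOfMinusType k R ∧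
    ∀ x ∈ R, ∀ y ∈ R, x * y = y * x ∨ x * y = scHom (-1) * (y * x)) ∨
  QuadMember G H ∨
  (∃ (r : ℕ) (K : Subalgebra F (Matrix ι ι F)), r.Prime ∧ IsFieldSubalgebra r K ∧
    IsSelfAdjointFor (formG (RingEquiv.refl F) G) K ∧
    (∀ k ∈ K, ∀ v, formG (RingEquiv.refl F) G (k *ᵥ v) v = 0) ∧ H ≤ subalgebraNormalizer K) ∨
  (∃ K : Subalgebra F (Matrix ι ι F), Odd (Fintype.card F) ∧ IsFieldSubalgebra 2 K ∧
    IsAdjointClosedFor (formG (RingEquiv.refl F) G) K ∧ ¬ IsSelfAdjointFor (formG (RingEquiv.refl F) G) K ∧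
    H ≤ subalgebraNormalizer K) ∨
  (∃ (n₁ n₂ : ℕ) (e : ι ≃ Fin n₁ × Fin n₂) (P : GL ι F) (f₁ : (Fin n₁ → F) → (Fin n₁ → F) → F)
    (f₂ : (Fin n₂ → F) → (Fin n₂ → F) → F), Odd (Fintype.card F) ∧ 3 ≤ n₂ ∧ IsSymplecticForm f₁ ∧
      IsSymmetricForm f₂ ∧ IsTensorFormStructure id (formG (RingEquiv.refl F) G) f₁ f₂ e P ∧
      H ≤ tensorProductSubgroup n₁ n₂ e P) ∨
  (∃ (k t : ℕ) (e : ι ≃ (Fin t → Fin k)) (P : GL ι F) (f₁ : (Fin k → F) → (Fin k → F) → F),
    Odd (Fintype.card F) ∧ Odd t ∧ 3 ≤ t ∧ ¬ (Fintype.card F = 3 ∧ k = 2) ∧ IsSymplecticForm f₁ ∧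
      IsTensorPowerFormStructure id (formG (RingEquiv.refl F) G) f₁ e P ∧ H ≤ tensorWreathSubgroup k t e P)

variable {G : Matrix ι ι F} {H : Subgroup (GL ι F)}

theorem SympSetting.nonempty (h : SympSetting G H) : Nonempty ι :=
  Fintype.card_pos_iff.1 (by have := h.four; omega)

theorem SympSetting.reducible_member (h : SympSetting G H) {W : Submodule F (ι → F)} (hb : W ≠ ⊥)
    (htopne : W ≠ ⊤) (hW : Inv H W) : SympMember G H := by
  classical
  have hs := isSesq_formG (RingEquiv.refl F) G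
  by_cases hI : W ⊓ perpG (RingEquiv.refl F) G W = ⊥
  swap
  · exact Or.inl ⟨_, hI, fun u hu v hv => hu.2 v hv.1,
      le_stab fun g hg v hv => ⟨hW g hg v hv.1, inv_perp h.fix hW g hg v hv.2⟩⟩
  set W' := perpG (RingEquiv.refl F) G W with hW'
  have hW'inv : Inv H W' := inv_perp h.fix hW
  have hdim : Module.finrank F W + Module.finrank F W' = Fintype.card ι := by
    have h1 := Submodule.finrank_sup_add_finrank_inf_eq W W'
    rw [hI, finrank_bot, add_zero] at h1
    have h2 := Submodule.finrank_le (W ⊔ W')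
    rw [Module.finrank_fintype_fun_eq_card] at h2
    have := finrank_perp (RingEquiv.refl F) G W
    rw [← hW'] at this
    omega
  have htop : W ⊔ W' = ⊤ := by
    refine Submodule.eq_top_of_finrank_eq ?_
    have h1 := Submodule.finrank_sup_add_finrank_inf_eq W W'
    rw [hI, finrank_bot, add_zero, hdim] at h1
    rw [h1, Module.finrank_fintype_fun_eq_card]
  let E : Fin 2 → Submodule F (ι → F) := ![W, W']
  have hE : iSup E = ⊤ := eq_top_iff.2 (htop ▸ sup_le (le_iSup E 0) (le_iSup E 1))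
  have hort : ∀ c c', c ≠ c' → AreOrthogonalFor (formG (RingEquiv.refl F) G) (E c) (E c') := by
    intro c c' hcc u hu v hv
    fin_cases c <;> fin_cases c' <;> first | exact absurd rfl hcc | exact hu v hv | exact h.rg.zero_swap (hv u hu)
  have hnd := nondeg_of_orth h.rg hE hort
  rcases lt_trichotomy (2 * Module.finrank F W) (Fintype.card ι) with hlt | heq | hgt
  · exact Or.inr (Or.inl ⟨W, hb, hnd 0, hlt, le_stab hW⟩)
  · refine Or.inr (Or.inr (Or.inl ⟨2, Module.finrank F W, E, ⟨pair_decomp ?_ rfl ?_ hI htop, hnd, hort⟩,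
      le_pair_stabilizer (by omega) fun g hg => Or.inl ⟨hW g hg, hW'inv g hg⟩⟩))
    · have := h.four; omega
    · show Module.finrank F W' = _
      omega
  · exact Or.inr (Or.inl ⟨W', fun e => htopne (by rw [← htop, e, sup_bot_eq]), hnd 1, by omega, le_stab hW'inv⟩)

theorem SympSetting.subfield_member (h : SympSetting G H) {N : Subgroup (GL ι F)} (hNH : N ≤ H)
    (hn : Normalised H N) (hN : ActsAbsolutelyIrreducibly (matrixSet N)) {F₀ : Subfield F} (hF₀ : F₀ ≠ ⊤)
    (hr : RealisableOver F₀ (matrixSet N)) : SympMember G H := by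
  haveI := h.nonempty
  obtain ⟨B, hB⟩ := realisable_mat.1 hr
  obtain ⟨F₁, l, hl, hc, hB₁, hle⟩ := le_subfield hN hn hF₀ hB
  have hE : ∀ g ∈ N.comap (fr (Equiv.refl ι) B⁻¹).toMonoidHom, Entries F₁ (mat g) := by
    intro g hg
    have h1 := hB₁ _ hg
    rwa [show B * (fr (Equiv.refl ι) B⁻¹).toMonoidHom g * B⁻¹ = g by
      show B * (B⁻¹ * g * B⁻¹⁻¹) * B⁻¹ = g
      group] at h1
  obtain ⟨lam, G₁, hlam, hG₁, heq⟩ := rational_gram (abs_comap _ _ hN) hE (h.rg.frame (Equiv.refl ι) B⁻¹).det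
    (fixes_comap (Equiv.refl ι) B⁻¹ fun g hg => h.fix g (hNH hg))
  refine Or.inr (Or.inr (Or.inr (Or.inr (Or.inl ⟨F₁, l, B⁻¹, lam⁻¹, hl, hc, inv_ne_zero hlam, fun u v hu hv => ?_,
    hle⟩))))
  rw [show formG (RingEquiv.refl F) G (mat B⁻¹ *ᵥ u) (mat B⁻¹ *ᵥ v) =
      formG (RingEquiv.refl F) (frG (RingEquiv.refl F) (Equiv.refl ι) B⁻¹ G) u v from
    (formG_frL (Equiv.refl ι) B⁻¹ u v).symm, heq, formG_smul, ← mul_assoc, inv_mul_cancel₀ hlam, one_mul]
  simp only [formG, dotProduct, Matrix.mulVec, RingEquiv.refl_apply]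
  exact Subfield.sum_mem _ fun a _ => mul_mem (hu a) (Subfield.sum_mem _ fun b _ => mul_mem (hG₁ a b) (hv b))

theorem SympSetting.paired_member (h : SympSetting G H) (hH : Irr H) (hp : Paired (RingEquiv.refl F) G H) :
    SympMember G H := by
  classical
  haveI := h.nonempty
  have hs := isSesq_formG (RingEquiv.refl F) G
  rcases paired_cases hH h.rg (fun g hg u v huv => by rw [iso_apply h.fix hg, huv]) hp with
    ⟨t, m, D, hD, hle, -⟩ | ⟨m, D, hm, hD, hts, hle⟩
  · exact Or.inr (Or.inr (Or.inl ⟨t, m, D, hD, hle⟩))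
  by_cases h2 : (2 : F) = 0
  swap
  · exact Or.inr (Or.inr (Or.inr (Or.inl ⟨m, D, odd_of_two_ne_zero h2, hm, hD, hts, hle⟩)))
  have hsplit : IsCompl (D 0) (D 1) := by
    refine ⟨hD.indep.pairwiseDisjoint (by decide), codisjoint_iff.2 (eq_top_iff.2 ?_)⟩
    rw [← hD.iSup_eq_top]
    exact iSup_le fun l => by fin_cases l <;> simp
  let π : (ι → F) →ₗ[F] (ι → F) := (D 0).projection (D 1) hsplit
  have hπ : ∀ a ∈ D 0, ∀ b ∈ D 1, π (a + b) = a := fun a ha b hb => by
    rw [map_add, show π a = a from Submodule.IsCompl.projection_apply_left hsplit ⟨a, ha⟩,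
      show π b = 0 from Submodule.IsCompl.projection_apply_right hsplit ⟨b, hb⟩, add_zero]
  have hdec : ∀ u : ι → F, ∃ a ∈ D 0, ∃ b ∈ D 1, a + b = u := fun u =>
    Submodule.mem_sup.1 (hsplit.sup_eq_top ▸ Submodule.mem_top)
  have hT : ∀ u, LinearMap.toMatrix' π *ᵥ u = π u := fun u => by rw [← Matrix.toLin'_apply, Matrix.toLin'_toMatrix']
  refine Or.inr (Or.inr (Or.inr (Or.inr (Or.inr (Or.inr (Or.inl
    (quad_of_idem h2 h.rg h.alt h.fix (LinearMap.toMatrix' π) (fun u v => ?_) fun g hg => ?_)))))))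
  · obtain ⟨a, ha, b, hb, rfl⟩ := hdec u
    obtain ⟨c, hc, d, hd, rfl⟩ := hdec v
    rw [hT, hT, hπ a ha b hb, hπ c hc d hd]
    simp only [hs.add_left, hs.add_right]
    rw [hts 0 a ha c hc, hts 0 c hc a ha, hts 1 b hb d hd, h.rg.swap b c, RingEquiv.refl_apply, zero_add, add_zero,
      zero_add]
    linear_combination (-formG (RingEquiv.refl F) G b c) * h2
  · obtain ⟨τ, hτ⟩ := hle hg
    have hmap : ∀ i, ∀ a ∈ D i, mat g *ᵥ a ∈ D (τ i) := fun i a ha => by
      rw [← hτ i]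
      exact ⟨a, ha, Matrix.toLin'_apply _ _⟩
    rcases ((by decide : ∀ τ : Equiv.Perm (Fin 2), τ 0 = 0 ∧ τ 1 = 1 ∨ τ 0 = 1 ∧ τ 1 = 0) τ) with ⟨e0, e1⟩ | ⟨e0, e1⟩
    · left
      refine Matrix.mulVec_injective (funext fun u => ?_)
      obtain ⟨a, ha, b, hb, rfl⟩ := hdec u
      rw [← Matrix.mulVec_mulVec, ← Matrix.mulVec_mulVec, hT, hT, hπ a ha b hb, Matrix.mulVec_add,
        hπ _ (e0 ▸ hmap 0 a ha) _ (e1 ▸ hmap 1 b hb)]
    · right
      refine Matrix.mulVec_injective (funext fun u => ?_)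
      obtain ⟨a, ha, b, hb, rfl⟩ := hdec u
      rw [← Matrix.mulVec_mulVec, ← Matrix.mulVec_mulVec, hT, Matrix.sub_mulVec, Matrix.one_mulVec, hT, hπ a ha b hb,
        add_sub_cancel_left, Matrix.mulVec_add, add_comm (mat g *ᵥ a),
        hπ _ (e1 ▸ hmap 1 b hb) _ (e0 ▸ hmap 0 a ha)]

theorem SympSetting.field_member (h : SympSetting G H) {N : Subgroup (GL ι F)}
    (hf : AdjField (RingEquiv.refl F) G H N) : SympMember G H := by
  classical
  haveI := h.nonempty
  have hs := isSesq_formG (RingEquiv.refl F) G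
  obtain ⟨r, K, hr, hK, hle, hadj, -⟩ := hf
  by_cases hsa : IsSelfAdjointFor (formG (RingEquiv.refl F) G) K
  · refine Or.inr (Or.inr (Or.inr (Or.inr (Or.inr (Or.inr (Or.inr (Or.inl ⟨r, K, hr, hK, hsa, fun k hk v => ?_, hle⟩)))))))
    by_cases h2 : (2 : F) = 0
    swap
    · have h1 := h.rg.swap (k *ᵥ v) v
      rw [← hsa k hk v v, RingEquiv.refl_apply] at h1
      exact (mul_eq_zero.1 (show (2 : F) * formG (RingEquiv.refl F) G (k *ᵥ v) v = 0 by linear_combination h1)).resolve_left h2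
    · have hinj : Function.Injective fun x : K => x * x := by
        intro x y e
        by_contra hne
        have hd : x.1 - y.1 ≠ 0 := fun e' => hne (Subtype.ext (sub_eq_zero.1 e'))
        obtain ⟨z, hz, hxy⟩ := hK.inv _ (sub_mem x.2 y.2) hd
        have e' : x.1 * x.1 = y.1 * y.1 := congrArg Subtype.val e
        have h0 : (x.1 - y.1) * (x.1 - y.1) = 0 := by
          rw [sub_mul, mul_sub, mul_sub, hK.comm y.1 y.2 x.1 x.2, e',
            show y.1 * y.1 - x.1 * y.1 - (x.1 * y.1 - y.1 * y.1) = (2 : F) • (y.1 * y.1 - x.1 * y.1) by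
              rw [two_smul]; abel, h2, zero_smul]
        refine hd ?_
        calc x.1 - y.1 = (x.1 - y.1) * ((x.1 - y.1) * z) := by rw [hxy, mul_one]
          _ = 0 := by rw [← mul_assoc, h0, zero_mul]
      haveI : Finite K := Subtype.finite
      obtain ⟨l, hl⟩ := Finite.surjective_of_injective hinj ⟨k, hk⟩
      rw [← show l.1 * l.1 = k from congrArg Subtype.val hl, ← Matrix.mulVec_mulVec, hsa l.1 l.2]
      exact h.alt _
  rcases adj_field_cases h.rg hr hK hadj with h1 | ⟨rfl, hscal⟩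
  · exact absurd h1 hsa
  by_cases h2 : (2 : F) = 0
  swap
  · exact Or.inr (Or.inr (Or.inr (Or.inr (Or.inr (Or.inr (Or.inr (Or.inr (Or.inl
      ⟨K, odd_of_two_ne_zero h2, hK, hadj, hsa, hle⟩))))))))
  rw [IsSelfAdjointFor] at hsa
  push Not at hsa
  obtain ⟨θ, hθ, hθne⟩ := hsa
  obtain ⟨θ', hθ', hθθ'⟩ := hadj θ hθ
  have hθ'θ := adj_symm h.rg hθθ'
  have hd0 : θ + θ' ≠ 0 := by
    intro e
    obtain ⟨u, v, huv⟩ := hθne
    refine huv ?_
    rw [hθθ' u v, show θ' = θ from ?_]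
    rw [eq_comm, ← sub_eq_zero, sub_eq_add_neg, ← neg_one_smul F θ', show (-1 : F) = 1 by linear_combination -h2,
      one_smul]
    exact e
  obtain ⟨a, ha⟩ := hscal (θ + θ') (add_mem hθ hθ') fun u v => by
    rw [Matrix.add_mulVec, Matrix.add_mulVec, hs.add_left, hs.add_right, hθθ', hθ'θ]; ring
  have ha0 : a ≠ 0 := fun e => hd0 (by rw [ha, e, zero_smul])
  set T := a⁻¹ • θ with hTdef
  set T' := a⁻¹ • θ' with hT'def
  have hTK : T ∈ K := Subalgebra.smul_mem K hθ _
  have hT'K : T' ∈ K := Subalgebra.smul_mem K hθ' _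
  have hsum : T + T' = 1 := by rw [hTdef, hT'def, ← smul_add, ha, smul_smul, inv_mul_cancel₀ ha0, one_smul]
  have hTT' : ∀ u v, formG (RingEquiv.refl F) G (T *ᵥ u) v = formG (RingEquiv.refl F) G u (T' *ᵥ v) := fun u v => by
    rw [Matrix.smul_mulVec, Matrix.smul_mulVec, hs.smul_left, hs.smul_right, RingEquiv.refl_apply, hθθ']
  obtain ⟨n, hn⟩ := hscal (T * T') (mul_mem hTK hT'K) fun u v => by
    rw [← Matrix.mulVec_mulVec, hTT', adj_symm h.rg hTT', Matrix.mulVec_mulVec]
  refine Or.inr (Or.inr (Or.inr (Or.inr (Or.inr (Or.inr (Or.inl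
    (quad_of_idem h2 h.rg h.alt h.fix T (fun u v => ?_) fun g hg => ?_)))))))
  · rw [h.rg.swap u (T *ᵥ v), RingEquiv.refl_apply, ← adj_symm h.rg hTT' u v, hT'def]
    rw [show formG (RingEquiv.refl F) G u v = formG (RingEquiv.refl F) G ((T + T') *ᵥ u) v by
      rw [hsum, Matrix.one_mulVec], Matrix.add_mulVec, hs.add_left, hT'def]
    linear_combination -(formG (RingEquiv.refl F) G ((a⁻¹ • θ') *ᵥ u) v) * h2
  · set Y := mat g⁻¹ * T * mat g with hY
    have hYK : Y ∈ K := by
      have h1 := (hle (inv_mem hg) T).1 hTK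
      rwa [inv_inv] at h1
    have hT' : T' = 1 - T := eq_sub_of_add_eq' hsum
    have hpoly : T * T = T - n • 1 := by rw [← hn, hT', mul_sub, mul_one]; abel
    have hYpoly : Y * Y = Y - n • 1 := by
      calc Y * Y = mat g⁻¹ * (T * T) * mat g := by
            simp only [hY, mul_assoc]
            rw [← mul_assoc (mat g) (mat g⁻¹), mat_mul_inv, one_mul]
        _ = Y - n • 1 := by
            rw [hpoly, mul_sub, sub_mul, show mat g⁻¹ * (n • 1 : Matrix ι ι F) * mat g = n • 1 by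
              rw [Matrix.mul_smul, Matrix.smul_mul, mul_one, mat_inv_mul]]
    have hprod : (Y - T) * (Y - (1 - T)) = 0 := by
      have hc := hK.comm T hTK Y hYK
      simp only [sub_mul, mul_sub, mul_one, hYpoly, hpoly, hc]
      abel
    have key : ∀ Z, Y = Z → T * mat g = mat g * Z := fun Z e => by
      rw [← e, hY, ← mul_assoc, ← mul_assoc, mat_mul_inv, one_mul]
    by_cases e : Y - T = 0
    · exact Or.inl (key _ (sub_eq_zero.1 e))
    · obtain ⟨y, hy, hyy⟩ := hK.inv _ (sub_mem hYK hTK) e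
      rw [hK.comm _ (sub_mem hYK hTK) y hy] at hyy
      have h1 := congrArg (y * ·) hprod
      simp only [← mul_assoc, hyy, one_mul, mul_zero] at h1
      exact Or.inr (key _ (sub_eq_zero.1 h1))

theorem SympSetting.tensor_core (h : SympSetting G H) (hirr : Irr H) {d k : ℕ} (hd : 2 ≤ d) (hk : 2 ≤ k)
    (e : ι ≃ Fin d × Fin k) (P : GL ι F) (hle : H ≤ tensorProductSubgroup d k e P)
    {G₀ : Matrix (Fin d) (Fin d) F} {B : Matrix (Fin k) (Fin k) F}
    (hfr : frG (RingEquiv.refl F) e P G = G₀ ⊗ₖ B) (hG₀ : G₀.det ≠ 0) (hB : B.det ≠ 0) (hG₀s : G₀ᵀ = -G₀)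
    (hBs : Bᵀ = B) : SympMember G H := by
  classical
  haveI := h.nonempty
  haveI : Nonempty (Fin d) := ⟨⟨0, by omega⟩⟩
  haveI : Nonempty (Fin k) := ⟨⟨0, by omega⟩⟩
  by_cases h2 : (2 : F) = 0
  · have hG₀s' : G₀ᵀ = G₀ := by
      rw [hG₀s, ← neg_one_smul F G₀, show (-1 : F) = 1 by linear_combination -h2, one_smul]
    have hfr' : frG (RingEquiv.refl F) (e.trans (Equiv.prodComm _ _)) P G = B ⊗ₖ G₀ := by
      rw [show frG (RingEquiv.refl F) (e.trans (Equiv.prodComm _ _)) P G =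
        (frG (RingEquiv.refl F) e P G).submatrix (Equiv.prodComm _ _).symm (Equiv.prodComm _ _).symm from rfl, hfr]
      ext ⟨i, j⟩ ⟨i', j'⟩
      simp [Matrix.kronecker_apply, mul_comm]
    have haB := kron_alt h2 hirr h.fix (by omega) hk e P hle hG₀ hB hfr hBs
    have haG := kron_alt h2 hirr h.fix (by omega) hd _ P (hle.trans (tensor_swap e P)) hB hG₀ hfr' hG₀s'
    exact Or.inr (Or.inr (Or.inr (Or.inr (Or.inr (Or.inr (Or.inl
      (quad_of_kron h2 h.rg h.fix e P hle hfr hG₀s' hBs haG haB)))))))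
  rcases (show k = 2 ∨ 3 ≤ k by omega) with rfl | hk3
  swap
  · exact Or.inr (Or.inr (Or.inr (Or.inr (Or.inr (Or.inr (Or.inr (Or.inr (Or.inr (Or.inl
      ⟨d, k, e, P, _, _, odd_of_two_ne_zero h2, hk3, symplecticForm_formG hG₀ hG₀s (alt_of_skew h2 hG₀s),
        symmetricForm_formG hB hBs, tensorFormStructure_of_eq hfr, hle⟩)))))))))
  obtain ⟨X, hXX, hskew, hnorm⟩ := skew_of_kron_two h.fix e P hle hfr hG₀ hB hBs
  rcases pair_or_field h2 h.rg (neg_ne_zero.2 hB) hXX hskew hnorm with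
    ⟨m, D, hm, hD, hts, hle'⟩ | ⟨K, hK, hadj, hnsa, hle'⟩
  · exact Or.inr (Or.inr (Or.inr (Or.inl ⟨m, D, odd_of_two_ne_zero h2, hm, hD, hts, hle'⟩)))
  · exact Or.inr (Or.inr (Or.inr (Or.inr (Or.inr (Or.inr (Or.inr (Or.inr (Or.inl
      ⟨K, odd_of_two_ne_zero h2, hK, hadj, hnsa, hle'⟩))))))))

theorem SympSetting.tensor_member (h : SympSetting G H) (hirr : Irr H)
    (hf : TensorForm (RingEquiv.refl F) (-1) G H) : SympMember G H := by
  obtain ⟨d, k, e, P, G₀, B, s, t, hd, hk, hle, hfr, hG₀, hB, hs, ht, hst⟩ := hf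
  rw [map_refl_eq] at hs ht
  haveI : Nonempty (Fin d) := ⟨⟨0, by omega⟩⟩
  haveI : Nonempty (Fin k) := ⟨⟨0, by omega⟩⟩
  by_cases ht1 : t = 1
  · subst ht1
    rw [mul_one] at hst
    exact h.tensor_core hirr hd hk e P hle hfr hG₀ hB (by rw [hs, hst, neg_one_smul]) (by rw [ht, one_smul])
  · have ht' : t = -1 := (sign_of_transpose hB ht).resolve_left ht1
    have hs' : s = 1 := by rw [ht'] at hst; linear_combination -hst
    have hfr' : frG (RingEquiv.refl F) (e.trans (Equiv.prodComm _ _)) P G = B ⊗ₖ G₀ := by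
      rw [show frG (RingEquiv.refl F) (e.trans (Equiv.prodComm _ _)) P G =
        (frG (RingEquiv.refl F) e P G).submatrix (Equiv.prodComm _ _).symm (Equiv.prodComm _ _).symm from rfl, hfr]
      ext ⟨i, j⟩ ⟨i', j'⟩
      simp [Matrix.kronecker_apply, mul_comm]
    exact h.tensor_core hirr hk hd _ P (hle.trans (tensor_swap e P)) hfr' hB hG₀ (by rw [ht, ht', neg_one_smul])
      (by rw [hs, hs', one_smul])

theorem SympSetting.factors_member (h : SympSetting G H) {t : ℕ} {Qs : Fin t → Subgroup (GL ι F)}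
    (hQ : IsFactors H Qs) : SympMember G H := by
  classical
  haveI := h.nonempty
  obtain ⟨m, e, P, c, s, G₁, Q, X, hm, hle, hc, hG₁, hs, hfr, hQp, hQns, hXi, hXm, hXirr, hXfix⟩ :=
    slots_uniform hQ h.rg h.fix
  rw [map_refl_eq] at hs
  simp only [map_refl_eq] at hXfix
  haveI : Nonempty (Fin m) := ⟨⟨0, by omega⟩⟩
  have ht2 := hQ.two_le
  by_cases h2 : (2 : F) = 0
  · have hs' : G₁ᵀ = G₁ := by
      rcases sign_of_transpose hG₁ hs with e0 | e0
      · rw [hs, e0, one_smul]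
      · rw [hs, e0, show (-1 : F) = 1 by linear_combination -h2, one_smul]
    have hf := isSesq_formG (RingEquiv.refl F) G₁
    have hg : IsRG (RingEquiv.refl F) 1 G₁ := ⟨hG₁, fun _ => rfl, by rw [map_refl_eq, one_smul, hs']⟩
    have halt : ∀ v, formG (RingEquiv.refl F) G₁ v v = 0 := by
      refine sq_additive_zero h2 (by rw [Fintype.card_fin]; exact hm) hXirr _ (fun u w => ?_) (fun l w => ?_)
        fun x w hw => ?_
      · rw [hf.add_left, hf.add_right, hf.add_right, hg.swap u w, one_mul, RingEquiv.refl_apply]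
        linear_combination (formG (RingEquiv.refl F) G₁ u w) * h2
      · rw [hf.smul_left, hf.smul_right, RingEquiv.refl_apply]; ring
      · rw [formG_mulVec, act, map_refl_eq, hXfix]
        exact hw
    exact Or.inr (Or.inr (Or.inr (Or.inr (Or.inr (Or.inr (Or.inl
      (quad_of_power h2 h.rg h.fix ht2 e P hle hfr hs' halt)))))))
  have hsign : s ^ t = -1 := by
    have h1 := (h.rg.frame e P).symm
    rw [map_refl_eq, hfr, Matrix.transpose_smul, pureM_transpose, hs, smul_smul,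
      show pureM (fun _ : Fin t => s • G₁) = s ^ t • pureM fun _ : Fin t => G₁ from
        Matrix.ext fun x y => by simp [pureM, Finset.prod_mul_distrib], smul_smul] at h1
    refine mul_left_cancel₀ hc ((smul_mat_cancel (ne_zero_of_det ?_) h1).trans (by ring))
    intro e0
    refine (h.rg.frame e P).det ?_
    rw [hfr, Matrix.det_smul, e0, mul_zero]
  have hs1 : s = -1 := by
    refine (sign_of_transpose hG₁ hs).resolve_left fun e0 => h2 ?_
    rw [e0, one_pow] at hsign
    linear_combination hsign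
  have hto : Odd t := by
    refine (Nat.even_or_odd t).resolve_left fun he => h2 ?_
    rw [hs1, he.neg_one_pow] at hsign
    linear_combination hsign
  have hG₁s : G₁ᵀ = -G₁ := by rw [hs, hs1, neg_one_smul]
  refine Or.inr (Or.inr (Or.inr (Or.inr (Or.inr (Or.inr (Or.inr (Or.inr (Or.inr (Or.inr
    ⟨m, t, e, P, _, odd_of_two_ne_zero h2, hto, by obtain ⟨l, rfl⟩ := hto; omega, fun hex => ?_,
      symplecticForm_formG hG₁ hG₁s (alt_of_skew h2 hG₁s), powerFormStructure_of_eq hc hfr, hle⟩)))))))))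
  obtain ⟨hq, rfl⟩ := hex
  refine hQns ?_
  rw [no_perfect_two_three hq hQp X hXi hXm fun x => (Matrix.isUnit_iff_isUnit_det _).2 (isUnit_iff_ne_zero.2 ?_)]
  · exact bot_le
  · intro e0
    have h1 := congrArg Matrix.det (hXfix x)
    rw [Matrix.det_mul, Matrix.det_mul, e0, mul_zero] at h1
    exact hG₁ h1.symm

theorem SympSetting.core_member (h : SympSetting G H) {P : Subgroup (GL ι F)} (hP : IsCore H P) :
    SympMember G H ∨ InSymplecticResidualClass H := by
  classical
  haveI := h.nonempty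
  by_cases hmem : SympMember G H
  · exact Or.inl hmem
  right
  have hsub : ∀ F₀ : Subfield F, F₀ ≠ ⊤ → ¬ RealisableOver F₀ (matrixSet P) := fun F₀ h0 hr =>
    hmem (h.subfield_member hP.le hP.normalised hP.abs h0 hr)
  have hfixP : Fixes (RingEquiv.refl F) P G := fun g hg => h.fix g (hP.le hg)
  refine ⟨P, ⟨hP.le, hP.normalised, hP.perfect, hP.simple, hP.nonabelian,
    fun x _ hc => comm_of_abs hP.abs (comm_of_perfect hP.perfect hc), hP.abs, hsub⟩, ?_, ?_⟩
  · rintro ⟨Q, hQ, hfix⟩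
    have hf := isSesq_of_bilinear hQ.polar_bilinear
    have hfx : FixesForm (matrixSet P) (QuadraticMap.polar Q) := fun s hs u v => by
      simp only [QuadraticMap.polar, ← Matrix.mulVec_add, hfix s hs]
    obtain ⟨c, hc⟩ := unique_form hP.abs h.rg.det hfixP (fun g hg => (hf.fixes_iff g).1 (hfx _ ⟨g, hg, rfl⟩))
    have hpol : ∀ u v, QuadraticMap.polar Q u v = c * formG (RingEquiv.refl F) G u v := fun u v => by
      rw [hf.eq_formG u v, hc, formG_smul]
    have hd := hf.det_ne_zero hQ.nondegenerate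
    have hc0 : c ≠ 0 := fun e0 => hd (by rw [hc, e0, zero_smul, Matrix.det_zero])
    by_cases h2 : (2 : F) = 0
    · refine hmem (Or.inr (Or.inr (Or.inr (Or.inr (Or.inr (Or.inr (Or.inl
        (quad_member_of h2 h.rg h.fix (fun v => c⁻¹ * Q v) (fun a v => by rw [hQ.smul]; ring) (fun u v => ?_)
          fun g hg i => ?_))))))))
      · have h1 := hpol u v
        rw [QuadraticMap.polar] at h1 ⊢
        field_simp
        linear_combination h1
      · congr 1
        refine sub_eq_zero.1 (sq_additive_zero h2 (by have := h.four; omega) (a := fun x : P => mat x.1)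
          (fun W hW => (abs_iff.1 hP.abs).1 W fun x hx => hW ⟨x, hx⟩) (fun v => Q (mat g *ᵥ v) - Q v)
          (fun u v => ?_) (fun a v => by rw [Matrix.mulVec_smul, hQ.smul, hQ.smul]; ring) (fun x v hv => ?_) _)
        · have h1 := hpol (mat g *ᵥ u) (mat g *ᵥ v)
          rw [iso_apply h.fix hg, ← hpol u v, QuadraticMap.polar, QuadraticMap.polar, ← Matrix.mulVec_add] at h1
          linear_combination h1
        · have h1 : Q (mat g *ᵥ (mat x.1 *ᵥ v)) = Q (mat g *ᵥ v) := by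
            rw [mulVec_mul, show g * x.1 = (g * x.1 * g⁻¹) * g by group, ← mulVec_mul]
            exact hfix _ ⟨_, hP.normalised g hg _ x.2, rfl⟩ _
          rw [h1, hfix _ ⟨_, x.2, rfl⟩]
          exact hv
    · refine hd ?_
      have h0 : ∀ u v, QuadraticMap.polar Q u v = 0 := fun u v => by
        have h1 := hpol u v
        have h3 := hpol v u
        rw [QuadraticMap.polar_comm Q v u, h.rg.swap u v, RingEquiv.refl_apply] at h3
        exact (mul_eq_zero.1 (show (2 : F) * QuadraticMap.polar Q u v = 0 by linear_combination h1 + h3)).resolve_left h2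
      rw [show gramMatrix (QuadraticMap.polar Q) = 0 from Matrix.ext fun a b => h0 _ _, Matrix.det_zero]
  · rintro ⟨σ, f', hf', hfix'⟩
    have hs' := isSesq_of_unitary hf'
    obtain ⟨F₀, h0, h1⟩ := realisable_of_two (isBar_of_involution hf'.involutive hf'.ne_refl) hP.abs
      (hs'.det_ne_zero hf'.nondegenerate) h.rg.det (fun g hg => (hs'.fixes_iff g).1 (hfix' _ ⟨g, hg, rfl⟩)) hfixP
    exact hsub F₀ h0 h1

/-- The division for an alternating form. -/
theorem symp_structure (h : SympSetting G H) : SympMember G H ∨ InSymplecticResidualClass H := by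
  classical
  haveI := h.nonempty
  by_cases hmem : SympMember G H
  · exact Or.inl hmem
  have hirr : Irr H := by
    by_contra hirr
    obtain ⟨W, hb, ht, hW⟩ := exists_inv_of_not_irr hirr
    exact hmem (h.reducible_member hb ht hW)
  have hgood : Good H := fun N hNH hn hns => by
    rcases clifford_form hirr hn hns h.rg (fun g hg => h.fix g (hNH hg)) with h1 | h1 | h1 | h1
    exacts [absurd (h.paired_member hirr h1) hmem, absurd (h.field_member h1) hmem,
      absurd (h.tensor_member hirr h1) hmem, h1]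
  rcases core_or_factors hgood (irr_not_scalar hirr (by have := h.four; omega)) (fun N hNH hn hns hc => by
    obtain ⟨h2, R, k, hRH, hRn, hst, hRabs, hcard, hcen, hmin, hpm, hreal⟩ :=
      symp_type_two h.rg h.alt h.fix hgood hNH hn hns hc
    rw [Nat.card_eq_fintype_card (α := F)] at hreal
    by_cases hp : (Fintype.card F).Prime
    · exact hmem (Or.inr (Or.inr (Or.inr (Or.inr (Or.inr (Or.inl ⟨R, Fintype.card F, k, hst, hRabs, hRH, hRn, hp,
        odd_of_two_ne_zero h2, rfl, hcard, hcen, hmin, hpm⟩))))))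
    · obtain ⟨F₀, h0, hr⟩ := hreal hp
      exact hmem (h.subfield_member hRH hRn hRabs h0 hr)) with ⟨P, hP⟩ | ⟨t, Qs, hQ⟩
  · exact h.core_member hP
  · exact absurd (h.factors_member hQ) hmem

end Cfsg.Agent.Asch
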