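import Cfsg.Agent.PrimeDim.Core

/-!
Changes of frame: a bijection of index sets followed by a change of basis, and how the notions of the geometric
classes move along them.
-/

set_option autoImplicit false
set_option linter.unusedSectionVars false

namespace Cfsg.Agent.Asch

open Matrix Cfsg.Geo Cfsg.Agent.PrimeDim
open scoped MatrixGroups

variable {F : Type*} [Field F] {ι κ μ : Type} [Fintype ι] [DecidableEq ι] [Fintype κ] [DecidableEq κ]
  [Fintype μ] [DecidableEq μ]

/-- The isomorphism given by a frame. -/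
noncomputable def fr (e : ι ≃ κ) (P : GL ι F) : GL κ F ≃* GL ι F := (glReindex e.symm).trans (MulAut.conj P)

theorem mat_fr (e : ι ≃ κ) (P : GL ι F) (g : GL κ F) :
    mat (fr e P g) = mat P * (mat g).submatrix e e * mat P⁻¹ := rfl

/-- The frame on vectors. -/
noncomputable def frL (e : ι ≃ κ) (P : GL ι F) : (κ → F) ≃ₗ[F] (ι → F) where
  toFun x := mat P *ᵥ (x ∘ e)
  invFun v := (mat P⁻¹ *ᵥ v) ∘ e.symm
  map_add' x y := by
    rw [← Matrix.mulVec_add]
    rfl
  map_smul' c x := by
    rw [RingHom.id_apply, ← Matrix.mulVec_smul]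
    rfl
  left_inv x := by
    funext k
    simp only [Function.comp_apply, inv_mulVec_cancel, Equiv.apply_symm_apply]
  right_inv v := by
    show mat P *ᵥ (((mat P⁻¹ *ᵥ v) ∘ e.symm) ∘ e) = v
    rw [Function.comp_assoc, Equiv.symm_comp_self, Function.comp_id, mulVec_inv_cancel]

theorem fr_mulVec (e : ι ≃ κ) (P : GL ι F) (g : GL κ F) (x : κ → F) :
    mat (fr e P g) *ᵥ frL e P x = frL e P (mat g *ᵥ x) := by
  show mat (fr e P g) *ᵥ (mat P *ᵥ (x ∘ e)) = mat P *ᵥ ((mat g *ᵥ x) ∘ e)
  rw [mat_fr, Matrix.mulVec_mulVec, mul_assoc _ (mat P⁻¹), mat_inv_mul, mul_one, ← Matrix.mulVec_mulVec,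
    Matrix.submatrix_mulVec_equiv, Function.comp_assoc, Equiv.self_comp_symm, Function.comp_id]

/-- The frame on matrices. -/
noncomputable def frM (e : ι ≃ κ) (P : GL ι F) : Matrix κ κ F ≃ₐ[F] Matrix ι ι F :=
  (Matrix.reindexAlgEquiv F F e.symm).trans
    { toFun := fun X => mat P * X * mat P⁻¹
      invFun := fun X => mat P⁻¹ * X * mat P
      left_inv := fun X => by
        show mat P⁻¹ * (mat P * X * mat P⁻¹) * mat P = X
        simp only [← mul_assoc, mat_inv_mul, one_mul]
        rw [mul_assoc, mat_inv_mul, mul_one]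
      right_inv := fun X => by
        show mat P * (mat P⁻¹ * X * mat P) * mat P⁻¹ = X
        simp only [← mul_assoc, mat_mul_inv, one_mul]
        rw [mul_assoc, mat_mul_inv, mul_one]
      map_mul' := fun X Y => by
        show mat P * (X * Y) * mat P⁻¹ = mat P * X * mat P⁻¹ * (mat P * Y * mat P⁻¹)
        simp only [mul_assoc]
        rw [← mul_assoc (mat P⁻¹), mat_inv_mul, one_mul]
      map_add' := fun X Y => by
        show mat P * (X + Y) * mat P⁻¹ = _
        rw [mul_add, add_mul]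
      commutes' := fun c => by
        show mat P * algebraMap F _ c * mat P⁻¹ = algebraMap F _ c
        rw [← Algebra.commutes, mul_assoc, mat_mul_inv, mul_one] }

theorem frM_mat (e : ι ≃ κ) (P : GL ι F) (g : GL κ F) : frM e P (mat g) = mat (fr e P g) := rfl

theorem fr_mem_scalars {e : ι ≃ κ} {P : GL ι F} {g : GL κ F} :
    fr e P g ∈ scalars ι F ↔ g ∈ scalars κ F := by
  rw [mem_scalars_iff, mem_scalars_iff]
  refine exists_congr fun c => ?_
  show frM e P (mat g) = _ ↔ _
  rw [show (c : F) • (1 : Matrix ι ι F) = frM e P ((c : F) • (1 : Matrix κ κ F)) by rw [map_smul, map_one],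
    (frM e P).injective.eq_iff]

theorem comap_scalars (e : ι ≃ κ) (P : GL ι F) {N : Subgroup (GL ι F)} :
    N.comap (fr e P).toMonoidHom ≤ scalars κ F ↔ N ≤ scalars ι F := by
  constructor
  · intro h g hg
    obtain ⟨k, rfl⟩ := (fr e P).surjective g
    exact fr_mem_scalars.2 (h hg)
  · intro h k hk
    exact fr_mem_scalars.1 (h hk)

theorem irr_comap (e : ι ≃ κ) (P : GL ι F) {H : Subgroup (GL ι F)} (hH : Irr H) :
    Irr (H.comap (fr e P).toMonoidHom) := by
  intro W hW
  rcases hH (W.map (frL e P).toLinearMap) (fun g hg v hv => by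
    obtain ⟨k, rfl⟩ := (fr e P).surjective g
    obtain ⟨x, hx, rfl⟩ := hv
    exact ⟨_, hW k hg x hx, (fr_mulVec e P k x).symm⟩) with h | h
  · exact Or.inl (Submodule.map_eq_bot_iff.1 h)
  · refine Or.inr ((Submodule.eq_top_iff').2 fun x => ?_)
    obtain ⟨y, hy, hy'⟩ : frL e P x ∈ W.map (frL e P).toLinearMap := h ▸ Submodule.mem_top
    exact (frL e P).injective hy' ▸ hy

theorem normalised_comap (e : ι ≃ κ) (P : GL ι F) {H N : Subgroup (GL ι F)} (h : Normalised H N) :
    Normalised (H.comap (fr e P).toMonoidHom) (N.comap (fr e P).toMonoidHom) := by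
  intro g hg x hx
  rw [Subgroup.mem_comap, map_mul, map_mul, map_inv]
  exact h _ hg _ hx

theorem abs_comap (e : ι ≃ κ) (P : GL ι F) {N : Subgroup (GL ι F)} (hN : ActsAbsolutelyIrreducibly (matrixSet N)) :
    ActsAbsolutelyIrreducibly (matrixSet (N.comap (fr e P).toMonoidHom)) := by
  obtain ⟨h1, h2⟩ := abs_iff.1 hN
  refine abs_iff.2 ⟨irr_comap e P h1, fun A hA => ?_⟩
  obtain ⟨c, hc⟩ := h2 (frM e P A) fun g hg => by
    obtain ⟨k, rfl⟩ := (fr e P).surjective g
    rw [← frM_mat, ← map_mul, ← map_mul, hA k hg]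
  exact ⟨c, (frM e P).injective (by rw [hc, map_smul, map_one])⟩

theorem irr_of_comap (e : ι ≃ κ) (P : GL ι F) {H : Subgroup (GL ι F)} (hH : Irr (H.comap (fr e P).toMonoidHom)) :
    Irr H := by
  intro W hW
  rcases hH (W.comap (frL e P).toLinearMap) (fun k hk x hx => by
    rw [Submodule.mem_comap, LinearEquiv.coe_coe, ← fr_mulVec]
    exact hW _ hk _ hx) with h | h
  · refine Or.inl ?_
    rw [← Submodule.map_comap_eq_of_surjective (frL e P).surjective W, h, Submodule.map_bot]
  · refine Or.inr ?_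
    rw [← Submodule.map_comap_eq_of_surjective (frL e P).surjective W, h, Submodule.map_top,
      LinearMap.range_eq_top.2 (frL e P).surjective]

theorem abs_of_comap (e : ι ≃ κ) (P : GL ι F) {N : Subgroup (GL ι F)}
    (hN : ActsAbsolutelyIrreducibly (matrixSet (N.comap (fr e P).toMonoidHom))) :
    ActsAbsolutelyIrreducibly (matrixSet N) := by
  obtain ⟨h1, h2⟩ := abs_iff.1 hN
  refine abs_iff.2 ⟨irr_of_comap e P h1, fun A hA => ?_⟩
  obtain ⟨c, hc⟩ := h2 ((frM e P).symm A) fun k hk => (frM e P).injective (by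
    rw [map_mul, map_mul, AlgEquiv.apply_symm_apply, frM_mat]; exact hA _ hk)
  exact ⟨c, by rw [← (frM e P).apply_symm_apply A, hc, map_smul, map_one]⟩

theorem le_map_of_comap_le (e : ι ≃ κ) (P : GL ι F) {H : Subgroup (GL ι F)} {M : Subgroup (GL κ F)}
    (h : H.comap (fr e P).toMonoidHom ≤ M) : H ≤ M.map (fr e P).toMonoidHom := by
  intro g hg
  obtain ⟨k, rfl⟩ := (fr e P).surjective g
  exact ⟨k, h hg, rfl⟩

theorem fr_conj (e : ι ≃ κ) (P : GL ι F) (X k : GL κ F) :
    fr e P (X * k * X⁻¹) = fr e (fr e P X * P) k := by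
  show P * glReindex e.symm (X * k * X⁻¹) * P⁻¹ =
    P * glReindex e.symm X * P⁻¹ * P * glReindex e.symm k * (P * glReindex e.symm X * P⁻¹ * P)⁻¹
  rw [map_mul, map_mul, map_inv]
  group

theorem fr_reindex (e : ι ≃ κ) (P : GL ι F) (f : κ ≃ μ) (k : GL μ F) :
    fr e P (glReindex f.symm k) = fr (e.trans f) P k := by
  refine Units.ext ?_
  show mat P * (((mat k).submatrix f f).submatrix e e) * mat P⁻¹ = _
  rw [Matrix.submatrix_submatrix]
  rfl

theorem map_fr_eq_tensor {n₁ n₂ : ℕ} (e : ι ≃ Fin n₁ × Fin n₂) (P : GL ι F) :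
    (kroneckerSubgroup n₁ n₂ F).map (fr e P).toMonoidHom = tensorProductSubgroup n₁ n₂ e P := by
  rw [tensorProductSubgroup, Subgroup.map_map]
  rfl

theorem map_fr_eq_wreath {m t : ℕ} (e : ι ≃ (Fin t → Fin m)) (P : GL ι F) :
    (tensorWreathStandard m t F).map (fr e P).toMonoidHom = tensorWreathSubgroup m t e P := by
  rw [tensorWreathSubgroup, Subgroup.map_map]
  rfl

end Cfsg.Agent.Asch
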