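import Cfsg.Agent.Asch.EvenPieces
import Cfsg.Agent.NotMax.TensorFrame

/-!
Tensor decompositions of an orthogonal space of dimension twelve.
-/

set_option autoImplicit false
set_option linter.unusedSectionVars false

namespace Cfsg.Agent.Asch

open Matrix Cfsg.Geo Cfsg.Agent.PrimeDim QuadraticMap
open scoped MatrixGroups Kronecker
open Cfsg.Agent.Classical Cfsg.Agent.Classical.Quad

variable {F : Type*} [Field F] [Fintype F] {ι : Type} [Fintype ι] [DecidableEq ι]
  {Q : QuadraticForm F (ι → F)} {A : Subgroup (GL ι F)} {H : Subgroup (GL ι F)}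

/-- Not in the stabiliser of a tensor decomposition. -/
theorem sg_not_tensor (hQ : (polarBilin Q).Nondegenerate) (hn : 7 ≤ Fintype.card ι) (hA : HasSg Q A) {a b : ℕ}
    (ha : 2 ≤ a) (hb : 3 ≤ b) (e : ι ≃ Fin a × Fin b) (P : GL ι F) : ¬ A ≤ tensorProductSubgroup a b e P := by
  classical
  intro hle
  let i0 : Fin a := ⟨0, by omega⟩
  let i1 : Fin a := ⟨1, by omega⟩
  have h01 : i0 ≠ i1 := fun h => by have := congrArg Fin.val h; simp [i0, i1] at this
  let N : GL (Fin a) F :=
    ⟨1 + Matrix.single i0 i1 1, 1 - Matrix.single i0 i1 1, by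
      simp [mul_sub, add_mul, Matrix.single_mul_single_of_ne, h01.symm], by
      simp [mul_add, sub_mul, Matrix.single_mul_single_of_ne, h01.symm]⟩
  let U : GL (Fin a × Fin b) F :=
    ⟨(N : Matrix (Fin a) (Fin a) F) ⊗ₖ 1, ((N⁻¹ : GL (Fin a) F) : Matrix (Fin a) (Fin a) F) ⊗ₖ 1, by
      rw [← Matrix.mul_kronecker_mul, ← Units.val_mul, mul_inv_cancel, Units.val_one, one_mul, Matrix.one_kronecker_one], by
      rw [← Matrix.mul_kronecker_mul, ← Units.val_mul, inv_mul_cancel, Units.val_one, one_mul, Matrix.one_kronecker_one]⟩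
  have hsg : HasSg Q (A ⊓ tensorProductSubgroup a b e P ⊓ Subgroup.centralizer {fr e P U}) := by
    intro p w hp hpw
    obtain ⟨g, hg, hgm⟩ := hA p w hp hpw
    refine ⟨g, ⟨⟨hg, hle hg⟩, ?_⟩, hgm⟩
    obtain ⟨X, ⟨A', B', hX⟩, hgX⟩ := (map_fr_eq_tensor e P).ge (hle hg)
    change fr e P X = g at hgX
    have hsm : Small 2 X := small_fr (hgX.symm ▸ sg_small hgm)
    have hoff : ∀ i i', i ≠ i' → mat A' i i' = 0 := fun i i' hne => hsm.kron_diag hX (by omega) hne
    have hrow : ∀ (u : Fin b → F), (mat X *ᵥ fun q => u q.2) = fun q => mat A' q.1 q.1 * (mat B' *ᵥ u) q.2 := by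
      intro u
      funext q
      rw [show mat X = (A' : Matrix (Fin a) (Fin a) F) ⊗ₖ (B' : Matrix (Fin b) (Fin b) F) from hX, Matrix.mulVec,
        dotProduct, Fintype.sum_prod_type, Finset.sum_eq_single q.1]
      · simp only [Matrix.mulVec, dotProduct, Finset.mul_sum]
        exact Finset.sum_congr rfl fun j _ => mul_assoc _ _ _
      · exact fun l _ hl => Finset.sum_eq_zero fun j _ => by
          rw [Matrix.kronecker_apply, show (A' : Matrix (Fin a) (Fin a) F) q.1 l = 0 from hoff _ _ hl.symm, zero_mul,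
            zero_mul]
      · simp
    have hdia : ∀ i i', mat A' i i = mat A' i' i' := fun i i' => by
      by_contra hne
      let L : (Fin b → F) →ₗ[F] (Fin a × Fin b → F) := LinearMap.funLeft F F Prod.snd
      have hinj : Function.Injective L := fun u v h => funext fun j => congrFun h (i0, j)
      have h1 := hsm.le_of_disjoint (LinearMap.range L) ?_
      · rw [LinearMap.finrank_range_of_inj hinj, Module.finrank_fin_fun] at h1
        omega
      rintro _ ⟨u, rfl⟩ hfix
      change mat X *ᵥ (fun q => u q.2) = fun q => u q.2 at hfix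
      rw [hrow u] at hfix
      have hz : mat B' *ᵥ u = 0 := funext fun j => by
        have e1 := congrFun hfix (i, j)
        have e2 := congrFun hfix (i', j)
        exact (mul_eq_zero.1 (show (mat A' i i - mat A' i' i') * (mat B' *ᵥ u) j = 0 by linear_combination e1 - e2)).resolve_left
          (sub_ne_zero.2 hne)
      rw [mulVec_injective B' (hz.trans (Matrix.mulVec_zero _).symm), map_zero]
    have hscal : (A' : Matrix (Fin a) (Fin a) F) = mat A' i0 i0 • 1 := by
      ext i j
      by_cases hij : i = j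
      · subst hij
        simpa using hdia i i0
      · simpa [hij] using hoff i j hij
    refine Subgroup.mem_centralizer_singleton_iff.2 ?_
    rw [← hgX, ← map_mul, ← map_mul]
    refine congrArg _ (Units.ext ?_)
    show mat X * ((N : Matrix (Fin a) (Fin a) F) ⊗ₖ 1) = ((N : Matrix (Fin a) (Fin a) F) ⊗ₖ 1) * mat X
    rw [show mat X = (A' : Matrix (Fin a) (Fin a) F) ⊗ₖ (B' : Matrix (Fin b) (Fin b) F) from hX,
      ← Matrix.mul_kronecker_mul, ← Matrix.mul_kronecker_mul, hscal, Matrix.smul_mul, Matrix.mul_smul, one_mul, mul_one,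
      one_mul, mul_one]
  obtain ⟨c, hc⟩ := sg_comm hQ hn (A := A ⊓ tensorProductSubgroup a b e P ⊓
      Subgroup.centralizer {fr e P U}) hsg (X := mat (fr e P U)) fun g hg => by
    have h := Subgroup.mem_centralizer_singleton_iff.1 hg.2
    simpa [mat] using (congrArg mat h).symm
  have h1 := fr_mulVec e P U (Pi.single (i1, (⟨0, by omega⟩ : Fin b)) 1)
  rw [hc, smul_one_mulVec, ← map_smul] at h1
  have h2 := congrFun ((frL e P).injective h1) (i0, ⟨0, by omega⟩)
  simp [U, N, Matrix.mulVec_single_one, h01, mat] at h2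

set_option maxHeartbeats 1000000 in
/-- The type of a product of symmetric forms in dimensions three and four is the type of the second factor. -/
theorem three_four_type (hQ : (polarBilin Q).Nondegenerate) (h2 : (2 : F) ≠ 0) (e : ι ≃ Fin 3 × Fin 4) (P : GL ι F)
    {f₁ : (Fin 3 → F) → (Fin 3 → F) → F} {f₂ : (Fin 4 → F) → (Fin 4 → F) → F} (hf₁ : IsSymmetricForm f₁)
    (hf₂ : IsSymmetricForm f₂) (hst : IsTensorFormStructure id (polar ⇑Q) f₁ f₂ e P) :
    IsPlusTypeOn ⇑Q ⊤ ↔ IsPlusTypeOn (fun v => f₂ v v) ⊤ := by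
  classical
  obtain ⟨c, hc0, hc⟩ := hst
  let b : Module.Basis (Fin 3 × Fin 4) F (ι → F) := (Pi.basisFun F _).map (frL e P)
  have hb : ∀ i, b i = frL e P (Pi.single i 1) := fun i => by simp [b]
  have hmat : LinearMap.BilinForm.toMatrix b (polarBilin Q) = c • (gramMatrix f₁ ⊗ₖ gramMatrix f₂) := by
    ext i j
    rw [LinearMap.BilinForm.toMatrix_apply, polarBilin_apply_apply, hb, hb, Matrix.smul_apply, smul_eq_mul]
    refine (hc _ _).trans (congrArg _ ?_)
    rw [formOfGram, Finset.sum_eq_single i (fun a _ ha => by simp [Pi.single_eq_of_ne ha]) (by simp),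
      Finset.sum_eq_single j (fun a _ ha => by simp [Pi.single_eq_of_ne ha]) (by simp)]
    simp
  have hdet : ((-1 : F) ^ 6 * (LinearMap.BilinForm.toMatrix b (polarBilin Q)).det) =
      (c ^ 6 * (gramMatrix f₁).det ^ 2 * (gramMatrix f₂).det) *
        (c ^ 6 * (gramMatrix f₁).det ^ 2 * (gramMatrix f₂).det) * (gramMatrix f₂).det := by
    rw [hmat, Matrix.det_smul, Matrix.det_kronecker, Fintype.card_prod, Fintype.card_fin, Fintype.card_fin]
    ring
  have hdne := (LinearMap.BilinForm.nondegenerate_iff_det_ne_zero b).1 hQ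
  let B : LinearMap.BilinForm F (Fin 4 → F) := LinearMap.mk₂ F f₂ hf₂.bilinear.add_left
    (fun c x y => by rw [hf₂.bilinear.smul_left, smul_eq_mul]) hf₂.bilinear.add_right
    (fun c x y => by rw [hf₂.bilinear.smul_right, smul_eq_mul])
  have hBs : LinearMap.BilinForm.IsSymm B := ⟨fun x y => hf₂.symm x y⟩
  have hBn : B.Nondegenerate :=
    ⟨fun x hx => by_contra fun h => (hf₂.nondegenerate x h).2.elim fun y hy => hy (hx y),
      fun x hx => by_contra fun h => (hf₂.nondegenerate x h).1.elim fun y hy => hy (hx y)⟩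
  have hBm : LinearMap.BilinForm.toMatrix (Pi.basisFun F (Fin 4)) B = gramMatrix f₂ := by
    ext i j
    rw [LinearMap.BilinForm.toMatrix_apply]
    simp [B, gramMatrix]
  have hd1 : c ^ 6 * (gramMatrix f₁).det ^ 2 * (gramMatrix f₂).det ≠ 0 := fun e0 => by
    rw [e0, zero_mul, zero_mul] at hdet
    exact hdne ((mul_eq_zero.1 hdet).resolve_left (by simp))
  rw [ten_plus_iff_disc hQ h2 (m := 6) (by rw [Fintype.card_congr e]; simp) b, hdet,
    Tensor.isSquare_mul_sq_iff hd1,
    show IsSquare (gramMatrix f₂).det ↔ IsSquare ((-1 : F) ^ 2 * (LinearMap.BilinForm.toMatrix (Pi.basisFun F (Fin 4)) B).det) by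
      rw [hBm]; simp,
    ← Tensor.lagrangian_iff h2 hBs hBn (by rw [Module.finrank_fin_fun]) (Pi.basisFun F (Fin 4))]
  constructor
  · rintro ⟨X, hX, hX0⟩
    exact ⟨X, le_top, fun v hv => hX0 v hv v hv, by rw [finrank_top, Module.finrank_fin_fun, hX]⟩
  · rintro ⟨X, -, hX0, hXd⟩
    rw [finrank_top, Module.finrank_fin_fun] at hXd
    refine ⟨X, by omega, fun x hx y hy => ?_⟩
    have h1 : f₂ (x + y) (x + y) = 0 := hX0 _ (add_mem hx hy)
    rw [hf₂.bilinear.add_left, hf₂.bilinear.add_right, hf₂.bilinear.add_right, hf₂.symm y x,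
      show f₂ x x = 0 from hX0 x hx, show f₂ y y = 0 from hX0 y hy] at h1
    show f₂ x y = 0
    exact (mul_eq_zero.1 (show (2 : F) * f₂ x y = 0 by linear_combination h1)).resolve_left h2

theorem rank_one_two {z : Fin 2 → Fin 2 → F} (hz : z 0 0 * z 1 1 - z 1 0 * z 0 1 = 0) :
    ∃ v w : Fin 2 → F, ∀ i j, z i j = v i * w j := by
  by_cases h : z 0 0 = 0
  · rw [h, zero_mul, zero_sub, neg_eq_zero] at hz
    rcases mul_eq_zero.1 hz with h10 | h01
    · exact ⟨fun i => z i 1, ![0, 1], fun i j => by fin_cases i <;> fin_cases j <;> simp [h, h10]⟩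
    · exact ⟨![0, 1], fun j => z 1 j, fun i j => by fin_cases i <;> fin_cases j <;> simp [h, h01]⟩
  · refine ⟨![1, z 1 0 / z 0 0], fun j => z 0 j, fun i j => ?_⟩
    fin_cases i <;> fin_cases j <;> simp
    · exact (div_mul_cancel₀ _ h).symm
    · field_simp; linear_combination hz

/-- A plane of matrices of rank at most one. -/
theorem rank_one_plane (b : (Fin 2 → F) →ₗ[F] (Fin 2 → Fin 2 → F)) (hb : Function.Injective b)
    (h0 : ∀ x, b x 0 0 * b x 1 1 - b x 1 0 * b x 0 1 = 0) :
    (∃ w : Fin 2 → F, ∀ x, ∃ v : Fin 2 → F, ∀ i j, b x i j = v i * w j) ∨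
      (∃ v : Fin 2 → F, v ≠ 0 ∧ ∀ x, ∃ w : Fin 2 → F, ∀ i j, b x i j = v i * w j) := by
  obtain ⟨v₀, w₀, e₀⟩ := rank_one_two (h0 (Pi.single 0 1))
  obtain ⟨v₁, w₁, e₁⟩ := rank_one_two (h0 (Pi.single 1 1))
  have hx : ∀ x i j, b x i j = x 0 * (v₀ i * w₀ j) + x 1 * (v₁ i * w₁ j) := fun x i j => by
    rw [show x = x 0 • Pi.single 0 1 + x 1 • Pi.single 1 1 from funext fun k => by fin_cases k <;> simp]
    simp [map_add, map_smul, e₀, e₁]
  have hne : ∀ k : Fin 2, b (Pi.single k 1) ≠ 0 := fun k h => by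
    have h1 := congrFun (hb (h.trans (map_zero b).symm)) k
    simp at h1
  have hv₀ : v₀ ≠ 0 := fun h => hne 0 (funext fun i => funext fun j => by rw [e₀, h]; simp)
  have hw₀ : w₀ ≠ 0 := fun h => hne 0 (funext fun i => funext fun j => by rw [e₀, h]; simp)
  have hs := h0 (Pi.single 0 1 + Pi.single 1 1)
  simp only [map_add, Pi.add_apply, e₀, e₁] at hs
  have hprop : ∀ u u' : Fin 2 → F, u ≠ 0 → u 0 * u' 1 - u 1 * u' 0 = 0 → ∃ k : F, ∀ i, u' i = k * u i := by
    intro u u' hu he
    by_cases h : u 0 = 0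
    · have h1 : u 1 ≠ 0 := fun h1 => hu (funext fun i => by fin_cases i <;> simp [h, h1])
      refine ⟨u' 1 / u 1, fun i => ?_⟩
      fin_cases i
      · rw [h, zero_mul, zero_sub, neg_eq_zero] at he
        simp [h, (mul_eq_zero.1 he).resolve_left h1]
      · simp [h1]
    · refine ⟨u' 0 / u 0, fun i => ?_⟩
      fin_cases i
      · simp [h]
      · simp; field_simp; linear_combination he
  rcases mul_eq_zero.1 (show (v₀ 0 * v₁ 1 - v₀ 1 * v₁ 0) * (w₀ 0 * w₁ 1 - w₀ 1 * w₁ 0) = 0 by
    linear_combination hs) with h | h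
  · obtain ⟨k, hk⟩ := hprop v₀ v₁ hv₀ h
    exact Or.inr ⟨v₀, hv₀, fun x => ⟨fun j => x 0 * w₀ j + x 1 * k * w₁ j, fun i j => by rw [hx, hk]; ring⟩⟩
  · obtain ⟨k, hk⟩ := hprop w₀ w₁ hw₀ h
    exact Or.inl ⟨w₀, fun x => ⟨fun i => x 0 * v₀ i + x 1 * k * v₁ i, fun i j => by rw [hx, hk]; ring⟩⟩

theorem fog_eq {κ : Type} [Fintype κ] (M : Matrix κ κ F) (x y : κ → F) : formOfGram id M x y = x ⬝ᵥ (M *ᵥ y) := by
  simp only [formOfGram, dotProduct, Matrix.mulVec, Finset.mul_sum, id, mul_assoc]

theorem two_plane_map {κ : Type} [Fintype κ] [DecidableEq κ] [Nonempty κ]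
    (L : (Fin 2 × κ → F) ≃ₗ[F] (Fin 2 × κ → F))
    (hL : ∀ w : Fin 2 → F, ∃ w' : Fin 2 → F, ∀ x : κ → F, ∃ x' : κ → F,
      L (fun q => w q.1 * x q.2) = fun q => w' q.1 * x' q.2) :
    ∃ (N : Matrix (Fin 2) (Fin 2) F) (C : Matrix κ κ F), LinearMap.toMatrix' L.toLinearMap = N ⊗ₖ C := by
  classical
  obtain ⟨a, ha⟩ := hL (Pi.single 0 1)
  obtain ⟨b, hb⟩ := hL (Pi.single 1 1)
  obtain ⟨c, hc⟩ := hL (Pi.single 0 1 + Pi.single 1 1)
  choose X hX using ha
  choose Y hY using hb
  choose Z hZ using hc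
  let e : Fin 2 → (κ → F) → (Fin 2 × κ → F) := fun i x q => (Pi.single i (1 : F) : Fin 2 → F) q.1 * x q.2
  have hne : ∀ (i : Fin 2) (x : κ → F), x ≠ 0 → e i x ≠ 0 := fun i x hx h => hx (funext fun p => by
    have h1 := congrFun h (i, p)
    simpa [e] using h1)
  obtain ⟨p₀⟩ := (inferInstance : Nonempty κ)
  have hab : a 0 * b 1 - a 1 * b 0 ≠ 0 := by
    intro h0
    have ha0 : a ≠ 0 := fun h => hne 0 (Pi.single p₀ 1) (by simp) (L.injective (by
      rw [map_zero]; exact (hX _).trans (funext fun q => by simp [h])))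
    obtain ⟨k, hk⟩ : ∃ k : F, ∀ i, b i = k * a i := by
      by_cases h : a 0 = 0
      · have h1 : a 1 ≠ 0 := fun h1 => ha0 (funext fun i => by fin_cases i <;> simp [h, h1])
        refine ⟨b 1 / a 1, fun i => ?_⟩
        fin_cases i
        · rw [h, zero_mul, zero_sub, neg_eq_zero] at h0
          simp [h, (mul_eq_zero.1 h0).resolve_left h1]
        · simp [h1]
      · refine ⟨b 0 / a 0, fun i => ?_⟩
        fin_cases i
        · simp [h]
        · simp; field_simp; linear_combination h0
    let R : (κ → F) →ₗ[F] (Fin 2 × κ → F) :=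
      { toFun := fun x q => a q.1 * x q.2
        map_add' := fun x y => funext fun q => by simp [mul_add]
        map_smul' := fun s x => funext fun q => by simp [mul_left_comm] }
    have hsur : Function.Surjective R := fun u => by
      obtain ⟨v, rfl⟩ := L.surjective u
      have hv : v = e 0 (fun p => v (0, p)) + e 1 (fun p => v (1, p)) := funext fun q => by
        obtain ⟨i, p⟩ := q
        fin_cases i <;> simp [e]
      refine ⟨X (fun p => v (0, p)) + k • Y (fun p => v (1, p)), ?_⟩
      conv_rhs => rw [hv, map_add]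
      refine Eq.trans ?_ (congrArg₂ (· + ·) (hX fun p => v (0, p)) (hY fun p => v (1, p))).symm
      funext q
      show a q.1 * (X _ q.2 + k * Y _ q.2) = a q.1 * X _ q.2 + b q.1 * Y _ q.2
      rw [hk]; ring
    have h1 := LinearMap.finrank_le_finrank_of_injective (f := (LinearMap.funLeft F F (Prod.snd : Fin 2 × κ → κ)))
      (fun u v h => funext fun p => congrFun h (0, p))
    have h2 := LinearMap.finrank_range_add_finrank_ker R
    rw [LinearMap.range_eq_top.2 hsur, finrank_top, Module.finrank_fintype_fun_eq_card,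
      Module.finrank_fintype_fun_eq_card, Fintype.card_prod, Fintype.card_fin] at h2
    have := Fintype.card_pos (α := κ)
    omega
  have hsum : ∀ (x : κ → F) (i : Fin 2) (p : κ), c i * Z x p = a i * X x p + b i * Y x p := fun x i p => by
    have h1 := congrFun (hZ x) (i, p)
    rw [show (fun q : Fin 2 × κ => ((Pi.single 0 1 : Fin 2 → F) + Pi.single 1 1 : Fin 2 → F) q.1 * x q.2) =
      (fun q => (Pi.single (0 : Fin 2) (1 : F) : Fin 2 → F) q.1 * x q.2) +
        fun q => (Pi.single (1 : Fin 2) (1 : F) : Fin 2 → F) q.1 * x q.2 from funext fun q => add_mul _ _ _,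
      map_add, hX, hY] at h1
    exact h1.symm
  have e1 : ∀ x p, (a 0 * b 1 - a 1 * b 0) * X x p = (c 0 * b 1 - c 1 * b 0) * Z x p := fun x p => by
    linear_combination -(b 1) * hsum x 0 p + b 0 * hsum x 1 p
  have e2 : ∀ x p, (a 0 * b 1 - a 1 * b 0) * Y x p = (a 0 * c 1 - a 1 * c 0) * Z x p := fun x p => by
    linear_combination -(a 0) * hsum x 1 p + a 1 * hsum x 0 p
  have hcb : c 0 * b 1 - c 1 * b 0 ≠ 0 := fun h0 => hne 0 (Pi.single p₀ 1) (by simp) (L.injective (by
    rw [map_zero]
    refine (hX _).trans (funext fun q => ?_)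
    have h1 := e1 (Pi.single p₀ 1) q.2
    rw [h0, zero_mul] at h1
    simp [(mul_eq_zero.1 h1).resolve_left hab]))
  set k := (a 0 * c 1 - a 1 * c 0) / (c 0 * b 1 - c 1 * b 0) with hk
  have hYX : ∀ x p, Y x p = k * X x p := fun x p => by
    refine mul_left_cancel₀ hab ?_
    rw [e2, mul_left_comm, e1, hk]
    field_simp
  refine ⟨Matrix.of fun i j => if j = 0 then a i else k * b i, Matrix.of fun p p' => X (Pi.single p' 1) p, ?_⟩
  ext ⟨i, p⟩ ⟨j, p'⟩
  rw [LinearMap.toMatrix'_apply, Matrix.kronecker_apply, Matrix.of_apply, Matrix.of_apply, LinearEquiv.coe_coe,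
    show (Pi.single (j, p') 1 : Fin 2 × κ → F) =
      fun q => (Pi.single j 1 : Fin 2 → F) q.1 * (Pi.single p' 1 : κ → F) q.2 from funext fun q => by
        obtain ⟨q1, q2⟩ := q
        rcases eq_or_ne q1 j with rfl | h1 <;> rcases eq_or_ne q2 p' with rfl | h2 <;> simp [*]]
  fin_cases j
  · simp [hX]
  · simp [hY, hYX]
    ring

set_option maxHeartbeats 2000000 in
/-- A product of a ternary and a quaternary form of plus type refines to a product with a symplectic plane. -/
theorem tensor_four_plus (hQ : (polarBilin Q).Nondegenerate) (h2 : (2 : F) ≠ 0) (hplus : IsPlusTypeOn ⇑Q ⊤)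
    (hle : H ≤ omegaGL ⇑Q) (e : ι ≃ Fin 3 × Fin 4) (P : GL ι F)
    {f₁ : (Fin 3 → F) → (Fin 3 → F) → F} {f₂ : (Fin 4 → F) → (Fin 4 → F) → F} (hf₁ : IsSymmetricForm f₁)
    (hf₂ : IsSymmetricForm f₂) (hst : IsTensorFormStructure id (polar ⇑Q) f₁ f₂ e P)
    (hH : H ≤ tensorProductSubgroup 3 4 e P) :
    ∃ (e' : ι ≃ Fin 2 × Fin 6) (P' : GL ι F) (g₁ : (Fin 2 → F) → (Fin 2 → F) → F)
      (g₂ : (Fin 6 → F) → (Fin 6 → F) → F), IsSymplecticForm g₁ ∧ IsSymplecticForm g₂ ∧
      IsTensorFormStructure id (polar ⇑Q) g₁ g₂ e' P' ∧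
      (∀ (x₁ : Fin 2 → F) (x₂ : Fin 6 → F),
        Q ((P' : Matrix ι ι F) *ᵥ ((fun a : Fin 2 × Fin 6 => x₁ a.1 * x₂ a.2) ∘ e')) = 0) ∧
      H ≤ tensorProductSubgroup 2 6 e' P' := by
  classical
  have hcard : Fintype.card ι = 12 := by rw [Fintype.card_congr e]; simp
  have hp2 := (three_four_type hQ h2 e P hf₁ hf₂ hst).1 hplus
  obtain ⟨c, hc0, hc⟩ := hst
  set G₁ := gramMatrix f₁ with hG₁
  let B : LinearMap.BilinForm F (Fin 4 → F) := LinearMap.mk₂ F f₂ hf₂.bilinear.add_left
    (fun c x y => by rw [hf₂.bilinear.smul_left, smul_eq_mul]) hf₂.bilinear.add_right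
    (fun c x y => by rw [hf₂.bilinear.smul_right, smul_eq_mul])
  let q₂ : QuadraticForm F (Fin 4 → F) := LinearMap.BilinMap.toQuadraticMap B
  have hq₂ : ∀ x, q₂ x = f₂ x x := fun x => rfl
  have hq₂p : ∀ x y, polar q₂ x y = 2 * f₂ x y := fun x y => by
    simp only [polar, hq₂]
    rw [hf₂.bilinear.add_left, hf₂.bilinear.add_right, hf₂.bilinear.add_right, hf₂.symm y x]
    ring
  have hq₂n : (polarBilin q₂).Nondegenerate := nondeg_of fun x hx => by
    by_contra hne
    obtain ⟨-, y, hy⟩ := hf₂.nondegenerate x hne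
    have h := hx y
    rw [hq₂p] at h
    exact hy ((mul_eq_zero.1 h).resolve_left h2)
  obtain ⟨U, -, hU, hUd⟩ := hp2
  rw [finrank_top, Module.finrank_fin_fun] at hUd
  obtain ⟨ψ, hψ⟩ := iso_hyp_of_plus (q := q₂) (m := 2)
    ⟨hq₂n, by rw [Module.finrank_fin_fun], U, by omega, fun w hw => hU w hw⟩
  let M22 : (Fin 2 → Fin 2 → F) →ₗ[F] ((Fin 2 → F) × (Fin 2 → F)) × (Fin 0 → F) :=
    { toFun := fun z => ((![z 0 0, z 1 0], ![z 1 1, -z 0 1]), 0)
      map_add' := fun z z' => by
        refine Prod.ext (Prod.ext (funext fun k => ?_) (funext fun k => ?_)) (Subsingleton.elim _ _) <;>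
          fin_cases k <;> simp; ring
      map_smul' := fun s z => by
        refine Prod.ext (Prod.ext (funext fun k => ?_) (funext fun k => ?_)) (Subsingleton.elim _ _) <;>
          fin_cases k <;> simp }
  have hM22 : Function.Injective M22 := fun z z' h => by
    have h1 : ![z 0 0, z 1 0] = ![z' 0 0, z' 1 0] := congrArg (fun p => p.1.1) h
    have h3 : ![z 1 1, -z 0 1] = ![z' 1 1, -z' 0 1] := congrArg (fun p => p.1.2) h
    funext i j
    fin_cases i <;> fin_cases j
    · exact congrFun h1 0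
    · simpa using congrFun h3 1
    · exact congrFun h1 1
    · exact congrFun h3 0
  let χ : (Fin 2 → Fin 2 → F) →ₗ[F] (Fin 4 → F) := ψ.toLinearMap ∘ₗ M22
  have hχinj : Function.Injective χ := ψ.injective.comp hM22
  have hχdet : ∀ z, f₂ (χ z) (χ z) = z 0 0 * z 1 1 - z 1 0 * z 0 1 := fun z => by
    rw [← hq₂]
    show q₂ (ψ (M22 z)) = _
    rw [hψ, hyp_apply]
    simp [M22, zeroForm, Fin.sum_univ_two]
    ring
  have hχsur : Function.Surjective χ :=
    (LinearMap.injective_iff_surjective_of_finrank_eq_finrank (by simp [Module.finrank_pi_fintype])).1 hχinj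
  have hχpol : ∀ z z', 2 * f₂ (χ z) (χ z') =
      z 0 0 * z' 1 1 + z' 0 0 * z 1 1 - z 1 0 * z' 0 1 - z' 1 0 * z 0 1 := fun z z' => by
    have h1 := hχdet (z + z')
    rw [map_add, hf₂.bilinear.add_left, hf₂.bilinear.add_right, hf₂.bilinear.add_right, hf₂.symm (χ z') (χ z)] at h1
    simp only [Pi.add_apply] at h1
    linear_combination h1 - hχdet z - hχdet z'
  -- the finer frame
  let σ : Fin 3 × Fin 2 ≃ Fin 6 := finProdFinEquiv
  let T₀ : (Fin 2 × Fin 6 → F) →ₗ[F] (ι → F) :=
    (frL e P).toLinearMap ∘ₗ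
      { toFun := fun y p => χ (fun i j => y (j, σ (p.1, i))) p.2
        map_add' := fun y y' => funext fun p => by
          rw [show (fun i j => (y + y') (j, σ (p.1, i))) = (fun i j => y (j, σ (p.1, i))) + fun i j => y' (j, σ (p.1, i))
            from rfl, map_add]
          rfl
        map_smul' := fun s y => funext fun p => by
          rw [show (fun i j => (s • y) (j, σ (p.1, i))) = s • fun i j => y (j, σ (p.1, i)) from rfl, map_smul]
          rfl }
  have hT₀ : Function.Injective T₀ := fun y y' h => by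
    have h1 := (frL e P).injective h
    funext q
    obtain ⟨j, s⟩ := q
    obtain ⟨⟨a, i⟩, rfl⟩ := σ.surjective s
    have h2' : ∀ p : Fin 3 × Fin 4, χ (fun i j => y (j, σ (p.1, i))) p.2 = χ (fun i j => y' (j, σ (p.1, i))) p.2 :=
      fun p => congrFun h1 p
    have h3 : (fun i j => y (j, σ (a, i))) = fun i j => y' (j, σ (a, i)) := hχinj (funext fun b => h2' (a, b))
    exact congrFun (congrFun h3 i) j
  let T : (Fin 2 × Fin 6 → F) ≃ₗ[F] (ι → F) := LinearEquiv.ofBijective T₀
    ⟨hT₀, (LinearMap.injective_iff_surjective_of_finrank_eq_finrank (by simp [hcard])).1 hT₀⟩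
  have hT : ∀ y, T y = frL e P fun p => χ (fun i j => y (j, σ (p.1, i))) p.2 := fun y => rfl
  let J : Matrix (Fin 2) (Fin 2) F := !![0, 1; -1, 0]
  let G6 : Matrix (Fin 6) (Fin 6) F := (G₁ ⊗ₖ J).submatrix σ.symm σ.symm
  have hJ : Jᵀ = -J := by ext i j; fin_cases i <;> fin_cases j <;> simp [J]
  have hJd : J.det ≠ 0 := by simp [J, Matrix.det_fin_two]
  have hG₁s : G₁ᵀ = G₁ := Matrix.ext fun i j => hf₁.symm _ _
  have hG₁d : G₁.det ≠ 0 := (isSesq_of_bilinear hf₁.bilinear).det_ne_zero hf₁.nondegenerate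
  have hG6d : G6.det ≠ 0 := by
    rw [Matrix.det_submatrix_equiv_self, Matrix.det_kronecker]
    exact mul_ne_zero (pow_ne_zero _ hG₁d) (pow_ne_zero _ hJd)
  have hG6 : G6ᵀ = -G6 := by
    ext i j
    show G₁ (σ.symm j).1 (σ.symm i).1 * J (σ.symm j).2 (σ.symm i).2 =
      -(G₁ (σ.symm i).1 (σ.symm j).1 * J (σ.symm i).2 (σ.symm j).2)
    rw [show G₁ (σ.symm j).1 (σ.symm i).1 = G₁ (σ.symm i).1 (σ.symm j).1 from congrFun (congrFun hG₁s _) _,
      show J (σ.symm j).2 (σ.symm i).2 = -J (σ.symm i).2 (σ.symm j).2 from congrFun (congrFun hJ _) _]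
    ring
  obtain ⟨e'⟩ : Nonempty (ι ≃ Fin 2 × Fin 6) := ⟨Fintype.equivOfCardEq (by simp [hcard])⟩
  let P₀ : (ι → F) ≃ₗ[F] (ι → F) := (LinearEquiv.funCongrLeft F F e'.symm).trans T
  let P' : GL ι F := (ClassicalMax.glEquiv ι F).symm P₀
  have hP' : ∀ y, frL e' P' y = T y := fun y => by
    show mat P' *ᵥ (y ∘ e') = _
    rw [show mat P' *ᵥ (y ∘ e') = ClassicalMax.glEquiv ι F P' (y ∘ e') from (ClassicalMax.glEquiv_apply _ _).symm,
      MulEquiv.apply_symm_apply]
    show T ((y ∘ e') ∘ e'.symm) = _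
    rw [Function.comp_assoc, Equiv.self_comp_symm, Function.comp_id]
  have hpolT : ∀ y y', polar Q (T y) (T y') =
      (c / 2) * formOfGram id (J ⊗ₖ G6) y y' := fun y y' => by
    rw [hT, hT]
    refine (hc _ _).trans ?_
    rw [formOfGram, formOfGram, Fintype.sum_prod_type]
    simp only [Fintype.sum_prod_type, Matrix.kronecker_apply, id]
    have hin : ∀ a a' : Fin 3, ∑ b : Fin 4, ∑ b' : Fin 4, χ (fun i j => y (j, σ (a, i))) b *
        (G₁ a a' * gramMatrix f₂ b b') * χ (fun i j => y' (j, σ (a', i))) b' =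
        G₁ a a' * f₂ (χ fun i j => y (j, σ (a, i))) (χ fun i j => y' (j, σ (a', i))) := fun a a' => by
      have hb := (isSesq_of_bilinear hf₂.bilinear).eq_formG (χ fun i j => y (j, σ (a, i))) (χ fun i j => y' (j, σ (a', i)))
      rw [hb]
      simp only [formG, dotProduct, Matrix.mulVec, RingEquiv.refl_apply, Finset.mul_sum]
      exact Finset.sum_congr rfl fun b _ => Finset.sum_congr rfl fun b' _ => by ring
    have hlhs : (∑ a : Fin 3, ∑ b : Fin 4, ∑ a' : Fin 3, ∑ b' : Fin 4, χ (fun i j => y (j, σ (a, i))) b *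
        (G₁ a a' * gramMatrix f₂ b b') * χ (fun i j => y' (j, σ (a', i))) b') =
        ∑ a : Fin 3, ∑ a' : Fin 3, G₁ a a' * f₂ (χ fun i j => y (j, σ (a, i))) (χ fun i j => y' (j, σ (a', i))) :=
      Finset.sum_congr rfl fun a _ => by
        rw [Finset.sum_comm]
        exact Finset.sum_congr rfl fun a' _ => hin a a'
    rw [hlhs]
    have hf : ∀ a a' : Fin 3, f₂ (χ fun i j => y (j, σ (a, i))) (χ fun i j => y' (j, σ (a', i))) =
        (y (0, σ (a, 0)) * y' (1, σ (a', 1)) + y' (0, σ (a', 0)) * y (1, σ (a, 1)) -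
          y (0, σ (a, 1)) * y' (1, σ (a', 0)) - y' (0, σ (a', 1)) * y (1, σ (a, 0))) / 2 := fun a a' => by
      rw [eq_div_iff h2, mul_comm, hχpol]
    simp only [hf, Fin.sum_univ_two, Fin.sum_univ_three, ← σ.sum_comp, Fintype.sum_prod_type]
    simp only [G6, J, Matrix.submatrix_apply, Matrix.kronecker_apply, Equiv.symm_apply_apply, Matrix.of_apply,
      Matrix.cons_val', Matrix.cons_val_zero, Matrix.cons_val_one, Matrix.empty_val', Matrix.cons_val_fin_one]
    field_simp
    ring
  have hc2 : c / 2 ≠ 0 := div_ne_zero hc0 h2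
  have hsqz : ∀ (w : Fin 2 → F) (x : Fin 6 → F), Q (T fun q => w q.1 * x q.2) = 0 := fun w x => by
    have h1 := hpolT (fun q => w q.1 * x q.2) (fun q => w q.1 * x q.2)
    rw [polar_self'] at h1
    refine (mul_eq_zero.1 (h1.trans ?_)).resolve_left h2
    rw [show formOfGram id (J ⊗ₖ G6) (fun q => w q.1 * x q.2) (fun q => w q.1 * x q.2) =
      (w ⬝ᵥ (J *ᵥ w)) * (x ⬝ᵥ (G6 *ᵥ x)) from ?_, show w ⬝ᵥ (J *ᵥ w) = 0 by
        simp [J, dotProduct, Matrix.mulVec, Fin.sum_univ_two]; ring, zero_mul, mul_zero]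
    rw [← kron_pure, fog_eq]
  let plane : (Fin 2 → F) → ((Fin 6 → F) →ₗ[F] (ι → F)) := fun w =>
    T.toLinearMap ∘ₗ
      { toFun := fun x q => w q.1 * x q.2
        map_add' := fun x x' => funext fun q => mul_add _ _ _
        map_smul' := fun s x => funext fun q => by simp [mul_left_comm] }
  have hplane : ∀ w x, plane w x = T fun q => w q.1 * x q.2 := fun w x => rfl
  have hpinj : ∀ w, w ≠ 0 → Function.Injective (plane w) := fun w hw x x' h => by
    obtain ⟨j, hj⟩ := Function.ne_iff.1 hw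
    rw [hplane, hplane] at h
    exact funext fun s => mul_left_cancel₀ hj (congrFun (T.injective h) (j, s))
  refine ⟨e', P', formG (RingEquiv.refl F) J, formG (RingEquiv.refl F) G6,
    symplecticForm_formG hJd hJ (alt_of_skew h2 hJ), symplecticForm_formG hG6d hG6 (alt_of_skew h2 hG6),
    ⟨c / 2, hc2, fun x y => ?_⟩, fun x₁ x₂ => ?_, fun g hg => ?_⟩
  · show polar Q (frL e' P' x) (frL e' P' y) = _
    rw [hP', hP', hpolT, gram_formG, gram_formG]
  · show Q (frL e' P' _) = 0
    rw [hP']
    exact hsqz x₁ x₂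
  -- each element permutes one family
  obtain ⟨X, ⟨A, B', hX⟩, hgX⟩ := (map_fr_eq_tensor e P).ge (hH hg)
  change fr e P X = g at hgX
  have hgT : ∀ y, mat g *ᵥ T y = frL e P (fun p : Fin 3 × Fin 4 =>
      ∑ a : Fin 3, mat A p.1 a * (mat B' *ᵥ χ fun i j => y (j, σ (a, i))) p.2) := fun y => by
    rw [hT, ← hgX, fr_mulVec]
    refine congrArg _ (funext fun p => ?_)
    rw [show mat X = (A : Matrix (Fin 3) (Fin 3) F) ⊗ₖ (B' : Matrix (Fin 4) (Fin 4) F) from hX, Matrix.mulVec,
      dotProduct, Fintype.sum_prod_type]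
    refine Finset.sum_congr rfl fun a _ => ?_
    simp only [Matrix.mulVec, dotProduct, Finset.mul_sum]
    exact Finset.sum_congr rfl fun b _ => mul_assoc _ _ _
  choose χi hχi using hχsur
  have hfam : ∀ w : Fin 2 → F, ∃ w' : Fin 2 → F, ∀ x : Fin 6 → F, ∃ x' : Fin 6 → F,
      mat g *ᵥ plane w x = plane w' x' := by
    intro w
    by_cases hw : w = 0
    · exact ⟨0, fun x => ⟨0, by simp [hplane, hw, show (fun q : Fin 2 × Fin 6 => (0 : F)) = 0 from rfl]⟩⟩
    let bz : (Fin 2 → F) → Fin 2 → Fin 2 → F := fun v => χi (mat B' *ᵥ χ fun i j => v i * w j)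
    have hbz : ∀ v, χ (bz v) = mat B' *ᵥ χ fun i j => v i * w j := fun v => hχi _
    let b : (Fin 2 → F) →ₗ[F] (Fin 2 → Fin 2 → F) :=
      { toFun := bz
        map_add' := fun v v' => hχinj (by
          rw [map_add, hbz, hbz, hbz, show (fun i j => (v + v') i * w j) = (fun i j => v i * w j) + fun i j => v' i * w j
            from funext fun i => funext fun j => add_mul _ _ _, map_add, Matrix.mulVec_add])
        map_smul' := fun s v => hχinj (by
          rw [RingHom.id_apply, map_smul, hbz, hbz, show (fun i j => (s • v) i * w j) = s • fun i j => v i * w j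
            from funext fun i => funext fun j => mul_assoc _ _ _, map_smul, Matrix.mulVec_smul]) }
    have hbinj : Function.Injective b := fun v v' h => by
      have h1 := congrArg χ h
      change χ (bz v) = χ (bz v') at h1
      rw [hbz, hbz] at h1
      obtain ⟨j, hj⟩ := Function.ne_iff.1 hw
      exact funext fun i => mul_right_cancel₀ hj (congrFun (congrFun (hχinj (mulVec_injective B' h1)) i) j)
    have himg : ∀ x : Fin 6 → F, mat g *ᵥ plane w x =
        frL e P (fun p : Fin 3 × Fin 4 => ∑ a : Fin 3, mat A p.1 a * χ (bz fun i => x (σ (a, i))) p.2) := fun x => by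
      rw [hplane, hgT]
      refine congrArg _ (funext fun p => Finset.sum_congr rfl fun a _ => ?_)
      rw [hbz, show (fun i j => w j * x (σ (a, i))) = fun i j => x (σ (a, i)) * w j from
        funext fun i => funext fun j => mul_comm _ _]
    have hdet0 : ∀ v, b v 0 0 * b v 1 1 - b v 1 0 * b v 0 1 = 0 := by
      intro v
      show bz v 0 0 * bz v 1 1 - bz v 1 0 * bz v 0 1 = 0
      rw [← hχdet]
      obtain ⟨u, hu⟩ : ∃ u : Fin 3 → F, f₁ (mat A *ᵥ u) (mat A *ᵥ u) ≠ 0 := by
        by_contra hcon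
        push Not at hcon
        have hall : ∀ u, f₁ u u = 0 := fun u => by
          have h := hcon (mat A⁻¹ *ᵥ u)
          rwa [mulVec_inv_cancel] at h
        obtain ⟨-, y, hy⟩ := hf₁.nondegenerate (Pi.single 0 1) (by simp)
        refine hy ((mul_eq_zero.1 (?_ : (2 : F) * _ = 0)).resolve_left h2)
        have h := hall (Pi.single 0 1 + y)
        rw [hf₁.bilinear.add_left, hf₁.bilinear.add_right, hf₁.bilinear.add_right, hall, hall, hf₁.symm y] at h
        linear_combination h
      set x : Fin 6 → F := fun s => u (σ.symm s).1 * v (σ.symm s).2 with hx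
      have hxv : ∀ a, bz (fun i => x (σ (a, i))) = u a • bz v := fun a => by
        show b _ = u a • b v
        rw [← map_smul]
        refine congrArg b (funext fun i => ?_)
        simp [hx]
      have h1 : Q (mat g *ᵥ plane w x) = 0 := by
        rw [NotMax.omega_map g (hle hg), hplane]; exact hsqz w x
      rw [himg, show (fun p : Fin 3 × Fin 4 => ∑ a : Fin 3, mat A p.1 a * χ (bz fun i => x (σ (a, i))) p.2) =
        fun p => (mat A *ᵥ u) p.1 * χ (bz v) p.2 from funext fun p => by
          simp only [hxv, map_smul, Pi.smul_apply, smul_eq_mul, Matrix.mulVec, dotProduct, Finset.sum_mul, mul_assoc]] at h1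
      have h3 := polar_self' (Q := Q) (frL e P fun p => (mat A *ᵥ u) p.1 * χ (bz v) p.2)
      rw [h1, mul_zero] at h3
      have h4 := (hc (fun p => (mat A *ᵥ u) p.1 * χ (bz v) p.2) (fun p => (mat A *ᵥ u) p.1 * χ (bz v) p.2)).symm.trans h3
      have h5 := (mul_eq_zero.1 h4).resolve_left hc0
      rw [fog_eq, kron_pure, ← fog_eq, ← fog_eq,
        NotMax.formOfGram_bilinear id hf₁.bilinear.add_left hf₁.bilinear.smul_left hf₁.bilinear.add_right
          (fun c v x => hf₁.bilinear.smul_right c v x),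
        NotMax.formOfGram_bilinear id hf₂.bilinear.add_left hf₂.bilinear.smul_left hf₂.bilinear.add_right
          (fun c v x => hf₂.bilinear.smul_right c v x)] at h5
      exact (mul_eq_zero.1 h5).resolve_left hu
    rcases rank_one_plane b hbinj hdet0 with ⟨w', hw'⟩ | ⟨v, hv0, hv⟩
    · choose φ hφ using hw'
      refine ⟨w', fun x => ⟨fun s => ∑ a : Fin 3, mat A (σ.symm s).1 a * φ (fun i => x (σ (a, i))) (σ.symm s).2, ?_⟩⟩
      rw [himg, hplane, hT]
      refine congrArg _ (funext fun p => ?_)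
      rw [show (fun i j => w' j * ∑ a : Fin 3, mat A (σ.symm (σ (p.1, i))).1 a *
          φ (fun i => x (σ (a, i))) (σ.symm (σ (p.1, i))).2) =
        ∑ a : Fin 3, mat A p.1 a • bz (fun i => x (σ (a, i))) from funext fun i => funext fun j => by
          simp only [Equiv.symm_apply_apply, Finset.sum_apply, Pi.smul_apply, smul_eq_mul, Finset.mul_sum]
          refine Finset.sum_congr rfl fun a _ => ?_
          rw [show bz (fun i => x (σ (a, i))) i j = _ from hφ _ i j]
          ring]
      simp [map_sum]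
    · exfalso
      -- a member of the other family meets the plane in half its dimension
      let S : Submodule F (ι → F) := LinearMap.range (plane w)
      have hS : ∀ u ∈ S, Q u = 0 := by
        rintro _ ⟨x, rfl⟩
        rw [hplane]
        exact hsqz w x
      have hSd : Module.finrank F S = 6 := by
        rw [LinearMap.finrank_range_of_inj (hpinj w hw), Module.finrank_fin_fun]
      let row : (Fin 2 × Fin 3 → F) →ₗ[F] (ι → F) := T.toLinearMap ∘ₗ
        { toFun := fun u q => v (σ.symm q.2).2 * u (q.1, (σ.symm q.2).1)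
          map_add' := fun u u' => funext fun q => mul_add _ _ _
          map_smul' := fun s u => funext fun q => by simp [mul_left_comm] }
      have hrow : ∀ u, row u = T fun q => v (σ.symm q.2).2 * u (q.1, (σ.symm q.2).1) := fun u => rfl
      obtain ⟨iv, hiv⟩ := Function.ne_iff.1 hv0
      have hrinj : Function.Injective row := fun u u' h => by
        rw [hrow, hrow] at h
        funext q
        obtain ⟨j, a⟩ := q
        have h1 := congrFun (T.injective h) (j, σ (a, iv))
        simp only [Equiv.symm_apply_apply] at h1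
        exact mul_left_cancel₀ hiv h1
      have himgS : S.map (Matrix.toLin' (mat g)) = LinearMap.range row := by
        refine Submodule.eq_of_le_of_finrank_le ?_ ?_
        · rintro _ ⟨_, ⟨x, rfl⟩, rfl⟩
          choose φ hφ using hv
          refine ⟨fun q => ∑ a : Fin 3, mat A q.2 a * φ (fun i => x (σ (a, i))) q.1, ?_⟩
          rw [Matrix.toLin'_apply, himg, hrow, hT]
          refine congrArg _ (funext fun p => ?_)
          rw [show (fun i j => v (σ.symm (σ (p.1, i))).2 * ∑ a : Fin 3, mat A (σ.symm (σ (p.1, i))).1 a *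
              φ (fun i => x (σ (a, i))) j) =
            ∑ a : Fin 3, mat A p.1 a • bz (fun i => x (σ (a, i))) from funext fun i => funext fun j => by
              simp only [Equiv.symm_apply_apply, Finset.sum_apply, Pi.smul_apply, smul_eq_mul, Finset.mul_sum]
              refine Finset.sum_congr rfl fun a _ => ?_
              rw [show bz (fun i => x (σ (a, i))) i j = _ from hφ _ i j]
              ring]
          simp [map_sum]
        · rw [LinearMap.finrank_range_of_inj hrinj, Module.finrank_fintype_fun_eq_card,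
            ← (Submodule.equivMapOfInjective (Matrix.toLin' (mat g))
              (fun x y h => mulVec_injective g (by simpa [Matrix.toLin'_apply] using h)) S).finrank_eq, hSd]
          simp
      have hev := NotMax.even_codim hQ (by omega) (m := 6) (by omega) hS hSd (hle hg)
      rw [show S.map (Matrix.toLin' (g : Matrix ι ι F)) = LinearMap.range row from himgS] at hev
      obtain ⟨jw, hjw⟩ := Function.ne_iff.1 hw
      let D : (Fin 3 → F) →ₗ[F] (ι → F) := plane w ∘ₗ
        { toFun := fun u s => v (σ.symm s).2 * u (σ.symm s).1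
          map_add' := fun u u' => funext fun q => mul_add _ _ _
          map_smul' := fun s u => funext fun q => by simp [mul_left_comm] }
      have hD : ∀ u, D u = T fun q => w q.1 * (v (σ.symm q.2).2 * u (σ.symm q.2).1) := fun u => rfl
      have hinf : S ⊓ LinearMap.range row = LinearMap.range D := by
        refine le_antisymm ?_ ?_
        · rintro _ ⟨⟨x, rfl⟩, u, hu⟩
          rw [hrow, hplane] at hu
          refine ⟨fun a => u (jw, a) / w jw, ?_⟩
          rw [hplane, ← hu, hD]
          refine congrArg T (funext fun q => ?_)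
          obtain ⟨j, s⟩ := q
          have h1 := congrFun (T.injective hu) (j, s)
          have h3 := congrFun (T.injective hu) (jw, s)
          simp only at h1 h3 ⊢
          have hx : x s = v (σ.symm s).2 * u (jw, (σ.symm s).1) / w jw := by
            rw [eq_div_iff hjw]; linear_combination -h3
          rw [h1, hx]; ring
        · rintro _ ⟨u, rfl⟩
          refine ⟨⟨_, rfl⟩, fun q => w q.1 * u q.2, ?_⟩
          rw [hrow, hD]
          exact congrArg T (funext fun q => by ring)
      have hDinj : Function.Injective D := fun u u' h => by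
        rw [hD, hD] at h
        funext a
        have h1 := congrFun (T.injective h) (jw, σ (a, iv))
        simp only [Equiv.symm_apply_apply] at h1
        exact mul_left_cancel₀ hiv (mul_left_cancel₀ hjw h1)
      rw [hinf, LinearMap.finrank_range_of_inj hDinj, Module.finrank_fin_fun] at hev
      exact absurd hev (by decide)
  let L : (Fin 2 × Fin 6 → F) ≃ₗ[F] (Fin 2 × Fin 6 → F) :=
    (T.trans (ClassicalMax.glEquiv ι F g)).trans T.symm
  have hLT : ∀ y, T (L y) = mat g *ᵥ T y := fun y => by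
    show T (T.symm (ClassicalMax.glEquiv ι F g (T y))) = _
    rw [LinearEquiv.apply_symm_apply, ClassicalMax.glEquiv_apply]
  obtain ⟨N, C, hNC⟩ := two_plane_map L fun w => by
    obtain ⟨w', hw'⟩ := hfam w
    refine ⟨w', fun x => ?_⟩
    obtain ⟨x', hx'⟩ := hw' x
    refine ⟨x', T.injective ?_⟩
    rw [hLT]
    exact hx'
  let X' : GL (Fin 2 × Fin 6) F := (ClassicalMax.glEquiv (Fin 2 × Fin 6) F).symm L
  have hX' : mat X' = N ⊗ₖ C := by
    rw [← hNC]
    refine Matrix.mulVec_injective (funext fun y => ?_)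
    rw [← ClassicalMax.glEquiv_apply, MulEquiv.apply_symm_apply, ← Matrix.toLin'_apply, Matrix.toLin'_toMatrix']
    rfl
  have hdet : N.det ≠ 0 ∧ C.det ≠ 0 := by
    have h0 : (mat X').det ≠ 0 := ((Matrix.isUnit_iff_isUnit_det _).1 X'.isUnit).ne_zero
    rw [hX', Matrix.det_kronecker] at h0
    exact ⟨fun h => h0 (by simp [h]), fun h => h0 (by simp [h])⟩
  rw [← map_fr_eq_tensor]
  refine ⟨X', ⟨Matrix.GeneralLinearGroup.mkOfDetNeZero N hdet.1, Matrix.GeneralLinearGroup.mkOfDetNeZero C hdet.2, hX'⟩,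
    ?_⟩
  refine Units.ext (Matrix.mulVec_injective (funext fun v => ?_))
  obtain ⟨y, rfl⟩ := (frL e' P').surjective v
  show mat (fr e' P' X') *ᵥ frL e' P' y = mat g *ᵥ frL e' P' y
  rw [fr_mulVec, hP', hP', ← hLT, ← ClassicalMax.glEquiv_apply, MulEquiv.apply_symm_apply]

end Cfsg.Agent.Asch
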