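import Cfsg.Agent.Asch.SympStructure
import Cfsg.Agent.Classical.HermGroup

/-!
Hermitian forms: congruence to the identity, scalings, and the forms of a group realised over a subfield.
-/

set_option autoImplicit false
set_option linter.unusedSectionVars false

namespace Cfsg.Agent.Asch

open Matrix Cfsg.Geo Cfsg.Agent.PrimeDim
open scoped MatrixGroups Kronecker

variable {F : Type*} [Field F] [Fintype F] {σ : F ≃+* F}

theorem isInvol_of_bar (h : IsBar σ) : Cfsg.Agent.Classical.Herm.IsInvol (σ : F →+* F) :=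
  ⟨fun e => h.ne_refl (RingEquiv.ext fun x => RingHom.congr_fun e x), h.involutive⟩

/-- The fixed field of the involution. -/
abbrev fixF (σ : F ≃+* F) : Subfield F := Cfsg.Agent.Classical.Herm.fixField (σ : F →+* F)

theorem mem_fixF {a : F} : a ∈ fixF σ ↔ σ a = a := Iff.rfl

theorem card_fixF (h : IsBar σ) : Fintype.card F = Nat.card (fixF σ) ^ 2 := by
  rw [← Nat.card_eq_fintype_card]
  exact Cfsg.Agent.Classical.Herm.card_eq_fix_sq (isInvol_of_bar h)

theorem fixF_ne_top (h : IsBar σ) : fixF σ ≠ ⊤ := fun e => by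
  obtain ⟨a, ha⟩ := h.exists_moved
  exact ha ((e ▸ Subfield.mem_top a : a ∈ fixF σ))

/-- A scalar of norm one is a quotient. -/
theorem exists_quot (h : IsBar σ) {y : F} (hy : y * σ y = 1) : ∃ z : F, z ≠ 0 ∧ z = y * σ z := by
  obtain ⟨z, hz, hzy⟩ := Cfsg.Agent.Classical.Herm.exists_conj_quot (isInvol_of_bar h) (y := y) hy
  exact ⟨z, hz, (div_eq_iff ((map_ne_zero σ).2 hz)).1 hzy⟩

theorem exists_skew_scalar (h : IsBar σ) : ∃ z : F, z ≠ 0 ∧ σ z = -z :=
  Cfsg.Agent.Classical.Herm.exists_skew (isInvol_of_bar h)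

/-- A matrix proportional to its conjugate transpose has a hermitian multiple. -/
theorem exists_herm_smul {κ : Type} [Fintype κ] [DecidableEq κ] [Nonempty κ] (h : IsBar σ) {A : Matrix κ κ F}
    (hA : A.det ≠ 0) {s : F} (hs : Aᵀ = s • A.map σ) :
    ∃ a : F, a ≠ 0 ∧ σ a = s * a ∧ (a • A)ᵀ = (a • A).map σ := by
  have hsn : s * σ s = 1 := by
    have h6 : A.map σ = σ s • Aᵀ := by
      have h1 := congrArg (fun X : Matrix κ κ F => Xᵀ.map σ) hs
      simp only [Matrix.transpose_transpose] at h1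
      rw [h1]
      ext i j
      simp [h.involutive]
    rw [h6, smul_smul] at hs
    refine (smul_mat_cancel (ne_zero_of_det (A := Aᵀ) ?_) ((one_smul F Aᵀ).trans hs)).symm
    rwa [Matrix.det_transpose]
  obtain ⟨b, hb, hb'⟩ := exists_quot h hsn
  refine ⟨σ b, (map_ne_zero σ).2 hb, by rw [h.involutive]; exact hb', ?_⟩
  rw [Matrix.transpose_smul, hs, smul_smul, mul_comm (σ b), ← hb']
  ext i j
  simp [h.involutive]

/-- Hermitian matrices are congruent to the identity. -/
theorem herm_congr_one (h : IsBar σ) {n : ℕ} {A : Matrix (Fin n) (Fin n) F} (hA : A.det ≠ 0) (hs : Aᵀ = A.map σ) :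
    ∃ U : GL (Fin n) F, act σ A (mat U) = 1 := by
  classical
  have hG : IsRG σ 1 A := ⟨hA, h.involutive, by rw [one_smul, hs]⟩
  have hf := isSesq_formG σ A
  let B : (Fin n → F) →ₛₗ[(σ : F →+* F)] (Fin n → F) →ₗ[F] F :=
    LinearMap.mk₂'ₛₗ (σ : F →+* F) (RingHom.id F) (fun x y => formG σ A y x)
      (fun x x' y => hf.add_right y x x') (fun c x y => hf.smul_right c y x) (fun x y y' => hf.add_left y y' x)
      (fun c x y => hf.smul_left c y x)
  have hB : Cfsg.Agent.Classical.Herm.IsHerm B :=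
    { toIsInvol := isInvol_of_bar h
      symm := fun x y => by
        show σ (formG σ A y x) = formG σ A x y
        rw [hG.swap y x, one_mul]
      nondeg := fun x hx => hG.nondeg_right hx }
  obtain ⟨b, hb⟩ := Cfsg.Agent.Classical.Herm.exists_orthonormal hB
  let e : Fin (Module.finrank F (Fin n → F)) ≃ Fin n := finCongr (by simp)
  let b' := b.reindex e
  refine ⟨ofBasis b', Matrix.ext fun i j => ?_⟩
  rw [← formG_single σ (act σ A (mat (ofBasis b'))) i j, ← formG_mulVec, ofBasis_single, ofBasis_single,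
    Matrix.one_apply]
  show B (b' j) (b' i) = _
  rw [Module.Basis.reindex_apply, Module.Basis.reindex_apply, hb]
  exact if_congr ⟨fun hh => (e.symm.injective hh).symm, fun hh => by rw [hh]⟩ rfl rfl

variable {ι : Type} [Fintype ι] [DecidableEq ι]

/-- Similitude multipliers are unique. -/
theorem unique_similitude {N : Subgroup (GL ι F)} (hN : ActsAbsolutelyIrreducibly (matrixSet N)) {G G' : Matrix ι ι F}
    (hG : G.det ≠ 0) {ν : GL ι F → F} (hν : ∀ g ∈ N, ν g ≠ 0) (h : ∀ g ∈ N, act σ G (mat g) = ν g • G)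
    (h' : ∀ g ∈ N, act σ G' (mat g) = ν g • G') : ∃ c : F, G' = c • G := by
  obtain ⟨U, hU⟩ := PrimeDim.isUnit_of_det hG
  set A : Matrix ι ι F := (↑U⁻¹ : Matrix ι ι F) * G' with hA
  have hGA : G * A = G' := by rw [hA, ← hU, ← mul_assoc, Units.mul_inv, one_mul]
  have key : ∀ g ∈ N, A * (mat g).map σ = (mat g).map σ * A := by
    intro g hg
    have e1 : (mat g)ᵀ * G * (A * (mat g).map σ) = ν g • (G * A) := by
      calc (mat g)ᵀ * G * (A * (mat g).map σ) = (mat g)ᵀ * (G * A) * (mat g).map σ := by simp only [mul_assoc]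
        _ = ν g • (G * A) := by rw [hGA]; exact h' g hg
    have e2 : (mat g)ᵀ * G * ((mat g).map σ * A) = ν g • (G * A) := by
      rw [← Matrix.smul_mul, ← h g hg]
      simp only [act, mul_assoc]
    exact ((PrimeDim.isUnit_transpose g.isUnit).mul (PrimeDim.isUnit_of_det hG)).mul_right_inj.1 (e1.trans e2.symm)
  obtain ⟨c, hc⟩ := (abs_iff.1 hN).2 (A.map σ.symm) fun g hg => by
    have := congrArg (fun X : Matrix ι ι F => X.map σ.symm) (key g hg)
    simpa [Matrix.map_mul, Matrix.map_map, Function.comp_def] using this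
  refine ⟨σ c, ?_⟩
  have hA' : A = σ c • (1 : Matrix ι ι F) := by
    have := congrArg (fun X : Matrix ι ι F => X.map σ) hc
    simp only [Matrix.map_map] at this
    rw [show (σ ∘ σ.symm : F → F) = id from funext σ.apply_symm_apply, Matrix.map_id] at this
    rw [this]
    ext i j
    by_cases hij : i = j <;> simp [hij]
  rw [← hGA, hA', Matrix.mul_smul, mul_one]

variable [Nonempty ι]

/-- A form semi-invariant under a group with entries in a subfield is proportional to a form over the subfield. -/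
theorem rational_similitude {N : Subgroup (GL ι F)} (hN : ActsAbsolutelyIrreducibly (matrixSet N)) {F₁ : Subfield F}
    (hE : ∀ g ∈ N, Entries F₁ (mat g)) {G : Matrix ι ι F} (hG : G.det ≠ 0) {ν : GL ι F → F}
    (hν : ∀ g ∈ N, ν g ≠ 0 ∧ ν g ∈ F₁) (h : ∀ g ∈ N, act σ G (mat g) = ν g • G) :
    ∃ (lam : F) (G₁ : Matrix ι ι F), lam ≠ 0 ∧ Entries F₁ G₁ ∧ G = lam • G₁ := by
  obtain ⟨τ, hτ, hτpow⟩ := exists_powHom F₁
  have h' : ∀ g ∈ N, act σ (G.map τ) (mat g) = ν g • G.map τ := by
    intro g hg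
    have hfix : (mat g).map τ = mat g := Matrix.ext fun i j => (hτ _).1 (hE g hg i j)
    have h1 := congrArg (fun X : Matrix ι ι F => X.map τ) (h g hg)
    simp only [act, Matrix.map_mul] at h1
    rw [Matrix.transpose_map, hfix, show ((mat g).map σ).map τ = ((mat g).map τ).map σ by
      ext i j; exact (show τ (σ _) = σ (τ _) by rw [hτpow, hτpow, map_pow]), hfix] at h1
    rw [act, h1]
    ext i j
    simp [(hτ _).1 (hν g hg).2]
  obtain ⟨c, hc⟩ := unique_similitude hN hG (fun g hg => (hν g hg).1) h h'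
  obtain ⟨i, j, hij⟩ : ∃ i j, G i j ≠ 0 := by
    by_contra hcon
    push Not at hcon
    exact hG (by rw [show G = 0 from Matrix.ext hcon, Matrix.det_zero])
  refine ⟨G i j, (G i j)⁻¹ • G, hij, fun a b => ?_, by rw [smul_smul, mul_inv_cancel₀ hij, one_smul]⟩
  rw [hτ, Matrix.smul_apply, smul_eq_mul, map_mul, map_inv₀]
  have e1 : τ (G a b) = c * G a b := congrFun (congrFun hc a) b
  have e2 : τ (G i j) = c * G i j := congrFun (congrFun hc i) j
  have hc0 : c ≠ 0 := fun e => (map_ne_zero τ).2 hij (by rw [e2, e, zero_mul])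
  rw [e1, e2]
  field_simp

end Cfsg.Agent.Asch
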