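import Cfsg.Agent.Asch.UnitStd
import Cfsg.Agent.PrimeDim.SUProper
import Cfsg.Agent.NotMax.UnitaryFrame
import Mathlib.FieldTheory.Finite.GaloisField
import Mathlib.RingTheory.Norm.Transitivity

/-!
The normaliser of a cubic field in the unitary group of dimension six over four elements fixes a rational structure.
-/

set_option autoImplicit false
set_option linter.unusedSectionVars false

namespace Cfsg.Agent.Asch

open Matrix Cfsg.Geo Cfsg.Agent.PrimeDim
open scoped MatrixGroups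

namespace FieldFour

variable {F : Type*} [Field F] [Fintype F] {ι : Type} [Fintype ι] [DecidableEq ι] {σ : F ≃+* F}
variable {L : Type*} [Field L] [Fintype L] [Algebra F L] {φ : L →ₐ[F] Matrix ι ι F}

local notation "h₁" => formG σ (1 : Matrix ι ι F)

theorem ext_right (hbar : IsBar σ) {w : ι → F} (h : ∀ u, h₁ u w = 0) : w = 0 := funext fun i => by
  have h1 : stdH σ w (Pi.single i 1) = 0 := by rw [stdH_comm hbar]; exact (congrArg σ (h _)).trans (map_zero σ)
  rwa [stdH_single] at h1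

theorem phi_mul (k l : L) (v : ι → F) : φ (k * l) *ᵥ v = φ k *ᵥ (φ l *ᵥ v) := by
  rw [map_mul, Matrix.mulVec_mulVec]

theorem phi_injective [Nonempty ι] : Function.Injective φ := (φ : L →+* Matrix ι ι F).injective

/-- The adjoint is the power map of the square root of the order. -/
theorem exists_star [Nonempty ι] (hbar : IsBar σ) (hL : Fintype.card L = 64)
    (hadj : ∀ k, ∃ l, ∀ u v, h₁ (φ k *ᵥ u) v = h₁ u (φ l *ᵥ v)) :
    ∃ s : L →+* L, (∀ k u v, h₁ (φ k *ᵥ u) v = h₁ u (φ (s k) *ᵥ v)) ∧ (∀ k, s (s k) = k) ∧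
      (∀ (a : F) k, s (a • k) = σ a • s k) ∧ (∀ k, s k = k ^ 8) ∧ ∀ a, s a = a → ∃ c, c * s c = a := by
  classical
  choose f hf using hadj
  have hs := isSesq_formG σ (1 : Matrix ι ι F)
  have uniq : ∀ {k l : L}, (∀ u v, h₁ (φ k *ᵥ u) v = h₁ u (φ l *ᵥ v)) → f k = l := fun {k l} h => by
    refine phi_injective (φ := φ) (Matrix.mulVec_injective (funext fun v => sub_eq_zero.1 (ext_right hbar fun u => ?_)))
    have h1 : h₁ u (φ (f k) *ᵥ v - φ l *ᵥ v) + h₁ u (φ l *ᵥ v) = h₁ u (φ (f k) *ᵥ v) := by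
      rw [← hs.add_right, sub_add_cancel]
    rw [← hf, ← h] at h1
    simpa using h1
  let s : L →+* L :=
    { toFun := f
      map_one' := uniq fun u v => by rw [map_one, Matrix.one_mulVec, Matrix.one_mulVec]
      map_zero' := uniq fun u v => by
        rw [map_zero, Matrix.zero_mulVec, Matrix.zero_mulVec]; simp [formG]
      map_mul' := fun k l => uniq fun u v => by rw [phi_mul, hf, hf, ← phi_mul, mul_comm]
      map_add' := fun k l => uniq fun u v => by
        rw [map_add, Matrix.add_mulVec, hs.add_left, hf, hf, ← hs.add_right, ← Matrix.add_mulVec, ← map_add] }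
  have hinv : ∀ k, s (s k) = k := fun k => uniq fun u v => by
    show stdH σ (φ (f k) *ᵥ u) v = stdH σ u (φ k *ᵥ v)
    rw [stdH_comm hbar (φ (f k) *ᵥ u), stdH_comm hbar u (φ k *ᵥ v)]
    exact congrArg σ (hf k v u).symm
  have hsmul : ∀ (a : F) k, s (a • k) = σ a • s k := fun a k => uniq fun u v => by
    rw [map_smul, map_smul, Matrix.smul_mulVec, Matrix.smul_mulVec, hs.smul_left, hs.smul_right, hbar.involutive, hf]
    rfl
  have hinvol : Cfsg.Agent.Classical.Herm.IsInvol s := ⟨fun e => by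
    obtain ⟨a, ha⟩ := hbar.exists_moved
    have h1 := hsmul a 1
    rw [e, RingHom.id_apply, RingHom.id_apply] at h1
    exact ha (smul_left_injective F one_ne_zero h1.symm), hinv⟩
  let s' : L ≃+* L := RingEquiv.ofBijective s (Finite.injective_iff_bijective.1 s.injective)
  have hnorm : ∀ a, s a = a → ∃ c, c * s c = a := fun a ha => Cfsg.Agent.Classical.Herm.exists_norm hinvol ha
  have hbar' : IsBar s' := ⟨hinv, fun e => hinvol.ne_id (RingHom.ext fun k => RingEquiv.congr_fun e k), hnorm⟩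
  have h8 : Nat.card (fixF s') = 8 := by
    have h1 := card_fixF hbar'
    rw [hL] at h1
    exact (Nat.pow_left_injective two_ne_zero (show 8 ^ 2 = _ from h1)).symm
  exact ⟨s, hf, hinv, hsmul, fun k => by rw [← h8]; exact bar_pow hbar' k, hnorm⟩

variable {s : L →+* L}

/-- An orthonormal frame for the field structure. -/
theorem exists_coords [Nonempty ι] (hbar : IsBar σ) (hn : Fintype.card ι = 6) (hfr : Module.finrank F L = 3)
    (hadj : ∀ k u v, h₁ (φ k *ᵥ u) v = h₁ u (φ (s k) *ᵥ v)) (hinv : ∀ k, s (s k) = k)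
    (hnorm : ∀ a, s a = a → ∃ c, c * s c = a) :
    ∃ (Λ : L →ₗ[F] F) (E : (L × L) ≃ₗ[F] (ι → F)), (∀ z, (∀ k, Λ (k * z) = 0) → z = 0) ∧
      (∀ k, Λ (s k) = σ (Λ k)) ∧ (∀ p q, h₁ (E p) (E q) = Λ (p.1 * s q.1 + p.2 * s q.2)) ∧
      ∀ k p, φ k *ᵥ E p = E (k * p.1, k * p.2) := by
  classical
  have hs := isSesq_formG σ (1 : Matrix ι ι F)
  have hcomm : ∀ u v, h₁ u v = σ (h₁ v u) := fun u v => stdH_comm hbar u v
  have hzl : ∀ v, h₁ 0 v = 0 := fun v => by simpa using hs.smul_left 0 0 v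
  let act₁ : (ι → F) → (L →ₗ[F] (ι → F)) := fun w =>
    { toFun := fun k => φ k *ᵥ w
      map_add' := fun k l => by rw [map_add, Matrix.add_mulVec]
      map_smul' := fun a k => by rw [map_smul, Matrix.smul_mulVec]; rfl }
  let fun₁ : (ι → F) → (ι → F) → (L →ₗ[F] F) := fun w z =>
    { toFun := fun k => h₁ (φ k *ᵥ w) z
      map_add' := fun k l => by rw [map_add, Matrix.add_mulVec, hs.add_left]
      map_smul' := fun a k => by rw [map_smul, Matrix.smul_mulVec, hs.smul_left]; rfl }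
  have pair : ∀ w z k l, h₁ (φ k *ᵥ w) (φ l *ᵥ z) = fun₁ w z (s l * k) := fun w z k l => by
    show _ = h₁ (φ (s l * k) *ᵥ w) z
    rw [phi_mul, hadj (s l), hinv]
  obtain ⟨i⟩ : Nonempty ι := inferInstance
  set e₁ : ι → F := Pi.single i 1 with he₁
  have he : h₁ e₁ e₁ = 1 := (stdH_single i e₁).trans (Pi.single_eq_same i 1)
  set Λ := fun₁ e₁ e₁ with hΛ
  have hΛ1 : Λ 1 = 1 := by show h₁ (φ 1 *ᵥ e₁) e₁ = 1; rw [map_one, Matrix.one_mulVec, he]
  have hΛnd : ∀ z, (∀ k, Λ (k * z) = 0) → z = 0 := fun z hz => by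
    by_contra h0
    have h1 := hz z⁻¹
    rw [inv_mul_cancel₀ h0, hΛ1] at h1
    exact one_ne_zero h1
  have hstar : ∀ w k, fun₁ w w (s k) = σ (fun₁ w w k) := fun w k => by
    show h₁ (φ (s k) *ᵥ w) w = σ (h₁ (φ k *ᵥ w) w)
    rw [hadj, hinv, hcomm]
  let T : (ι → F) →ₗ[F] (L →ₗ[F] F) :=
    { toFun := fun w => fun₁ w e₁
      map_add' := fun p q => LinearMap.ext fun k => by
        show h₁ (φ k *ᵥ (p + q)) e₁ = _
        rw [Matrix.mulVec_add, hs.add_left]; rfl
      map_smul' := fun a p => LinearMap.ext fun k => by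
        show h₁ (φ k *ᵥ (a • p)) e₁ = _
        rw [Matrix.mulVec_smul, hs.smul_left]; rfl }
  set W := LinearMap.ker T with hW
  have hWmem : ∀ w ∈ W, ∀ k, h₁ (φ k *ᵥ w) e₁ = 0 := fun w hw k =>
    LinearMap.congr_fun (LinearMap.mem_ker.1 hw) k
  set Y := LinearMap.range (act₁ e₁) with hY
  have hYW : Y ⊓ W = ⊥ := by
    rw [eq_bot_iff]
    rintro _ ⟨⟨z, rfl⟩, hz⟩
    rw [Submodule.mem_bot]
    have h0 : z = 0 := hΛnd z fun k => by
      have h1 : h₁ (φ k *ᵥ (φ z *ᵥ e₁)) e₁ = 0 := hWmem _ hz k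
      rwa [← phi_mul] at h1
    rw [h0]; exact map_zero (act₁ e₁)
  have hY3 : Module.finrank F Y = 3 := by
    rw [hY, LinearMap.finrank_range_of_inj, hfr]
    refine (injective_iff_map_eq_zero _).2 fun z hz => hΛnd z fun k => ?_
    show h₁ (φ (k * z) *ᵥ e₁) e₁ = 0
    rw [phi_mul, show φ z *ᵥ e₁ = 0 from hz, Matrix.mulVec_zero, hzl]
  have hW3 : 3 ≤ Module.finrank F W := by
    have h1 := LinearMap.finrank_range_add_finrank_ker T
    have h2 := Submodule.finrank_le (LinearMap.range T)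
    rw [Module.finrank_linearMap, hfr, Module.finrank_self] at h2
    rw [Module.finrank_fintype_fun_eq_card, hn, ← hW] at h1
    omega
  have htop : Y ⊔ W = ⊤ := by
    refine Submodule.eq_top_of_finrank_eq ?_
    have h1 := Submodule.finrank_sup_add_finrank_inf_eq Y W
    have h2 := Submodule.finrank_le (Y ⊔ W)
    rw [hYW, finrank_bot, hY3, add_zero] at h1
    rw [Module.finrank_fintype_fun_eq_card, hn] at h2 ⊢
    omega
  obtain ⟨w₂, hw₂, hne⟩ : ∃ w ∈ W, h₁ w w ≠ 0 := by
    by_contra hcon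
    push Not at hcon
    have hpol : ∀ a ∈ W, ∀ b ∈ W, h₁ a b = 0 := by
      intro a ha b hb
      obtain ⟨ω, hω⟩ := hbar.exists_moved
      have h1 := hcon _ (add_mem ha hb)
      have h2 := hcon _ (add_mem (W.smul_mem ω ha) hb)
      rw [hs.add_left, hs.add_right, hs.add_right, hcon a ha, hcon b hb] at h1
      rw [hs.add_left, hs.add_right, hs.add_right, hs.smul_left, hs.smul_right, hs.smul_left, hs.smul_right,
        hcon a ha, hcon b hb] at h2
      exact (mul_eq_zero.1 (show (ω - σ ω) * h₁ a b = 0 by linear_combination h2 - σ ω * h1)).resolve_left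
        (sub_ne_zero.2 (Ne.symm hω))
    obtain ⟨w, hw, hw0⟩ := W.exists_mem_ne_zero_of_ne_bot fun e => by rw [e, finrank_bot] at hW3; omega
    refine hw0 (ext_right hbar fun u => ?_)
    obtain ⟨p, ⟨z, rfl⟩, q, hq, rfl⟩ := Submodule.mem_sup.1 (htop ▸ Submodule.mem_top : u ∈ Y ⊔ W)
    rw [hs.add_left, hpol q hq w hw, add_zero]
    show h₁ (φ z *ᵥ e₁) w = 0
    rw [hadj, hcomm, hWmem w hw, map_zero]
  let D : L →ₗ[F] (L →ₗ[F] F) :=
    { toFun := fun z =>
        { toFun := fun k => Λ (k * z)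
          map_add' := fun k l => by rw [add_mul, map_add]
          map_smul' := fun a k => by rw [smul_mul_assoc, map_smul]; rfl }
      map_add' := fun y z => LinearMap.ext fun k => by
        show Λ (k * (y + z)) = _
        rw [mul_add, map_add]; rfl
      map_smul' := fun a z => LinearMap.ext fun k => by
        show Λ (k * (a • z)) = _
        rw [mul_smul_comm, map_smul]; rfl }
  have hDi : Function.Injective D :=
    (injective_iff_map_eq_zero _).2 fun z hz => hΛnd z fun k => LinearMap.congr_fun hz k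
  obtain ⟨μ, hμ⟩ := ((LinearMap.injective_iff_surjective_of_finrank_eq_finrank
    (by rw [Module.finrank_linearMap, Module.finrank_self, mul_one])).1 hDi) (fun₁ w₂ w₂)
  have hμk : ∀ k, Λ (k * μ) = fun₁ w₂ w₂ k := fun k => LinearMap.congr_fun hμ k
  have hμs : s μ = μ := by
    refine sub_eq_zero.1 (hΛnd _ fun k => ?_)
    rw [mul_sub, map_sub, hμk, sub_eq_zero, ← hinv k, ← map_mul, hstar e₁, hμk, ← hstar]
  obtain ⟨ν, hν⟩ := hnorm μ hμs
  have hμ0 : μ ≠ 0 := fun e => hne (by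
    have h1 := hμk 1
    rw [e, mul_zero, map_zero] at h1
    show h₁ w₂ w₂ = 0
    rw [h1]
    show _ = h₁ (φ 1 *ᵥ w₂) w₂
    rw [map_one, Matrix.one_mulVec])
  set e₂ : ι → F := φ ν⁻¹ *ᵥ w₂ with he₂
  have h22 : ∀ k, fun₁ e₂ e₂ k = Λ k := fun k => by
    show h₁ (φ k *ᵥ e₂) e₂ = _
    rw [he₂, ← phi_mul, pair, ← hμk, ← hν, map_inv₀]
    congr 1
    have hν0 : ν ≠ 0 := left_ne_zero_of_mul (hν ▸ hμ0)
    have hν0' : s ν ≠ 0 := (map_ne_zero s).2 hν0
    field_simp
  have h21 : ∀ k, fun₁ e₂ e₁ k = 0 := fun k => by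
    show h₁ (φ k *ᵥ e₂) e₁ = 0
    rw [he₂, ← phi_mul]
    exact hWmem w₂ hw₂ _
  have h12 : ∀ k, fun₁ e₁ e₂ k = 0 := fun k => by
    show h₁ (φ k *ᵥ e₁) e₂ = 0
    rw [hadj, hcomm]
    exact (congrArg σ (h21 (s k))).trans (map_zero σ)
  let E₀ : (L × L) →ₗ[F] (ι → F) := (act₁ e₁).coprod (act₁ e₂)
  have hE : ∀ p q, h₁ (E₀ p) (E₀ q) = Λ (p.1 * s q.1 + p.2 * s q.2) := fun p q => by
    show h₁ (φ p.1 *ᵥ e₁ + φ p.2 *ᵥ e₂) (φ q.1 *ᵥ e₁ + φ q.2 *ᵥ e₂) = _
    rw [hs.add_left, hs.add_right, hs.add_right, pair, pair, pair, pair, h12, h21, h22, map_add, mul_comm p.1,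
      mul_comm p.2, add_zero, zero_add]
  have hinj : Function.Injective E₀ := by
    refine (injective_iff_map_eq_zero _).2 fun p hp => Prod.ext (hΛnd _ fun k => ?_) (hΛnd _ fun k => ?_)
    · have h1 := hE p (s k, 0)
      rw [hp, hzl, hinv, map_zero s, mul_zero, add_zero] at h1
      rw [mul_comm]; exact h1.symm
    · have h1 := hE p (0, s k)
      rw [hp, hzl, hinv, map_zero s, mul_zero, zero_add] at h1
      rw [mul_comm]; exact h1.symm
  refine ⟨Λ, LinearEquiv.ofBijective E₀ ⟨hinj, (LinearMap.injective_iff_surjective_of_finrank_eq_finrank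
    (by rw [Module.finrank_prod, hfr, Module.finrank_fintype_fun_eq_card, hn])).1 hinj⟩, hΛnd, hstar e₁, hE,
    fun k p => ?_⟩
  show φ k *ᵥ (φ p.1 *ᵥ e₁ + φ p.2 *ᵥ e₂) = φ (k * p.1) *ᵥ e₁ + φ (k * p.2) *ᵥ e₂
  rw [Matrix.mulVec_add, phi_mul, phi_mul]

end FieldFour

open FieldFour in
set_option maxHeartbeats 1600000 in
/-- The normaliser of a cubic field over four elements fixes a symplectic rational structure. -/
theorem field_four_rational {F : Type*} [Field F] [Fintype F] {ι : Type} [Fintype ι] [DecidableEq ι] {σ : F ≃+* F}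
    (hbar : IsBar σ) (h4 : Fintype.card F = 4) (hn : Fintype.card ι = 6) {K : Subalgebra F (Matrix ι ι F)}
    (hK : IsFieldSubalgebra 3 K) (hadj : IsAdjointClosedFor (formG σ (1 : Matrix ι ι F)) K) {H : Subgroup (GL ι F)}
    (hfix : Fixes σ H (1 : Matrix ι ι F)) (hdet : H ≤ specialLinear ι F) (hle : H ≤ subalgebraNormalizer K) :
    ∃ P : GL ι F, IsFormRationalStructure (formG σ (1 : Matrix ι ι F)) (fixF σ) 1 P ∧
      (∀ u : ι → F, (∀ i, u i ∈ fixF σ) → formG σ (1 : Matrix ι ι F) (mat P *ᵥ u) (mat P *ᵥ u) = 0) ∧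
      H ≤ subfieldSubgroup (fixF σ) P := by
  classical
  haveI : Nonempty ι := Fintype.card_pos_iff.1 (by omega)
  have hfield : IsField K :=
    { exists_pair_ne := ⟨0, 1, zero_ne_one⟩
      mul_comm := fun a b => Subtype.ext (hK.comm a.1 a.2 b.1 b.2)
      mul_inv_cancel := fun {a} ha => by
        obtain ⟨y, hy, hxy⟩ := hK.inv a.1 a.2 fun h => ha (Subtype.ext h)
        exact ⟨⟨y, hy⟩, Subtype.ext hxy⟩ }
  letI : Field K := hfield.toField
  letI : Fintype K := Fintype.ofFinite K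
  have hfr : Module.finrank F K = 3 := hK.finrank_eq
  have hL : Fintype.card K = 64 := by rw [Module.card_eq_pow_finrank (K := F), h4, hfr]; rfl
  have h2 : (2 : F) = 0 := by
    have h := FiniteField.cast_card_eq_zero F
    rw [h4] at h; push_cast at h
    exact mul_self_eq_zero.1 (show (2 : F) * 2 = 0 by linear_combination h)
  have h2K : (2 : K) = 0 := by rw [← map_ofNat (algebraMap F K) 2, h2, map_zero]
  have hneg : ∀ a : K, -a = a := fun a => by linear_combination -a * h2K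
  obtain ⟨s, hadj', hinv, hsmul, h8, hnorm⟩ := exists_star (φ := K.val) hbar hL fun k => by
    obtain ⟨l, hl, h⟩ := hadj k.1 k.2
    exact ⟨⟨l, hl⟩, h⟩
  obtain ⟨Λ, E, hΛ, hΛs, hE, hEk⟩ := exists_coords (φ := K.val) hbar hn hfr hadj' hinv hnorm
  have hs := isSesq_formG σ (1 : Matrix ι ι F)
  -- the conjugation
  let J : (ι → F) → (ι → F) := fun v => E (s (E.symm v).2, s (E.symm v).1)
  have hJE : ∀ p, J (E p) = E (s p.2, s p.1) := fun p => by simp [J]
  have hJinv : ∀ v, J (J v) = v := fun v => by simp [J, hinv]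
  have hJadd : ∀ v w, J (v + w) = J v + J w := fun v w => by
    simp only [J, map_add, Prod.fst_add, Prod.snd_add]
    exact map_add E (s (E.symm v).2, s (E.symm v).1) (s (E.symm w).2, s (E.symm w).1)
  have hJsmul : ∀ (a : F) v, J (a • v) = σ a • J v := fun a v => by
    simp only [J, map_smul, Prod.smul_fst, Prod.smul_snd, hsmul]
    exact map_smul E (σ a) (s (E.symm v).2, s (E.symm v).1)
  let M : Matrix ι ι F := Matrix.of fun i j => J (Pi.single j 1) i
  have hJM : ∀ v, J v = M *ᵥ fun i => σ (v i) := fun v => by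
    let Jh : (ι → F) →+ (ι → F) := AddMonoidHom.mk' J hJadd
    conv_lhs => rw [pi_eq_sum_univ' v]
    rw [show J (∑ i, v i • (Pi.single i 1 : ι → F)) = ∑ i, J (v i • (Pi.single i 1 : ι → F)) from map_sum Jh _ _]
    funext j
    simp [hJsmul, Matrix.mulVec, dotProduct, M, mul_comm]
  have hσv : ∀ w : ι → F, ∃ v : ι → F, (fun i => σ (v i)) = w := fun w =>
    ⟨fun i => σ (w i), funext fun i => hbar.involutive _⟩
  have hMdet : M.det ≠ 0 := fun h0 => by
    obtain ⟨v, hv0, hv⟩ := Matrix.exists_mulVec_eq_zero_iff.2 h0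
    obtain ⟨u, rfl⟩ := hσv v
    rw [← hJM] at hv
    refine hv0 (funext fun i => ?_)
    have h1 := hJinv u
    rw [hv, hJM] at h1
    simp [← h1, show (fun _ : ι => (0 : F)) = 0 from rfl]
  have hnorm1 : ∀ k : K, k * s k = 1 → k.1.det = 1 → ∃ a : F, a ≠ 0 ∧ algebraMap F K a = k := by
    intro k hk hd
    have h9 : k ^ 9 = 1 := by rw [pow_succ', ← h8, hk]
    have hN : Algebra.norm F k * Algebra.norm F k = 1 := by
      rw [← hd, ← LinearMap.det_toLin', Algebra.norm_apply, ← LinearMap.det_prodMap,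
        ← LinearMap.det_conj _ E]
      congr 1
      refine LinearMap.ext fun v => ?_
      obtain ⟨p, rfl⟩ := E.surjective v
      rw [Matrix.toLin'_apply]
      show _ = k.1 *ᵥ E p
      rw [show k.1 *ᵥ E p = E (k * p.1, k * p.2) from hEk k p]
      simp
    have h21 : algebraMap F K (Algebra.norm F k) = k ^ 21 := by
      rw [FiniteField.algebraMap_norm_eq_pow, Nat.card_eq_fintype_card, Nat.card_eq_fintype_card, hL, h4]
    have h3 : k ^ 3 = 1 := by
      have h6 : k ^ 21 * k ^ 21 = 1 := by rw [← h21, ← map_mul, hN, map_one]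
      rw [← pow_add, show 21 + 21 = 9 * 4 + 6 from rfl, pow_add, pow_mul, h9, one_pow, one_mul] at h6
      have h9' : k ^ (6 + 3) = 1 := h9
      rwa [pow_add, h6, one_mul] at h9'
    obtain ⟨ω, hω0, hω1, hω⟩ := NotMax.exists_omega_four h4
    set w : K := algebraMap F K ω with hw
    have hwk : w ^ 2 + w + 1 = 0 := by rw [hw, ← map_pow, ← map_add, ← map_one (algebraMap F K), ← map_add, hω, map_zero]
    rcases mul_eq_zero.1 (show (k - 1) * ((k - w) * (k - w ^ 2)) = 0 by
      linear_combination h3 + (-(k * k) + k * w + (1 - w)) * hwk) with h | h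
    · exact ⟨1, one_ne_zero, by rw [map_one, sub_eq_zero.1 h]⟩
    rcases mul_eq_zero.1 h with h | h
    · exact ⟨ω, hω0, (sub_eq_zero.1 h).symm⟩
    · exact ⟨ω ^ 2, pow_ne_zero 2 hω0, by rw [map_pow]; exact (sub_eq_zero.1 h).symm⟩
  -- elements commute with the conjugation up to scalars
  have key : ∀ g ∈ H, ∃ d : F, d ≠ 0 ∧ ∀ v, d • (mat g *ᵥ J v) = J (d • (mat g *ᵥ v)) := by
    intro g hg
    have hn' : ∀ k : K, mat g * k.1 * mat g⁻¹ ∈ K := fun k => (hle hg k.1).1 k.2
    let θ : K →+* K :=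
      { toFun := fun k => ⟨_, hn' k⟩
        map_one' := Subtype.ext (by show mat g * 1 * mat g⁻¹ = 1; rw [mul_one, mat_mul_inv])
        map_zero' := Subtype.ext (by show mat g * 0 * mat g⁻¹ = 0; rw [mul_zero, zero_mul])
        map_mul' := fun a b => Subtype.ext (by
          show mat g * (a.1 * b.1) * mat g⁻¹ = mat g * a.1 * mat g⁻¹ * (mat g * b.1 * mat g⁻¹)
          simp only [mul_assoc]
          rw [← mul_assoc (mat g⁻¹) (mat g), mat_inv_mul, one_mul])
        map_add' := fun a b => Subtype.ext (by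
          show mat g * (a.1 + b.1) * mat g⁻¹ = mat g * a.1 * mat g⁻¹ + mat g * b.1 * mat g⁻¹
          rw [mul_add, add_mul]) }
    have hθg : ∀ k v, mat g *ᵥ (k.1 *ᵥ v) = (θ k).1 *ᵥ (mat g *ᵥ v) := fun k v => by
      show _ = (mat g * k.1 * mat g⁻¹) *ᵥ _
      rw [Matrix.mulVec_mulVec, Matrix.mulVec_mulVec, mul_assoc _ (mat g⁻¹), mat_inv_mul, mul_one]
    have hθs : ∀ k, s (θ k) = θ (s k) := fun k => by rw [h8, h8, map_pow]
    set A := E.symm (mat g *ᵥ E (1, 0)) with hA
    set B := E.symm (mat g *ᵥ E (0, 1)) with hB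
    have hgE : ∀ p : K × K, mat g *ᵥ E p = E (θ p.1 * A.1 + θ p.2 * B.1, θ p.1 * A.2 + θ p.2 * B.2) := by
      intro p
      have e : E p = p.1.1 *ᵥ E (1, 0) + p.2.1 *ᵥ E (0, 1) := by
        rw [show p.1.1 *ᵥ E (1, 0) = E (p.1 * 1, p.1 * 0) from hEk _ _,
          show p.2.1 *ᵥ E (0, 1) = E (p.2 * 0, p.2 * 1) from hEk _ _, ← map_add]
        simp
      rw [e, Matrix.mulVec_add, hθg, hθg, ← E.apply_symm_apply (mat g *ᵥ E (1, 0)), ← hA,
        ← E.apply_symm_apply (mat g *ᵥ E (0, 1)), ← hB, show (θ p.1).1 *ᵥ E A = E (θ p.1 * A.1, θ p.1 * A.2) from hEk (θ p.1) A,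
        show (θ p.2).1 *ᵥ E B = E (θ p.2 * B.1, θ p.2 * B.2) from hEk (θ p.2) B, ← map_add]
      rfl
    have hiso : ∀ p q : K × K, Λ (p.1 * s q.1 + p.2 * s q.2) =
        Λ ((θ p.1 * A.1 + θ p.2 * B.1) * s (θ q.1 * A.1 + θ q.2 * B.1) +
          (θ p.1 * A.2 + θ p.2 * B.2) * s (θ q.1 * A.2 + θ q.2 * B.2)) := fun p q => by
      have h1 := (iso_apply hfix hg (E p) (E q)).symm
      rw [hgE, hgE, hE, hE] at h1
      exact h1
    have hθsurj : Function.Surjective θ := Finite.surjective_of_injective θ.injective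
    set w := A.1 * s A.1 + A.2 * s A.2 with hw
    have z11 : ∀ k, Λ (θ k * w) = Λ k := fun k => by
      have h1 := hiso (k, 0) (1, 0)
      simp only [map_zero, map_one, zero_mul, mul_zero, add_zero, one_mul, mul_one] at h1
      rw [h1, hw, mul_add, mul_assoc, mul_assoc]
    have z21 : B.1 * s A.1 + B.2 * s A.2 = 0 := hΛ _ fun k => by
      obtain ⟨k, rfl⟩ := hθsurj k
      have h1 := hiso (0, k) (1, 0)
      simp only [map_zero, map_one, zero_mul, mul_zero, add_zero, zero_add, one_mul, mul_one] at h1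
      rw [mul_add, ← mul_assoc, ← mul_assoc]
      exact h1.symm
    have z22 : B.1 * s B.1 + B.2 * s B.2 = w := sub_eq_zero.1 (hΛ _ fun k => by
      obtain ⟨k, rfl⟩ := hθsurj k
      have h1 := hiso (0, k) (0, 1)
      simp only [map_zero, map_one, zero_mul, mul_zero, add_zero, zero_add, one_mul, mul_one] at h1
      rw [mul_sub, map_sub, z11, sub_eq_zero, mul_add, ← mul_assoc, ← mul_assoc]
      exact h1.symm)
    have hw0 : w ≠ 0 := fun e => by
      refine one_ne_zero (hΛ (1 : K) fun k => ?_)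
      rw [mul_one, ← z11, e, mul_zero, map_zero]
    set c := (A.1 * B.2 - A.2 * B.1) / w with hc
    have hcw : c * w = A.1 * B.2 - A.2 * B.1 := div_mul_cancel₀ _ hw0
    have hb2 : B.2 = c * s A.1 := mul_right_cancel₀ hw0 (by
      linear_combination -(s A.1) * hcw + A.2 * z21 + B.2 * hw)
    have ha2 : B.1 = c * s A.2 := mul_right_cancel₀ hw0 (by
      rw [← hneg (c * s A.2 * w)]
      linear_combination (s A.2) * hcw + A.1 * z21 + B.1 * hw)
    have hcc : c * s c = 1 := mul_right_cancel₀ hw0 (by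
      rw [one_mul]
      conv_rhs => rw [← z22, ha2, hb2, map_mul, map_mul, hinv, hinv]
      rw [hw]
      ring)
    have hgJ : ∀ v, mat g *ᵥ J v = c.1 *ᵥ J (mat g *ᵥ v) := fun v => by
      obtain ⟨p, rfl⟩ := E.surjective v
      rw [hJE, hgE, hgE, hJE, show ∀ r : K × K, c.1 *ᵥ E r = E (c * r.1, c * r.2) from hEk c]
      congr 1
      simp only [map_add, map_mul, hθs, ha2, hb2, hinv]
      refine Prod.ext ?_ ?_
      · linear_combination (-(θ (s p.2) * A.1)) * hcc
      · linear_combination (-(θ (s p.2) * A.2)) * hcc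
    have hgM : mat g * M = c.1 * M * (mat g).map σ := by
      refine Matrix.mulVec_injective (funext fun u => ?_)
      obtain ⟨v, rfl⟩ := hσv u
      rw [← Matrix.mulVec_mulVec, ← hJM, hgJ, hJM, ← Matrix.mulVec_mulVec, ← Matrix.mulVec_mulVec]
      congr 2
      funext i
      exact RingHom.map_mulVec (σ : F →+* F) (mat g) v i
    obtain ⟨a, ha0, hac⟩ := hnorm1 c hcc (by
      have h1 : (mat g).det = 1 := congrArg Units.val (hdet hg)
      have h3 := congrArg Matrix.det hgM
      rw [Matrix.det_mul, Matrix.det_mul, Matrix.det_mul, h1, one_mul,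
        show ((mat g).map σ).det = σ (mat g).det from (RingHom.map_det (σ : F →+* F) _).symm, h1, map_one, mul_one] at h3
      exact (mul_eq_right₀ hMdet).1 h3.symm)
    have hca : c.1 = a • (1 : Matrix ι ι F) := by
      rw [← hac]; exact Algebra.algebraMap_eq_smul_one a
    have haσ : σ a = a * a := by
      rw [bar_pow hbar, show Nat.card (fixF σ) = 2 from Nat.pow_left_injective two_ne_zero
        ((card_fixF hbar).symm.trans h4), pow_two]
    exact ⟨a, ha0, fun v => by rw [hgJ, hca, Matrix.smul_mulVec, Matrix.one_mulVec, smul_smul, ← haσ, hJsmul]⟩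
  -- a basis of fixed vectors
  obtain ⟨ω, hω0, hω1, hω⟩ := NotMax.exists_omega_four h4
  have hωσ : σ ω = ω ^ 2 := by
    rw [bar_pow hbar, show Nat.card (fixF σ) = 2 from Nat.pow_left_injective two_ne_zero
      ((card_fixF hbar).symm.trans h4)]
  let b₀ := Module.finBasisOfFinrankEq F K hfr
  let xs : Fin 3 ⊕ Fin 3 → K := Sum.elim (fun i => b₀ i) (fun i => ω • b₀ i)
  let vec : Fin 3 ⊕ Fin 3 → (ι → F) := fun i => E (xs i, s (xs i))
  obtain ⟨ε⟩ : Nonempty (ι ≃ Fin 3 ⊕ Fin 3) := ⟨Fintype.equivOfCardEq (by simp [hn])⟩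
  have hspan : ⊤ ≤ Submodule.span F (Set.range (vec ∘ ε)) := by
    rw [Set.range_comp, ε.range_eq_univ, Set.image_univ]
    intro v _
    obtain ⟨⟨x, y⟩, rfl⟩ := E.surjective v
    set S := Submodule.span F (Set.range vec) with hS
    have hb : ∀ i, E (b₀ i, 0) ∈ S ∧ E (0, s (b₀ i)) ∈ S := fun i => by
      have m1 : E (b₀ i, s (b₀ i)) ∈ S := Submodule.subset_span ⟨Sum.inl i, rfl⟩
      have m2 : E (ω • b₀ i, s (ω • b₀ i)) ∈ S := Submodule.subset_span ⟨Sum.inr i, rfl⟩
      have e1 : E (b₀ i, 0) = ω ^ 2 • E (b₀ i, s (b₀ i)) + E (ω • b₀ i, s (ω • b₀ i)) := by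
        rw [← map_smul, ← map_add, hsmul, hωσ]
        congr 1
        refine Prod.ext ?_ ?_
        · show b₀ i = ω ^ 2 • b₀ i + ω • b₀ i
          rw [← add_smul, show ω ^ 2 + ω = (1 : F) by linear_combination hω - h2, one_smul]
        · show (0 : K) = ω ^ 2 • s (b₀ i) + ω ^ 2 • s (b₀ i)
          rw [← add_smul, show ω ^ 2 + ω ^ 2 = (0 : F) by linear_combination ω ^ 2 * h2, zero_smul]
      have h1 : E (b₀ i, 0) ∈ S := e1 ▸ add_mem (S.smul_mem _ m1) m2
      refine ⟨h1, ?_⟩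
      have h3 := sub_mem m1 h1
      rwa [← map_sub, Prod.mk_sub_mk, sub_self, sub_zero] at h3
    have hx : E (x, 0) ∈ S := by
      have e : E (x, (0 : K)) = (E.toLinearMap ∘ₗ LinearMap.inl F K K) x := rfl
      rw [e, ← b₀.sum_repr x, map_sum]
      exact Submodule.sum_mem _ fun i _ => by rw [map_smul]; exact S.smul_mem _ (hb i).1
    have hy : E (0, y) ∈ S := by
      have e : E ((0 : K), y) = (E.toLinearMap ∘ₗ LinearMap.inr F K K) y := rfl
      rw [e, ← hinv y, ← b₀.sum_repr (s y), map_sum, map_sum]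
      exact Submodule.sum_mem _ fun i _ => by rw [hsmul, map_smul]; exact S.smul_mem _ (hb i).2
    have h3 := add_mem hx hy
    rwa [← map_add, Prod.mk_add_mk, add_zero, zero_add] at h3
  let b : Module.Basis ι F (ι → F) :=
    basisOfTopLeSpanOfCardEqFinrank (vec ∘ ε) hspan (Module.finrank_fintype_fun_eq_card F).symm
  set P := ofBasis b with hP
  have hPcol : ∀ i, mat P *ᵥ Pi.single i 1 = vec (ε i) := fun i => by rw [hP, ofBasis_single]; simp [b]
  have hPM : M * (mat P).map σ = mat P := by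
    refine Matrix.ext_of_mulVec_single fun i => ?_
    rw [← Matrix.mulVec_mulVec, hPcol, show ((mat P).map σ) *ᵥ Pi.single i 1 = fun j => σ ((mat P *ᵥ Pi.single i 1) j) by
      funext j; simp [Matrix.mulVec_single_one], hPcol, ← hJM]
    show J (E _) = E _
    rw [hJE, hinv]
  set G₁ := act σ (1 : Matrix ι ι F) (mat P) with hG₁
  have hG₁e : ∀ i j, G₁ i j = Λ (xs (ε i) * s (xs (ε j)) + s (xs (ε i) * s (xs (ε j)))) := fun i j => by
    rw [hG₁, ← formG_single σ (act σ (1 : Matrix ι ι F) (mat P)), ← formG_mulVec, hPcol, hPcol, hE, map_mul, hinv]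
  have hG₁f : Entries (fixF σ) G₁ := fun i j => by
    rw [mem_fixF, hG₁e, ← hΛs, map_add, hinv, add_comm]
  have hmap : G₁.map σ = G₁ := Matrix.ext fun i j => hG₁f i j
  have hsym : G₁ᵀ = G₁ := (herm_act_one hbar.involutive (mat P)).trans hmap
  refine ⟨P, rational_of_entries hG₁f (one_smul _ _), fun u hu => ?_, fun g hg => ?_⟩
  · rw [formG_mulVec, ← hG₁]
    refine Eq.trans ?_ (alt_of_diag h2 hsym (fun i => ?_) u)
    · show u ⬝ᵥ (G₁ *ᵥ fun i => σ (u i)) = u ⬝ᵥ (G₁ *ᵥ fun i => RingEquiv.refl F (u i))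
      congr 2
      funext i
      exact hu i
    · rw [hG₁e, map_mul, hinv, mul_comm (s _), ← two_mul, h2K, zero_mul, map_zero]
  obtain ⟨d, hd, hcomm⟩ := key g hg
  set N := mat P⁻¹ * (d • mat g) * mat P with hN
  have hN' : N.map σ = N := by
    have h1 : (d • mat g) * M = M * (d • mat g).map σ := by
      refine Matrix.mulVec_injective (funext fun u => ?_)
      obtain ⟨v, rfl⟩ := hσv u
      rw [← Matrix.mulVec_mulVec, ← hJM, Matrix.smul_mulVec, hcomm, ← Matrix.mulVec_mulVec, hJM]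
      congr 1
      funext i
      rw [← Matrix.smul_mulVec]
      exact RingHom.map_mulVec (σ : F →+* F) (d • mat g) v i
    have h3 : M * (mat P).map σ * N.map σ = M * (mat P).map σ * N := by
      have e1 : (mat P).map σ * N.map σ = (d • mat g).map σ * (mat P).map σ := by
        rw [← Matrix.map_mul, ← Matrix.map_mul, hN, ← mul_assoc, ← mul_assoc, mat_mul_inv, one_mul]
      rw [mul_assoc, e1, ← mul_assoc, ← h1, mul_assoc, hPM, hN, ← mul_assoc, ← mul_assoc, mat_mul_inv, one_mul]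
    rw [hPM] at h3
    exact P.isUnit.mul_left_cancel h3
  refine mem_subfieldSubgroup (c := d⁻¹) (X := N) (fun i j => congrFun (congrFun hN' i) j) ?_
  rw [hN, Matrix.mul_smul, Matrix.smul_mul, inv_smul_smul₀ hd]
  simp [mat]

end Cfsg.Agent.Asch
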