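import Cfsg.Agent.Asch.UnitTrans
import Cfsg.Agent.PrimeDim.Tools

/-!
Over nine elements the stabiliser of four orthogonal lines normalises a group of symplectic type of order sixty-four.
-/

set_option autoImplicit false
set_option linter.unusedSectionVars false

namespace Cfsg.Agent.Asch

open Matrix Cfsg.Geo Cfsg.Agent.PrimeDim
open scoped MatrixGroups

namespace FourMono

abbrev Q := Fin 4 × Fin 4 × Fin 4

def xr : Fin 4 → Fin 4 → Fin 4 := ![![0, 1, 2, 3], ![1, 0, 3, 2], ![2, 3, 0, 1], ![3, 2, 1, 0]]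
def bit1 : Fin 4 → Fin 4 := ![0, 1, 0, 1]
def bit2 : Fin 4 → Fin 4 := ![0, 0, 1, 1]
def dd (u x : Fin 4) : Fin 4 := 2 * (bit1 u * bit1 x + bit2 u * bit2 x)

def qmul (p q : Q) : Q := (p.1 + q.1 + dd q.2.1 p.2.2, xr p.2.1 q.2.1, xr p.2.2 q.2.2)
def qinv (p : Q) : Q := (-p.1 + dd p.2.1 p.2.2, p.2.1, p.2.2)

/-- Four automorphisms. -/
def autos : Fin 5 → Q → Q :=
  ![fun p => (p.1 + dd p.2.1 p.2.2, p.2.2, p.2.1),
    fun p => (p.1 + bit1 p.2.2, xr p.2.1 (bit1 p.2.2), p.2.2),
    fun p => (p.1 + bit2 p.2.2, xr p.2.1 (2 * bit2 p.2.2), p.2.2),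
    fun p => (p.1 + bit1 p.2.1, p.2.1, xr p.2.2 (bit1 p.2.1)),
    fun p => (p.1 + bit2 p.2.1, p.2.1, xr p.2.2 (2 * bit2 p.2.1))]

theorem xr_spec : ∀ a b c : Fin 4, xr (xr a b) c = xr a (xr b c) ∧ xr a b = xr b a ∧ xr a a = 0 ∧ xr a 0 = a := by
  decide +kernel

theorem dd_spec : ∀ u u' x : Fin 4, dd (xr u u') x = dd u x + dd u' x ∧ dd u (xr u' x) = dd u u' + dd u x := by
  decide +kernel

theorem dd_det : ∀ u u' : Fin 4, dd u 1 = dd u' 1 → dd u 2 = dd u' 2 → u = u' := by decide +kernel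

theorem inv_spec : ∀ z u w : Fin 4, qmul (z, u, w) (qinv (z, u, w)) = (0, 0, 0) ∧
    qmul (qinv (z, u, w)) (z, u, w) = (0, 0, 0) := by decide +kernel

theorem pow_spec : ∀ z u w : Fin 4, qmul (qmul (qmul (z, u, w) (z, u, w)) (z, u, w)) (z, u, w) = (0, 0, 0) := by
  decide +kernel

theorem center_spec : ∀ z u w : Fin 4, (∀ z' u' w' : Fin 4, qmul (z, u, w) (z', u', w') = qmul (z', u', w') (z, u, w)) ↔
    u = 0 ∧ w = 0 := by decide +kernel

theorem comm_spec : ∀ z u w z' u' w' : Fin 4, ∃ c : Fin 4,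
    qmul (qmul (qmul (z, u, w) (z', u', w')) (qinv (z, u, w))) (qinv (z', u', w')) = (c, 0, 0) := by
  decide +kernel

theorem autos_hom : ∀ (i : Fin 5) (z u w z' u' w' : Fin 4),
    autos i (qmul (z, u, w) (z', u', w')) = qmul (autos i (z, u, w)) (autos i (z', u', w')) := by decide +kernel

theorem autos_inj : ∀ (i : Fin 5) (z u w z' u' w' : Fin 4),
    autos i (z, u, w) = autos i (z', u', w') → (z, u, w) = (z', u', w') := by decide +kernel

theorem autos_move : ∀ z u w : Fin 4, ¬ (u = 0 ∧ w = 0) →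
    ∃ i : Fin 5, qmul (z, u, w) (autos i (z, u, w)) ≠ qmul (autos i (z, u, w)) (z, u, w) := by decide +kernel

theorem gen_spec : ∀ z u w : Fin 4, ∃ a b c d : Fin 4, a = (if bit1 u = 1 then 1 else 0) ∧
    b = (if bit2 u = 1 then 2 else 0) ∧ c = (if bit1 w = 1 then 1 else 0) ∧ d = (if bit2 w = 1 then 2 else 0) ∧
    qmul (z, 0, 0) (qmul (0, a, 0) (qmul (0, b, 0) (qmul (0, 0, c) (0, 0, d)))) = (z, u, w) := by
  decide +kernel

def phase (p : Q) (x : Fin 4) : Fin 4 := p.1 + dd p.2.1 x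

def pre (π : Fin 4 → Fin 4) (t : Fin 4) : Fin 4 :=
  if π 0 = t then 0 else if π 1 = t then 1 else if π 2 = t then 2 else 3

def val (π k : Fin 4 → Fin 4) (p : Q) (t : Fin 4) : Fin 4 :=
  phase p (pre π t) + k (pre π t) - k (xr (pre π t) p.2.2)

def bit (a : Fin 4) : Fin 4 := if a = 2 then 1 else 0

def image (π k : Fin 4 → Fin 4) (p : Q) : Q :=
  (val π k p 0, bit (val π k p 1 - val π k p 0) + 2 * bit (val π k p 2 - val π k p 0),
    xr (π 0) (π (xr 0 p.2.2)))

def Moves (π k : Fin 4 → Fin 4) (p q : Q) : Prop :=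
  ∀ x : Fin 4, π (xr x p.2.2) = xr (π x) q.2.2 ∧ phase q (π x) + k (xr x p.2.2) = phase p x + k x

instance (π k : Fin 4 → Fin 4) (p q : Q) : Decidable (Moves π k p q) := inferInstanceAs (Decidable (∀ _, _))

def gens : Fin 4 → Q := ![(0, 1, 0), (0, 2, 0), (0, 0, 1), (0, 0, 2)]

set_option maxRecDepth 100000 in
theorem moves_gens : ∀ a b c d : Fin 4, a ≠ b → a ≠ c → a ≠ d → b ≠ c → b ≠ d → c ≠ d →
    ∀ ka kb kc kd : Fin 4, (ka + kb + kc + kd = 0 ∨ ka + kb + kc + kd = 2) → ∀ i : Fin 4,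
      Moves ![a, b, c, d] ![ka, kb, kc, kd] (gens i) (image ![a, b, c, d] ![ka, kb, kc, kd] (gens i)) := by
  decide +kernel

theorem moves_zero (π k : Fin 4 → Fin 4) (z : Fin 4) : Moves π k (z, 0, 0) (z, 0, 0) := by
  intro x
  have e : xr x 0 = x := (xr_spec x x x).2.2.2
  have e' : xr (π x) 0 = π x := (xr_spec (π x) x x).2.2.2
  have d0 : ∀ y, dd 0 y = 0 := by decide
  refine ⟨by rw [e, e'], ?_⟩
  simp only [phase, d0, e]

open Fin.CommRing in
theorem moves_mul {π k : Fin 4 → Fin 4} {p p' q q' : Q} (h : Moves π k p p') (h' : Moves π k q q') :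
    Moves π k (qmul p q) (qmul p' q') := by
  intro x
  obtain ⟨hw, hφ⟩ := h x
  obtain ⟨hw', hφ'⟩ := h' (xr x p.2.2)
  rw [hw, (xr_spec _ _ _).1, (xr_spec _ _ _).1] at hw'
  refine ⟨hw', ?_⟩
  rw [(xr_spec x p.2.2 q.2.2).1] at hφ'
  rw [hw] at hφ'
  simp only [phase, qmul, (dd_spec _ _ _).1] at hφ hφ' ⊢
  rw [(dd_spec q.2.1 x p.2.2).2, (dd_spec q'.2.1 (π x) p'.2.2).2] at hφ'
  linear_combination hφ + hφ'

variable {F : Type*} [Field F] [Fintype F]

/-- A primitive fourth root. -/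
def pw (I : F) (a : Fin 4) : F := I ^ a.val

theorem pw_add {I : F} (hI : I ^ 4 = 1) (a b : Fin 4) : pw I (a + b) = pw I a * pw I b := by
  rw [pw, pw, pw, ← pow_add, Fin.val_add, ← pow_eq_pow_mod _ hI]

theorem pw_inj {I : F} (hI : IsPrimitiveRoot I 4) : Function.Injective (pw I) := fun a b h =>
  Fin.ext (hI.pow_inj a.isLt b.isLt h)

/-- The monomial matrices. -/
def M4 (I : F) (p : Q) : Matrix (Fin 4) (Fin 4) F :=
  Matrix.of fun x y => if y = xr x p.2.2 then pw I (phase p x) else 0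

theorem M4_mul {I : F} (hI : I ^ 4 = 1) (p q : Q) : M4 I p * M4 I q = M4 I (qmul p q) := by
  ext x y
  rw [Matrix.mul_apply, Finset.sum_eq_single (xr x p.2.2) (fun b _ hb => by simp [M4, hb]) (by simp)]
  simp only [M4, Matrix.of_apply, if_true, qmul, phase, (xr_spec x p.2.2 q.2.2).1]
  show _ = if y = xr x (xr p.2.2 q.2.2) then pw I (p.1 + q.1 + dd q.2.1 p.2.2 + dd (xr p.2.1 q.2.1) x) else 0
  by_cases h : y = xr x (xr p.2.2 q.2.2)
  · rw [if_pos h, if_pos h, ← pw_add hI, (dd_spec q.2.1 x p.2.2).2, (dd_spec p.2.1 q.2.1 x).1]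
    congr 1
    abel
  · rw [if_neg h, if_neg h, mul_zero]

theorem M4_one (I : F) : M4 I (0, 0, 0) = 1 := by
  ext x y
  have e : xr x 0 = x := (xr_spec x x x).2.2.2
  have d0 : dd 0 x = 0 := (show ∀ y, dd 0 y = 0 by decide) x
  simp [M4, phase, pw, Matrix.one_apply, e, d0, eq_comm]

theorem M4_inj {I : F} (hI : IsPrimitiveRoot I 4) : Function.Injective (M4 I) := by
  rintro ⟨z, u, w⟩ ⟨z', u', w'⟩ e
  have hI0 : I ≠ 0 := hI.ne_zero (by norm_num)
  have h0 : ∀ x, w = w' ∧ phase (z, u, w) x = phase (z', u', w') x := fun x => by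
    have h1 := congrFun (congrFun e x) (xr x w)
    simp only [M4, Matrix.of_apply, if_true] at h1
    by_cases h : xr x w = xr x w'
    · rw [if_pos h] at h1
      exact ⟨(show ∀ x a b, xr x a = xr x b → a = b by decide +kernel) x w w' h, pw_inj hI h1⟩
    · rw [if_neg h] at h1
      exact absurd h1 (pow_ne_zero _ hI0)
  obtain ⟨rfl, k0⟩ := h0 0
  have d0 : ∀ u, dd u 0 = 0 := by decide
  simp only [phase, d0, add_zero] at k0
  subst k0
  have k1 := (h0 1).2
  have k2 := (h0 2).2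
  simp only [phase, add_right_inj] at k1 k2
  rw [dd_det u u' k1 k2]

/-- The unit. -/
def unit {I : F} (hI : I ^ 4 = 1) (p : Q) : GL (Fin 4) F :=
  ⟨M4 I p, M4 I (qinv p), by rw [M4_mul hI, (inv_spec p.1 p.2.1 p.2.2).1, M4_one],
    by rw [M4_mul hI, (inv_spec p.1 p.2.1 p.2.2).2, M4_one]⟩

theorem unit_mul {I : F} (hI : I ^ 4 = 1) (p q : Q) : unit hI p * unit hI q = unit hI (qmul p q) :=
  Units.ext (M4_mul hI p q)

theorem unit_one {I : F} (hI : I ^ 4 = 1) : unit hI (0, 0, 0) = 1 := Units.ext (M4_one I)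

theorem unit_inv {I : F} (hI : I ^ 4 = 1) (p : Q) : (unit hI p)⁻¹ = unit hI (qinv p) :=
  inv_eq_of_mul_eq_one_right (by rw [unit_mul, (inv_spec p.1 p.2.1 p.2.2).1, unit_one])

/-- The group. -/
def grp {I : F} (hI : I ^ 4 = 1) : Subgroup (GL (Fin 4) F) where
  carrier := Set.range (unit hI)
  mul_mem' := by rintro _ _ ⟨p, rfl⟩ ⟨q, rfl⟩; exact ⟨_, (unit_mul hI p q).symm⟩
  one_mem' := ⟨_, unit_one hI⟩
  inv_mem' := by rintro _ ⟨p, rfl⟩; exact ⟨_, (unit_inv hI p).symm⟩

theorem grp_abs {I : F} (hI : I * I = -1) (h2 : (2 : F) ≠ 0) (h4 : I ^ 4 = 1) :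
    ActsAbsolutelyIrreducibly (matrixSet (grp h4)) := by
  classical
  have h44 : (4 : F) ≠ 0 := by
    rw [show (4 : F) = 2 * 2 by norm_num]; exact mul_ne_zero h2 h2
  have hm : ∀ (p : Q) (v : Fin 4 → F) x, (mat (unit h4 p) *ᵥ v) x = pw I (phase p x) * v (xr x p.2.2) := fun p v x => by
    show (M4 I p *ᵥ v) x = _
    simp [M4, Matrix.mulVec, dotProduct]
  have p2 : pw I 2 = -1 := by show I ^ 2 = -1; rw [pow_two, hI]
  have p0 : pw I 0 = 1 := pow_zero I
  refine abs_iff.2 ⟨fun W hW => ?_, fun A hA => ?_⟩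
  · by_cases hb : W = ⊥
    · exact Or.inl hb
    refine Or.inr ?_
    obtain ⟨v, hv, hv0⟩ := W.exists_mem_ne_zero_of_ne_bot hb
    obtain ⟨x, hx⟩ : ∃ x, v x ≠ 0 := Function.ne_iff.1 hv0
    have hu : ∀ p, mat (unit h4 p) *ᵥ v ∈ W := fun p => hW _ ⟨p, rfl⟩ v hv
    set s := ∑ u : Fin 4, pw I (dd u x) • (mat (unit h4 (0, u, 0)) *ᵥ v) with hs
    have hsW : s ∈ W := Submodule.sum_mem _ fun u _ => W.smul_mem _ (hu _)
    have hse : s = (4 * v x) • (Pi.single x 1 : Fin 4 → F) := by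
      funext y
      rw [hs, Finset.sum_apply]
      simp only [Pi.smul_apply, hm, phase, zero_add, smul_eq_mul, (xr_spec y y y).2.2.2, Fin.sum_univ_four]
      fin_cases x <;> fin_cases y <;> simp [dd, bit1, bit2, p2, p0] <;> ring
    have hex : (Pi.single x 1 : Fin 4 → F) ∈ W := by
      have := W.smul_mem (4 * v x)⁻¹ (hse ▸ hsW)
      rwa [smul_smul, inv_mul_cancel₀ (mul_ne_zero h44 hx), one_smul] at this
    rw [eq_top_iff, ← (Pi.basisFun F (Fin 4)).span_eq, Submodule.span_le]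
    rintro _ ⟨y, rfl⟩
    rw [Pi.basisFun_apply]
    have h1 := hW _ ⟨(0, 0, xr x y), rfl⟩ _ hex
    have e : mat (unit h4 (0, 0, xr x y)) *ᵥ (Pi.single x 1 : Fin 4 → F) = Pi.single y 1 := by
      funext z
      rw [hm]
      have d0 : dd 0 z = 0 := (show ∀ y, dd 0 y = 0 by decide) z
      rw [show phase (0, 0, xr x y) z = 0 by simp [phase, d0], p0, one_mul, Pi.single_apply, Pi.single_apply]
      have := (show ∀ x y z : Fin 4, xr z (xr x y) = x ↔ z = y by decide +kernel) x y z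
      by_cases hz : z = y
      · rw [if_pos (this.2 hz), if_pos hz]
      · rw [if_neg fun h => hz (this.1 h), if_neg hz]
    rwa [e] at h1
  · have hc : ∀ p, A * M4 I p = M4 I p * A := fun p => hA _ ⟨p, rfl⟩
    have hoff : ∀ i j, i ≠ j → A i j = 0 := by
      intro i j hij
      obtain ⟨u, hu⟩ := (show ∀ i j : Fin 4, i ≠ j → ∃ u, dd u j = dd u i + 2 by decide +kernel) i j hij
      have h1 := congrFun (congrFun (hc (0, u, 0)) i) j
      rw [Matrix.mul_apply, Matrix.mul_apply, Finset.sum_eq_single j (fun b _ hb => by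
          simp [M4, (xr_spec b b b).2.2.2, Ne.symm hb]) (by simp),
        Finset.sum_eq_single i (fun b _ hb => by simp [M4, (xr_spec i i i).2.2.2, hb]) (by simp)] at h1
      simp only [M4, Matrix.of_apply, (xr_spec _ j j).2.2.2, phase, zero_add, if_true, hu, pw_add h4, p2] at h1
      have hI0 : I ≠ 0 := fun e => by rw [e, mul_zero] at hI; simp at hI
      have h5 : (2 * pw I (dd u i)) * A i j = 0 := by linear_combination -h1
      exact (mul_eq_zero.1 h5).resolve_left (mul_ne_zero h2 (pow_ne_zero _ hI0))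
    refine ⟨A 0 0, Matrix.ext fun i j => ?_⟩
    by_cases hij : i = j
    · subst hij
      have h1 := congrFun (congrFun (hc (0, 0, i)) 0) i
      have e0 : xr 0 i = i := (show ∀ i : Fin 4, xr 0 i = i by decide) i
      rw [Matrix.mul_apply, Matrix.mul_apply, Finset.sum_eq_single 0 (fun b _ hb => by rw [hoff _ _ (Ne.symm hb), zero_mul])
        (by simp), Finset.sum_eq_single i (fun b _ hb => by rw [hoff _ _ hb, mul_zero]) (by simp)] at h1
      simp only [M4, Matrix.of_apply, e0, if_true, phase] at h1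
      rw [show dd 0 (0 : Fin 4) = 0 by decide, add_zero, p0, mul_one, one_mul] at h1
      simp [h1]
    · simp [hoff i j hij, hij]

end FourMono

open FourMono in
set_option maxHeartbeats 1600000 in
/-- The stabiliser of four orthogonal lines over nine elements normalises a group of symplectic type. -/
theorem lines_four_member {F : Type*} [Field F] [Fintype F] {σ : F ≃+* F} (hbar : IsBar σ) (h9 : Fintype.card F = 9)
    {D : Fin 4 → Submodule F (Fin 4 → F)}
    (hD : IsNondegenerateMDecomposition (formG σ (1 : Matrix (Fin 4) (Fin 4) F)) 1 D)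
    {H : Subgroup (GL (Fin 4) F)} (hfix : Fixes σ H (1 : Matrix (Fin 4) (Fin 4) F))
    (hdet : H ≤ specialLinear (Fin 4) F) (hle : H ≤ decompositionStabilizer D) :
    ∃ R : Subgroup (GL (Fin 4) F), IsSymplecticTypeGroup 2 R ∧ ActsAbsolutelyIrreducibly (matrixSet R) ∧
      R ≤ similarityGroup (formG σ (1 : Matrix (Fin 4) (Fin 4) F)) ∧ Nat.card R = 64 ∧
      Nat.card (Subgroup.center R) = 4 ∧ (∀ x ∈ R, ∀ y ∈ R, x * y * x⁻¹ * y⁻¹ ∈ scalars (Fin 4) F) ∧
      H ≤ subgroupNormalizer R := by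
  classical
  have hs := isSesq_formG σ (1 : Matrix (Fin 4) (Fin 4) F)
  have hσ : ∀ a, σ a = a ^ 3 := fun a => by
    rw [bar_pow hbar, show Nat.card (fixF σ) = 3 from Nat.pow_left_injective two_ne_zero
      (show Nat.card (fixF σ) ^ 2 = 3 ^ 2 by rw [← card_fixF hbar, h9])]
  have h2 : (2 : F) ≠ 0 := PrimeDim.two_ne_zero_of_odd (by rw [h9]; decide)
  obtain ⟨I, hI⟩ : ∃ I : F, I * I = -1 := by
    obtain ⟨I, hI⟩ := FiniteField.isSquare_neg_one_iff.2 (show Fintype.card F % 4 ≠ 3 by rw [h9]; decide)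
    exact ⟨I, hI.symm⟩
  have hI4 : I ^ 4 = 1 := by linear_combination (I * I - 1) * hI
  have hne : (-1 : F) ≠ 1 := fun e => h2 (by linear_combination -e)
  have hIp : IsPrimitiveRoot I 4 := by
    refine IsPrimitiveRoot.mk_of_lt I (by norm_num) hI4 fun l h0 h4 he => ?_
    interval_cases l
    · rw [pow_one] at he; rw [he, mul_one] at hI; exact hne hI.symm
    · rw [pow_two, hI] at he; exact hne he
    · rw [show I ^ 3 = I * I * I by ring, hI] at he
      have h5 : I = -1 := by linear_combination -he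
      rw [h5] at hI; exact hne (by linear_combination -hI)
  -- the orthonormal frame
  have hline : ∀ k, ∃ u ∈ D k, formG σ (1 : Matrix (Fin 4) (Fin 4) F) u u = 1 ∧ D k = Submodule.span F {u} := by
    intro k
    have hr := hD.decomp.finrank_eq k
    obtain ⟨w, hw, hw0⟩ := (D k).exists_mem_ne_zero_of_ne_bot fun e => by rw [e, finrank_bot] at hr; omega
    have hspan : D k = Submodule.span F {w} := (Submodule.eq_of_le_of_finrank_eq
      ((Submodule.span_singleton_le_iff_mem _ _).2 hw) (by rw [finrank_span_singleton hw0, hr])).symm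
    have hne : formG σ (1 : Matrix (Fin 4) (Fin 4) F) w w ≠ 0 := by
      intro e
      obtain ⟨-, ⟨z, hz, hne⟩⟩ := hD.nondegenerate k w hw hw0
      rw [hspan, Submodule.mem_span_singleton] at hz
      obtain ⟨a, rfl⟩ := hz
      exact hne (by rw [hs.smul_right, e, mul_zero])
    obtain ⟨c, hc⟩ := hbar.norm _ (stdH_comm hbar w w).symm
    have hc0 : c ≠ 0 := fun e => hne (by
      rw [show formG σ (1 : Matrix (Fin 4) (Fin 4) F) w w = c * σ c from hc.symm, e, zero_mul])
    refine ⟨c⁻¹ • w, (D k).smul_mem _ hw, ?_, ?_⟩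
    · rw [hs.smul_left, hs.smul_right, show formG σ (1 : Matrix (Fin 4) (Fin 4) F) w w = c * σ c from hc.symm, map_inv₀]
      have := (map_ne_zero σ).2 hc0
      field_simp
    · rw [hspan, Submodule.span_singleton_smul_eq (isUnit_iff_ne_zero.2 (inv_ne_zero hc0))]
  choose u hu huu hspan using hline
  have hu0 : ∀ k, u k ≠ 0 := fun k e => by
    have := huu k
    rw [e, show formG σ (1 : Matrix (Fin 4) (Fin 4) F) 0 0 = 0 by simp [formG]] at this
    exact zero_ne_one this
  have hli : LinearIndependent F u := hD.decomp.indep.linearIndependent _ hu hu0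
  let b : Module.Basis (Fin 4) F (Fin 4 → F) := basisOfLinearIndependentOfCardEqFinrank hli
    (by rw [Module.finrank_fintype_fun_eq_card])
  set P : GL (Fin 4) F := ofBasis b with hPdef
  have hPc : ∀ i, mat P *ᵥ Pi.single i 1 = u i := fun i => by rw [hPdef, ofBasis_single]; simp [b]
  have hP1 : act σ (1 : Matrix (Fin 4) (Fin 4) F) (mat P) = 1 := by
    ext i j
    rw [← formG_single σ (act σ (1 : Matrix (Fin 4) (Fin 4) F) (mat P)), ← formG_mulVec, hPc, hPc, Matrix.one_apply]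
    by_cases hij : i = j
    · subst hij; rw [if_pos rfl]; exact huu _
    · rw [if_neg hij]; exact hD.orthogonal _ _ hij _ (hu _) _ (hu _)
  set Φ : GL (Fin 4) F ≃* GL (Fin 4) F := fr (Equiv.refl (Fin 4)) P with hΦ
  set R := (grp hI4).map Φ.toMonoidHom with hR
  let param : Q → R := fun p => ⟨Φ (unit hI4 p), _, ⟨p, rfl⟩, rfl⟩
  have hpar : Function.Bijective param := by
    refine ⟨fun p q e => M4_inj hIp (congrArg Units.val (Φ.injective (congrArg Subtype.val e))), ?_⟩
    rintro ⟨_, _, ⟨p, rfl⟩, rfl⟩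
    exact ⟨p, rfl⟩
  have pmul : ∀ p q, param p * param q = param (qmul p q) := fun p q =>
    Subtype.ext ((map_mul Φ _ _).symm.trans (congrArg Φ (unit_mul hI4 p q)))
  have pone : param (0, 0, 0) = 1 := Subtype.ext ((congrArg Φ (unit_one hI4)).trans (map_one Φ))
  have hcard : Nat.card R = 64 := by
    rw [← Nat.card_eq_of_bijective param hpar]
    simp [Nat.card_eq_fintype_card]
  have hcen : ∀ p, param p ∈ Subgroup.center R ↔ p.2.1 = 0 ∧ p.2.2 = 0 := fun p => by
    rw [Subgroup.mem_center_iff]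
    refine ⟨fun h => (center_spec p.1 p.2.1 p.2.2).1 fun z u' w => hpar.1 ?_, fun h x => ?_⟩
    · rw [← pmul, ← pmul]; exact (h (param (z, u', w))).symm
    · obtain ⟨⟨z, u', w⟩, rfl⟩ := hpar.2 x
      rw [pmul, pmul]
      exact congrArg param ((center_spec p.1 p.2.1 p.2.2).2 h z u' w).symm
  have hzcard : Nat.card (Subgroup.center R) = 4 := by
    rw [← Nat.card_eq_of_bijective (fun z : Fin 4 => (⟨param (z, 0, 0), (hcen _).2 ⟨rfl, rfl⟩⟩ : Subgroup.center R))
      ⟨fun a c e => congrArg Prod.fst (hpar.1 (congrArg Subtype.val e)), fun x => by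
        obtain ⟨⟨z, u', w⟩, hx⟩ := hpar.2 x.1
        obtain ⟨rfl, rfl⟩ := (hcen (z, u', w)).1 (hx ▸ x.2)
        exact ⟨z, Subtype.ext hx⟩⟩]
    simp [Nat.card_eq_fintype_card]
  have hpow : ∀ x : R, x ^ 4 = 1 := fun x => by
    obtain ⟨⟨z, u', w⟩, rfl⟩ := hpar.2 x
    rw [show param (z, u', w) ^ 4 = param (z, u', w) * param (z, u', w) * param (z, u', w) * param (z, u', w) by
      simp [pow_succ], pmul, pmul, pmul, pow_spec, pone]
  have habs : ActsAbsolutelyIrreducibly (matrixSet R) := by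
    refine abs_of_comap (Equiv.refl (Fin 4)) P ?_
    rw [hR, Subgroup.comap_map_eq_self_of_injective Φ.injective]
    exact grp_abs hI h2 hI4
  haveI : Fact (Nat.Prime 2) := ⟨Nat.prime_two⟩
  refine ⟨R, ⟨Nat.prime_two, IsPGroup.of_card (n := 6) hcard, fun A hA hAc => ?_, ?_⟩, habs, ?_, hcard, hzcard, ?_, ?_⟩
  · have hle : A ≤ Subgroup.center R := by
      intro x hx
      obtain ⟨⟨z, u', w⟩, rfl⟩ := hpar.2 x
      rw [hcen]
      by_contra hne
      obtain ⟨i, hi⟩ := autos_move z u' w hne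
      have hinj : Function.Injective (autos i) := fun p q e => autos_inj i p.1 p.2.1 p.2.2 q.1 q.2.1 q.2.2 e
      let e := Equiv.ofBijective param hpar
      let φ : R ≃* R :=
        { toEquiv := e.symm.trans ((Equiv.ofBijective (autos i) (Finite.injective_iff_bijective.1 hinj)).trans e)
          map_mul' := fun a c => by
            obtain ⟨p, rfl⟩ := hpar.2 a
            obtain ⟨q, rfl⟩ := hpar.2 c
            show e (autos i (e.symm (param p * param q))) = e (autos i (e.symm (e p))) * e (autos i (e.symm (e q)))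
            rw [pmul, show param (qmul p q) = e (qmul p q) from rfl, e.symm_apply_apply, e.symm_apply_apply,
              e.symm_apply_apply, autos_hom]
            exact (pmul _ _).symm }
      have hm : φ (param (z, u', w)) ∈ A := by
        have h1 := hx
        rw [← hA.fixed φ] at h1
        exact h1
      have hφ : φ (param (z, u', w)) = param (autos i (z, u', w)) := by
        show e (autos i (e.symm (e (z, u', w)))) = _
        rw [e.symm_apply_apply]; rfl
      rw [hφ] at hm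
      refine hi (hpar.1 ?_)
      rw [← pmul, ← pmul]
      exact congrArg Subtype.val (hAc.is_comm.comm ⟨_, hx⟩ ⟨_, hm⟩)
    haveI : IsCyclic (Subgroup.center R) := by
      refine isCyclic_of_orderOf_eq_card (⟨param (1, 0, 0), (hcen _).2 ⟨rfl, rfl⟩⟩ : Subgroup.center R) ?_
      rw [hzcard, ← Subgroup.orderOf_coe]
      refine (orderOf_eq_prime_pow (p := 2) (n := 1) (fun e => ?_) (hpow _)).trans (by norm_num)
      rw [pow_one, pow_two, pmul, ← pone] at e
      exact absurd (congrArg Prod.fst (hpar.1 e)) (by decide)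
    exact Subgroup.isCyclic_of_le hle
  · rw [show 2 * Nat.gcd 2 2 = 4 from rfl]
    refine Nat.dvd_antisymm (Monoid.exponent_dvd_of_forall_pow_eq_one hpow) ?_
    have h1 : orderOf (param (1, 0, 0)) = 2 ^ (1 + 1) := orderOf_eq_prime_pow (fun e => by
      rw [pow_one, pow_two, pmul, ← pone] at e
      exact absurd (congrArg Prod.fst (hpar.1 e)) (by decide)) (hpow _)
    have h2 := Monoid.order_dvd_exponent (param (1, 0, 0))
    rw [h1] at h2
    simpa using h2
  · rintro _ ⟨_, ⟨p, rfl⟩, rfl⟩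
    refine ⟨1, fun a c => ?_⟩
    have e1 : act σ (1 : Matrix (Fin 4) (Fin 4) F) (M4 I p) = 1 := by
      refine act_one_of_mono (Equiv.ofBijective (fun x => xr x p.2.2)
        (Finite.injective_iff_bijective.1 fun x y e => (show ∀ x y w, xr x w = xr y w → x = y by decide +kernel) x y _ e))
        (fun i => pw I (phase p (xr i p.2.2))) (fun i => ?_) fun i => ?_
      · funext y
        rw [Matrix.mulVec_single_one, Matrix.col_apply, Pi.smul_apply, Pi.single_apply, Equiv.ofBijective_apply]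
        simp only [M4, Matrix.of_apply, smul_eq_mul, mul_ite, mul_one, mul_zero]
        have := (show ∀ i y w : Fin 4, i = xr y w ↔ y = xr i w by decide +kernel) i y p.2.2
        by_cases hy : y = xr i p.2.2
        · subst hy; rw [if_pos (this.2 rfl), if_pos rfl]
        · rw [if_neg fun h => hy (this.1 h), if_neg hy]
      · rw [hσ, pw, ← pow_succ', ← pow_mul, mul_comm, pow_mul, hI4, one_pow]
    have e2 : act σ (1 : Matrix (Fin 4) (Fin 4) F) (mat (Φ (unit hI4 p))) = 1 := by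
      rw [hΦ, mat_fr, Equiv.coe_refl, Matrix.submatrix_id_id, act_mul, act_mul, hP1,
        show mat (unit hI4 p) = M4 I p from rfl, e1]
      conv_lhs => rw [← hP1, ← act_mul, mat_mul_inv]
      simp [act]
    show formG σ 1 (mat (Φ (unit hI4 p)) *ᵥ a) (mat (Φ (unit hI4 p)) *ᵥ c) = _
    rw [formG_mulVec, e2, Units.val_one, one_mul]
  · rintro _ ⟨_, ⟨p, rfl⟩, rfl⟩ _ ⟨_, ⟨q, rfl⟩, rfl⟩
    refine comm_of_abs habs fun y hy => ?_
    obtain ⟨c, hc⟩ := comm_spec p.1 p.2.1 p.2.2 q.1 q.2.1 q.2.2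
    have hpinv : ∀ r, (param r)⁻¹ = param (qinv r) := fun r =>
      inv_eq_of_mul_eq_one_right (by rw [pmul, (inv_spec r.1 r.2.1 r.2.2).1, pone])
    have h1 : param p * param q * (param p)⁻¹ * (param q)⁻¹ ∈ Subgroup.center R := by
      rw [hpinv, hpinv, pmul, pmul, pmul, hc]; exact (hcen _).2 ⟨rfl, rfl⟩
    exact (congrArg Subtype.val (Subgroup.mem_center_iff.1 h1 ⟨y, hy⟩)).symm
  refine le_normalizer fun g hg x hx => ?_
  obtain ⟨_, ⟨p, rfl⟩, rfl⟩ := hx
  obtain ⟨π, hπ⟩ := hle hg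
  obtain ⟨X, rfl⟩ := Φ.surjective g
  have himg : ∀ i, ∃ a : F, mat X *ᵥ Pi.single i 1 = a • (Pi.single (π i) 1 : Fin 4 → F) := fun i => by
    have h1 : mat (Φ X) *ᵥ u i ∈ D (π i) := hπ i ▸ ⟨u i, hu i, Matrix.toLin'_apply _ _⟩
    rw [hspan, Submodule.mem_span_singleton] at h1
    obtain ⟨a, ha⟩ := h1
    refine ⟨a, mulVec_injective P ?_⟩
    show mat P *ᵥ _ = mat P *ᵥ _
    rw [Matrix.mulVec_smul, hPc, ha, hΦ, mat_fr, Equiv.coe_refl, Matrix.submatrix_id_id, ← hPc,
      ← Matrix.mulVec_mulVec, ← Matrix.mulVec_mulVec, inv_mulVec_cancel]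
  choose a ha using himg
  have hXf : act σ (1 : Matrix (Fin 4) (Fin 4) F) (mat X) = 1 := by
    have h1 : act σ (act σ (1 : Matrix (Fin 4) (Fin 4) F) (mat P)) (mat X) = act σ (1 : Matrix (Fin 4) (Fin 4) F) (mat P) := by
      rw [← act_mul, show mat P * mat X = mat (Φ X) * mat P by
        rw [hΦ, mat_fr, Equiv.coe_refl, Matrix.submatrix_id_id, mul_assoc, mat_inv_mul, mul_one], act_mul, hfix _ hg]
    rwa [hP1] at h1
  have hnorm : ∀ i, a i ^ 4 = 1 := fun i => by
    have h1 := formG_mulVec (σ := σ) (G := (1 : Matrix (Fin 4) (Fin 4) F)) (mat X) (Pi.single i 1) (Pi.single i 1)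
    rw [hXf, ha, hs.smul_left, hs.smul_right, formG_single, formG_single, Matrix.one_apply_eq, Matrix.one_apply_eq,
      mul_one, hσ] at h1
    linear_combination h1
  have hk : ∀ i, ∃ k : Fin 4, pw I k = a i := fun i => by
    obtain ⟨k, hk, e⟩ := hIp.eq_pow_of_pow_eq_one (hnorm i)
    exact ⟨⟨k, hk⟩, e⟩
  choose k hk using hk
  have hparity : k 0 + k 1 + k 2 + k 3 = 0 ∨ k 0 + k 1 + k 2 + k 3 = 2 := by
    have hprod : pw I (k 0 + k 1 + k 2 + k 3) = 1 ∨ pw I (k 0 + k 1 + k 2 + k 3) = -1 := by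
      rw [pw_add hI4, pw_add hI4, pw_add hI4, hk, hk, hk, hk]
      have hM : mat X = (Matrix.diagonal a).submatrix π.symm id := by
        ext i j
        have h1 := congrFun (ha j) i
        rw [Matrix.mulVec_single_one, Matrix.col_apply, Pi.smul_apply, Pi.single_apply, smul_eq_mul, mul_ite, mul_one,
          mul_zero] at h1
        rw [Matrix.submatrix_apply, id, Matrix.diagonal_apply, h1]
        by_cases h : π j = i
        · subst h; simp
        · rw [if_neg (Ne.symm h), if_neg fun e => h (by rw [← e, Equiv.apply_symm_apply])]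
      have h1 : (mat X).det = 1 := by
        have h1 : (mat (Φ X)).det = 1 := congrArg Units.val (hdet hg)
        rwa [hΦ, mat_fr, Matrix.det_mul, Matrix.det_mul, mul_right_comm, ← Matrix.det_mul, mat_mul_inv, Matrix.det_one,
          one_mul, Matrix.det_submatrix_equiv_self] at h1
      rw [hM, Matrix.det_permute, Matrix.det_diagonal, Fin.prod_univ_four] at h1
      rcases Int.units_eq_one_or (Equiv.Perm.sign π.symm) with e | e <;> rw [e] at h1 <;> simp at h1
      · exact Or.inl h1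
      · exact Or.inr (by linear_combination -h1)
    have p2 : pw I 2 = -1 := by show I ^ 2 = -1; rw [pow_two, hI]
    rcases hprod with e | e
    · exact Or.inl (pw_inj hIp (e.trans (pow_zero I).symm))
    · exact Or.inr (pw_inj hIp (e.trans p2.symm))
  have hπe : (![π 0, π 1, π 2, π 3] : Fin 4 → Fin 4) = π := funext fun i => by fin_cases i <;> rfl
  have hke : (![k 0, k 1, k 2, k 3] : Fin 4 → Fin 4) = k := funext fun i => by fin_cases i <;> rfl
  have hgen : ∀ i, ∃ q, Moves π k (gens i) q := fun i => by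
    have hd : ∀ i j : Fin 4, i ≠ j → π i ≠ π j := fun i j h => π.injective.ne h
    have h1 := moves_gens (π 0) (π 1) (π 2) (π 3) (hd 0 1 (by decide)) (hd 0 2 (by decide)) (hd 0 3 (by decide))
      (hd 1 2 (by decide)) (hd 1 3 (by decide)) (hd 2 3 (by decide)) (k 0) (k 1) (k 2) (k 3) hparity i
    rw [hπe, hke] at h1
    exact ⟨_, h1⟩
  have hsmall : ∀ c : Fin 4, (c = 0 ∨ c = 1 ∨ c = 2) → (∃ q, Moves π k (0, c, 0) q) ∧ ∃ q, Moves π k (0, 0, c) q := by
    rintro c (rfl | rfl | rfl)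
    · exact ⟨⟨_, moves_zero _ _ 0⟩, ⟨_, moves_zero _ _ 0⟩⟩
    · exact ⟨hgen 0, hgen 2⟩
    · exact ⟨hgen 1, hgen 3⟩
  obtain ⟨q, hq⟩ : ∃ q, Moves π k p q := by
    obtain ⟨z, u', w⟩ := p
    obtain ⟨a', b', c', d', ha', hb', hc', hd', e⟩ := gen_spec z u' w
    obtain ⟨q1, h1⟩ := (hsmall a' (by rw [ha']; split_ifs <;> simp)).1
    obtain ⟨q2, h2'⟩ := (hsmall b' (by rw [hb']; split_ifs <;> simp)).1
    obtain ⟨q3, h3⟩ := (hsmall c' (by rw [hc']; split_ifs <;> simp)).2
    obtain ⟨q4, h4⟩ := (hsmall d' (by rw [hd']; split_ifs <;> simp)).2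
    exact ⟨_, e ▸ moves_mul (moves_zero π k z) (moves_mul h1 (moves_mul h2' (moves_mul h3 h4)))⟩
  refine ⟨unit hI4 q, ⟨q, rfl⟩, ?_⟩
  show Φ (unit hI4 q) = Φ X * Φ (unit hI4 p) * (Φ X)⁻¹
  rw [← map_inv, ← map_mul, ← map_mul]
  congr 1
  rw [eq_mul_inv_iff_mul_eq]
  refine Units.ext (Matrix.ext_of_mulVec_single fun y => ?_)
  show (M4 I q * mat X) *ᵥ Pi.single y 1 = (mat X * M4 I p) *ᵥ Pi.single y 1
  obtain ⟨x, rfl⟩ : ∃ x, xr x p.2.2 = y := ⟨xr y p.2.2, by rw [(xr_spec _ _ _).1, (xr_spec p.2.2 y y).2.2.1, (xr_spec y y y).2.2.2]⟩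
  obtain ⟨hw, hφ⟩ := hq x
  have hcol : ∀ (r : Q) (x' : Fin 4), M4 I r *ᵥ Pi.single (xr x' r.2.2) 1 =
      pw I (phase r x') • (Pi.single x' 1 : Fin 4 → F) := fun r x' => by
    funext z
    rw [Matrix.mulVec_single_one, Matrix.col_apply, Pi.smul_apply, Pi.single_apply]
    simp only [M4, Matrix.of_apply, smul_eq_mul, mul_ite, mul_one, mul_zero]
    have := (show ∀ z x' w : Fin 4, xr x' w = xr z w ↔ z = x' by decide +kernel) z x' r.2.2
    by_cases hz : z = x'
    · subst hz; rw [if_pos rfl, if_pos rfl]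
    · rw [if_neg fun h => hz (this.1 h), if_neg hz]
  rw [← Matrix.mulVec_mulVec, ← Matrix.mulVec_mulVec, ha, hcol, Matrix.mulVec_smul, Matrix.mulVec_smul, hw, hcol, ha,
    smul_smul, smul_smul, ← hk, ← hk, ← pw_add hI4, ← pw_add hI4]
  congr 2
  rw [add_comm, hφ]

end Cfsg.Agent.Asch
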