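import Cfsg.Agent.Asch.UnitTrans
import Cfsg.Agent.Asch.UnitBasic

/-!
Pairs of isotropic planes over fixed fields with two or three elements; root elements against groups of symplectic type
in dimension four.
-/

set_option autoImplicit false
set_option linter.unusedSectionVars false

namespace Cfsg.Agent.Asch

open Matrix Cfsg.Geo Cfsg.Agent.PrimeDim
open scoped MatrixGroups

variable {F : Type*} [Field F] [Fintype F] {ι : Type} [Fintype ι] [DecidableEq ι] {σ : F ≃+* F}

abbrev P4 := Fin 2 ⊕ Fin 2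

/-- The skew matrix of size two. -/
def skewTwo : Matrix (Fin 2) (Fin 2) F := !![0, 1; -1, 0]

theorem skewTwo_det (a : Matrix (Fin 2) (Fin 2) F) : aᵀ * skewTwo * a = a.det • skewTwo := by
  ext i j
  fin_cases i <;> fin_cases j <;> simp [skewTwo, Matrix.mul_apply, Matrix.det_fin_two] <;> ring

theorem skewTwo_transpose : (skewTwo : Matrix (Fin 2) (Fin 2) F)ᵀ = -skewTwo := by
  ext i j
  fin_cases i <;> fin_cases j <;> simp [skewTwo]

theorem skewTwo_map (τ : F ≃+* F) : (skewTwo : Matrix (Fin 2) (Fin 2) F).map τ = skewTwo := by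
  ext i j
  fin_cases i <;> fin_cases j <;> simp [skewTwo]

theorem skewTwo_isUnit : (skewTwo : Matrix (Fin 2) (Fin 2) F).det = 1 := by simp [skewTwo, Matrix.det_fin_two]

theorem fin_two_perm : ∀ π : Equiv.Perm (Fin 2), (π 0 = 0 ∧ π 1 = 1) ∨ (π 0 = 1 ∧ π 1 = 0) := by decide

/-- The hyperbolic matrix. -/
def hypFour : Matrix P4 P4 F := fromBlocks 0 skewTwo (-skewTwo) 0

/-- The member of a pair. -/
def side : P4 → Fin 2 := Sum.elim (fun _ => 0) fun _ => 1

theorem hypFour_blocks {a d : Matrix (Fin 2) (Fin 2) F} (hd : a.det * d.det = 1)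
    (h : aᵀ * skewTwo * d.map σ = skewTwo) (hinv : ∀ x, σ (σ x) = x) :
    σ a.det = a.det ∧ d.map σ = a.det⁻¹ • a := by
  have ha : a.det ≠ 0 := left_ne_zero_of_mul (hd ▸ one_ne_zero)
  have h2 : d.map σ = a.det⁻¹ • a := by
    have hu : IsUnit (aᵀ * (skewTwo : Matrix (Fin 2) (Fin 2) F)) := by
      refine isUnit_of_det ?_
      rw [Matrix.det_mul, Matrix.det_transpose, skewTwo_isUnit, mul_one]
      exact ha
    refine hu.mul_left_cancel (h.trans ?_)
    rw [Matrix.mul_smul, skewTwo_det, smul_smul, inv_mul_cancel₀ ha, one_smul]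
  refine ⟨?_, h2⟩
  have h3 := congrArg Matrix.det h2
  rw [show (d.map σ).det = σ d.det from (RingHom.map_det (σ : F →+* F) _).symm, Matrix.det_smul, Fintype.card_fin] at h3
  have h4 : d.det = a.det⁻¹ := eq_inv_of_mul_eq_one_right hd
  rw [h4, map_inv₀] at h3
  have h5 : (σ a.det)⁻¹ = a.det⁻¹ := by rw [h3]; field_simp
  exact inv_injective h5

theorem swap_det {b c : Matrix (Fin 2) (Fin 2) F} : (fromBlocks 0 b c 0 : Matrix P4 P4 F).det = b.det * c.det := by
  have e : (fromBlocks 0 b c 0 : Matrix P4 P4 F) = fromBlocks b 0 0 c * fromBlocks 0 1 1 0 := by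
    rw [fromBlocks_multiply]; simp
  have h1 : (fromBlocks 0 1 1 0 : Matrix P4 P4 F) = (1 : Matrix P4 P4 F).submatrix (Equiv.sumComm _ _) id := by
    ext x y
    rcases x with i | i <;> rcases y with j | j <;> simp [Matrix.one_apply]
  have h3 : Equiv.Perm.sign (Equiv.sumComm (Fin 2) (Fin 2) : Equiv.Perm P4) = 1 := by decide
  rw [e, Matrix.det_mul, Matrix.det_fromBlocks_zero₂₁, h1, Matrix.det_permute, h3]
  simp

set_option maxHeartbeats 1600000 in
/-- A pair of isotropic planes over a fixed field of two or three elements carries a symplectic rational structure. -/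
theorem pair_four_rational (hbar : IsBar σ) (hsmall : Nat.card (fixF σ) ≤ 3) (hn : Fintype.card ι = 4)
    {D : Fin 2 → Submodule F (ι → F)} (hD : IsMDecomposition 2 D)
    (hts : ∀ i, IsTotallySingularFor (formG σ (1 : Matrix ι ι F)) (D i)) {H : Subgroup (GL ι F)}
    (hfix : Fixes σ H (1 : Matrix ι ι F)) (hdet : H ≤ specialLinear ι F) (hle : H ≤ decompositionStabilizer D) :
    ∃ (P : GL ι F) (ζ : F), ζ ≠ 0 ∧ ζ + σ ζ = 0 ∧
      IsFormRationalStructure (formG σ (1 : Matrix ι ι F)) (fixF σ) ζ P ∧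
      (∀ u : ι → F, (∀ i, u i ∈ fixF σ) → formG σ (1 : Matrix ι ι F) (mat P *ᵥ u) (mat P *ᵥ u) = 0) ∧
      H ≤ subfieldSubgroup (fixF σ) P := by
  classical
  haveI : Nonempty ι := Fintype.card_pos_iff.1 (by omega)
  have hs := isSesq_formG σ (1 : Matrix ι ι F)
  -- small fixed field
  have hpm : ∀ a : F, a ≠ 0 → σ a = a → a = 1 ∨ a = -1 := by
    intro a ha hσa
    haveI : Fintype (fixF σ) := Fintype.ofFinite _
    set a' : fixF σ := ⟨a, hσa⟩
    have h1 := FiniteField.pow_card_sub_one_eq_one a' fun e => ha (congrArg Subtype.val e)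
    rw [← Nat.card_eq_fintype_card] at h1
    have h2 : 2 ≤ Nat.card (fixF σ) := Finite.one_lt_card
    rcases (show Nat.card (fixF σ) = 2 ∨ Nat.card (fixF σ) = 3 by omega) with e | e <;> rw [e] at h1
    · exact Or.inl (congrArg Subtype.val (show a' = 1 by simpa using h1))
    · have h3 : a * a = 1 := by rw [← pow_two]; exact congrArg Subtype.val h1
      exact mul_self_eq_one_iff.1 h3
  -- a basis adapted to the pair
  let b₀ : ∀ i, Module.Basis (Fin 2) F (D i) := fun i => Module.finBasisOfFinrankEq F (D i) (hD.finrank_eq i)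
  let vec : P4 → ι → F := Sum.elim (fun j => (b₀ 0 j : ι → F)) fun j => (b₀ 1 j : ι → F)
  have hvD : ∀ x, vec x ∈ D (side x) := fun x => by rcases x with j | j <;> exact SetLike.coe_mem _
  have hspan : ⊤ ≤ Submodule.span F (Set.range vec) := by
    rw [← hD.iSup_eq_top, iSup_le_iff]
    intro i w hw
    have e := (b₀ i).sum_repr ⟨w, hw⟩
    rw [← show ((⟨w, hw⟩ : D i) : ι → F) = w from rfl, ← e, Submodule.coe_sum]
    refine Submodule.sum_mem _ fun j _ => ?_
    rw [SetLike.val_smul]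
    refine Submodule.smul_mem _ _ (Submodule.subset_span ?_)
    fin_cases i
    · exact ⟨Sum.inl j, rfl⟩
    · exact ⟨Sum.inr j, rfl⟩
  obtain ⟨ε⟩ : Nonempty (ι ≃ P4) := ⟨Fintype.equivOfCardEq (by simp [hn])⟩
  let b : Module.Basis P4 F (ι → F) := basisOfTopLeSpanOfCardEqFinrank vec hspan
    (by rw [Module.finrank_fintype_fun_eq_card, hn]; rfl)
  set B₀ : GL ι F := ofBasis (b.reindex ε.symm) with hB₀def
  have hL₀ : ∀ x, frL ε B₀ (Pi.single x 1) = vec x := fun x => by
    show mat B₀ *ᵥ ((Pi.single x (1 : F) : P4 → F) ∘ ε) = vec x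
    rw [show (Pi.single x (1 : F) : P4 → F) ∘ ε = Pi.single (ε.symm x) 1 by
      funext i; simp [Pi.single_apply, Equiv.eq_symm_apply], hB₀def, ofBasis_single]
    simp [b]
  have hLsum : ∀ w : P4 → F, frL ε B₀ w = ∑ x, w x • vec x := fun w => by
    conv_lhs => rw [pi_eq_sum_univ' w]
    simp [map_sum, hL₀]
  set G₀ := frG σ ε B₀ (1 : Matrix ι ι F) with hG₀
  have hG₀e : ∀ x y, G₀ x y = formG σ (1 : Matrix ι ι F) (vec x) (vec y) := fun x y => by
    rw [← hL₀, ← hL₀, ← formG_frL, formG_single]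
  set B := G₀.toBlocks₁₂ with hB
  have hblock : G₀ = fromBlocks 0 B (Bᵀ.map σ) 0 := by
    ext x y
    rcases x with i | i <;> rcases y with j | j <;>
      simp only [fromBlocks_apply₁₁, fromBlocks_apply₁₂, fromBlocks_apply₂₁, fromBlocks_apply₂₂, Matrix.zero_apply]
    · rw [hG₀e]; exact hts 0 _ (hvD (Sum.inl i)) _ (hvD (Sum.inl j))
    · rfl
    · rw [Matrix.map_apply, Matrix.transpose_apply, hB, toBlocks₁₂, Matrix.of_apply, hG₀e, hG₀e]
      exact stdH_comm hbar _ _
    · rw [hG₀e]; exact hts 1 _ (hvD (Sum.inr i)) _ (hvD (Sum.inr j))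
  have hG₀det : G₀.det ≠ 0 := by
    rw [hG₀, frG, Matrix.det_submatrix_equiv_self]
    exact det_act_one_ne_zero σ B₀
  have hBdet : B.det ≠ 0 := fun e => hG₀det (by
    obtain ⟨v, hv0, hv⟩ := Matrix.exists_mulVec_eq_zero_iff.2 e
    refine Matrix.exists_mulVec_eq_zero_iff.1 ⟨Sum.elim 0 v, fun h => hv0 (funext fun i => congrFun h (Sum.inr i)), ?_⟩
    rw [hblock, fromBlocks_mulVec]
    simp [hv])
  set C := (B⁻¹ * skewTwo).map σ with hC
  have hBC : B * C.map σ = skewTwo := by
    rw [show C.map σ = B⁻¹ * skewTwo from Matrix.ext fun i j => hbar.involutive _,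
      ← Matrix.mul_assoc, Matrix.mul_nonsing_inv _ (isUnit_iff_ne_zero.2 hBdet), Matrix.one_mul]
  have hCdet : C.det ≠ 0 := fun e => by
    have h1 := congrArg Matrix.det hBC
    rw [Matrix.det_mul, show (C.map σ).det = σ C.det from (RingHom.map_det (σ : F →+* F) _).symm, e, map_zero, mul_zero,
      skewTwo_isUnit] at h1
    exact zero_ne_one h1
  let U₁ : GL P4 F := .mkOfDetNeZero (fromBlocks 1 0 0 C) (by
    rw [Matrix.det_fromBlocks_zero₂₁, Matrix.det_one, one_mul]; exact hCdet)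
  set B₁ := fr ε B₀ U₁ * B₀ with hB₁
  have hK : frG σ ε B₁ (1 : Matrix ι ι F) = hypFour := by
    have h1 : Cᵀ * Bᵀ.map σ = -skewTwo := by
      have e : (C.map σ)ᵀ * Bᵀ = -skewTwo := by rw [← Matrix.transpose_mul, hBC, skewTwo_transpose]
      have e' := congrArg (fun Z : Matrix (Fin 2) (Fin 2) F => Z.map σ) e
      simp only [Matrix.map_mul] at e'
      rw [show ((C.map σ)ᵀ).map σ = Cᵀ from Matrix.ext fun i j => hbar.involutive _] at e'
      rw [e', show (-skewTwo : Matrix (Fin 2) (Fin 2) F).map σ = -(skewTwo.map σ) from Matrix.ext fun i j => by simp,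
        skewTwo_map]
    rw [hB₁, frG_change, ← hG₀, hblock, show mat U₁ = fromBlocks 1 0 0 C from rfl, act, fromBlocks_transpose,
      fromBlocks_map, fromBlocks_multiply, fromBlocks_multiply, hypFour]
    simp [hBC, h1, Matrix.map_zero, Matrix.map_one σ (map_zero σ) (map_one σ)]
  have hdis : D 0 ⊓ D 1 = ⊥ := disjoint_iff.1 (hD.indep.pairwiseDisjoint (show (0 : Fin 2) ≠ 1 by decide))
  have hL₁ : ∀ z, frL ε B₁ z = frL ε B₀ (Sum.elim (fun i => z (Sum.inl i)) (C *ᵥ fun i => z (Sum.inr i))) := fun z => by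
    rw [hB₁, frL_change, show mat U₁ = fromBlocks 1 0 0 C from rfl, fromBlocks_mulVec]
    simp [Function.comp_def]
  have hmem : ∀ z k, frL ε B₁ z ∈ D k → ∀ x, side x ≠ k → z x = 0 := by
    intro z k hz x hx
    set w : P4 → F := Sum.elim (fun i => z (Sum.inl i)) (C *ᵥ fun i => z (Sum.inr i)) with hw
    rw [hL₁, hLsum, ← hw, Fintype.sum_sum_type] at hz
    set p := ∑ i, w (Sum.inl i) • vec (Sum.inl i) with hp
    set q := ∑ i, w (Sum.inr i) • vec (Sum.inr i) with hq
    have hp0 : p ∈ D 0 := Submodule.sum_mem _ fun i _ => Submodule.smul_mem _ _ (hvD (Sum.inl i))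
    have hq1 : q ∈ D 1 := Submodule.sum_mem _ fun i _ => Submodule.smul_mem _ _ (hvD (Sum.inr i))
    have hzero : ∀ y, side y ≠ k → w y = 0 := by
      have hind : ∀ u : P4 → F, frL ε B₀ u = 0 → u = 0 := fun u hu => (frL ε B₀).injective (hu.trans (map_zero _).symm)
      fin_cases k
      · have h0 : q = 0 := (Submodule.mem_bot F).1 (hdis ▸ ⟨by simpa using sub_mem hz hp0, hq1⟩)
        have h1 := hind (Sum.elim 0 fun i => w (Sum.inr i)) (by rw [hLsum, Fintype.sum_sum_type]; simpa [hq] using h0)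
        intro y hy
        rcases y with i | i
        · exact absurd rfl hy
        · exact congrFun h1 (Sum.inr i)
      · have h0 : p = 0 := (Submodule.mem_bot F).1 (hdis ▸ ⟨hp0, by simpa using sub_mem hz hq1⟩)
        have h1 := hind (Sum.elim (fun i => w (Sum.inl i)) 0) (by rw [hLsum, Fintype.sum_sum_type]; simpa [hp] using h0)
        intro y hy
        rcases y with i | i
        · exact congrFun h1 (Sum.inl i)
        · exact absurd rfl hy
    rcases x with i | i
    · exact hzero (Sum.inl i) hx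
    · have h1 : C *ᵥ (fun j => z (Sum.inr j)) = 0 := funext fun j => hzero (Sum.inr j) hx
      exact congrFun (Matrix.eq_zero_of_mulVec_eq_zero hCdet h1) i
  have hvecmem : ∀ x, frL ε B₁ (Pi.single x 1) ∈ D (side x) := fun x => by
    rw [hL₁, hLsum, Fintype.sum_sum_type]
    rcases x with i | i
    · refine add_mem (Submodule.sum_mem _ fun j _ => Submodule.smul_mem _ _ (hvD (Sum.inl j))) ?_
      refine Submodule.sum_mem _ fun j _ => ?_
      simp [show (fun i' : Fin 2 => (Pi.single (Sum.inl i) (1 : F) : P4 → F) (Sum.inr i')) = 0 from funext fun _ => by simp]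
      fin_cases j <;> simp
    · refine add_mem (Submodule.sum_mem _ fun j _ => ?_) (Submodule.sum_mem _ fun j _ => Submodule.smul_mem _ _ (hvD (Sum.inr j)))
      simp
  -- the rational frame
  obtain ⟨ω, hω⟩ := hbar.exists_moved
  have hω' : ω - σ ω ≠ 0 := sub_ne_zero.2 (Ne.symm hω)
  let T₀ : GL P4 F := .mkOfDetNeZero (fromBlocks 1 (ω • 1) 1 (σ ω • 1)) fun e => by
    obtain ⟨v, hv0, hv⟩ := Matrix.exists_mulVec_eq_zero_iff.2 e
    rw [fromBlocks_mulVec] at hv
    have h1 : ∀ i, v (Sum.inl i) + ω * v (Sum.inr i) = 0 := fun i => by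
      simpa [Matrix.smul_mulVec] using congrFun hv (Sum.inl i)
    have h2 : ∀ i, v (Sum.inl i) + σ ω * v (Sum.inr i) = 0 := fun i => by
      simpa [Matrix.smul_mulVec] using congrFun hv (Sum.inr i)
    have h3 : ∀ i, v (Sum.inr i) = 0 := fun i =>
      (mul_eq_zero.1 (show (ω - σ ω) * v (Sum.inr i) = 0 by linear_combination h1 i - h2 i)).resolve_left hω'
    refine hv0 (funext fun x => ?_)
    rcases x with i | i
    · simpa [h3 i] using h1 i
    · exact h3 i
  set P := fr ε B₁ T₀ * B₁ with hP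
  set M₀ : Matrix P4 P4 F := fromBlocks 0 1 1 0 with hM₀
  have hMM : M₀ * M₀ = 1 := by rw [hM₀, fromBlocks_multiply]; simp
  have hMT : M₀ * (mat T₀).map σ = mat T₀ := by
    rw [hM₀, show mat T₀ = fromBlocks 1 (ω • 1) 1 (σ ω • 1) from rfl, fromBlocks_map, fromBlocks_multiply]
    congr 1 <;> ext i j <;> fin_cases i <;> fin_cases j <;> simp [hbar.involutive]
  set G₁ := frG σ ε P (1 : Matrix ι ι F) with hG₁
  have hG₁v : G₁ = fromBlocks 0 ((σ ω - ω) • skewTwo) ((σ ω - ω) • skewTwo) ((σ ω * σ ω - ω * ω) • skewTwo) ∨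
      G₁ = fromBlocks 0 ((ω - σ ω) • skewTwo) ((ω - σ ω) • skewTwo) ((ω * ω - σ ω * σ ω) • skewTwo) := by
    right
    rw [hG₁, hP, frG_change, hK, show mat T₀ = fromBlocks 1 (ω • 1) 1 (σ ω • 1) from rfl, act, hypFour,
      fromBlocks_transpose, fromBlocks_map, fromBlocks_multiply, fromBlocks_multiply]
    congr 1 <;> ext i j <;> fin_cases i <;> fin_cases j <;>
      simp [skewTwo, hbar.involutive, Matrix.mul_apply, Matrix.vecMul, dotProduct, Fin.sum_univ_two] <;> ring
  have hG₁s : ∀ x y, σ (G₁ x y) = -G₁ x y := fun x y => by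
    rcases hG₁v with e | e <;> rw [e] <;> rcases x with i | i <;> rcases y with j | j <;> fin_cases i <;>
      fin_cases j <;> simp [skewTwo, hbar.involutive]
  obtain ⟨ζ, hζ, hζs⟩ := exists_skew_scalar hbar
  have hPform : act σ (1 : Matrix ι ι F) (mat P) = G₁.submatrix ε ε := by
    rw [hG₁, frG, Matrix.submatrix_submatrix, Equiv.symm_comp_self, Matrix.submatrix_id_id]
  refine ⟨P, ζ, hζ, by rw [hζs, add_neg_cancel], rational_of_entries (G₁ := fun i j => ζ * G₁ (ε i) (ε j))
    (fun i j => mem_fixF.2 (by rw [map_mul, hζs, hG₁s, neg_mul_neg]))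
    (Matrix.ext fun i j => by rw [Matrix.smul_apply, smul_eq_mul, hPform]; rfl), fun u hu => ?_, fun g hg => ?_⟩
  · set v : P4 → F := fun x => u (ε.symm x) with hv
    have hvσ : ∀ x, σ (v x) = v x := fun x => hu _
    have e : mat P *ᵥ u = frL ε P v := by
      show _ = mat P *ᵥ (v ∘ ε)
      congr 1; funext i; simp [v]
    rw [e, ← formG_frL, ← hG₁, hG₁, hP, frG_change, hK, ← formG_mulVec]
    set p : Fin 2 → F := fun i => v (Sum.inl i) + ω * v (Sum.inr i) with hp
    have hTv : mat T₀ *ᵥ v = Sum.elim p fun i => σ (p i) := by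
      rw [show mat T₀ = fromBlocks 1 (ω • 1) 1 (σ ω • 1) from rfl, fromBlocks_mulVec]
      congr 1 <;> funext i <;> simp [p, hvσ, Matrix.smul_mulVec]
    rw [hTv]
    simp [formG, hypFour, dotProduct, Matrix.mulVec, Fintype.sum_sum_type, Fin.sum_univ_two, skewTwo, hbar.involutive]
    ring
  obtain ⟨π, hπ⟩ := hle hg
  obtain ⟨X, rfl⟩ := (fr ε B₁).surjective g
  have hXf : act σ (hypFour : Matrix P4 P4 F) (mat X) = hypFour := hK ▸ fixes_comap ε B₁ hfix X hg
  have hXdet : (mat X).det = 1 := by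
    have h1 : (mat (fr ε B₁ X)).det = 1 := congrArg Units.val (hdet hg)
    rwa [mat_fr, Matrix.det_mul, Matrix.det_mul, mul_right_comm, ← Matrix.det_mul, mat_mul_inv, Matrix.det_one, one_mul,
      Matrix.det_submatrix_equiv_self] at h1
  have hcol : ∀ x y, side y ≠ π (side x) → mat X y x = 0 := by
    intro x y hne
    have h1 : frL ε B₁ (mat X *ᵥ Pi.single x 1) ∈ D (π (side x)) := by
      rw [← fr_mulVec, ← hπ]
      exact ⟨_, hvecmem x, Matrix.toLin'_apply _ _⟩
    have h2 := hmem _ _ h1 y hne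
    rwa [Matrix.mulVec_single_one] at h2
  obtain ⟨η, hη, hcomm⟩ : ∃ η : F, (η = 1 ∨ η = -1) ∧ M₀ * (mat X).map σ * M₀ = η • mat X := by
    rcases fin_two_perm π with ⟨h0, h1⟩ | ⟨h0, h1⟩
    · set a := (mat X).toBlocks₁₁ with ha
      set d := (mat X).toBlocks₂₂ with hd
      have hXe : mat X = fromBlocks a 0 0 d := by
        ext x y
        rcases x with i | i <;> rcases y with j | j
        · rfl
        · exact hcol _ _ (by simp [side, h1])
        · exact hcol _ _ (by simp [side, h0])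
        · rfl
      rw [hXe, Matrix.det_fromBlocks_zero₂₁] at hXdet
      have h12 : aᵀ * skewTwo * d.map σ = skewTwo := by
        have h := congrArg Matrix.toBlocks₁₂ hXf
        rw [hXe, act, hypFour, fromBlocks_transpose, fromBlocks_map, fromBlocks_multiply, fromBlocks_multiply,
          toBlocks_fromBlocks₁₂, toBlocks_fromBlocks₁₂] at h
        simpa [Matrix.map_zero] using h
      obtain ⟨hfixd, hdσ⟩ := hypFour_blocks hXdet h12 hbar.involutive
      have ha0 : a.det ≠ 0 := left_ne_zero_of_mul (hXdet ▸ one_ne_zero)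
      obtain ⟨δ, hδ, hdσ'⟩ : ∃ δ : F, (δ = 1 ∨ δ = -1) ∧ d.map σ = δ • a := by
        refine ⟨a.det⁻¹, ?_, hdσ⟩
        rcases hpm _ ha0 hfixd with e | e <;> rw [e] <;> simp
      refine ⟨δ, hδ, ?_⟩
      have haσ : a.map σ = δ • d := by
        have h2 := congrArg (fun Z : Matrix (Fin 2) (Fin 2) F => δ • Z.map σ) hdσ'
        rw [show (d.map σ).map σ = d from Matrix.ext fun i j => hbar.involutive _,
          show (δ • a).map σ = σ δ • a.map σ from Matrix.ext fun i j => by simp, smul_smul] at h2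
        rw [h2]
        rcases hδ with e | e <;> rw [e] <;> simp
      rw [hXe, hM₀, fromBlocks_map, fromBlocks_multiply, fromBlocks_multiply, fromBlocks_smul]
      simp [hdσ', haσ, Matrix.map_zero]
    · set b := (mat X).toBlocks₁₂ with hb
      set c := (mat X).toBlocks₂₁ with hc
      have hXe : mat X = fromBlocks 0 b c 0 := by
        ext x y
        rcases x with i | i <;> rcases y with j | j
        · exact hcol _ _ (by simp [side, h0])
        · rfl
        · rfl
        · exact hcol _ _ (by simp [side, h1])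
      rw [hXe, swap_det] at hXdet
      have h12 : cᵀ * skewTwo * ((-b).map σ) = skewTwo := by
        have h := congrArg Matrix.toBlocks₁₂ hXf
        rw [hXe, act, hypFour, fromBlocks_transpose, fromBlocks_map, fromBlocks_multiply, fromBlocks_multiply,
          toBlocks_fromBlocks₁₂, toBlocks_fromBlocks₁₂] at h
        rw [show (-b).map σ = -(b.map σ) from Matrix.ext fun i j => by simp, Matrix.mul_neg]
        simpa [Matrix.map_zero] using h
      obtain ⟨hfixd, hdσ⟩ := hypFour_blocks (a := c) (d := -b)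
        (by rw [Matrix.det_neg, Fintype.card_fin, neg_one_sq, one_mul, mul_comm]; exact hXdet) h12 hbar.involutive
      have hc0 : c.det ≠ 0 := right_ne_zero_of_mul (hXdet ▸ one_ne_zero)
      obtain ⟨δ, hδ, hdσ'⟩ : ∃ δ : F, (δ = 1 ∨ δ = -1) ∧ b.map σ = δ • c := by
        refine ⟨-c.det⁻¹, ?_, ?_⟩
        · rcases hpm _ hc0 hfixd with e | e <;> rw [e] <;> simp
        · rw [show b.map σ = -((-b).map σ) from Matrix.ext fun i j => by simp, hdσ, neg_smul]
      refine ⟨δ, hδ, ?_⟩
      have hcσ : c.map σ = δ • b := by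
        have h2 := congrArg (fun Z : Matrix (Fin 2) (Fin 2) F => δ • Z.map σ) hdσ'
        rw [show (b.map σ).map σ = b from Matrix.ext fun i j => hbar.involutive _,
          show (δ • c).map σ = σ δ • c.map σ from Matrix.ext fun i j => by simp, smul_smul] at h2
        rw [h2]
        rcases hδ with e | e <;> rw [e] <;> simp
      rw [hXe, hM₀, fromBlocks_map, fromBlocks_multiply, fromBlocks_multiply, fromBlocks_smul]
      simp [hdσ', hcσ, Matrix.map_zero]
  obtain ⟨d, hd, hdη⟩ : ∃ d : F, d ≠ 0 ∧ σ d * η = d := by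
    rcases hη with rfl | rfl
    · exact ⟨1, one_ne_zero, by simp⟩
    · exact ⟨ζ, hζ, by rw [hζs]; ring⟩
  set N := mat T₀⁻¹ * (d • mat X) * mat T₀ with hN
  have hN' : N.map σ = N := by
    have e1 : (mat T₀).map σ * N.map σ = (d • mat X).map σ * (mat T₀).map σ := by
      rw [← Matrix.map_mul, ← Matrix.map_mul, hN, ← mul_assoc, ← mul_assoc, mat_mul_inv, one_mul]
    have h1 : M₀ * (d • mat X).map σ = d • (mat X * M₀) := by
      rw [show (d • mat X).map σ = σ d • (mat X).map σ from Matrix.ext fun i j => by simp, Matrix.mul_smul]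
      have h5 := congrArg (· * M₀) hcomm
      simp only [Matrix.mul_assoc, hMM, Matrix.mul_one, Matrix.smul_mul] at h5
      rw [h5, smul_smul, hdη]
    have h3 : mat T₀ * N.map σ = mat T₀ * N := by
      conv_lhs => rw [← hMT]
      rw [mul_assoc, e1, ← mul_assoc, h1, Matrix.smul_mul, mul_assoc, hMT, hN, ← mul_assoc, ← mul_assoc, mat_mul_inv,
        one_mul, Matrix.smul_mul]
    exact T₀.isUnit.mul_left_cancel h3
  refine mem_subfieldSubgroup (c := d⁻¹) (X := N.submatrix ε ε) (fun i j => congrFun (congrFun hN' (ε i)) (ε j)) ?_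
  rw [show P⁻¹ * fr ε B₁ X * P = B₁⁻¹ * fr ε B₁ (T₀⁻¹ * X * T₀) * B₁ by
    rw [hP, map_mul, map_mul, map_inv]; group]
  rw [show mat (B₁⁻¹ * fr ε B₁ (T₀⁻¹ * X * T₀) * B₁) = mat B₁⁻¹ * mat (fr ε B₁ (T₀⁻¹ * X * T₀)) * mat B₁ by
    simp [mat], mat_fr, ← mul_assoc, ← mul_assoc, mat_inv_mul, one_mul, mul_assoc, mat_inv_mul, mul_one, hN,
    Matrix.mul_smul, Matrix.smul_mul]
  ext i j
  simp only [mat, Units.val_mul, Matrix.smul_apply, Matrix.submatrix_apply, smul_eq_mul]
  rw [← mul_assoc, inv_mul_cancel₀ hd, one_mul]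

set_option maxHeartbeats 800000 in
/-- Root elements do not normalise a group of symplectic type in dimension four. -/
theorem root_not_six_four (hbar : IsBar σ) {A : Subgroup (GL ι F)} (hA : HasRoots σ A) (hn : Fintype.card ι = 4)
    (h2 : (2 : F) ≠ 0) (hsq : ∀ s : F, s * s = 1 → ∃ l : F, l * l = s) {R : Subgroup (GL ι F)}
    (hpg : IsPGroup 2 R) (hpow : ∀ x ∈ R, x ^ 4 = 1)
    (habs : ActsAbsolutelyIrreducibly (matrixSet R)) (hsim : R ≤ similarityGroup (formG σ (1 : Matrix ι ι F)))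
    (hcomm : ∀ x ∈ R, ∀ y ∈ R, x * y * x⁻¹ * y⁻¹ ∈ scalars ι F) : ¬ A ≤ subgroupNormalizer R := by
  classical
  intro hle
  haveI : Nonempty ι := Fintype.card_pos_iff.1 (by omega)
  have hs := isSesq_formG σ (1 : Matrix ι ι F)
  obtain ⟨x, hx, hxs, s, hs1, hxx⟩ :
      ∃ x ∈ R, x ∉ scalars ι F ∧ ∃ s : F, s * s = 1 ∧ mat x * mat x = s • (1 : Matrix ι ι F) := by
    obtain ⟨x₀, hx₀, hx₀s⟩ := SetLike.not_le_iff_exists.1 (irr_not_scalar (abs_iff.1 habs).1 (by omega))
    by_cases h : x₀ * x₀ ∈ scalars ι F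
    · obtain ⟨c, hc⟩ := (Cfsg.Geo.mem_scalars_iff _).1 h
      refine ⟨x₀, hx₀, hx₀s, c, ?_, by simpa [mat] using hc⟩
      have h1 : mat (x₀ * x₀ * (x₀ * x₀)) = ((c : F) * c) • (1 : Matrix ι ι F) := by
        rw [show mat (x₀ * x₀ * (x₀ * x₀)) = mat (x₀ * x₀) * mat (x₀ * x₀) from Units.val_mul _ _,
          show mat (x₀ * x₀) = (c : F) • (1 : Matrix ι ι F) from hc, Matrix.smul_mul, one_mul, smul_smul]
      rw [show x₀ * x₀ * (x₀ * x₀) = 1 by rw [← hpow x₀ hx₀]; simp only [pow_succ, pow_zero, one_mul, mul_assoc]] at h1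
      obtain ⟨i⟩ : Nonempty ι := inferInstance
      simpa [mat] using (congrFun (congrFun h1 i) i).symm
    · refine ⟨x₀ * x₀, mul_mem hx₀ hx₀, h, 1, one_mul 1, ?_⟩
      rw [one_smul, show mat (x₀ * x₀) * mat (x₀ * x₀) = mat (x₀ ^ 4) by
        simp only [mat, ← Units.val_mul]; congr 1; simp only [pow_succ, pow_zero, one_mul, mul_assoc], hpow x₀ hx₀]
      rfl
  obtain ⟨l, hl⟩ := hsq s hs1
  have hl0 : l ≠ 0 := fun e => by rw [e, mul_zero] at hl; rw [← hl, mul_zero] at hs1; exact zero_ne_one hs1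
  -- the two eigenspaces
  let V : F → Submodule F (ι → F) := fun a => LinearMap.ker (Matrix.toLin' (mat x - a • 1))
  have hV : ∀ a w, w ∈ V a ↔ mat x *ᵥ w = a • w := fun a w => by
    rw [LinearMap.mem_ker, Matrix.toLin'_apply, Matrix.sub_mulVec, Matrix.smul_mulVec, Matrix.one_mulVec, sub_eq_zero]
  have hxw : ∀ w, mat x *ᵥ (mat x *ᵥ w) = (l * l) • w := fun w => by
    rw [Matrix.mulVec_mulVec, hxx, Matrix.smul_mulVec, Matrix.one_mulVec, hl]
  obtain ⟨y, hy, hne⟩ : ∃ y ∈ R, x * y ≠ y * x := by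
    by_contra hcon
    push Not at hcon
    exact hxs (comm_of_abs habs hcon)
  obtain ⟨c, hc⟩ := (Cfsg.Geo.mem_scalars_iff _).1 (hcomm x hx y hy)
  have hxy : mat x * mat y = (c : F) • (mat y * mat x) := by
    rw [show mat x * mat y = mat (x * y * x⁻¹ * y⁻¹) * (mat y * mat x) by
      simp only [mat, ← Units.val_mul]; congr 1; group,
      show mat (x * y * x⁻¹ * y⁻¹) = (c : F) • (1 : Matrix ι ι F) from hc, Matrix.smul_mul, one_mul]
  have hcm : (c : F) = -1 := by
    have hc1 : (c : F) ≠ 1 := fun e => hne (Units.ext (by rw [e, one_smul] at hxy; exact hxy))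
    have h1 : mat x * (mat x * mat y) = ((c : F) * c) • (mat y * (mat x * mat x)) := by
      rw [hxy, Matrix.mul_smul, ← mul_assoc, hxy, Matrix.smul_mul, smul_smul, mul_assoc]
    rw [← mul_assoc, hxx, Matrix.smul_mul, Matrix.mul_smul, one_mul, mul_one, smul_smul] at h1
    have h3 : ((c : F) * c * s - s) • mat y = 0 := by rw [sub_smul, ← h1, sub_self]
    have h4 : (c : F) * c * s - s = 0 := (smul_eq_zero.1 h3).resolve_right fun e => y.isUnit.ne_zero e
    have hs0 : s ≠ 0 := left_ne_zero_of_mul (hs1 ▸ one_ne_zero)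
    exact ((mul_self_eq_one_iff.1 (mul_right_cancel₀ hs0 (by linear_combination h4))).resolve_left hc1)
  have hyV : ∀ a w, w ∈ V a → mat y *ᵥ w ∈ V (-a) := fun a w hw => by
    rw [hV] at hw ⊢
    rw [Matrix.mulVec_mulVec, hxy, Matrix.smul_mulVec, ← Matrix.mulVec_mulVec, hw, Matrix.mulVec_smul, smul_smul, hcm,
      neg_one_mul]
  have hdimle : ∀ a, Module.finrank F (V a) ≤ Module.finrank F (V (-a)) := fun a =>
    LinearMap.finrank_le_finrank_of_injective (f := LinearMap.codRestrict (V (-a))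
      ((Matrix.toLin' (mat y)).domRestrict (V a)) (fun w => by
        rw [LinearMap.domRestrict_apply, Matrix.toLin'_apply]; exact hyV a w w.2))
      fun p q e => Subtype.ext (mulVec_injective y (by simpa using congrArg Subtype.val e))
  have htop : V l ⊔ V (-l) = ⊤ := by
    rw [eq_top_iff]
    intro w _
    have hl2 : (2 * l) ≠ 0 := mul_ne_zero h2 hl0
    refine Submodule.mem_sup.2 ⟨(2 * l)⁻¹ • (l • w + mat x *ᵥ w), ?_, (2 * l)⁻¹ • (l • w - mat x *ᵥ w), ?_, ?_⟩
    · rw [hV, Matrix.mulVec_smul, Matrix.mulVec_add, Matrix.mulVec_smul, hxw]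
      rw [smul_comm l ((2 * l)⁻¹), smul_add l, smul_smul l l, add_comm (l • mat x *ᵥ w)]
    · rw [hV, Matrix.mulVec_smul, Matrix.mulVec_sub, Matrix.mulVec_smul, hxw]
      module
    · rw [← smul_add, show l • w + mat x *ᵥ w + (l • w - mat x *ᵥ w) = (2 * l) • w by module, smul_smul,
        inv_mul_cancel₀ hl2, one_smul]
  have hdim : 2 ≤ Module.finrank F (V l) ∧ 2 ≤ Module.finrank F (V (-l)) := by
    have h1 := Submodule.finrank_sup_add_finrank_inf_eq (V l) (V (-l))
    have h3 := hdimle l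
    have h4 := hdimle (-l)
    rw [neg_neg] at h4
    rw [htop, finrank_top, Module.finrank_fintype_fun_eq_card, hn] at h1
    omega
  obtain ⟨μ, hμ⟩ := hsim hx
  -- isotropic eigenvectors orthogonal to each other
  obtain ⟨p, hp, hp0, hpp, q, hq, hq0, hqq, hpq⟩ : ∃ p ∈ V l, p ≠ 0 ∧ formG σ (1 : Matrix ι ι F) p p = 0 ∧
      ∃ q ∈ V (-l), q ≠ 0 ∧ formG σ (1 : Matrix ι ι F) q q = 0 ∧ formG σ (1 : Matrix ι ι F) p q = 0 := by
    have hrel : ∀ (a a' : F) (u w : ι → F), u ∈ V a → w ∈ V a' →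
        (a * σ a' - (μ : F)) * formG σ (1 : Matrix ι ι F) u w = 0 := fun a a' u w hu hw => by
      have h1 := hμ u w
      rw [(hV a u).1 hu, (hV a' w).1 hw, hs.smul_left, hs.smul_right] at h1
      linear_combination h1
    by_cases hcase : l * σ l = (μ : F)
    · have hiso : ∀ a, 2 ≤ Module.finrank F (V a) → ∃ p ∈ V a, p ≠ 0 ∧ formG σ (1 : Matrix ι ι F) p p = 0 := by
        intro a ha
        obtain ⟨u, hu, hu0⟩ := (V a).exists_mem_ne_zero_of_ne_bot fun e => by rw [e, finrank_bot] at ha; omega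
        by_cases huu : formG σ (1 : Matrix ι ι F) u u = 0
        · exact ⟨u, hu, hu0, huu⟩
        obtain ⟨w, hw, hwu⟩ : ∃ w ∈ V a, w ∉ Submodule.span F {u} := by
          by_contra hcon
          push Not at hcon
          have h1 := Submodule.finrank_mono (show V a ≤ Submodule.span F {u} from hcon)
          rw [finrank_span_singleton hu0] at h1
          omega
        set w' := w - (formG σ (1 : Matrix ι ι F) w u / formG σ (1 : Matrix ι ι F) u u) • u with hw'
        have hwu' : formG σ (1 : Matrix ι ι F) w' u = 0 := by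
          rw [hw', sub_eq_add_neg, ← neg_smul, hs.add_left, hs.smul_left, neg_mul, div_mul_cancel₀ _ huu, add_neg_cancel]
        have huw' : formG σ (1 : Matrix ι ι F) u w' = 0 :=
          (stdH_comm hbar u w').trans ((congrArg σ hwu').trans (map_zero σ))
        have hfixed : ∀ z : ι → F, σ (formG σ (1 : Matrix ι ι F) z z) = formG σ (1 : Matrix ι ι F) z z :=
          fun z => (stdH_comm hbar z z).symm
        obtain ⟨d, hd⟩ := hbar.norm (-formG σ (1 : Matrix ι ι F) w' w' / formG σ (1 : Matrix ι ι F) u u)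
          (by rw [map_div₀, map_neg, hfixed, hfixed])
        refine ⟨w' + d • u, add_mem (sub_mem hw ((V a).smul_mem _ hu)) ((V a).smul_mem _ hu), fun e => hwu ?_, ?_⟩
        · refine Submodule.mem_span_singleton.2 ⟨formG σ (1 : Matrix ι ι F) w u / formG σ (1 : Matrix ι ι F) u u - d, ?_⟩
          rw [sub_smul, eq_comm, ← sub_eq_zero, ← e, hw']
          abel
        · rw [hs.add_left, hs.add_right, hs.add_right, hs.smul_left, hs.smul_right, hs.smul_left, hs.smul_right, hwu',
            huw', mul_zero, mul_zero, add_zero, zero_add, ← mul_assoc, hd, div_mul_cancel₀ _ huu, add_neg_cancel]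
      obtain ⟨p, hp, hp0, hpp⟩ := hiso l hdim.1
      obtain ⟨q, hq, hq0, hqq⟩ := hiso (-l) hdim.2
      refine ⟨p, hp, hp0, hpp, q, hq, hq0, hqq, ?_⟩
      have hμ0 : (μ : F) ≠ 0 := μ.ne_zero
      refine (mul_eq_zero.1 (hrel l (-l) p q hp hq)).resolve_left ?_
      rw [map_neg, mul_neg, hcase]
      exact fun e => mul_ne_zero h2 hμ0 (by linear_combination -e)
    · have hzero : ∀ a, (a = l ∨ a = -l) → ∀ u ∈ V a, ∀ w ∈ V a, formG σ (1 : Matrix ι ι F) u w = 0 := by
        intro a ha u hu w hw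
        refine (mul_eq_zero.1 (hrel a a u w hu hw)).resolve_left (sub_ne_zero.2 ?_)
        rcases ha with rfl | rfl
        · exact hcase
        · rwa [map_neg, neg_mul_neg]
      obtain ⟨p, hp, hp0⟩ := (V l).exists_mem_ne_zero_of_ne_bot fun e => by
        have := hdim.1; rw [e, finrank_bot] at this; omega
      let L : V (-l) →ₗ[F] F :=
        { toFun := fun w => formG σ (1 : Matrix ι ι F) w.1 p
          map_add' := fun a b => hs.add_left _ _ _
          map_smul' := fun a b => hs.smul_left _ _ _ }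
      obtain ⟨⟨q, hq⟩, hqk, hq0⟩ := Submodule.exists_mem_ne_zero_of_ne_bot (show LinearMap.ker L ≠ ⊥ from
        LinearMap.ker_ne_bot_of_finrank_lt (by rw [Module.finrank_self]; have := hdim.2; omega))
      refine ⟨p, hp, hp0, hzero l (Or.inl rfl) p hp p hp, q, hq, fun e => hq0 (Subtype.ext e),
        hzero (-l) (Or.inr rfl) q hq q hq, ?_⟩
      have h5 : formG σ (1 : Matrix ι ι F) q p = 0 := LinearMap.mem_ker.1 hqk
      exact (stdH_comm hbar p q).trans ((congrArg σ h5).trans (map_zero σ))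
  have hqp : formG σ (1 : Matrix ι ι F) q p = 0 :=
    (stdH_comm hbar q p).trans ((congrArg σ hpq).trans (map_zero σ))
  set v := p + q with hv
  set v' := mat x *ᵥ v with hv'
  have hv'e : v' = l • p + (-l) • q := by rw [hv', hv, Matrix.mulVec_add, (hV _ _).1 hp, (hV _ _).1 hq]
  have hvv : formG σ (1 : Matrix ι ι F) v v = 0 := by
    rw [hv, hs.add_left, hs.add_right, hs.add_right, hpp, hqq, hpq, hqp]; ring
  have hv'v : formG σ (1 : Matrix ι ι F) v' v = 0 := by
    rw [hv'e, hv, hs.add_left, hs.smul_left, hs.smul_left, hs.add_right, hs.add_right, hpp, hqq, hpq, hqp]; ring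
  have hdisj : ∀ w, w ∈ V l → w ∈ V (-l) → w = 0 := fun w h1 h3 => by
    rw [hV] at h1 h3
    exact (smul_eq_zero.1 (show (2 * l) • w = 0 by
      have := h1.symm.trans h3
      rw [← sub_eq_zero] at this
      rw [← this]; module)).resolve_left (mul_ne_zero h2 hl0)
  have hind : ∀ a : F, v' ≠ a • v := fun a e => by
    have h1 : (l - a) • p = (l + a) • q := by
      rw [hv'e, hv] at e
      rw [← sub_eq_zero] at e ⊢
      rw [← e]; module
    have h3 : (l - a) • p = 0 := hdisj _ ((V l).smul_mem _ hp) (h1 ▸ (V (-l)).smul_mem _ hq)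
    rw [h3] at h1
    have h5 : l - a = 0 := (smul_eq_zero.1 h3).resolve_right hp0
    have h6 : l + a = 0 := (smul_eq_zero.1 h1.symm).resolve_right hq0
    exact mul_ne_zero h2 hl0 (by linear_combination h5 + h6)
  have hv0 : v ≠ 0 := fun e => hind 0 (by rw [hv', e, Matrix.mulVec_zero, zero_smul])
  obtain ⟨b, hb0, hb⟩ := exists_trace_zero hbar
  have hvs : stdH σ v v = 0 := hvv
  set t : GL ι F := root hvs b with ht
  have htR : t * x * t⁻¹ ∈ R := (Subgroup.mem_normalizer_iff.1 (hle (hA v hvs b hb)) x).1 hx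
  set g := t * x * t⁻¹ * x⁻¹ with hg
  have hgR : g ∈ R := mul_mem htR (inv_mem hx)
  -- the commutator is a transvection-like element of two-power order
  let f₁ : (ι → F) → F := fun u => stdH σ u v
  let f₂ : (ι → F) → F := fun u => stdH σ (mat x⁻¹ *ᵥ u) v
  have hf₂v' : f₂ v' = 0 := by
    show stdH σ (mat x⁻¹ *ᵥ v') v = 0
    rw [hv', inv_mulVec_cancel]; exact hvs
  have hgu : ∀ u, mat g *ᵥ u = u + (b * f₁ u) • v + (-b * f₂ u) • v' := by
    intro u
    rw [hg, ← mulVec_mul, ← mulVec_mul, ← mulVec_mul, ht, root_inv, root_mulVec hvs (-b), root_mulVec hvs b,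
      Matrix.mulVec_add, Matrix.mulVec_smul, mulVec_inv_cancel, ← hv']
    show u + (-b * f₂ u) • v' + (b * stdH σ (u + (-b * f₂ u) • v') v) • v = _
    rw [show stdH σ (u + (-b * f₂ u) • v') v = f₁ u by
      show formG σ 1 _ v = _
      rw [hs.add_left, hs.smul_left, hv'v, mul_zero, add_zero]]
    abel
  have hf₂v : f₂ v = 0 := by
    show stdH σ (mat x⁻¹ *ᵥ v) v = 0
    have e : mat x⁻¹ *ᵥ v = s • v' := by
      have h1 : mat x *ᵥ (s • v') = v := by
        rw [Matrix.mulVec_smul, hv', hxw, hl, smul_smul, hs1, one_smul]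
      conv_lhs => rw [← h1, inv_mulVec_cancel]
    rw [e]
    show formG σ 1 _ v = 0
    rw [hs.smul_left, hv'v, mul_zero]
  have hlin : ∀ u, f₁ (mat g *ᵥ u) = f₁ u ∧ f₂ (mat g *ᵥ u) = f₂ u := fun u => by
    constructor
    · show formG σ 1 _ v = _
      rw [hgu, hs.add_left, hs.add_left, hs.smul_left, hs.smul_left, hvv, hv'v]
      show f₁ u + _ + _ = f₁ u
      ring
    · show stdH σ (mat x⁻¹ *ᵥ (mat g *ᵥ u)) v = _
      rw [hgu, Matrix.mulVec_add, Matrix.mulVec_add, Matrix.mulVec_smul, Matrix.mulVec_smul]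
      show formG σ 1 _ v = _
      rw [hs.add_left, hs.add_left, hs.smul_left, hs.smul_left,
        show formG σ 1 (mat x⁻¹ *ᵥ v) v = 0 from hf₂v, show formG σ 1 (mat x⁻¹ *ᵥ v') v = 0 from hf₂v']
      show f₂ u + _ + _ = f₂ u
      ring
  have hpn : ∀ k : ℕ, ∀ u, mat (g ^ k) *ᵥ u = u + (k : F) • ((b * f₁ u) • v + (-b * f₂ u) • v') := by
    intro k
    induction k with
    | zero => intro u; rw [pow_zero, show mat (1 : GL ι F) = 1 from rfl, Matrix.one_mulVec, Nat.cast_zero, zero_smul, add_zero]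
    | succ k ih =>
      intro u
      rw [pow_succ, ← mulVec_mul, ih, (hlin u).1, (hlin u).2, hgu, Nat.cast_succ]
      module
  obtain ⟨k, hk⟩ := hpg ⟨g, hgR⟩
  have hk' : g ^ (2 ^ k) = 1 := congrArg Subtype.val hk
  obtain ⟨i, hi⟩ : ∃ i, v i ≠ 0 := Function.ne_iff.1 hv0
  set u₀ : ι → F := Pi.single i 1
  have hu₀ : f₁ u₀ ≠ 0 := by
    show stdH σ u₀ v ≠ 0
    rw [stdH_comm hbar, stdH_single]
    exact (map_ne_zero σ).2 hi
  have h1 := hpn (2 ^ k) u₀
  rw [hk', show mat (1 : GL ι F) = 1 from rfl, Matrix.one_mulVec, eq_comm, add_eq_left, smul_eq_zero] at h1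
  have h2k : ((2 ^ k : ℕ) : F) ≠ 0 := by push_cast; exact pow_ne_zero _ h2
  have h3 := h1.resolve_left h2k
  have h4 : (-b * f₂ u₀) = 0 := by
    by_contra hne
    refine hind (-((b * f₁ u₀) / (-b * f₂ u₀))) ?_
    have h5 := congrArg ((-b * f₂ u₀)⁻¹ • ·) (eq_neg_of_add_eq_zero_right h3)
    simp only [smul_smul, inv_mul_cancel₀ hne, one_smul, smul_neg] at h5
    rw [h5, neg_smul, div_eq_inv_mul]
  rw [h4, zero_smul, add_zero, smul_eq_zero] at h3
  rcases h3 with h3 | h3
  · exact mul_ne_zero hb0 hu₀ h3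
  · exact hv0 h3

end Cfsg.Agent.Asch
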