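import Cfsg.Agent.Asch.UnitTrans
import Cfsg.Agent.Asch.Proper
import Cfsg.Agent.NotMax.TensorCases
import Cfsg.Agent.Asch.SympMax
import Cfsg.Agent.PrimeDim.SUCases

/-!
Maximal subgroups of the unitary groups: the members that can occur.
-/

set_option autoImplicit false
set_option linter.unusedSectionVars false

namespace Cfsg.Agent.Asch

open Matrix Cfsg.Geo Cfsg.Agent.PrimeDim
open scoped MatrixGroups Kronecker

variable {F : Type*} [Field F] [Fintype F]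

/-- The members that can contain a maximal subgroup. -/
def UnitMaxMember (n q : ℕ) (H : Subgroup (GL (Fin n) F)) : Prop :=
  let f := Cfsg.hermForm n F q
  let I := Cfsg.GU n F q ⊓ specialLinear (Fin n) F
  (∃ W : Submodule F (Fin n → F), W ≠ ⊥ ∧ IsTotallySingularFor f W ∧ H = subspaceStabilizer W ⊓ I) ∨
  (∃ W : Submodule F (Fin n → F), W ≠ ⊥ ∧ IsNondegenerateOn f W ∧ 2 * Module.finrank F W < n ∧
    H = subspaceStabilizer W ⊓ I) ∨
  (∃ (t k : ℕ) (D : Fin t → Submodule F (Fin n → F)), IsNondegenerateMDecomposition f k D ∧ 2 ≤ t ∧ t * k = n ∧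
    (k = 2 → 4 ≤ t → 3 ≤ q) ∧ H = decompositionStabilizer D ⊓ I) ∨
  (∃ (k : ℕ) (D : Fin 2 → Submodule F (Fin n → F)), 2 * k = n ∧ IsMDecomposition k D ∧
    (∀ i, IsTotallySingularFor f (D i)) ∧ H = decompositionStabilizer D ⊓ I) ∨
  (∃ (F₀ : Subfield F) (r : ℕ) (P : GL (Fin n) F), r.Prime ∧ Odd r ∧ Fintype.card F = Nat.card F₀ ^ r ∧
    IsFormRationalStructure f F₀ 1 P ∧ H = subfieldSubgroup F₀ P ⊓ I) ∨
  (∃ (F₀ : Subfield F) (P : GL (Fin n) F) (ζ : F), Even n ∧ Fintype.card F = Nat.card F₀ ^ 2 ∧ ζ ≠ 0 ∧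
    ζ + ζ ^ q = 0 ∧ IsFormRationalStructure f F₀ ζ P ∧
    (∀ u : Fin n → F, (∀ i, u i ∈ F₀) → f (mat P *ᵥ u) (mat P *ᵥ u) = 0) ∧ H = subfieldSubgroup F₀ P ⊓ I) ∨
  (∃ (F₀ : Subfield F) (P : GL (Fin n) F), Odd q ∧ Fintype.card F = Nat.card F₀ ^ 2 ∧
    IsFormRationalStructure f F₀ 1 P ∧ H = subfieldSubgroup F₀ P ⊓ I) ∨
  (∃ (r : ℕ) (K : Subalgebra F (Matrix (Fin n) (Fin n) F)), r.Prime ∧ Odd r ∧ r ∣ n ∧ IsFieldSubalgebra r K ∧
    IsAdjointClosedFor f K ∧ H = subalgebraNormalizer K ⊓ I) ∨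
  (∃ (R : Subgroup (GL (Fin n) F)) (r p e m : ℕ), IsSymplecticTypeGroup r R ∧
    ActsAbsolutelyIrreducibly (matrixSet R) ∧ R ≤ similarityGroup f ∧ p.Prime ∧ r ≠ p ∧ q ^ 2 = p ^ e ∧
    Nat.card (Subgroup.center R) ∣ p ^ e - 1 ∧
    (∀ d, 0 < d → d < e → ¬ Nat.card (Subgroup.center R) ∣ p ^ d - 1) ∧ n = r ^ m ∧
    ((Odd r ∧ Nat.card (Subgroup.center R) = r ∧ 1 ≤ m ∧ Nat.card R = r ^ (1 + 2 * m)) ∨
      (r = 2 ∧ e = 2 ∧ Nat.card (Subgroup.center R) = 4 ∧ Nat.card R = 2 ^ (2 + 2 * m))) ∧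
    (∀ x ∈ R, ∀ y ∈ R, x * y * x⁻¹ * y⁻¹ ∈ scalars (Fin n) F) ∧
    (5 ≤ n → H = subgroupNormalizer R ⊓ I) ∧ H ≤ subgroupNormalizer R) ∨
  (∃ (d k : ℕ) (e : Fin n ≃ Fin d × Fin k) (P : GL (Fin n) F) (f₁ : (Fin d → F) → (Fin d → F) → F)
    (f₂ : (Fin k → F) → (Fin k → F) → F), 2 ≤ d ∧ d < k ∧ d * k = n ∧ (d = 2 → 3 ≤ q) ∧ IsUnitaryFormPow q f₁ ∧
      IsUnitaryFormPow q f₂ ∧ IsTensorFormStructure (fun x : F => x ^ q) f f₁ f₂ e P ∧
      H = tensorProductSubgroup d k e P ⊓ I) ∨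
  (∃ (m t : ℕ) (e : Fin n ≃ (Fin t → Fin m)) (P : GL (Fin n) F) (f₁ : (Fin m → F) → (Fin m → F) → F),
    3 ≤ m ∧ 2 ≤ t ∧ ¬ (q = 2 ∧ m = 3) ∧ m ^ t = n ∧ IsUnitaryFormPow q f₁ ∧
      IsTensorPowerFormStructure (fun x : F => x ^ q) f f₁ e P ∧
      (t = 2 → H = tensorWreathSubgroup m t e P ⊓ I) ∧ H ≤ tensorWreathSubgroup m t e P)

theorem root_two_le {q : ℕ} (hF : Fintype.card F = q ^ 2) : 2 ≤ q := by
  by_contra h
  have := Fintype.one_lt_card (α := F)
  interval_cases q <;> omega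

set_option maxHeartbeats 1000000 in
/-- A maximal subgroup is a member or residual. -/
theorem unit_max {n q : ℕ} (hn : 4 ≤ n) (hF : Fintype.card F = q ^ 2) {H : Subgroup (GL (Fin n) F)}
    (hH : IsMaximalIn (Cfsg.GU n F q ⊓ specialLinear (Fin n) F) H) :
    UnitMaxMember n q H ∨ InUnitaryResidualClass H := by
  classical
  obtain ⟨σ, hσ, hbar⟩ := exists_bar hF
  have hHU : H ≤ Cfsg.GU n F q := hH.1.le.trans inf_le_left
  have hset := unit_setting hbar hσ (by omega) hHU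
  have hA := hasRoots_su (n := n) hbar hσ
  have hcard : Fintype.card (Fin n) = n := Fintype.card_fin n
  have h3 : 2 < Fintype.card (Fin n) := by omega
  have hf : Cfsg.hermForm n F q = formG σ (1 : Matrix (Fin n) (Fin n) F) := hermForm_eq_formG hσ
  have hσf : (fun x : F => x ^ q) = fun x => σ x := funext fun x => (hσ x).symm
  have hfu : IsUnitaryFormPow q (Cfsg.hermForm n F q) := by
    rw [hf]
    exact unitaryFormPow_formG hbar hσ (by rw [Matrix.det_one]; exact one_ne_zero)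
      (by rw [Matrix.transpose_one]; exact (Matrix.map_one σ (map_zero σ) (map_one σ)).symm)
  have hq2 := root_two_le hF
  refine (unit_structure hset).imp_left fun hmem => ?_
  simp only [UnitMaxMember]
  cases hmem with
  | @singular W hb hts hle =>
    refine Or.inl ⟨W, hb, hf ▸ hts, eq_of_max hH hle (su_not_stab hbar hA h3 hb fun e => hb ?_)⟩
    refine (Submodule.eq_bot_iff _).2 fun v hv => nondeg_left (σ := σ) hset.rg.det fun u => hts v hv u ?_
    rw [e]; exact Submodule.mem_top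
  | @nondeg W hb hnd hlt hle =>
    rw [hcard] at hlt
    refine Or.inr (Or.inl ⟨W, hb, hf ▸ hnd, hlt, eq_of_max hH hle (su_not_stab hbar hA h3 hb fun e => ?_)⟩)
    rw [e, finrank_top, Module.finrank_fintype_fun_eq_card, hcard] at hlt
    omega
  | @decomp t k D hD hle =>
    have htk := NotMax.mul_card_eq hD.decomp
    rw [hcard] at htk
    have hne : ¬ Cfsg.GU n F q ⊓ specialLinear (Fin n) F ≤ decompositionStabilizer D := by
      rcases (show k = 1 ∨ 2 ≤ k by have := hD.decomp.pos; omega) with rfl | hk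
      · exact root_not_frame hbar hA (by omega) hD
      · exact root_not_blocks hbar hA h3 hD.decomp hk
    refine Or.inr (Or.inr (Or.inl ⟨t, k, D, hf ▸ hD, hD.decomp.two_le, htk, fun hk ht => ?_,
      eq_of_max hH hle hne⟩))
    by_contra hq
    obtain rfl : q = 2 := by omega
    subst hk
    obtain ⟨K, hK1, hK2⟩ := NotMax.unitary_decomp_not_max (by rw [hF]; norm_num) hfu
      (Cfsg.GU n F 2 ⊓ specialLinear (Fin n) F) (fun g h1 h2 => ⟨h1, h2⟩) (fun g hg => hg.1) (hf ▸ hD) ht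
    exact not_max_between hH hle hK1 hK2
  | @pair k D hk hD hts hle =>
    rw [hcard] at hk
    exact Or.inr (Or.inr (Or.inr (Or.inl ⟨k, D, hk, hD, hf ▸ hts,
      eq_of_max hH hle (root_not_blocks hbar hA h3 hD (by omega))⟩)))
  | @oddSub F₀ r P hr ho hc hrat hle =>
    exact Or.inr (Or.inr (Or.inr (Or.inr (Or.inl ⟨F₀, r, P, hr, ho, hc, hf ▸ hrat,
      eq_of_max hH hle (root_not_subfield hbar hA h3 (fixed_ne_top hr hc) P)⟩))))
  | @orthSub F₀ P hq hc hrat hle =>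
    exact Or.inr (Or.inr (Or.inr (Or.inr (Or.inr (Or.inr (Or.inl ⟨F₀, P, (odd_root hF).1 hq, hc, hf ▸ hrat,
      eq_of_max hH hle (root_not_subfield hbar hA h3 (fixed_ne_top Nat.prime_two hc) P)⟩))))))
  | @sympSub F₀ P ζ hn' hc hζ hsk hrat halt hle =>
    rw [hcard] at hn'
    exact Or.inr (Or.inr (Or.inr (Or.inr (Or.inr (Or.inl ⟨F₀, P, ζ, hn', hc, hζ, by rw [← hσ]; exact hsk,
      hf ▸ hrat, hf ▸ halt, eq_of_max hH hle (root_not_subfield hbar hA h3 (fixed_ne_top Nat.prime_two hc) P)⟩)))))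
  | @six R r p e m hst habs hsim hrp hmin hm hshape hcomm hn' =>
    rw [hcard] at hm
    exact Or.inr (Or.inr (Or.inr (Or.inr (Or.inr (Or.inr (Or.inr (Or.inr (Or.inl ⟨R, r, p, e, m, hst, habs,
      hf ▸ hsim, hmin.1, hrp, hF ▸ hmin.2.2.1, hmin.2.2.2.1, hmin.2.2.2.2, hm, hshape, hcomm,
      fun h5 => eq_of_max hH (le_normalizer hn') (root_not_six hbar hA (by omega) habs hcomm),
      le_normalizer hn'⟩))))))))
  | @field r K hr ho hK hadj hle =>
    haveI : Nonempty (Fin n) := ⟨⟨0, by omega⟩⟩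
    have hdvd := field_dvd hK
    rw [hcard] at hdvd
    exact Or.inr (Or.inr (Or.inr (Or.inr (Or.inr (Or.inr (Or.inr (Or.inl ⟨r, K, hr, ho, hdvd, hK, hf ▸ hadj,
      eq_of_max hH hle (su_not_field hbar hA hr.one_lt h3 hK)⟩)))))))
  | @tensor d k e P G₀ B hd hdk hG₀ hB hG₀h hBh hfr hle =>
    have hdk' : d * k = n := by
      rw [← hcard, Fintype.card_congr e, Fintype.card_prod, Fintype.card_fin, Fintype.card_fin]
    have hu₁ := unitaryFormPow_formG hbar hσ hG₀ hG₀h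
    have hu₂ := unitaryFormPow_formG hbar hσ hB hBh
    have hst : IsTensorFormStructure (fun x : F => x ^ q) (Cfsg.hermForm n F q) (formG σ G₀) (formG σ B) e P := by
      rw [hf, hσf]; exact tensorFormStructure_of_eq hfr
    refine Or.inr (Or.inr (Or.inr (Or.inr (Or.inr (Or.inr (Or.inr (Or.inr (Or.inr (Or.inl ⟨d, k, e, P, _, _, hd, hdk,
      hdk', fun hd2 => ?_, hu₁, hu₂, hst, eq_of_max hH hle (root_not_tensor hbar hA hd (by omega) e P)⟩)))))))))
    by_contra hq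
    obtain rfl : q = 2 := by omega
    subst hd2
    obtain ⟨K, hK1, hK2⟩ := NotMax.unitary_tensor_not_max (by rw [hF]; norm_num) hfu
      (Cfsg.GU n F 2 ⊓ specialLinear (Fin n) F) (fun g h1 h2 => ⟨h1, h2⟩) (fun g hg => hg.1) (by omega) e P hu₁ hu₂ hst
    exact not_max_between hH hle hK1 hK2
  | @power m t e P c hm ht hex hc hfr hle =>
    have hmt : m ^ t = n := by
      rw [← hcard, Fintype.card_congr e, Fintype.card_fun, Fintype.card_fin, Fintype.card_fin]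
    refine Or.inr (Or.inr (Or.inr (Or.inr (Or.inr (Or.inr (Or.inr (Or.inr (Or.inr (Or.inr
      ⟨m, t, e, P, formG σ (1 : Matrix (Fin m) (Fin m) F), hm, ht, fun h => hex ⟨by rw [hF, h.1]; norm_num, h.2⟩,
        hmt, unitaryFormPow_formG hbar hσ (by rw [Matrix.det_one]; exact one_ne_zero)
          (by rw [Matrix.transpose_one]; exact (Matrix.map_one σ (map_zero σ) (map_one σ)).symm),
        ?_, ?_, hle⟩)))))))))
    · rw [hf, hσf]
      exact powerFormStructure_of_eq hc (hfr.trans (congrArg (c • ·) pureM_one.symm))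
    · rintro rfl
      exact eq_of_max hH hle (root_not_square hbar hA hm e P)

end Cfsg.Agent.Asch
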