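import Cfsg.Agent.Asch.UnitTrans
import Cfsg.Agent.NotMax.UnitaryFrame

/-!
Over four elements the stabiliser of six orthogonal lines is not maximal: it fixes a set of isotropic vectors with a
larger stabiliser.
-/

set_option autoImplicit false
set_option linter.unusedSectionVars false

namespace Cfsg.Agent.Asch

open Matrix Cfsg.Geo Cfsg.Agent.PrimeDim
open scoped MatrixGroups

namespace SixFour

def fadd : Fin 4 → Fin 4 → Fin 4 := ![![0, 1, 2, 3], ![1, 0, 3, 2], ![2, 3, 0, 1], ![3, 2, 1, 0]]
def fmul : Fin 4 → Fin 4 → Fin 4 := ![![0, 0, 0, 0], ![0, 1, 2, 3], ![0, 2, 3, 1], ![0, 3, 1, 2]]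

def weight (x : Fin 6 → Fin 4) : ℕ := (Finset.univ.filter fun i => x i ≠ 0).card

def good (x : Fin 6 → Fin 4) : Bool :=
  decide (weight x = 2) ||
    (decide (∀ i, x i ≠ 0) &&
      decide (fmul (fmul (fmul (fmul (fmul (x 0) (x 1)) (x 2)) (x 3)) (x 4)) (x 5) = 1))

def total (x : Fin 6 → Fin 4) : Fin 4 := fadd (fadd (fadd (fadd (fadd (x 0) (x 1)) (x 2)) (x 3)) (x 4)) (x 5)

set_option maxRecDepth 100000 in
theorem good_shift : ∀ a b c d e f : Fin 4, good ![a, b, c, d, e, f] = true →
    good (fun i => fadd (![a, b, c, d, e, f] i) (total ![a, b, c, d, e, f])) = true := by decide +kernel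

variable {F : Type*} [Field F] [Fintype F]

/-- The model of the field with four elements. -/
theorem exists_model (h4 : Fintype.card F = 4) : ∃ ψ : Fin 4 → F, Function.Bijective ψ ∧ ψ 0 = 0 ∧ ψ 1 = 1 ∧
    (∀ a b, ψ (fadd a b) = ψ a + ψ b) ∧ ∀ a b, ψ (fmul a b) = ψ a * ψ b := by
  classical
  obtain ⟨c, hc0, hc1, hc⟩ := NotMax.exists_omega_four h4
  have h2 := NotMax.two_zero_of_four h4
  refine ⟨![0, 1, c, c + 1], ?_, rfl, rfl, fun a b => ?_, fun a b => ?_⟩
  · rw [Fintype.bijective_iff_injective_and_card, Fintype.card_fin, h4]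
    refine ⟨fun a b h => ?_, rfl⟩
    have hc2 : c + 1 ≠ 0 := fun e => hc1 (by linear_combination e - h2)
    fin_cases a <;> fin_cases b <;> first
      | rfl
      | (simp [hc0, hc1, hc2, Ne.symm hc0, Ne.symm hc1, Ne.symm hc2] at h; done)
  · fin_cases a <;> fin_cases b <;> simp [fadd] <;> grind
  · fin_cases a <;> fin_cases b <;> simp [fmul] <;> grind

/-- The marked coordinate vectors. -/
def Good (x : Fin 6 → F) : Prop :=
  Set.ncard {i | x i ≠ 0} = 2 ∨ ((∀ i, x i ≠ 0) ∧ ∏ i, x i = 1)

theorem good_iff {ψ : Fin 4 → F} (hψ : Function.Injective ψ) (h0 : ψ 0 = 0) (h1 : ψ 1 = 1)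
    (hm : ∀ a b, ψ (fmul a b) = ψ a * ψ b) (x : Fin 6 → Fin 4) : Good (fun i => ψ (x i)) ↔ good x = true := by
  classical
  have hz : ∀ a, ψ a ≠ 0 ↔ a ≠ 0 := fun a => by rw [← h0, hψ.ne_iff]
  simp only [Good, good, weight, Set.ncard_eq_toFinset_card', Set.toFinset_setOf, hz, Fin.prod_univ_six, ← hm, ← h1, hψ.eq_iff, Bool.or_eq_true, Bool.and_eq_true,
    decide_eq_true_iff]
  simp

theorem good_shift_field (h4 : Fintype.card F = 4) {x : Fin 6 → F} (hx : Good x) : Good fun i => x i + ∑ j, x j := by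
  obtain ⟨ψ, hψ, h0, h1, ha, hm⟩ := exists_model h4
  choose y hy using fun i => hψ.surjective (x i)
  obtain rfl : (fun i => ψ (y i)) = x := funext hy
  rw [good_iff hψ.injective h0 h1 hm] at hx
  have e : (fun i => ψ (y i) + ∑ j, ψ (y j)) = fun i => ψ (fadd (y i) (total y)) := funext fun i => by
    simp only [Fin.sum_univ_six, ha, total]
  rw [e, good_iff hψ.injective h0 h1 hm]
  have hy6 : y = ![y 0, y 1, y 2, y 3, y 4, y 5] := funext fun i => by fin_cases i <;> rfl
  rw [hy6] at hx ⊢
  exact good_shift _ _ _ _ _ _ hx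

end SixFour

open SixFour in
set_option maxHeartbeats 800000 in
/-- The stabiliser of six orthogonal lines over four elements is not maximal. -/
theorem six_lines_not_max {F : Type*} [Field F] [Fintype F] {ι : Type} [Fintype ι] [DecidableEq ι] {σ : F ≃+* F}
    (hbar : IsBar σ) (h4 : Fintype.card F = 4) (hn : Fintype.card ι = 6) {A : Subgroup (GL ι F)}
    (hA : HasRoots σ A) (hAf : Fixes σ A (1 : Matrix ι ι F)) (hAd : A ≤ specialLinear ι F)
    {D : Fin 6 → Submodule F (ι → F)} (hD : IsNondegenerateMDecomposition (formG σ (1 : Matrix ι ι F)) 1 D) :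
    ∃ K : Subgroup (GL ι F), decompositionStabilizer D ⊓ A < K ∧ K < A := by
  classical
  have h2 := NotMax.two_zero_of_four h4
  have hs := isSesq_formG σ (1 : Matrix ι ι F)
  have hline : ∀ k, ∃ u ∈ D k, formG σ (1 : Matrix ι ι F) u u = 1 ∧ D k = Submodule.span F {u} := by
    intro k
    have hr := hD.decomp.finrank_eq k
    obtain ⟨w, hw, hw0⟩ := (D k).exists_mem_ne_zero_of_ne_bot fun e => by rw [e, finrank_bot] at hr; omega
    have hspan : D k = Submodule.span F {w} := (Submodule.eq_of_le_of_finrank_eq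
      ((Submodule.span_singleton_le_iff_mem _ _).2 hw) (by rw [finrank_span_singleton hw0, hr])).symm
    have hne : formG σ (1 : Matrix ι ι F) w w ≠ 0 := by
      intro e
      obtain ⟨-, ⟨z, hz, hne⟩⟩ := hD.nondegenerate k w hw hw0
      rw [hspan, Submodule.mem_span_singleton] at hz
      obtain ⟨a, rfl⟩ := hz
      exact hne (by rw [hs.smul_right, e, mul_zero])
    obtain ⟨c, hc⟩ := hbar.norm _ (stdH_comm hbar w w).symm
    have hc0 : c ≠ 0 := fun e => hne (by rw [show formG σ (1 : Matrix ι ι F) w w = c * σ c from hc.symm, e, zero_mul])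
    refine ⟨c⁻¹ • w, (D k).smul_mem _ hw, ?_, ?_⟩
    · rw [hs.smul_left, hs.smul_right, show formG σ (1 : Matrix ι ι F) w w = c * σ c from hc.symm, map_inv₀]
      have := (map_ne_zero σ).2 hc0
      field_simp
    · rw [hspan, Submodule.span_singleton_smul_eq (isUnit_iff_ne_zero.2 (inv_ne_zero hc0))]
  choose u hu huu hspan using hline
  have hu0 : ∀ k, u k ≠ 0 := fun k e => by
    have := huu k
    rw [e, show formG σ (1 : Matrix ι ι F) 0 0 = 0 by simp [formG]] at this
    exact zero_ne_one this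
  have hli : LinearIndependent F u := hD.decomp.indep.linearIndependent _ hu hu0
  haveI : Nonempty (Fin 6) := ⟨0⟩
  let b : Module.Basis (Fin 6) F (ι → F) := basisOfLinearIndependentOfCardEqFinrank hli
    (by rw [Module.finrank_fintype_fun_eq_card, hn]; rfl)
  have hb : ∀ i, b i = u i := fun i => by simp [b]
  have horth : ∀ i j, formG σ (1 : Matrix ι ι F) (b i) (b j) = if i = j then 1 else 0 := fun i j => by
    rw [hb, hb]
    by_cases hij : i = j
    · subst hij; rw [if_pos rfl]; exact huu _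
    · rw [if_neg hij]; exact hD.orthogonal _ _ hij _ (hu _) _ (hu _)
  let X : (ι → F) → Fin 6 → F := fun v i => b.repr v i
  have hcoord : ∀ v j, formG σ (1 : Matrix ι ι F) v (b j) = X v j := fun v j => by
    conv_lhs => rw [← b.sum_repr v]
    let T : (ι → F) →+ F := AddMonoidHom.mk' (fun w => formG σ (1 : Matrix ι ι F) w (b j)) fun p q => hs.add_left p q _
    rw [show formG σ (1 : Matrix ι ι F) (∑ i, b.repr v i • b i) (b j) = ∑ i, formG σ (1 : Matrix ι ι F) (b.repr v i • b i) (b j)
      from map_sum T _ _]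
    simp [hs.smul_left, horth, X]
  have h11 : (1 : F) + σ 1 = 0 := by rw [map_one]; linear_combination h2
  -- the first root element
  set v₁ := ∑ i, b i with hv₁
  have hvsum : ∀ v, formG σ (1 : Matrix ι ι F) v v₁ = ∑ i, X v i := fun v => by
    let T : (ι → F) →+ F := AddMonoidHom.mk' (fun w => formG σ (1 : Matrix ι ι F) v w) fun p q => hs.add_right v p q
    rw [hv₁, show formG σ (1 : Matrix ι ι F) v (∑ i, b i) = ∑ i, formG σ (1 : Matrix ι ι F) v (b i) from map_sum T _ _]
    exact Finset.sum_congr rfl fun i _ => hcoord v i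
  have hXb : ∀ i j, X (b i) j = if i = j then 1 else 0 := fun i j => by
    simp [X, Finsupp.single_apply]
  have hX₁ : ∀ j, X v₁ j = 1 := fun j => by simp [X, hv₁, Finsupp.single_apply]
  have hv₁0 : stdH σ v₁ v₁ = 0 := by
    show formG σ (1 : Matrix ι ι F) v₁ v₁ = 0
    simp only [hvsum, hX₁, Finset.sum_const, Finset.card_univ, Fintype.card_fin, nsmul_eq_mul, mul_one]
    linear_combination (3 : F) * h2
  set v₂ := b 0 + b 1 + b 2 + b 3 with hv₂
  have hv₂f : ∀ v, formG σ (1 : Matrix ι ι F) v v₂ = X v 0 + X v 1 + X v 2 + X v 3 := fun v => by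
    rw [hv₂, hs.add_right, hs.add_right, hs.add_right, hcoord, hcoord, hcoord, hcoord]
  have hX₂ : ∀ j, X v₂ j = X (b 0) j + X (b 1) j + X (b 2) j + X (b 3) j := fun j => by simp [X, hv₂]
  have hv₂0 : stdH σ v₂ v₂ = 0 := by
    show formG σ (1 : Matrix ι ι F) v₂ v₂ = 0
    simp only [hv₂f, hX₂, hXb]
    simp
    linear_combination 2 * h2
  have hX : ∀ (v w : ι → F) (c : F) i, X (v + c • w) i = X v i + c * X w i := fun v w c i => by simp [X]
  refine NotMax.exists_between A _ {v | Good (X v)} (fun g hgM hgA v hv => ?_)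
    ⟨root hv₁0 1, hA _ hv₁0 1 h11, fun v hv => ?_, fun hM => ?_⟩
    ⟨root hv₂0 1, hA _ hv₂0 1 h11, b 0 + b 4, ?_, ?_⟩
  · obtain ⟨π, hπ⟩ := hgM
    have himg : ∀ i, ∃ a : F, mat g *ᵥ b i = a • b (π i) := fun i => by
      have h1 : mat g *ᵥ b i ∈ D (π i) := hπ i ▸ ⟨b i, by rw [hb]; exact hu i, Matrix.toLin'_apply _ _⟩
      rw [hspan, Submodule.mem_span_singleton] at h1
      obtain ⟨a, ha⟩ := h1
      exact ⟨a, by rw [hb (π i)]; exact ha.symm⟩
    choose a ha using himg
    have ha0 : ∀ i, a i ≠ 0 := fun i e => by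
      have h1 := ha i
      rw [e, zero_smul] at h1
      exact b.ne_zero i (mulVec_injective g (h1.trans (Matrix.mulVec_zero _).symm))
    have hprod : ∏ i, a i = 1 := by
      have hM : LinearMap.toMatrix b b (Matrix.toLin' (mat g)) = (Matrix.diagonal a).submatrix π.symm id := by
        ext i j
        rw [LinearMap.toMatrix_apply, Matrix.toLin'_apply, ha, Matrix.submatrix_apply, id, Matrix.diagonal_apply,
          map_smul, Finsupp.smul_apply, Module.Basis.repr_self, Finsupp.single_apply, smul_eq_mul, mul_ite, mul_one,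
          mul_zero]
        by_cases h : π j = i
        · subst h; simp
        · rw [if_neg h, if_neg fun e => h (by rw [← e, Equiv.apply_symm_apply])]
      have h1 : (LinearMap.toMatrix b b (Matrix.toLin' (mat g))).det = 1 := by
        rw [LinearMap.det_toMatrix, LinearMap.det_toLin']
        exact congrArg Units.val (hAd hgA)
      rw [hM, Matrix.det_permute, Matrix.det_diagonal] at h1
      rcases Int.units_eq_one_or (Equiv.Perm.sign π.symm) with e | e <;> rw [e] at h1 <;> simp at h1
      · exact h1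
      · linear_combination -h1 - h2
    have hXg : ∀ i, X (mat g *ᵥ v) (π i) = a i * X v i := fun i => by
      conv_lhs => rw [← b.sum_repr v]
      simp only [Matrix.mulVec_sum, Matrix.mulVec_smul, ha, smul_smul, X, map_sum, map_smul, Finsupp.finset_sum_apply,
        Finsupp.smul_apply, Module.Basis.repr_self, Finsupp.single_apply, π.injective.eq_iff, smul_eq_mul, mul_ite,
        mul_one, mul_zero, Finset.sum_ite_eq', Finset.mem_univ, if_true]
      ring
    rcases hv with hc | ⟨hc, hp⟩
    · left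
      rw [← hc]
      rw [Set.ncard_eq_toFinset_card', Set.ncard_eq_toFinset_card', Set.toFinset_setOf, Set.toFinset_setOf]
      refine (Finset.card_equiv π fun i => ?_).symm
      simp [show (g : Matrix ι ι F) = mat g from rfl, hXg, ha0]
    · refine Or.inr ⟨fun j => ?_, ?_⟩
      · obtain ⟨i, rfl⟩ := π.surjective j
        show X (mat g *ᵥ v) (π i) ≠ 0
        rw [hXg]; exact mul_ne_zero (ha0 i) (hc i)
      · show ∏ j, X (mat g *ᵥ v) j = 1
        rw [← Equiv.prod_comp π]
        simp only [hXg, Finset.prod_mul_distrib, hprod, one_mul]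
        exact hp
  · show Good (X (mat (root hv₁0 1) *ᵥ v))
    rw [show X (mat (root hv₁0 1) *ᵥ v) = fun i => X v i + ∑ j, X v j from funext fun i => by
      rw [root_mulVec, hX, hX₁, one_mul, mul_one]; exact congrArg _ (hvsum v)]
    exact good_shift_field h4 hv
  · obtain ⟨π, hπ⟩ := hM
    have h1 : mat (root hv₁0 1) *ᵥ b 0 ∈ D (π 0) := hπ 0 ▸ ⟨b 0, by rw [hb]; exact hu 0, Matrix.toLin'_apply _ _⟩
    rw [hspan, Submodule.mem_span_singleton] at h1
    obtain ⟨a, ha⟩ := h1
    have h3 : ∀ j, (if (π 0) = j then a else 0) = X (b 0) j + 1 := fun j => by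
      have h5 := congrArg (fun w => X w j) ha
      simp only [root_mulVec, hX, hX₁, one_mul] at h5
      rw [show stdH σ (b 0) v₁ = 1 from (hvsum _).trans (by simp [hXb]), mul_one] at h5
      rw [← h5, ← hb]
      simp [X, Finsupp.single_apply]
    have e1 := h3 1
    have e2 := h3 2
    simp [hXb] at e1 e2
    by_cases he : π 0 = 1
    · simp [he] at e2
    · simp [he] at e1
  · refine Or.inl ?_
    rw [Set.ncard_eq_toFinset_card', Set.toFinset_setOf,
      show (Finset.univ.filter fun i => X (b 0 + b 4) i ≠ 0) = {0, 4} from ?_]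
    · rfl
    ext i
    fin_cases i <;> simp [X, Finsupp.single_apply]
  · intro hbad
    have hc : X (mat (root hv₂0 1) *ᵥ (b 0 + b 4)) = ![0, 1, 1, 1, 1, 0] := funext fun i => by
      rw [root_mulVec, hX, one_mul, show stdH σ (b 0 + b 4) v₂ = 1 from (hv₂f _).trans (by simp [X, Finsupp.single_apply])]
      fin_cases i <;> simp [X, hv₂, Finsupp.single_apply] <;> linear_combination h2
    change Good (X (mat (root hv₂0 1) *ᵥ (b 0 + b 4))) at hbad
    rw [hc] at hbad
    rcases hbad with h | ⟨h, -⟩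
    · rw [Set.ncard_eq_toFinset_card', Set.toFinset_setOf, show (Finset.univ.filter fun i => (![0, 1, 1, 1, 1, 0] : Fin 6 → F) i ≠ 0) = {1, 2, 3, 4} from ?_] at h
      · simp at h
      ext i
      fin_cases i <;> simp
    · exact h 0 rfl

set_option maxHeartbeats 800000 in
/-- Orthogonal planes over four elements determine orthogonal lines. -/
theorem planes_refine {F : Type*} [Field F] [Fintype F] {ι : Type} [Fintype ι] [DecidableEq ι] {σ : F ≃+* F}
    (h4 : Fintype.card F = 4) (hf : IsUnitaryFormPow 2 (formG σ (1 : Matrix ι ι F))) {t : ℕ} (hn : Fintype.card ι = t * 2)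
    {A : Subgroup (GL ι F)} (hAf : Fixes σ A (1 : Matrix ι ι F)) {D : Fin t → Submodule F (ι → F)}
    (hD : IsNondegenerateMDecomposition (formG σ (1 : Matrix ι ι F)) 2 D) :
    ∃ D' : Fin (t * 2) → Submodule F (ι → F), IsNondegenerateMDecomposition (formG σ (1 : Matrix ι ι F)) 1 D' ∧
      decompositionStabilizer D ⊓ A ≤ decompositionStabilizer D' := by
  classical
  have hs := isSesq_formG σ (1 : Matrix ι ι F)
  have key := fun i => NotMax.plane_frame h4 hf (D i) (hD.nondegenerate i) (hD.decomp.finrank_eq i)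
  choose a ha haa hbx hfr using key
  choose b hb hba hbb using hbx
  have hab : ∀ i, formG σ (1 : Matrix ι ι F) (a i) (b i) = 0 := fun i => by rw [hf.herm, hba, zero_pow two_ne_zero]
  let v : Fin t × Fin 2 → ι → F := fun p => if p.2 = 0 then a p.1 else b p.1
  have hvD : ∀ p, v p ∈ D p.1 := fun p => by
    simp only [v]; split_ifs
    · exact ha _
    · exact hb _
  haveI : Nonempty (Fin t × Fin 2) := ⟨(⟨0, by have := hD.decomp.two_le; omega⟩, 0)⟩
  have horth : ∀ p q, formG σ (1 : Matrix ι ι F) (v p) (v q) = if p = q then 1 else 0 := by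
    rintro ⟨i, j⟩ ⟨i', j'⟩
    by_cases hii : i = i'
    · subst hii
      fin_cases j <;> fin_cases j' <;> simp [v, haa, hbb, hab, hba]
    · rw [if_neg fun e => hii (congrArg Prod.fst e)]
      exact hD.orthogonal i i' hii _ (hvD (i, j)) _ (hvD (i', j'))
  have hli : LinearIndependent F v := Fintype.linearIndependent_iff.2 fun g hg p => by
    let T : (ι → F) →+ F := AddMonoidHom.mk' (fun w => formG σ (1 : Matrix ι ι F) w (v p)) fun x y => hs.add_left x y _
    have h1 := congrArg T hg
    rw [map_sum, map_zero] at h1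
    simpa [T, hs.smul_left, horth] using h1
  let B : Module.Basis (Fin t × Fin 2) F (ι → F) := basisOfLinearIndependentOfCardEqFinrank hli
    (by rw [Module.finrank_fintype_fun_eq_card, hn, Fintype.card_prod, Fintype.card_fin, Fintype.card_fin])
  obtain ⟨ε⟩ : Nonempty (Fin t × Fin 2 ≃ ι) := ⟨Fintype.equivOfCardEq (by simp [hn])⟩
  let C := B.reindex ε
  let e : Fin (t * 2) ≃ ι := (finProdFinEquiv (m := t) (n := 2)).symm.trans ε
  have hC : ∀ x, C x = v (ε.symm x) := fun x => by simp [C, B]
  refine ⟨fun k => Submodule.span F {C (e k)}, ⟨lines_decomposition (by have := hD.decomp.two_le; omega) C e, fun k w hw hw0 => ?_,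
    fun i j hij x hx y hy => ?_⟩, le_decomposition C e fun g hg x => ?_⟩
  · obtain ⟨c, rfl⟩ := Submodule.mem_span_singleton.1 hw
    have hc : c ≠ 0 := fun e => hw0 (by rw [e, zero_smul])
    have h1 : formG σ (1 : Matrix ι ι F) (C (e k)) (C (e k)) = 1 := by rw [hC, horth, if_pos rfl]
    refine ⟨⟨C (e k), Submodule.subset_span rfl, ?_⟩, ⟨C (e k), Submodule.subset_span rfl, ?_⟩⟩
    · rw [hs.smul_right, h1, mul_one]; exact (map_ne_zero σ).2 hc
    · rw [hs.smul_left, h1, mul_one]; exact hc
  · obtain ⟨c, rfl⟩ := Submodule.mem_span_singleton.1 hx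
    obtain ⟨c', rfl⟩ := Submodule.mem_span_singleton.1 hy
    rw [hs.smul_left, hs.smul_right, hC, hC, horth, if_neg fun h => hij (e.injective (ε.symm.injective h)),
      mul_zero, mul_zero]
  · obtain ⟨⟨π, hπ⟩, hgA⟩ := hg
    obtain ⟨p, rfl⟩ := ε.surjective x
    set s := mat g *ᵥ v p with hsdef
    have hsD : s ∈ D (π p.1) := hπ p.1 ▸ ⟨v p, hvD p, Matrix.toLin'_apply _ _⟩
    have hss : formG σ (1 : Matrix ι ι F) s s = 1 := by rw [hsdef, iso_apply hAf hgA, horth, if_pos rfl]
    rw [hC, Equiv.symm_apply_apply, ← hsdef]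
    rcases hfr (π p.1) s hsD hss with ⟨c, hc⟩ | h
    · exact ⟨ε (π p.1, 0), c, by rw [hC, Equiv.symm_apply_apply, hc]; rfl⟩
    refine ⟨ε (π p.1, 1), B.repr s (π p.1, 1), ?_⟩
    have hco : ∀ q, formG σ (1 : Matrix ι ι F) s (v q) = B.repr s q := fun q => by
      conv_lhs => rw [← B.sum_repr s]
      let T : (ι → F) →+ F := AddMonoidHom.mk' (fun w => formG σ (1 : Matrix ι ι F) w (v q)) fun x y => hs.add_left x y _
      show T (∑ i, B.repr s i • B i) = _
      rw [map_sum]
      simp [T, B, hs.smul_left, horth]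
    rw [hC, Equiv.symm_apply_apply]
    conv_lhs => rw [← B.sum_repr s]
    rw [Finset.sum_eq_single (π p.1, (1 : Fin 2))]
    · simp [B]
    · rintro ⟨i, j⟩ _ hne
      rw [← hco]
      by_cases hi : i = π p.1
      · subst hi
        obtain rfl : j = 0 := by
          fin_cases j
          · rfl
          · exact absurd rfl hne
        rw [show v (π p.1, (0 : Fin 2)) = a (π p.1) from rfl, h, zero_smul]
      · rw [hD.orthogonal _ _ (Ne.symm hi) _ hsD _ (hvD (i, j)), zero_smul]
    · simp

end Cfsg.Agent.Asch
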