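import Cfsg.Agent.Asch.UnitStructure

/-!
The standard hermitian form.
-/

set_option autoImplicit false
set_option linter.unusedSectionVars false

namespace Cfsg.Agent.Asch

open Matrix Cfsg.Geo Cfsg.Agent.PrimeDim
open scoped MatrixGroups Kronecker

variable {F : Type*} [Field F] [Fintype F] {σ : F ≃+* F} {n q : ℕ}

theorem unit_setting (hbar : IsBar σ) (hσ : ∀ x, σ x = x ^ q) (hn : 3 ≤ n) {H : Subgroup (GL (Fin n) F)}
    (hH : H ≤ Cfsg.GU n F q) : UnitSetting σ (1 : Matrix (Fin n) (Fin n) F) H := by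
  refine ⟨⟨?_, hbar.involutive, ?_⟩, hbar, fun g hg => (mem_GU_iff_act hσ g).1 (hH hg), by simpa using hn⟩
  · rw [Matrix.det_one]; exact one_ne_zero
  · rw [Matrix.transpose_one, one_smul]
    exact (Matrix.map_one σ (map_zero σ) (map_one σ)).symm

theorem odd_root {k : ℕ} (hF : Fintype.card F = k ^ 2) : Odd (Fintype.card F) ↔ Odd k := by
  rw [hF]; exact Nat.odd_pow_iff two_ne_zero

theorem unitaryFormPow_formG {m : ℕ} (hbar : IsBar σ) (hσ : ∀ x, σ x = x ^ q) {A : Matrix (Fin m) (Fin m) F}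
    (hA : A.det ≠ 0) (hs : Aᵀ = A.map σ) : IsUnitaryFormPow q (formG σ A) := by
  have hu := isUnitaryForm_formG hbar hA hs
  exact ⟨hu.add_left, hu.smul_left, fun v w => by rw [hu.herm, hσ], hu.nondegenerate⟩

/-- Members of the standard group. -/
theorem unit_class_of_member (hbar : IsBar σ) (hσ : ∀ x, σ x = x ^ q) (hF : Fintype.card F = q ^ 2)
    {H : Subgroup (GL (Fin n) F)} (hH : H ≤ Cfsg.GU n F q)
    (hmem : UnitMember σ (1 : Matrix (Fin n) (Fin n) F) H) :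
    ∃ M : Subgroup (GL (Fin n) F), InUnitaryClass n F q M ∧ H ≤ M := by
  have hf : Cfsg.hermForm n F q = formG σ (1 : Matrix (Fin n) (Fin n) F) := hermForm_eq_formG hσ
  have hσf : (fun x : F => x ^ q) = fun x => σ x := funext fun x => (hσ x).symm
  have hcard : Fintype.card (Fin n) = n := Fintype.card_fin n
  have part : ∀ M, InUnitaryPartialClass n F q M → H ≤ M →
      ∃ M : Subgroup (GL (Fin n) F), InUnitaryClass n F q M ∧ H ≤ M := fun M h1 h2 => ⟨M, Or.inl h1, h2⟩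
  cases hmem with
  | singular hb hts hle => exact part _ (Or.inl ⟨_, hb, hf ▸ hts, rfl⟩) (le_inf hle hH)
  | nondeg hb hnd hlt hle => exact part _ (Or.inr (Or.inl ⟨_, hb, hf ▸ hnd, hlt.trans_eq hcard, rfl⟩)) (le_inf hle hH)
  | decomp hD hle => exact part _ (Or.inr (Or.inr (Or.inl ⟨_, _, _, hf ▸ hD, rfl⟩))) (le_inf hle hH)
  | pair hm hD hts hle =>
    exact part _ (Or.inr (Or.inr (Or.inr (Or.inl ⟨_, _, hm.trans hcard, hD, hf ▸ hts, rfl⟩)))) (le_inf hle hH)
  | oddSub hr ho hc hrat hle =>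
    exact part _ (Or.inr (Or.inr (Or.inr (Or.inr (Or.inl ⟨_, _, _, hr, ho, hc, hf ▸ hrat, rfl⟩))))) (le_inf hle hH)
  | orthSub hq hc hrat hle =>
    exact part _ (Or.inr (Or.inr (Or.inr (Or.inr (Or.inr (Or.inl
      ⟨_, _, (odd_root hF).1 hq, hc, hf ▸ hrat, rfl⟩)))))) (le_inf hle hH)
  | sympSub hn' hc hζ hsk hrat halt hle =>
    exact part _ (Or.inr (Or.inr (Or.inr (Or.inr (Or.inr (Or.inr (Or.inl
      ⟨_, _, _, by rwa [hcard] at hn', hc, hζ, by rw [← hσ]; exact hsk, hf ▸ hrat, hf ▸ halt, rfl⟩)))))))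
      (le_inf hle hH)
  | six hst habs hsim hrp hmin hm hshape _ hn' =>
    exact part _ (Or.inr (Or.inr (Or.inr (Or.inr (Or.inr (Or.inr (Or.inr
      ⟨_, _, _, _, _, hst, habs, hf ▸ hsim, hrp, hmin, hshape, rfl⟩)))))))
      (le_inf (le_normalizer hn') hH)
  | field hr ho hK hadj hle =>
    exact ⟨_, Or.inr (Or.inl ⟨_, _, hr, ho, hK, hf ▸ hadj, rfl⟩), le_inf hle hH⟩
  | tensor hd hdk hG₀ hB hG₀h hBh hfr hle =>
    exact ⟨_, Or.inr (Or.inr (Or.inl ⟨_, _, _, _, _, _, hd, hdk, unitaryFormPow_formG hbar hσ hG₀ hG₀h,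
      unitaryFormPow_formG hbar hσ hB hBh, by rw [hf, hσf]; exact tensorFormStructure_of_eq hfr, rfl⟩)),
      le_inf hle hH⟩
  | @power m t e P c hm ht hex hc hfr hle =>
    refine ⟨_, Or.inr (Or.inr (Or.inr ⟨_, _, _, _, formG σ (1 : Matrix (Fin m) (Fin m) F), hm, ht, fun h => hex ?_,
      unitaryFormPow_formG hbar hσ (by rw [Matrix.det_one]; exact one_ne_zero)
        (by rw [Matrix.transpose_one]; exact (Matrix.map_one σ (map_zero σ) (map_one σ)).symm), ?_, rfl⟩)),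
      le_inf hle hH⟩
    · exact ⟨by rw [hF, h.1]; norm_num, h.2⟩
    · rw [hf, hσf]
      exact powerFormStructure_of_eq hc (hfr.trans (congrArg (c • ·) pureM_one.symm))

end Cfsg.Agent.Asch
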