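import Cfsg.Agent.Asch.UnitSubfield

/-!
Every group of isometries of a hermitian form lies in a geometric member or is almost simple modulo scalars.
-/

set_option autoImplicit false
set_option linter.unusedSectionVars false

namespace Cfsg.Agent.Asch

open Matrix Cfsg.Geo Cfsg.Agent.PrimeDim
open scoped MatrixGroups Kronecker commutatorElement

variable {F : Type*} [Field F] [Fintype F] {σ : F ≃+* F} {ι : Type} [Fintype ι] [DecidableEq ι]
  {G : Matrix ι ι F} {H : Subgroup (GL ι F)}

/-- A change of basis by a product preserves the stabiliser of a tensor decomposition. -/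
theorem tensor_change {d k : ℕ} {e : ι ≃ Fin d × Fin k} {P : GL ι F} {U : GL (Fin d × Fin k) F} {A : GL (Fin d) F}
    {B : GL (Fin k) F} (hU : mat U = mat A ⊗ₖ mat B) (hH : H ≤ tensorProductSubgroup d k e P) :
    H ≤ tensorProductSubgroup d k e (fr e P U * P) := by
  intro g hg
  obtain ⟨X, ⟨A', B', hX⟩, rfl⟩ := (map_fr_eq_tensor e P).ge (hH hg)
  refine (map_fr_eq_tensor e _).le ⟨U⁻¹ * X * U, ⟨A⁻¹ * A' * A, B⁻¹ * B' * B, ?_⟩, ?_⟩
  · have hUi : mat U⁻¹ = mat A⁻¹ ⊗ₖ mat B⁻¹ := by
      refine U.isUnit.mul_left_cancel ?_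
      show mat U * mat U⁻¹ = mat U * (mat A⁻¹ ⊗ₖ mat B⁻¹)
      rw [mat_mul_inv, hU, ← Matrix.mul_kronecker_mul, mat_mul_inv, mat_mul_inv, Matrix.one_kronecker_one]
    show mat U⁻¹ * mat X * mat U = (mat A⁻¹ * mat A' * mat A) ⊗ₖ (mat B⁻¹ * mat B' * mat B)
    rw [hUi, hU, show mat X = mat A' ⊗ₖ mat B' from hX, ← Matrix.mul_kronecker_mul, ← Matrix.mul_kronecker_mul]
  · show fr e (fr e P U * P) (U⁻¹ * X * U) = fr e P X
    rw [← fr_conj]
    congr 1
    group

theorem UnitSetting.reducible_member (h : UnitSetting σ G H) {W : Submodule F (ι → F)} (hb : W ≠ ⊥)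
    (htopne : W ≠ ⊤) (hW : Inv H W) : UnitMember σ G H := by
  classical
  have hs := isSesq_formG σ G
  by_cases hI : W ⊓ perpG σ G W = ⊥
  swap
  · exact UnitMember.singular hI (fun u hu v hv => hu.2 v hv.1)
      (le_stab fun g hg v hv => ⟨hW g hg v hv.1, inv_perp h.fix hW g hg v hv.2⟩)
  set W' := perpG σ G W with hW'
  have hW'inv : Inv H W' := inv_perp h.fix hW
  have hdim : Module.finrank F W + Module.finrank F W' = Fintype.card ι := by
    have h1 := Submodule.finrank_sup_add_finrank_inf_eq W W'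
    rw [hI, finrank_bot, add_zero] at h1
    have h2 := Submodule.finrank_le (W ⊔ W')
    rw [Module.finrank_fintype_fun_eq_card] at h2
    have := finrank_perp σ G W
    rw [← hW'] at this
    omega
  have htop : W ⊔ W' = ⊤ := by
    refine Submodule.eq_top_of_finrank_eq ?_
    have h1 := Submodule.finrank_sup_add_finrank_inf_eq W W'
    rw [hI, finrank_bot, add_zero, hdim] at h1
    rw [h1, Module.finrank_fintype_fun_eq_card]
  let E : Fin 2 → Submodule F (ι → F) := ![W, W']
  have hE : iSup E = ⊤ := eq_top_iff.2 (by rw [← htop]; exact sup_le (le_iSup E 0) (le_iSup E 1))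
  have hort : ∀ c c', c ≠ c' → AreOrthogonalFor (formG σ G) (E c) (E c') := by
    intro c c' hcc u hu v hv
    fin_cases c <;> fin_cases c' <;> first | exact absurd rfl hcc | exact hu v hv | exact h.rg.zero_swap (hv u hu)
  have hnd := nondeg_of_orth h.rg hE hort
  rcases lt_trichotomy (2 * Module.finrank F W) (Fintype.card ι) with hlt | heq | hgt
  · exact UnitMember.nondeg hb (hnd 0) hlt (le_stab hW)
  · refine UnitMember.decomp (m := Module.finrank F W) (D := E) ⟨pair_decomp ?_ rfl ?_ hI htop, hnd, hort⟩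
      (le_pair_stabilizer (by omega) fun g hg => Or.inl ⟨hW g hg, hW'inv g hg⟩)
    · have := h.three; omega
    · show Module.finrank F W' = _
      omega
  · exact UnitMember.nondeg (W := W') (fun e => htopne (by rw [← htop, e, sup_bot_eq])) (hnd 1)
      (show 2 * Module.finrank F W' < _ by omega) (le_stab hW'inv)

theorem UnitSetting.paired_member (h : UnitSetting σ G H) (hH : Irr H) (hp : Paired σ G H) : UnitMember σ G H := by
  haveI := h.nonempty
  rcases paired_cases hH h.rg (fun g hg u v huv => by rw [iso_apply h.fix hg, huv]) hp with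
    ⟨t, m, D, hD, hle, -⟩ | ⟨m, D, hm, hD, hts, hle⟩
  · exact UnitMember.decomp hD hle
  · exact UnitMember.pair hm hD hts hle

/-- An adjoint-closed field has odd degree. -/
theorem UnitSetting.field_member (h : UnitSetting σ G H) {N : Subgroup (GL ι F)} (hf : AdjField σ G H N) :
    UnitMember σ G H := by
  classical
  haveI := h.nonempty
  have hs := isSesq_formG σ G
  obtain ⟨r, K, hr, hK, hle, hadj, -⟩ := hf
  rcases hr.eq_two_or_odd' with rfl | ho
  swap
  · exact UnitMember.field hr ho hK hadj hle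
  exfalso
  have hone : (1 : K) ≠ 0 := fun e => one_ne_zero (α := Matrix ι ι F) (congrArg Subtype.val e)
  -- a self-adjoint element which is not a scalar
  obtain ⟨s, hs', hsns, hssa⟩ : ∃ s ∈ K, (∀ a : F, s ≠ a • 1) ∧
      ∀ u v, formG σ G (s *ᵥ u) v = formG σ G u (s *ᵥ v) := by
    by_contra hcon
    push Not at hcon
    obtain ⟨x, hx, hxs⟩ : ∃ x ∈ K, ∀ a : F, x ≠ a • 1 := by
      by_contra hall
      push Not at hall
      have h1 : Module.finrank F K = 1 := (finrank_eq_one_iff_of_nonzero' (1 : K) hone).2 fun w => by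
        obtain ⟨a, ha⟩ := hall w.1 w.2
        exact ⟨a, Subtype.ext ha.symm⟩
      rw [hK.finrank_eq] at h1
      omega
    have key : ∀ y y', y ∈ K → y' ∈ K → (∀ u v, formG σ G (y *ᵥ u) v = formG σ G u (y' *ᵥ v)) →
        ∃ a : F, y + y' = a • 1 := by
      intro y y' hy hy' hyy
      by_contra hno
      push Not at hno
      obtain ⟨u, v, huv⟩ := hcon (y + y') (add_mem hy hy') hno
      refine huv ?_
      rw [Matrix.add_mulVec, Matrix.add_mulVec, hs.add_left, hs.add_right, hyy, adj_symm h.rg hyy, add_comm]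
    obtain ⟨x', hx', hxx⟩ := hadj x hx
    obtain ⟨a, ha⟩ := key x x' hx hx' hxx
    obtain ⟨c, hc⟩ := h.bar.exists_moved
    obtain ⟨b, hb⟩ := key (c • x) (σ c • x') (Subalgebra.smul_mem K hx c) (Subalgebra.smul_mem K hx' _) fun u v => by
      rw [Matrix.smul_mulVec, Matrix.smul_mulVec, hs.smul_left, hs.smul_right, h.bar.involutive, hxx]
    rw [eq_sub_of_add_eq' ha, smul_sub, smul_smul] at hb
    have h1 : (c - σ c) • x = (b - σ c * a) • (1 : Matrix ι ι F) := by
      rw [sub_smul, sub_smul, ← hb]; abel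
    refine hxs ((c - σ c)⁻¹ * (b - σ c * a)) ?_
    rw [← smul_smul, ← h1, inv_smul_smul₀ (sub_ne_zero.2 (Ne.symm hc))]
  set s' : K := ⟨s, hs'⟩ with hs'def
  have hli : LinearIndependent F ![(1 : K), s'] := by
    refine linearIndependent_fin2.2 ⟨fun e => hsns 0 ?_, fun a e => ?_⟩
    · rw [zero_smul]
      exact congrArg Subtype.val (show s' = 0 from e)
    · have e' : a • s = 1 := congrArg Subtype.val e
      rcases eq_or_ne a 0 with rfl | ha
      · rw [zero_smul] at e'
        exact zero_ne_one e'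
      · exact hsns a⁻¹ (by rw [← e', inv_smul_smul₀ ha])
  let bK : Module.Basis (Fin 2) F K :=
    basisOfLinearIndependentOfCardEqFinrank hli (by rw [Fintype.card_fin, hK.finrank_eq])
  obtain ⟨v₀, u₀, huv⟩ : ∃ v u : F, s * s = u • s + v • 1 := by
    refine ⟨bK.repr (s' * s') 0, bK.repr (s' * s') 1, ?_⟩
    have h1 := (bK.sum_repr (s' * s')).symm
    rw [Fin.sum_univ_two, coe_basisOfLinearIndependentOfCardEqFinrank] at h1
    have h2 := congrArg Subtype.val h1
    simp only [Matrix.cons_val_zero, Matrix.cons_val_one, hs'def, Subalgebra.coe_mul, Subalgebra.coe_add,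
      Subalgebra.coe_smul, Subalgebra.coe_one] at h2
    rw [h2, add_comm]
  -- its quadratic equation lives over the fixed field
  have huv' : σ u₀ = u₀ ∧ σ v₀ = v₀ := by
    have h1 : s * s = σ u₀ • s + σ v₀ • 1 := adj_unique h.rg fun w z => by
      rw [← Matrix.mulVec_mulVec, ← hssa, ← hssa, Matrix.mulVec_mulVec, huv]
      rw [Matrix.add_mulVec, Matrix.add_mulVec, hs.add_left, hs.add_right, Matrix.smul_mulVec, Matrix.smul_mulVec,
        Matrix.smul_mulVec, Matrix.smul_mulVec, hs.smul_left, hs.smul_left, hs.smul_right, hs.smul_right,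
        h.bar.involutive, h.bar.involutive, hssa, Matrix.one_mulVec, Matrix.one_mulVec]
    rw [huv] at h1
    have h2 : (u₀ - σ u₀) • s + (v₀ - σ v₀) • (1 : Matrix ι ι F) = 0 := by
      rw [sub_smul, sub_smul, sub_add_sub_comm, ← h1, sub_self]
    have h3 := Fintype.linearIndependent_iff.1 hli ![v₀ - σ v₀, u₀ - σ u₀] (by
      rw [Fin.sum_univ_two]
      refine Subtype.ext ?_
      simp only [Matrix.cons_val_zero, Matrix.cons_val_one, hs'def, Subalgebra.coe_add, Subalgebra.coe_smul,
        Subalgebra.coe_one, ZeroMemClass.coe_zero]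
      rw [add_comm]; exact h2)
    have e0 := h3 0
    have e1 := h3 1
    simp only [Matrix.cons_val_zero, Matrix.cons_val_one] at e0 e1
    exact ⟨(sub_eq_zero.1 e1).symm, (sub_eq_zero.1 e0).symm⟩
  letI cK : CommRing K := { (inferInstance : Ring K) with
    mul_comm := fun a b => Subtype.ext (hK.comm a.1 a.2 b.1 b.2) }
  haveI : Nontrivial K := Module.nontrivial_of_finrank_pos (R := F) (hK.finrank_eq.symm ▸ two_pos)
  have hfield : IsField K :=
    { exists_pair_ne := exists_pair_ne K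
      mul_comm := mul_comm
      mul_inv_cancel := fun {a} ha => by
        obtain ⟨b, hb, hab⟩ := hK.inv a.1 a.2 fun e => ha (Subtype.ext e)
        exact ⟨⟨b, hb⟩, Subtype.ext hab⟩ }
  letI : Field K := hfield.toField
  haveI : Finite K := Subtype.finite
  obtain ⟨p, n, hp, hcp, hn0, hn⟩ := prime_card_pow (F := F)
  haveI := Fact.mk hp
  haveI : CharP K p := charP_of_injective_algebraMap (algebraMap F K).injective p
  have hcard := card_fixF h.bar
  rw [← Nat.card_eq_fintype_card (α := F), hn] at hcard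
  obtain ⟨k, -, hk⟩ := (Nat.dvd_prime_pow hp).1 (hcard ▸ dvd_pow_self _ two_ne_zero : Nat.card (fixF σ) ∣ p ^ n)
  let φ : K →+* K := powHom p k
  have hφ : ∀ a : F, σ a = a → φ (algebraMap F K a) = algebraMap F K a := fun a ha => by
    rw [powHom_apply, ← map_pow, ← hk, (mem_iff_pow_card (fixF σ) a).1 (mem_fixF.2 ha)]
  have hq : s' * s' = algebraMap F K u₀ * s' + algebraMap F K v₀ := by
    refine Subtype.ext ?_
    show s * s = algebraMap F (Matrix ι ι F) u₀ * s + algebraMap F (Matrix ι ι F) v₀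
    rw [huv, Algebra.algebraMap_eq_smul_one, Algebra.algebraMap_eq_smul_one, Matrix.smul_mul, one_mul]
  have hq' : φ s' * φ s' = algebraMap F K u₀ * φ s' + algebraMap F K v₀ := by
    rw [← map_mul, hq, map_add, map_mul, hφ _ huv'.1, hφ _ huv'.2]
  have hfix : φ (φ s') = s' := by
    rcases mul_eq_zero.1 (show (φ s' - s') * (φ s' + s' - algebraMap F K u₀) = 0 by linear_combination hq' - hq)
      with e | e
    · rw [sub_eq_zero.1 e, sub_eq_zero.1 e]
    · have e1 : φ s' = algebraMap F K u₀ - s' := by linear_combination e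
      rw [e1, map_sub, hφ _ huv'.1, e1]; ring
  have hpow : s' ^ Fintype.card F = s' := by
    rw [← Nat.card_eq_fintype_card, hn, hcard, hk, pow_two, pow_mul, ← powHom_apply, ← powHom_apply]
    exact hfix
  let f : Option F → {z : K // z ^ Fintype.card F = z} := fun o => o.elim ⟨s', hpow⟩
    fun a => ⟨algebraMap F K a, by rw [← map_pow, FiniteField.pow_card]⟩
  have hne : ∀ a : F, s' ≠ algebraMap F K a := fun a e => hsns a
    ((congrArg Subtype.val e).trans (Algebra.algebraMap_eq_smul_one (A := Matrix ι ι F) a))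
  have hf : Function.Injective f := by
    intro x y e
    have e' := congrArg Subtype.val e
    rcases x with _ | x <;> rcases y with _ | y
    · rfl
    · exact absurd e' (hne y)
    · exact absurd e'.symm (hne x)
    · exact congrArg some ((algebraMap F K).injective e')
  have h1 := (Nat.card_le_card_of_injective f hf).trans (card_fixed_le (Fintype.card F) Fintype.one_lt_card)
  rw [Nat.card_eq_fintype_card, Fintype.card_option] at h1
  omega

theorem UnitSetting.equal_member (h : UnitSetting σ G H) {d : ℕ} (hd : 2 ≤ d) {e : ι ≃ Fin d × Fin d} {P : GL ι F}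
    (hle : H ≤ tensorProductSubgroup d d e P) (hfr : frG σ e P G = 1) : UnitMember σ G H := by
  classical
  haveI := h.nonempty
  have hfr' : frG σ (e.trans (finTwoArrowEquiv (Fin d)).symm) P G = (1 : F) • 1 := by
    rw [one_smul, show frG σ (e.trans (finTwoArrowEquiv (Fin d)).symm) P G =
      (frG σ e P G).submatrix (finTwoArrowEquiv (Fin d)) (finTwoArrowEquiv (Fin d)) from
      Matrix.ext fun _ _ => rfl, hfr]
    exact Matrix.submatrix_one_equiv _
  have hle' := hle.trans (tensor_le_wreath e P)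
  rcases (show d = 2 ∨ 3 ≤ d by omega) with rfl | hd3
  · exact h.two_member (t := 2) two_pos one_ne_zero hle' hfr'
  by_cases hex : Fintype.card F = 4 ∧ d = 3
  swap
  · exact UnitMember.power hd3 le_rfl hex one_ne_zero hfr' hle'
  obtain ⟨h4, rfl⟩ := hex
  obtain ⟨R, h1, h2, h3, hsim, hz, hc, hcomm⟩ := three_member h.bar h4 h.fix hle hfr
  have hcp : CharP F 2 := by
    obtain ⟨p, n, hp, hcp, hn0, hn⟩ := prime_card_pow (F := F)
    rw [Nat.card_eq_fintype_card, h4] at hn
    have h22 : p ∣ 2 ^ 2 := by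
      rw [show (2 : ℕ) ^ 2 = p ^ n by rw [← hn]; norm_num]
      exact dvd_pow_self p hn0.ne'
    rwa [(Nat.prime_dvd_prime_iff_eq hp Nat.prime_two).1 (hp.dvd_of_dvd_pow h22)] at hcp
  refine UnitMember.six (r := 3) (p := 2) (e := 2) (m := 2) h1 h2 hsim (by norm_num)
    ⟨Nat.prime_two, hcp, by rw [h4]; norm_num, by rw [hz]; norm_num, fun l hl0 hl2 => ?_⟩ ?_
    (Or.inl ⟨by decide, hz, by norm_num, hc⟩) hcomm h3
  · rw [show l = 1 by omega, hz]; norm_num
  · rw [Fintype.card_congr e]; simp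

theorem UnitSetting.tensor_member (h : UnitSetting σ G H) (hf : TensorForm σ 1 G H) : UnitMember σ G H := by
  classical
  haveI := h.nonempty
  obtain ⟨d, k, e, P, G₀, B, s, t, hd, hk, hle, hfr, hG₀, hB, hs, ht, hst⟩ := hf
  haveI : Nonempty (Fin d) := ⟨⟨0, by omega⟩⟩
  haveI : Nonempty (Fin k) := ⟨⟨0, by omega⟩⟩
  obtain ⟨a, ha, haσ, haG⟩ := exists_herm_smul h.bar hG₀ hs
  obtain ⟨b, hb, hbσ, hbB⟩ := exists_herm_smul h.bar hB ht
  have hab : σ (a * b) = a * b := by
    rw [map_mul, haσ, hbσ]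
    linear_combination (a * b) * hst
  set A := (a * b)⁻¹ • (a • G₀) with hA
  set B' := b • B with hB'
  have hfr' : frG σ e P G = A ⊗ₖ B' := by
    rw [hfr, hA, hB', Matrix.smul_kronecker, Matrix.smul_kronecker, Matrix.kronecker_smul, smul_smul, smul_smul,
      mul_assoc, inv_mul_cancel₀ (mul_ne_zero ha hb), one_smul]
  have hAd : A.det ≠ 0 := by
    rw [hA, smul_smul, Matrix.det_smul]
    exact mul_ne_zero (pow_ne_zero _ (mul_ne_zero (inv_ne_zero (mul_ne_zero ha hb)) ha)) hG₀
  have hBd : B'.det ≠ 0 := by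
    rw [hB', Matrix.det_smul]
    exact mul_ne_zero (pow_ne_zero _ hb) hB
  have hAh : Aᵀ = A.map σ := by
    rw [hA, Matrix.transpose_smul, haG]
    ext i j
    simp only [Matrix.smul_apply, Matrix.map_apply, smul_eq_mul]
    rw [map_mul σ (a * b)⁻¹, map_inv₀, hab]
  rcases lt_trichotomy d k with hlt | heq | hgt
  · exact UnitMember.tensor hd hlt hAd hBd hAh hbB hfr' hle
  · subst heq
    obtain ⟨U₁, h₁⟩ := herm_congr_one h.bar hAd hAh
    obtain ⟨U₂, h₂⟩ := herm_congr_one h.bar hBd hbB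
    let U : GL (Fin d × Fin d) F := ⟨mat U₁ ⊗ₖ mat U₂, mat U₁⁻¹ ⊗ₖ mat U₂⁻¹,
      by rw [← Matrix.mul_kronecker_mul, mat_mul_inv, mat_mul_inv, Matrix.one_kronecker_one],
      by rw [← Matrix.mul_kronecker_mul, mat_inv_mul, mat_inv_mul, Matrix.one_kronecker_one]⟩
    refine h.equal_member hd (tensor_change (U := U) (A := U₁) (B := U₂) rfl hle) ?_
    rw [frG_change, hfr', act, show mat U = mat U₁ ⊗ₖ mat U₂ from rfl,
      show (mat U₁ ⊗ₖ mat U₂).map σ = (mat U₁).map σ ⊗ₖ (mat U₂).map σ from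
        Matrix.ext fun p r => by simp [Matrix.kronecker_apply],
      ← Matrix.kroneckerMap_transpose, ← Matrix.mul_kronecker_mul, ← Matrix.mul_kronecker_mul,
      show (mat U₁)ᵀ * A * (mat U₁).map σ = 1 from h₁, show (mat U₂)ᵀ * B' * (mat U₂).map σ = 1 from h₂,
      Matrix.one_kronecker_one]
  · refine UnitMember.tensor hk hgt hBd hAd hbB hAh ?_ (hle.trans (tensor_swap e P))
    rw [show frG σ (e.trans (Equiv.prodComm _ _)) P G =
      (frG σ e P G).submatrix (Equiv.prodComm _ _).symm (Equiv.prodComm _ _).symm from rfl, hfr']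
    ext ⟨i, j⟩ ⟨i', j'⟩
    simp [Matrix.kronecker_apply, mul_comm]

/-- A normal group of symplectic type. -/
theorem UnitSetting.type_member (h : UnitSetting σ G H) (hgood : Good H) {N : Subgroup (GL ι F)} (hle : N ≤ H)
    (hn : Normalised H N) (hns : ¬ N ≤ scalars ι F)
    (hcomm : ∀ x ∈ N, ∀ y ∈ N, x * y * x⁻¹ * y⁻¹ ∈ scalars ι F) : UnitMember σ G H := by
  classical
  haveI := h.nonempty
  obtain ⟨r, R, hR, -⟩ := exists_symp_sup hgood hle hn hns hcomm
  have hr := hR.symp.prime
  have hsim : R ≤ similarityGroup (formG σ G) :=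
    hR.le.trans (sup_le (le_similarity_of_iso h.fix) scalars_le_similarity)
  have hnR : Normalised H R := fun g hg => hR.normalised g (Subgroup.mem_sup_left hg)
  have hU : Nat.card Fˣ = Fintype.card F - 1 := by rw [Nat.card_units, Nat.card_eq_fintype_card]
  set e := r * Nat.gcd 2 r with he
  obtain ⟨p, n, hp, hcp, hn0, hn'⟩ := prime_card_pow (F := F)
  rw [Nat.card_eq_fintype_card] at hn'
  haveI := Fact.mk hp
  have hrp : r ≠ p := fun e' => hR.r_ne_zero (by rw [e']; exact CharP.cast_eq_zero F p)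
  have hrU : r ∣ Nat.card Fˣ := by
    obtain ⟨ζ, hζ⟩ := hR.root
    obtain ⟨u, hu⟩ := IsPrimitiveRoot.isUnit hζ hr.ne_zero
    have h1 : IsPrimitiveRoot u r := by
      rw [← IsPrimitiveRoot.coe_units_iff, hu]; exact hζ
    rw [h1.eq_orderOf]
    exact orderOf_dvd_natCard u
  have hdvd : e ∣ Nat.card Fˣ := by
    rcases hr.eq_two_or_odd' with rfl | ho
    · rw [he, hU, card_fixF h.bar]
      have hq : Odd (Nat.card (fixF σ)) := by
        have h1 := odd_of_two_ne_zero (F := F) (by exact_mod_cast hR.r_ne_zero)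
        rw [card_fixF h.bar] at h1
        exact (Nat.odd_pow_iff two_ne_zero).1 h1
      obtain ⟨a, ha⟩ := hq
      rw [ha]
      exact ⟨a * a + a, by rw [show (2 * a + 1) ^ 2 = 2 * Nat.gcd 2 2 * (a * a + a) + 1 by
        rw [Nat.gcd_self]; ring, Nat.add_sub_cancel]⟩
    · rw [he, Nat.coprime_iff_gcd_eq_one.1 (Nat.coprime_two_left.2 ho), mul_one]
      exact hrU
  obtain ⟨⟨B, hB⟩, hcardR⟩ := monomial hR hdvd
  have hz : Nat.card (Subgroup.center R) = e := by rw [hR.card_center]; exact Nat.gcd_eq_right hdvd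
  have he0 : 0 < e := by rw [← hz]; exact Nat.card_pos
  have hkey : ∀ d : ℕ, (p : ZMod e) ^ d = 1 ↔ e ∣ p ^ d - 1 := fun d => by
    rw [← Nat.cast_pow, ← Nat.cast_one, ZMod.natCast_eq_natCast_iff,
      ← Nat.modEq_iff_dvd' (Nat.one_le_pow _ _ hp.pos)]
    exact ⟨Nat.ModEq.symm, Nat.ModEq.symm⟩
  have hpn : (p : ZMod e) ^ n = 1 := (hkey n).2 (by rwa [hU, hn'] at hdvd)
  set e₀ := orderOf (p : ZMod e) with he₀
  have he₀n : e₀ ∣ n := orderOf_dvd_of_pow_eq_one hpn
  have he₀0 : 0 < e₀ := orderOf_pos_iff.2 (isOfFinOrder_iff_pow_eq_one.2 ⟨n, hn0, hpn⟩)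
  rcases (Nat.le_of_dvd hn0 he₀n).lt_or_eq with hlt | heq
  · let F₀ : Subfield F := RingHom.eqLocusField (powHom p e₀) (RingHom.id F)
    have hmem : ∀ x, x ∈ F₀ ↔ x ^ p ^ e₀ = x := fun x => by
      show powHom p e₀ x = x ↔ _
      rw [powHom_apply]
    have hF₀ : F₀ ≠ ⊤ := by
      intro htop
      have h1 := card_fixed_le (E := F) (p ^ e₀) (Nat.one_lt_pow he₀0.ne' hp.one_lt)
      rw [Nat.card_congr (Equiv.subtypeUnivEquiv fun x => (hmem x).1 (htop ▸ Subfield.mem_top x)),
        Nat.card_eq_fintype_card, hn'] at h1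
      exact absurd h1 (not_le.2 (Nat.pow_lt_pow_right hp.one_lt hlt))
    refine h.subfield_member hR.abs hnR hF₀ (realisable_mat.2 ⟨B, fun x hx i j => ?_⟩) fun g hg => ?_
    · rcases hB x hx i j with h1 | h1
      · rw [h1]; exact zero_mem _
      · rw [hmem]
        obtain ⟨k, hk⟩ := (hkey e₀).1 (pow_orderOf_eq_one _)
        rw [show p ^ e₀ = e * k + 1 by have := Nat.one_le_pow e₀ _ hp.pos; omega, pow_succ, pow_mul, h1, one_pow,
          one_mul]
    · obtain ⟨c, hc⟩ := hsim hg
      have hact : act σ G (mat g) = (c : F) • G :=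
        formG_ext (σ := σ) fun u v => by rw [← formG_mulVec, formG_smul]; exact hc u v
      have hpow : ∀ j : ℕ, act σ G (mat (g ^ j)) = (c : F) ^ j • G := by
        intro j
        induction j with
        | zero => rw [pow_zero, pow_zero, one_smul, mat, Units.val_one]; simp [act]
        | succ j ih =>
          rw [pow_succ, show mat (g ^ j * g) = mat (g ^ j) * mat g from Units.val_mul _ _, act_mul, ih, act_smul, hact,
            smul_smul, ← pow_succ]
      have hce : c ^ e = 1 := by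
        refine Units.ext ?_
        have h1 := hpow e
        rw [show g ^ e = 1 from hR.pow g hg, mat, Units.val_one] at h1
        rw [Units.val_pow_eq_pow_val, Units.val_one]
        exact (smul_mat_cancel (ne_zero_of_det h.rg.det) ((show (1 : F) • G = act σ G 1 by simp [act]).trans h1)).symm
      exact ⟨c, c.ne_zero, hact, Or.inr ⟨_, hR.scalar_mem c hce, mat_scHom c⟩⟩
  haveI := Fact.mk hr
  obtain ⟨k, hk⟩ := IsPGroup.iff_card.1 hR.symp.pGroup
  obtain ⟨m, -, hm⟩ := (Nat.dvd_prime_pow hr).1 (show Fintype.card ι ∣ r ^ k by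
    rw [← hk, hcardR, pow_two, ← mul_assoc]; exact dvd_mul_left _ _)
  refine UnitMember.six hR.symp hR.abs hsim hrp
    ⟨hp, hcp, by rw [hn', ← heq], by rw [hz]; exact (hkey e₀).1 (pow_orderOf_eq_one _), fun d hd0 hd => ?_⟩
    hm ?_ hR.comm hnR
  · rw [hz]
    exact fun h1 => absurd (Nat.le_of_dvd hd0 (orderOf_dvd_of_pow_eq_one ((hkey d).2 h1))) (not_le.2 hd)
  rcases hr.eq_two_or_odd' with rfl | ho
  · refine Or.inr ⟨rfl, ?_, by rw [hz, he]; rfl, ?_⟩
    swap
    · rw [hcardR, hz, hm, he, Nat.gcd_self, ← pow_mul, pow_add, mul_comm m 2]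
      norm_num
    have h2 : e₀ ∣ 2 := by
      refine orderOf_dvd_of_pow_eq_one ?_
      have key : ∀ (z : ℕ) (_ : z = 4) (u v : ZMod z), v * u = 1 → u ^ 2 = 1 := by
        rintro z rfl; decide
      refine key e (by rw [he]; rfl) _ ((p : ZMod e) ^ (e₀ - 1)) ?_
      rw [← pow_succ, Nat.sub_add_cancel he₀0]
      exact pow_orderOf_eq_one _
    refine ((Nat.dvd_prime Nat.prime_two).1 h2).resolve_left fun h1 => ?_
    rw [heq] at h1
    rw [h1, pow_one] at hn'
    rw [card_fixF h.bar] at hn'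
    exact absurd (hn' ▸ hp) (Nat.Prime.not_prime_pow le_rfl)
  · have her : e = r := by rw [he, Nat.coprime_iff_gcd_eq_one.1 (Nat.coprime_two_left.2 ho), mul_one]
    refine Or.inl ⟨ho, by rw [hz, her], ?_, by rw [hcardR, hz, her, hm, ← pow_mul, pow_add, pow_one, mul_comm m 2]⟩
    rcases Nat.eq_zero_or_pos m with rfl | hm0
    · have := h.three
      rw [hm, pow_zero] at this
      omega
    · exact hm0

theorem UnitSetting.factors_member (h : UnitSetting σ G H) {t : ℕ} {Qs : Fin t → Subgroup (GL ι F)}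
    (hQ : IsFactors H Qs) : UnitMember σ G H := by
  classical
  haveI := h.nonempty
  obtain ⟨m, e, P, c, s, G₁, Q, X, hm, hle, hc, hG₁, hs, hfr, hQp, hQns, hXi, hXm, -, hXfix⟩ :=
    slots_uniform hQ h.rg h.fix
  haveI : Nonempty (Fin m) := ⟨⟨0, by omega⟩⟩
  obtain ⟨a, ha, -, haG⟩ := exists_herm_smul h.bar hG₁ hs
  obtain ⟨U, hU⟩ := herm_congr_one h.bar (A := a • G₁)
    (by rw [Matrix.det_smul]; exact mul_ne_zero (pow_ne_zero _ ha) hG₁) haG
  rw [act_smul] at hU
  have hU' : act σ G₁ (mat U) = a⁻¹ • 1 := by rw [← hU, inv_smul_smul₀ ha]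
  set S : GL (Fin t → Fin m) F := pureU fun _ => U with hS
  have hfr' : frG σ e (fr e P S * P) G = (c * a⁻¹ ^ t) • 1 := by
    rw [frG_change, hfr, show mat S = pureM fun _ : Fin t => mat U from rfl, act_pureM, ← smul_smul]
    congr 1
    rw [← pureM_one]
    ext x y
    simp only [pureM, Matrix.of_apply, hU', Pi.one_apply, Matrix.smul_apply, smul_eq_mul, Finset.prod_mul_distrib,
      Finset.prod_const, Finset.card_univ, Fintype.card_fin]
  have hle' : H ≤ tensorWreathSubgroup m t e (fr e P S * P) :=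
    wreath_change (Subgroup.subset_closure (Or.inl ⟨fun _ => U, fun _ _ => rfl⟩)) hle
  have hc' : c * a⁻¹ ^ t ≠ 0 := mul_ne_zero hc (pow_ne_zero _ (inv_ne_zero ha))
  rcases (show m = 2 ∨ 3 ≤ m by omega) with rfl | hm3
  · exact h.two_member (by have := hQ.two_le; omega) hc' hle' hfr'
  by_cases hex : Fintype.card F = 4 ∧ m = 3
  swap
  · exact UnitMember.power hm3 hQ.two_le hex hc' hfr' hle'
  obtain ⟨h4, rfl⟩ := hex
  exfalso
  have hq : Nat.card (fixF σ) = 2 :=
    Nat.pow_left_injective two_ne_zero ((card_fixF h.bar).symm.trans h4)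
  have hσ2 : ∀ x, σ x = x ^ 2 := fun x => by rw [bar_pow h.bar, hq]
  have hu : ∀ x, IsUnit (X x) := fun x => by
    refine isUnit_of_det fun e0 => hG₁ ?_
    have h1 := congrArg Matrix.det (hXfix x)
    rw [Matrix.det_mul, Matrix.det_mul, Matrix.det_transpose, e0, zero_mul, zero_mul] at h1
    exact h1.symm
  have hmem : ∀ x, U⁻¹ * (hu x).unit * U ∈ Cfsg.GU 3 F 2 := fun x => by
    rw [mem_GU_iff_act hσ2, show mat (U⁻¹ * (hu x).unit * U) = mat U⁻¹ * X x * mat U by
      simp only [mat, Units.val_mul, IsUnit.unit_spec]]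
    have e1 : (1 : Matrix (Fin 3) (Fin 3) F) = act σ (a • G₁) (mat U) := by rw [act_smul, hU]
    conv_lhs => rw [e1]
    rw [← act_mul, ← mul_assoc, ← mul_assoc, mat_mul_inv, one_mul, act_mul, act_smul,
      show act σ G₁ (X x) = G₁ from hXfix x, e1]
  let φ : Q →* Cfsg.GU 3 F 2 := MonoidHom.mk' (fun x => ⟨_, hmem x⟩) fun x y => Subtype.ext (by
    show U⁻¹ * (hu (x * y)).unit * U = (U⁻¹ * (hu x).unit * U) * (U⁻¹ * (hu y).unit * U)
    rw [show (hu (x * y)).unit = (hu x).unit * (hu y).unit from Units.ext (hXm x y)]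
    group)
  have hφ : Function.Injective φ := fun x y e' => hXi (by
    have h1 : U⁻¹ * (hu x).unit * U = U⁻¹ * (hu y).unit * U := congrArg Subtype.val e'
    exact congrArg Units.val (mul_left_cancel (mul_right_cancel h1)))
  haveI : Finite Q := Finite.of_injective φ hφ
  haveI : Group.IsSolvable Q := ThreeInv.isSolvable_two_primes 3 Nat.prime_three fun p hp hd => by
    have h1 := hd.trans (Subgroup.card_dvd_of_injective φ hφ)
    rw [Classical.card_GU_formula (σ := (σ : F →+* F)) (isInvol_of_bar h.bar) hσ2 hq,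
      show 2 ^ (3 * (3 - 1) / 2) * ∏ i ∈ Finset.range 3, (if Even i then 2 ^ (i + 1) + 1 else 2 ^ (i + 1) - 1) =
        2 ^ 3 * 3 ^ 4 by decide] at h1
    rcases (Nat.Prime.dvd_mul hp).1 h1 with h2 | h2
    · exact Or.inl ((Nat.prime_dvd_prime_iff_eq hp Nat.prime_two).1 (hp.dvd_of_dvd_pow h2))
    · exact Or.inr ((Nat.prime_dvd_prime_iff_eq hp Nat.prime_three).1 (hp.dvd_of_dvd_pow h2))
  exact hQns (by rw [eq_bot_of_perfect_solvable hQp]; exact bot_le)

theorem UnitSetting.core_member (h : UnitSetting σ G H) {P : Subgroup (GL ι F)} (hP : IsCore H P) :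
    UnitMember σ G H ∨ InUnitaryResidualClass H := by
  classical
  haveI := h.nonempty
  by_cases hmem : UnitMember σ G H
  · exact Or.inl hmem
  right
  have hfixP : Fixes σ P G := fun g hg => h.fix g (hP.le hg)
  have hsub : ∀ F₀ : Subfield F, F₀ ≠ ⊤ → ¬ RealisableOver F₀ (matrixSet P) := fun F₀ h0 hr =>
    hmem (h.subfield_member hP.abs hP.normalised h0 hr fun g hg =>
      ⟨1, one_ne_zero, by rw [one_smul]; exact hfixP g hg, Or.inl rfl⟩)
  refine ⟨P, ⟨hP.le, hP.normalised, hP.perfect, hP.simple, hP.nonabelian,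
    fun x _ hc => comm_of_abs hP.abs (comm_of_perfect hP.perfect hc), hP.abs, hsub⟩, ?_, ?_⟩
  · rintro ⟨Q, hQ, hfixQ⟩
    have hb := isSesq_of_bilinear hQ.polar_bilinear
    obtain ⟨F₀, h0, h1⟩ := realisable_of_two h.bar hP.abs h.rg.det (hb.det_ne_zero hQ.nondegenerate) hfixP
      fun g hg => (hb.fixes_iff g).1 fun u v => by
        simp only [QuadraticMap.polar, ← Matrix.mulVec_add, hfixQ _ ⟨g, hg, rfl⟩]
    exact hsub F₀ h0 h1
  · rintro ⟨f, hf', hfixf⟩
    have hb := isSesq_of_bilinear hf'.bilinear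
    obtain ⟨F₀, h0, h1⟩ := realisable_of_two h.bar hP.abs h.rg.det (hb.det_ne_zero hf'.nondegenerate) hfixP
      fun g hg => (hb.fixes_iff g).1 (hfixf _ ⟨g, hg, rfl⟩)
    exact hsub F₀ h0 h1

/-- The division for a hermitian form. -/
theorem unit_structure (h : UnitSetting σ G H) : UnitMember σ G H ∨ InUnitaryResidualClass H := by
  classical
  haveI := h.nonempty
  by_cases hmem : UnitMember σ G H
  · exact Or.inl hmem
  have hirr : Irr H := by
    by_contra hirr
    obtain ⟨W, hb, ht, hW⟩ := exists_inv_of_not_irr hirr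
    exact hmem (h.reducible_member hb ht hW)
  have hgood : Good H := fun N hNH hn hns => by
    rcases clifford_form hirr hn hns h.rg (fun g hg => h.fix g (hNH hg)) with h1 | h1 | h1 | h1
    exacts [absurd (h.paired_member hirr h1) hmem, absurd (h.field_member h1) hmem,
      absurd (h.tensor_member h1) hmem, h1]
  rcases core_or_factors hgood (irr_not_scalar hirr (by have := h.three; omega))
    (fun N hNH hn hns hc => hmem (h.type_member hgood hNH hn hns hc)) with ⟨P, hP⟩ | ⟨t, Qs, hQ⟩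
  · exact h.core_member hP
  · exact absurd (h.factors_member hQ) hmem

end Cfsg.Agent.Asch
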