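import Cfsg.Agent.Asch.UnitThree

/-!
The members of the unitary division, and the members arising from a smaller field.
-/

set_option autoImplicit false
set_option linter.unusedSectionVars false

namespace Cfsg.Agent.Asch

open Matrix Cfsg.Geo Cfsg.Agent.PrimeDim
open scoped MatrixGroups Kronecker

variable {F : Type*} [Field F] [Fintype F] {σ : F ≃+* F}

theorem two_card_fix (h : IsBar σ) {x : F} : x ∈ fixF σ ↔ x ^ Nat.card (fixF σ) = x :=
  mem_iff_pow_card _ _

/-- The involution is the power map of the square root of the order. -/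
theorem bar_pow (h : IsBar σ) (x : F) : σ x = x ^ Nat.card (fixF σ) := by
  obtain ⟨τ, hτ, hτpow⟩ := exists_powHom (fixF σ)
  have hs : τ (x + σ x) = x + σ x := (hτ _).1 (mem_fixF.2 (by rw [map_add, h.involutive, add_comm]))
  have hp : τ (x * σ x) = x * σ x := (hτ _).1 (mem_fixF.2 (by rw [map_mul, h.involutive, mul_comm]))
  rw [map_add] at hs
  rw [map_mul] at hp
  rw [← hτpow]
  rcases mul_eq_zero.1 (show (τ x - x) * (τ x - σ x) = 0 by linear_combination (τ x) * hs - hp) with e | e
  · have h1 : x ∈ fixF σ := (hτ x).2 (sub_eq_zero.1 e)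
    rw [sub_eq_zero.1 e]
    exact h1
  · exact (sub_eq_zero.1 e).symm

/-- A subfield of odd prime index is moved. -/
theorem exists_moved_sub (h : IsBar σ) {F₁ : Subfield F} {l : ℕ} (hl : l.Prime) (ho : Odd l)
    (hc : Fintype.card F = Nat.card F₁ ^ l) : ∃ y ∈ F₁, σ y ≠ y := by
  classical
  by_contra hcon
  push Not at hcon
  haveI : Fintype F₁ := Fintype.ofFinite F₁
  let σ' : F ≃ₐ[F₁] F := AlgEquiv.ofRingEquiv (f := σ) fun y => hcon y.1 y.2
  have hfr : Module.finrank F₁ F = l := by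
    have h1 : Nat.card F = Nat.card F₁ ^ Module.finrank F₁ F := Module.natCard_eq_pow_finrank
    rw [Nat.card_eq_fintype_card, hc] at h1
    refine (Nat.pow_right_injective ?_ h1).symm
    rw [Nat.card_eq_fintype_card]
    exact Fintype.one_lt_card
  have hord : orderOf σ' = 2 := by
    rw [orderOf_eq_prime_iff]
    refine ⟨AlgEquiv.ext fun a => ?_, fun e => h.ne_refl (RingEquiv.ext fun a => AlgEquiv.congr_fun e a)⟩
    rw [pow_two]
    exact h.involutive a
  have h2 : 2 ∣ l := by
    rw [← hord, ← hfr, ← IsGalois.card_aut_eq_finrank F₁ F]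
    exact orderOf_dvd_natCard σ'
  exact (Nat.not_even_iff_odd.2 ho) (even_iff_two_dvd.2 h2)

theorem hermForm_eq_formG {n q : ℕ} (hσ : ∀ x, σ x = x ^ q) :
    Cfsg.hermForm n F q = formG σ (1 : Matrix (Fin n) (Fin n) F) := by
  funext u v
  show _ = stdH σ u v
  rw [stdH_eq]
  exact Finset.sum_congr rfl fun i _ => by rw [hσ]

theorem mem_GU_iff_act {n q : ℕ} (hσ : ∀ x, σ x = x ^ q) (g : GL (Fin n) F) :
    g ∈ Cfsg.GU n F q ↔ act σ 1 (mat g) = (1 : Matrix (Fin n) (Fin n) F) := by
  have h1 : g ∈ Cfsg.GU n F q ↔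
      ∀ u v, Cfsg.hermForm n F q (mat g *ᵥ u) (mat g *ᵥ v) = Cfsg.hermForm n F q u v := Iff.rfl
  rw [h1, hermForm_eq_formG hσ, (isSesq_formG σ (1 : Matrix (Fin n) (Fin n) F)).fixes_iff, gram_formG]

variable {ι : Type} [Fintype ι] [DecidableEq ι]

/-- An isometry group of a hermitian form. -/
structure UnitSetting (σ : F ≃+* F) (G : Matrix ι ι F) (H : Subgroup (GL ι F)) : Prop where
  rg : IsRG σ 1 G
  bar : IsBar σ
  fix : Fixes σ H G
  three : 3 ≤ Fintype.card ι

/-- The geometric members containing the group. -/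
inductive UnitMember (σ : F ≃+* F) (G : Matrix ι ι F) (H : Subgroup (GL ι F)) : Prop
  | singular {W : Submodule F (ι → F)} (hb : W ≠ ⊥) (hts : IsTotallySingularFor (formG σ G) W)
      (hle : H ≤ subspaceStabilizer W)
  | nondeg {W : Submodule F (ι → F)} (hb : W ≠ ⊥) (hnd : IsNondegenerateOn (formG σ G) W)
      (hlt : 2 * Module.finrank F W < Fintype.card ι) (hle : H ≤ subspaceStabilizer W)
  | decomp {t m : ℕ} {D : Fin t → Submodule F (ι → F)} (hD : IsNondegenerateMDecomposition (formG σ G) m D)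
      (hle : H ≤ decompositionStabilizer D)
  | pair {m : ℕ} {D : Fin 2 → Submodule F (ι → F)} (hm : 2 * m = Fintype.card ι) (hD : IsMDecomposition m D)
      (hts : ∀ i, IsTotallySingularFor (formG σ G) (D i)) (hle : H ≤ decompositionStabilizer D)
  | oddSub {F₀ : Subfield F} {r : ℕ} {P : GL ι F} (hr : r.Prime) (ho : Odd r)
      (hc : Fintype.card F = Nat.card F₀ ^ r) (hrat : IsFormRationalStructure (formG σ G) F₀ 1 P)
      (hle : H ≤ subfieldSubgroup F₀ P)
  | orthSub {F₀ : Subfield F} {P : GL ι F} (hq : Odd (Fintype.card F)) (hc : Fintype.card F = Nat.card F₀ ^ 2)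
      (hrat : IsFormRationalStructure (formG σ G) F₀ 1 P) (hle : H ≤ subfieldSubgroup F₀ P)
  | sympSub {F₀ : Subfield F} {P : GL ι F} {ζ : F} (hn : Even (Fintype.card ι))
      (hc : Fintype.card F = Nat.card F₀ ^ 2) (hζ : ζ ≠ 0) (hsk : ζ + σ ζ = 0)
      (hrat : IsFormRationalStructure (formG σ G) F₀ ζ P)
      (halt : ∀ u : ι → F, (∀ i, u i ∈ F₀) → formG σ G (mat P *ᵥ u) (mat P *ᵥ u) = 0)
      (hle : H ≤ subfieldSubgroup F₀ P)
  | six {R : Subgroup (GL ι F)} {r p e m : ℕ} (hst : IsSymplecticTypeGroup r R)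
      (habs : ActsAbsolutelyIrreducibly (matrixSet R)) (hsim : R ≤ similarityGroup (formG σ G)) (hrp : r ≠ p)
      (hmin : IsMinimalFieldFor (Nat.card (Subgroup.center R)) p e F) (hm : Fintype.card ι = r ^ m)
      (hshape : (Odd r ∧ Nat.card (Subgroup.center R) = r ∧ 1 ≤ m ∧ Nat.card R = r ^ (1 + 2 * m)) ∨
        (r = 2 ∧ e = 2 ∧ Nat.card (Subgroup.center R) = 4 ∧ Nat.card R = 2 ^ (2 + 2 * m)))
      (hcomm : ∀ x ∈ R, ∀ y ∈ R, x * y * x⁻¹ * y⁻¹ ∈ scalars ι F) (hn : Normalised H R)
  | field {r : ℕ} {K : Subalgebra F (Matrix ι ι F)} (hr : r.Prime) (ho : Odd r) (hK : IsFieldSubalgebra r K)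
      (hadj : IsAdjointClosedFor (formG σ G) K) (hle : H ≤ subalgebraNormalizer K)
  | tensor {d k : ℕ} {e : ι ≃ Fin d × Fin k} {P : GL ι F} {G₀ : Matrix (Fin d) (Fin d) F}
      {B : Matrix (Fin k) (Fin k) F} (hd : 2 ≤ d) (hdk : d < k) (hG₀ : G₀.det ≠ 0) (hB : B.det ≠ 0)
      (hG₀h : G₀ᵀ = G₀.map σ) (hBh : Bᵀ = B.map σ) (hfr : frG σ e P G = G₀ ⊗ₖ B)
      (hle : H ≤ tensorProductSubgroup d k e P)
  | power {m t : ℕ} {e : ι ≃ (Fin t → Fin m)} {P : GL ι F} {c : F} (hm : 3 ≤ m) (ht : 2 ≤ t)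
      (hex : ¬ (Fintype.card F = 4 ∧ m = 3)) (hc : c ≠ 0) (hfr : frG σ e P G = c • 1)
      (hle : H ≤ tensorWreathSubgroup m t e P)

variable {G : Matrix ι ι F} {H : Subgroup (GL ι F)}

theorem UnitSetting.nonempty (h : UnitSetting σ G H) : Nonempty ι :=
  Fintype.card_pos_iff.1 (by have := h.three; omega)

/-- A form with entries in a subfield takes its values there. -/
theorem rational_of_entries {F₁ : Subfield F} {P : GL ι F} {ζ : F} {G₁ : Matrix ι ι F}
    (hG₁ : Entries F₁ G₁) (h : ζ • act σ G (mat P) = G₁) : IsFormRationalStructure (formG σ G) F₁ ζ P := by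
  intro u v hu hv
  show ζ * formG σ G (mat P *ᵥ u) (mat P *ᵥ v) ∈ F₁
  rw [formG_mulVec, ← formG_smul, h]
  simp only [formG, dotProduct, Matrix.mulVec]
  exact Subfield.sum_mem _ fun a _ => mul_mem (hu a)
    (Subfield.sum_mem _ fun b _ => mul_mem (hG₁ a b) (map_mem_of_card σ (hv b)))

/-- A symmetric matrix with zero diagonal in characteristic two is alternating. -/
theorem alt_of_diag (h2 : (2 : F) = 0) {A : Matrix ι ι F} (hs : Aᵀ = A) (hd : ∀ i, A i i = 0) (v : ι → F) :
    formG (RingEquiv.refl F) A v v = 0 := by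
  have hf := isSesq_formG (RingEquiv.refl F) A
  refine sq_additive_ext (fun w => formG (RingEquiv.refl F) A w w) (fun u w => ?_) (fun c w => ?_) (fun i => ?_) v
  · have h1 : formG (RingEquiv.refl F) A w u = formG (RingEquiv.refl F) A u w := by
      show w ⬝ᵥ (A *ᵥ u) = u ⬝ᵥ (A *ᵥ w)
      rw [Matrix.dotProduct_mulVec, ← Matrix.mulVec_transpose, hs, dotProduct_comm]
    show _ = _
    rw [hf.add_left, hf.add_right, hf.add_right, h1]
    linear_combination (formG (RingEquiv.refl F) A u w) * h2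
  · show _ = _
    rw [hf.smul_left, hf.smul_right, RingEquiv.refl_apply]
    ring
  · rw [formG_single]; exact hd i

/-- A form defined over the fixed field. -/
theorem index_two_member (h : UnitSetting σ G H) {P : GL ι F} {lam : F} {G₁ : Matrix ι ι F} (hlam : lam ≠ 0)
    (hG₁ : Entries (fixF σ) G₁) (hP : act σ G (mat P) = lam • G₁) (hle : H ≤ subfieldSubgroup (fixF σ) P)
    (hdiag : (2 : F) = 0 → ∀ i, G₁ i i = 0) : UnitMember σ G H := by
  haveI := h.nonempty
  have hrg := h.rg.act' P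
  rw [hP] at hrg
  have hd : G₁.det ≠ 0 := fun e => hrg.det (by rw [Matrix.det_smul, e, mul_zero])
  have hmap : G₁.map σ = G₁ := Matrix.ext fun i j => hG₁ i j
  have hs : G₁ᵀ = (σ lam / lam) • G₁ := by
    have h1 := hrg.symm
    rw [one_smul, Matrix.transpose_smul, show (lam • G₁).map σ = σ lam • G₁.map σ from
      Matrix.ext fun i j => by simp, hmap] at h1
    rw [← inv_smul_smul₀ hlam G₁ᵀ, h1, smul_smul, div_eq_inv_mul]
  have alt : σ lam = -lam → (∀ v, formG (RingEquiv.refl F) G₁ v v = 0) → UnitMember σ G H := by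
    intro hlσ halt
    have hsk : G₁ᵀ = -G₁ := by rw [hs, hlσ, neg_div, div_self hlam, neg_one_smul]
    refine UnitMember.sympSub (ζ := lam⁻¹) ?_ (card_fixF h.bar) (inv_ne_zero hlam) ?_
      (rational_of_entries hG₁ (by rw [hP, inv_smul_smul₀ hlam])) (fun u hu => ?_) hle
    · by_contra hodd
      refine hd (det_eq_zero_of_alt (Nat.not_even_iff_odd.1 hodd) hsk fun i => ?_)
      rw [← formG_single (RingEquiv.refl F) G₁ i i]
      exact halt _
    · rw [map_inv₀, hlσ, inv_neg, add_neg_cancel]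
    · rw [formG_mulVec, hP, formG_smul]
      refine mul_eq_zero_of_right _ (Eq.trans ?_ (halt u))
      show u ⬝ᵥ (G₁ *ᵥ fun i => σ (u i)) = u ⬝ᵥ (G₁ *ᵥ fun i => RingEquiv.refl F (u i))
      congr 2
      funext i
      exact hu i
  by_cases h2 : (2 : F) = 0
  · have hneg : ∀ x : F, -x = x := fun x => by linear_combination -x * h2
    rcases sign_of_transpose hd hs with e | e
    all_goals
      rw [div_eq_iff hlam] at e
      refine alt (by first | (rw [e, one_mul, hneg]) | (rw [e, neg_one_mul])) fun v => alt_of_diag h2 ?_ (hdiag h2) v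
      rw [hs, e]
      first
        | rw [one_mul, div_self hlam, one_smul]
        | rw [neg_one_mul, neg_div, div_self hlam, hneg, one_smul]
  rcases sign_of_transpose hd hs with e | e <;> rw [div_eq_iff hlam] at e
  · rw [one_mul] at e
    exact UnitMember.orthSub (odd_of_two_ne_zero h2) (card_fixF h.bar)
      (rational_of_entries (G₁ := lam • G₁) (fun i j => mul_mem (mem_fixF.2 e) (hG₁ i j)) (by rw [one_smul, hP])) hle
  · rw [neg_one_mul] at e
    refine alt e fun v => alt_of_skew h2 ?_ v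
    rw [hs, e, neg_div, div_self hlam, neg_one_smul]

/-- A form defined over a subfield of odd index. -/
theorem odd_member (h : UnitSetting σ G H) {F₁ : Subfield F} {l : ℕ} (hl : l.Prime) (ho : Odd l)
    (hc : Fintype.card F = Nat.card F₁ ^ l) {P : GL ι F} {lam : F} {G₁ : Matrix ι ι F} (hlam : lam ≠ 0)
    (hG₁ : Entries F₁ G₁) (hP : act σ G (mat P) = lam • G₁) (hle : H ≤ subfieldSubgroup F₁ P) :
    UnitMember σ G H := by
  haveI := h.nonempty
  have hrg := h.rg.act' P
  rw [hP] at hrg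
  obtain ⟨i, j, hij⟩ : ∃ i j, G₁ i j ≠ 0 := by
    by_contra hcon
    push Not at hcon
    exact hrg.det (by rw [show G₁ = 0 from Matrix.ext hcon, smul_zero, Matrix.det_zero])
  have hent : ∀ a b, lam * G₁ b a = σ lam * σ (G₁ a b) := fun a b => by
    have h1 := congrFun (congrFun hrg.symm a) b
    simpa using h1
  obtain ⟨μ, hμ, hμF, hμμ⟩ : ∃ μ, σ lam = μ * lam ∧ μ ∈ F₁ ∧ μ * σ μ = 1 := by
    refine ⟨σ lam / lam, (div_mul_cancel₀ _ hlam).symm, ?_, ?_⟩
    · rw [show σ lam / lam = G₁ j i / σ (G₁ i j) by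
        rw [div_eq_div_iff hlam ((map_ne_zero σ).2 hij)]; linear_combination -hent i j]
      exact div_mem (hG₁ j i) (map_mem_of_card σ (hG₁ i j))
    · rw [map_div₀, h.bar.involutive]
      have := (map_ne_zero σ).2 hlam
      field_simp
  obtain ⟨ν, hν, hν0, hνσ⟩ : ∃ ν ∈ F₁, ν ≠ 0 ∧ σ ν = μ * ν := by
    have key : ∀ y ∈ F₁, σ (y + σ y * σ μ) = μ * (y + σ y * σ μ) := fun y _ => by
      rw [map_add, map_mul, h.bar.involutive, h.bar.involutive]
      linear_combination -σ y * hμμ
    by_contra hcon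
    push Not at hcon
    have hz : ∀ y ∈ F₁, y + σ y * σ μ = 0 := fun y hy => by
      by_contra h0
      exact hcon _ (add_mem hy (mul_mem (map_mem_of_card σ hy) (map_mem_of_card σ hμF))) h0 (key y hy)
    have h1 := hz 1 (one_mem _)
    rw [map_one, one_mul] at h1
    obtain ⟨y, hy, hmov⟩ := exists_moved_sub h.bar hl ho hc
    exact hmov (by linear_combination σ y * h1 - hz y hy)
  set lam' := lam / ν with hlam'
  have hl' : σ lam' = lam' := by
    have : μ ≠ 0 := left_ne_zero_of_mul_eq_one hμμ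
    rw [hlam', map_div₀, hμ, hνσ]
    field_simp
  obtain ⟨c, hcn⟩ := h.bar.norm lam'⁻¹ (by rw [map_inv₀, hl'])
  have hc0 : c ≠ 0 := fun e => inv_ne_zero (div_ne_zero hlam hν0) (by rw [← hlam', ← hcn, e, zero_mul])
  have hPc : act σ G (mat (sc c hc0 * P)) = ν • G₁ := by
    rw [show mat (sc c hc0 * P) = c • mat P by
      rw [show mat (sc c hc0 * P) = mat (sc c hc0 : GL ι F) * mat P from Units.val_mul _ _, mat_sc, Matrix.smul_mul,
        one_mul], act_sc, hP, hcn, smul_smul, hlam', inv_div, div_mul_cancel₀ _ hlam]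
  refine UnitMember.oddSub hl ho hc
    (rational_of_entries (G₁ := ν • G₁) (fun a b => mul_mem hν (hG₁ a b)) (by rw [one_smul, hPc])) ?_
  rwa [subfieldSubgroup_scalar_mul (sc_mem hc0)]

/-- A normal subgroup realised over a proper subfield. -/
theorem UnitSetting.subfield_member (h : UnitSetting σ G H) {N : Subgroup (GL ι F)}
    (hN : ActsAbsolutelyIrreducibly (matrixSet N)) (hn : Normalised H N) {F₀ : Subfield F} (hF₀ : F₀ ≠ ⊤)
    (hr : RealisableOver F₀ (matrixSet N))
    (hν : ∀ g ∈ N, ∃ c : F, c ≠ 0 ∧ act σ G (mat g) = c • G ∧ (c = 1 ∨ ∃ z ∈ N, mat z = c • 1)) :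
    UnitMember σ G H := by
  classical
  haveI := h.nonempty
  obtain ⟨B, hB⟩ := realisable_mat.1 hr
  obtain ⟨F₁, l, hl, hc, hB₁, hle⟩ := le_subfield hN hn hF₀ hB
  set G' := act σ G (mat B⁻¹) with hG'
  have hrg := h.rg.act' B⁻¹
  rw [← hG'] at hrg
  have hE : ∀ g ∈ conjGrp B N, Entries F₁ (mat g) := by
    rintro _ ⟨g, hg, rfl⟩
    exact hB₁ g hg
  have hsim : ∀ g ∈ conjGrp B N, ∃ c : F, c ≠ 0 ∧ c ∈ F₁ ∧ act σ G' (mat g) = c • G' := by
    rintro _ ⟨g, hg, rfl⟩
    obtain ⟨c, hc0, hcg, hcase⟩ := hν g hg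
    refine ⟨c, hc0, ?_, ?_⟩
    · rcases hcase with rfl | ⟨z, hz, hzc⟩
      · exact one_mem _
      · obtain ⟨i⟩ := h.nonempty
        have h1 := hB₁ z hz i i
        rwa [show mat (B * z * B⁻¹) = mat B * mat z * mat B⁻¹ by simp only [mat, Units.val_mul], hzc, Matrix.mul_smul,
          mul_one, Matrix.smul_mul, mat_mul_inv, Matrix.smul_apply, Matrix.one_apply_eq, smul_eq_mul, mul_one] at h1
    · have e : mat B⁻¹ * mat ((MulAut.conj B).toMonoidHom g) = mat g * mat B⁻¹ := by
        simp only [mat, ← Units.val_mul]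
        congr 1
        simp [mul_assoc]
      rw [hG', ← act_mul, e, act_mul, hcg, act_smul]
  choose! ν hν0 hνF hνact using hsim
  obtain ⟨lam, G₁, hlam, hG₁, heq⟩ := rational_similitude (abs_conj hN B) hE hrg.det
    (fun g hg => ⟨hν0 g hg, hνF g hg⟩) hνact
  have hP : act σ G (mat B⁻¹) = lam • G₁ := hG'.symm.trans heq
  rcases hl.eq_two_or_odd' with rfl | ho
  swap
  · exact odd_member h hl ho hc hlam hG₁ hP hle
  have hF₁ : F₁ = fixF σ := by
    have h1 : Nat.card F₁ = Nat.card (fixF σ) :=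
      Nat.pow_left_injective two_ne_zero (hc.symm.trans (card_fixF h.bar))
    ext x
    rw [mem_iff_pow_card, mem_iff_pow_card, h1]
  subst hF₁
  refine index_two_member h hlam hG₁ hP hle fun h2 i => ?_
  have hmap : ∀ A : Matrix ι ι F, Entries (fixF σ) A → A.map σ = A := fun A hA => Matrix.ext fun a b => hA a b
  have hs1 : G₁ᵀ = G₁ := by
    have h1 := hrg.symm
    rw [heq, one_smul, Matrix.transpose_smul,
      show (lam • G₁).map σ = σ lam • G₁.map σ from Matrix.ext fun a b => by simp, hmap G₁ hG₁] at h1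
    have hs : G₁ᵀ = (σ lam / lam) • G₁ := by
      rw [← inv_smul_smul₀ hlam G₁ᵀ, h1, smul_smul, div_eq_inv_mul]
    have hd : G₁.det ≠ 0 := fun e => hrg.det (by rw [heq, Matrix.det_smul, e, mul_zero])
    rcases sign_of_transpose hd hs with e | e
    · rw [hs, e, one_smul]
    · rw [hs, e, show (-1 : F) = 1 by linear_combination -h2, one_smul]
  have hf := isSesq_formG (RingEquiv.refl F) G₁
  have h1 := sq_additive_zero h2 (by have := h.three; omega) (a := fun x : conjGrp B N => mat x.1)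
    (fun W hW => (abs_iff.1 (abs_conj hN B)).1 W fun x hx => hW ⟨x, hx⟩)
    (fun v => formG (RingEquiv.refl F) G₁ v v) (fun u w => ?_) (fun c w => ?_) (fun x w hw => ?_) (Pi.single i 1)
  · rwa [formG_single] at h1
  · have e : formG (RingEquiv.refl F) G₁ w u = formG (RingEquiv.refl F) G₁ u w := by
      show w ⬝ᵥ (G₁ *ᵥ u) = u ⬝ᵥ (G₁ *ᵥ w)
      rw [Matrix.dotProduct_mulVec, ← Matrix.mulVec_transpose, hs1, dotProduct_comm]
    rw [hf.add_left, hf.add_right, hf.add_right, e]
    linear_combination (formG (RingEquiv.refl F) G₁ u w) * h2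
  · rw [hf.smul_left, hf.smul_right, RingEquiv.refl_apply]; ring
  · have e := hνact x.1 x.2
    rw [heq, act_smul, smul_comm] at e
    have e' : act (RingEquiv.refl F) G₁ (mat x.1) = ν x.1 • G₁ := by
      rw [act, map_refl_eq]
      conv_lhs => arg 2; rw [← hmap _ (hE x.1 x.2)]
      exact smul_right_injective _ hlam e
    rw [formG_mulVec, e', formG_smul, hw, mul_zero]

theorem act_permM {t m : ℕ} (τ : F ≃+* F) (A : Matrix (Fin m) (Fin m) F) (π : Equiv.Perm (Fin t)) :
    act τ (pureM fun _ : Fin t => A) (permM π) = pureM fun _ : Fin t => A := by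
  have hmap : (permM π : Matrix (Fin t → Fin m) (Fin t → Fin m) F).map τ = permM π := by
    ext x y
    simp only [Matrix.map_apply, permM, Matrix.of_apply]
    split_ifs <;> simp
  ext a b
  rw [act, hmap, Matrix.mul_apply, Finset.sum_eq_single (b ∘ π.symm)]
  · rw [Matrix.mul_apply, Finset.sum_eq_single (a ∘ π.symm)]
    · simp only [Matrix.transpose_apply, permM, Matrix.of_apply, Function.comp_assoc, Equiv.symm_comp_self,
        Function.comp_id, if_true, one_mul, mul_one, pureM]
      exact Equiv.prod_comp π.symm fun i => A (a i) (b i)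
    · intro x _ hx
      simp only [Matrix.transpose_apply, permM, Matrix.of_apply]
      rw [if_neg fun e => hx (by rw [e, Function.comp_assoc, Equiv.self_comp_symm, Function.comp_id]), zero_mul]
    · simp
  · intro x _ hx
    simp only [permM, Matrix.of_apply]
    rw [if_neg fun e => hx (by rw [e, Function.comp_assoc, Equiv.self_comp_symm, Function.comp_id]), mul_zero]
  · simp

/-- Products of factors of dimension two are defined over the fixed field. -/
theorem UnitSetting.two_member (h : UnitSetting σ G H) {t : ℕ} (ht : 0 < t) {e : ι ≃ (Fin t → Fin 2)} {P : GL ι F}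
    {c : F} (hc : c ≠ 0) (hle : H ≤ tensorWreathSubgroup 2 t e P) (hfr : frG σ e P G = c • 1) :
    UnitMember σ G H := by
  classical
  haveI := h.nonempty
  obtain ⟨κ, hκ, hκs⟩ := exists_skew_scalar h.bar
  set J : Matrix (Fin 2) (Fin 2) F := !![0, 1; -1, 0] with hJ
  have hJdet : (κ • J).det ≠ 0 := by
    rw [Matrix.det_smul, hJ, Matrix.det_fin_two]
    simp [hκ]
  obtain ⟨U, hU⟩ := herm_congr_one h.bar hJdet (by
    ext i j
    fin_cases i <;> fin_cases j <;> simp [hJ, hκs])
  have hV : act σ 1 (mat U⁻¹) = κ • J := by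
    rw [← hU, ← act_mul, mat_mul_inv]
    simp [act]
  set S : GL (Fin t → Fin 2) F := pureU fun _ => U⁻¹ with hS
  have hfr' : frG σ e (fr e P S * P) G = (c * κ ^ t) • pureM fun _ : Fin t => J := by
    rw [frG_change, hfr, ← pureM_one, show mat S = pureM fun _ : Fin t => mat U⁻¹ from rfl, act_pureM, ← smul_smul]
    congr 1
    ext x y
    simp only [pureM, Matrix.of_apply, Pi.one_apply, hV, Matrix.smul_apply, smul_eq_mul, Finset.prod_mul_distrib,
      Finset.prod_const, Finset.card_univ, Fintype.card_fin]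
  have hle' : H ≤ tensorWreathSubgroup 2 t e (fr e P S * P) :=
    wreath_change (Subgroup.subset_closure (Or.inl ⟨fun _ => U⁻¹, fun _ _ => rfl⟩)) hle
  set P' := fr e P S * P with hP'
  set J' : Matrix (Fin t → Fin 2) (Fin t → Fin 2) F := pureM fun _ => J with hJ'
  have hJm : ∀ a b, σ (J a b) = J a b := fun a b => by fin_cases a <;> fin_cases b <;> simp [hJ]
  have hJ'u : IsUnit J' := by
    refine isUnit_of_det fun e0 => (h.rg.frame e P').det ?_
    rw [hfr', Matrix.det_smul, e0, mul_zero]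
  refine index_two_member h (P := P') (lam := c * κ ^ t) (G₁ := J'.submatrix e e) (mul_ne_zero hc (pow_ne_zero _ hκ))
    (fun a b => mem_fixF.2 ?_) ?_ ?_ fun _ i => ?_
  · simp only [Matrix.submatrix_apply, hJ', pureM, Matrix.of_apply, map_prod, hJm]
  · have h1 := congrArg (fun X : Matrix (Fin t → Fin 2) (Fin t → Fin 2) F => X.submatrix e e) hfr'
    simpa [frG, Matrix.submatrix_smul] using h1
  · intro g hg
    obtain ⟨M, hM, rfl⟩ := (map_fr_eq_wreath e P').ge (hle' hg)
    have hσ1 : act σ J' (mat M) = J' := by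
      have h1 : act σ (frG σ e P' G) (mat M) = frG σ e P' G := fixes_comap e P' h.fix M hg
      rw [hfr', act_smul] at h1
      exact smul_right_injective _ (mul_ne_zero hc (pow_ne_zero _ hκ)) h1
    obtain ⟨gs, π, rfl⟩ := mem_standard hM
    set δ : F := ∏ l, (mat (gs l)).det with hδ
    have hdet2 : ∀ A : Matrix (Fin 2) (Fin 2) F, act (RingEquiv.refl F) J A = A.det • J := fun A => by
      rw [act, map_refl_eq]
      ext a b
      fin_cases a <;> fin_cases b <;> simp [hJ, Matrix.mul_apply, Matrix.det_fin_two] <;> ring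
    have h2 : act (RingEquiv.refl F) J' (mat (pureU gs * permU π)) = δ • J' := by
      rw [show mat (pureU gs * permU π) = pureM (fun l => mat (gs l)) * permM π from rfl, act_mul, hJ',
        ← one_smul F (pureM fun _ : Fin t => J), act_pureM, one_smul]
      rw [show (pureM fun l => act (RingEquiv.refl F) J (mat (gs l))) = δ • pureM fun _ : Fin t => J from
        Matrix.ext fun x y => by simp [pureM, hdet2, hδ, Finset.prod_mul_distrib],
        act_smul, act_permM, one_smul]
    generalize hMdef : (pureU gs * permU π : GL (Fin t → Fin 2) F) = M at hσ1 h2 ⊢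
    have hδM : mat M = δ • (mat M).map σ := by
      have hu : IsUnit ((mat M)ᵀ * J') := (isUnit_transpose M.isUnit).mul hJ'u
      refine hu.mul_left_cancel ?_
      rw [Matrix.mul_smul, show (mat M)ᵀ * J' * (mat M).map σ = J' from hσ1]
      rw [show (mat M)ᵀ * J' * mat M = δ • J' by rw [← h2, act, map_refl_eq]]
    have hmm : ((mat M).map σ).map σ = mat M := Matrix.ext fun a b => h.bar.involutive _
    have hδn : δ * σ δ = 1 := by
      have h3 := congrArg (fun X : Matrix (Fin t → Fin 2) (Fin t → Fin 2) F => X.map σ) hδM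
      simp only [show (δ • (mat M).map σ).map σ = σ δ • ((mat M).map σ).map σ from
        Matrix.ext fun a b => by simp, hmm] at h3
      rw [h3, smul_smul] at hδM
      exact (smul_mat_cancel (ne_zero_of_det ((Matrix.isUnit_iff_isUnit_det _).1 M.isUnit).ne_zero)
        ((one_smul F _).trans hδM)).symm
    obtain ⟨z, hz, hzδ⟩ := exists_quot h.bar hδn
    refine mem_subfieldSubgroup (c := z) (X := (z⁻¹ • mat M).submatrix e e) (fun a b => mem_fixF.2 ?_) ?_
    · have h3 := congrFun (congrFun hδM (e a)) (e b)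
      simp only [Matrix.smul_apply, Matrix.map_apply, smul_eq_mul] at h3
      simp only [Matrix.submatrix_apply, Matrix.smul_apply, smul_eq_mul, map_mul, map_inv₀]
      have := (map_ne_zero σ).2 hz
      field_simp
      first
        | linear_combination (σ (mat M (e a) (e b))) * hzδ - σ z * h3
        | linear_combination -(σ (mat M (e a) (e b))) * hzδ + σ z * h3
    · rw [show P'⁻¹ * (fr e P').toMonoidHom M * P' = P'⁻¹ * (fr e P' M) * P' from rfl]
      show mat P'⁻¹ * (mat P' * (mat M).submatrix e e * mat P'⁻¹) * mat P' = _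
      rw [← mul_assoc (mat P'⁻¹), ← mul_assoc (mat P'⁻¹), mat_inv_mul, one_mul, mul_assoc, mat_inv_mul, mul_one]
      ext a b
      simp [hz]
  · simp only [Matrix.submatrix_apply, hJ', pureM, Matrix.of_apply]
    refine Finset.prod_eq_zero (Finset.mem_univ (⟨0, ht⟩ : Fin t)) ?_
    generalize e i (⟨0, ht⟩ : Fin t) = a
    fin_cases a <;> simp [hJ]

end Cfsg.Agent.Asch
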