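import Cfsg.Agent.Asch.UnitBasic

/-!
Two unitary factors of dimension three over four elements: the normal extraspecial group of order 243.
-/

set_option autoImplicit false
set_option linter.unusedSectionVars false

namespace Cfsg.Agent.Asch

open Matrix Cfsg.Geo Cfsg.Agent.PrimeDim
open scoped MatrixGroups Kronecker

namespace Three

abbrev Z := ZMod 3
abbrev I2 := Fin 2 → Z

variable {F : Type*} [Field F]

/-- The data of a cube root of unity in characteristic two. -/
structure Root (σ : F ≃+* F) (ω : F) : Prop where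
  two : (2 : F) = 0
  eqn : ω * ω + ω + 1 = 0
  conj : ∀ x, σ x = x * x
  all : ∀ x : F, x = 0 ∨ x = 1 ∨ x = ω ∨ x = ω * ω

variable {σ : F ≃+* F} {ω : F}

/-- Powers of the root with exponents modulo three. -/
def pw (ω : F) (a : Z) : F := ω ^ a.val

theorem Root.cube (h : Root σ ω) : ω ^ 3 = 1 := by linear_combination (ω - 1) * h.eqn

theorem Root.pw_add (h : Root σ ω) (a b : Z) : pw ω (a + b) = pw ω a * pw ω b := by
  rw [pw, pw, pw, ← pow_add, ZMod.val_add]
  exact (pow_eq_pow_mod (a.val + b.val) h.cube).symm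

theorem Root.pw_ne (h : Root σ ω) (a : Z) : pw ω a ≠ 0 :=
  pow_ne_zero _ fun e => one_ne_zero (α := F) (by rw [← h.cube, e]; ring)

theorem pw_zero : pw ω 0 = 1 := by simp [pw]

theorem Root.pw_one (h : Root σ ω) {a : Z} (ha : pw ω a = 1) : a = 0 := by
  have h2 := h.two
  have he := h.eqn
  have h3 : (3 : F) = 1 := by linear_combination h2
  rcases (show ∀ a : Z, a = 0 ∨ a = 1 ∨ a = 2 by decide) a with rfl | rfl | rfl
  · rfl
  · exfalso
    rw [pw, show (1 : Z).val = 1 from rfl, pow_one] at ha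
    rw [ha] at he
    exact one_ne_zero (α := F) (by linear_combination he - h2)
  · exfalso
    rw [pw, show (2 : Z).val = 2 from rfl] at ha
    have h1 : ω = 1 := by linear_combination h.cube - ω * ha
    rw [h1] at he
    exact one_ne_zero (α := F) (by linear_combination he - h2)

theorem Root.pw_inj (h : Root σ ω) {a b : Z} (hab : pw ω a = pw ω b) : a = b := by
  have h1 := h.pw_add (a - b) b
  rw [sub_add_cancel, hab] at h1
  exact sub_eq_zero.1 (h.pw_one (mul_right_cancel₀ (h.pw_ne b) ((one_mul _).trans h1)).symm)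

theorem Root.exists_pw (h : Root σ ω) {x : F} (hx : x ≠ 0) : ∃ a, x = pw ω a := by
  rcases h.all x with e | e | e | e
  · exact absurd e hx
  · exact ⟨0, by rw [e, pw_zero]⟩
  · exact ⟨1, by rw [e, pw, show (1 : Z).val = 1 from rfl, pow_one]⟩
  · exact ⟨2, by rw [e, pw, show (2 : Z).val = 2 from rfl, pow_two]⟩

theorem Root.norm (h : Root σ ω) {x : F} (hx : x ≠ 0) : x * σ x = 1 := by
  obtain ⟨a, rfl⟩ := h.exists_pw hx
  rw [h.conj, ← h.pw_add, ← h.pw_add, show a + (a + a) = 0 from (show ∀ a : Z, a + (a + a) = 0 by decide) a, pw_zero]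

theorem Root.distinct (h : Root σ ω) {a b c : Z} (hs : pw ω a + pw ω b + pw ω c = 0) : a ≠ b ∧ b ≠ c ∧ a ≠ c := by
  refine ⟨?_, ?_, ?_⟩
  · rintro rfl; exact h.pw_ne c (by linear_combination hs - pw ω a * h.two)
  · rintro rfl; exact h.pw_ne a (by linear_combination hs - pw ω b * h.two)
  · rintro rfl; exact h.pw_ne b (by linear_combination hs - pw ω a * h.two)

/-- One monomial factor. -/
def M1 (ω : F) (z u w : Z) : Matrix Z Z F := Matrix.of fun x y => if y = x + w then pw ω (z + u * x) else 0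

theorem M1_mul (ω : F) (z u w : Z) (A : Matrix Z Z F) (x y : Z) :
    (M1 ω z u w * A) x y = pw ω (z + u * x) * A (x + w) y := by
  rw [Matrix.mul_apply, Finset.sum_eq_single (x + w) (fun b _ hb => by simp [M1, hb]) (by simp)]
  simp [M1]

theorem mul_M1 (ω : F) (z u w : Z) (A : Matrix Z Z F) (x y : Z) :
    (A * M1 ω z u w) x y = A x (y - w) * pw ω (z + u * (y - w)) := by
  rw [Matrix.mul_apply, Finset.sum_eq_single (y - w) (fun b _ hb => by
    simp only [M1, Matrix.of_apply]; rw [if_neg fun e => hb (by rw [e]; ring), mul_zero]) (by simp)]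
  simp [M1]

theorem Root.M1_scalar (h : Root σ ω) (z u w : Z) : M1 ω z u w = pw ω z • M1 ω 0 u w := by
  ext x y
  simp only [M1, Matrix.of_apply, Matrix.smul_apply, smul_eq_mul, zero_add, h.pw_add]
  split_ifs <;> ring

/-- Matrices normalising the monomial factor. -/
def Nrm (ω : F) (A : Matrix Z Z F) : Prop := ∀ u w, ∃ z' u' w', A * M1 ω 0 u w = M1 ω z' u' w' * A

theorem quad_diff : ∀ (c : Z → Z) (w : Z), ∃ k m : Z, ∀ y, c (y + w) = c y + k + m * y := by decide +kernel

theorem affine_of_inj : ∀ π : Z → Z, Function.Injective π → ∃ α β : Z, α * α = 1 ∧ ∀ y, π y = α * y + β := by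
  decide +kernel

theorem two_columns : ∀ p s : Z → Z, Function.Injective p → Function.Injective s →
    Function.Injective (fun i => s i - p i) →
    ∃ β α γ : Z, β * β = 1 ∧ ∀ i, p i = α + β * i ∧ s i = γ + 2 * β * i := by decide +kernel

theorem Root.nrm_mono (h : Root σ ω) {A : Matrix Z Z F} (π : Z → Z) (c : Z → Z) (hπ : Function.Injective π)
    (hA : ∀ x y, A x y = if x = π y then pw ω (c y) else 0) : Nrm ω A := by
  intro u w
  obtain ⟨α, β, hα, hab⟩ := affine_of_inj π hπ
  obtain ⟨k, m, hkm⟩ := quad_diff c w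
  refine ⟨-k - α * (u - m) * β, α * (u - m), α * w, Matrix.ext fun x y => ?_⟩
  rw [mul_M1, M1_mul, hA, hA]
  obtain ⟨t, rfl⟩ : ∃ t, y = t + w := ⟨y - w, (sub_add_cancel y w).symm⟩
  rw [add_sub_cancel_right, hab, hab]
  by_cases hx : x = α * t + β
  · subst hx
    rw [if_pos rfl, if_pos (by ring), ← h.pw_add, ← h.pw_add]
    congr 1
    rw [hkm]
    linear_combination (-(u - m) * t) * hα
  · rw [if_neg hx, if_neg fun e => hx (by linear_combination e), zero_mul, mul_zero]

theorem Root.nrm_fourier (h : Root σ ω) {A : Matrix Z Z F} {β : Z} (hβ : β * β = 1)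
    (hA : ∀ x y, A x y = pw ω (β * x * y)) : Nrm ω A := by
  intro u w
  refine ⟨-(u * w), -(β * w), β * u, Matrix.ext fun x y => ?_⟩
  rw [mul_M1, M1_mul, hA, hA, ← h.pw_add, ← h.pw_add]
  congr 1
  linear_combination (-u * y) * hβ

theorem Root.nrm_mul (h : Root σ ω) {A B : Matrix Z Z F} (hA : Nrm ω A) (hB : Nrm ω B) : Nrm ω (A * B) := by
  intro u w
  obtain ⟨z', u', w', e⟩ := hB u w
  obtain ⟨z'', u'', w'', e'⟩ := hA u' w'
  refine ⟨z' + z'', u'', w'', ?_⟩
  rw [Matrix.mul_assoc, e, h.M1_scalar z' u' w', Matrix.smul_mul, Matrix.mul_smul, ← Matrix.mul_assoc, e',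
    h.M1_scalar z'' u'' w'', h.M1_scalar (z' + z'') u'' w'']
  simp only [Matrix.smul_mul, smul_smul, h.pw_add, Matrix.mul_assoc]

/-- The unitary matrices of degree three normalise the monomial factor. -/
theorem Root.nrm_unitary (h : Root σ ω) {A : Matrix Z Z F} (hA : Aᵀ * A.map σ = 1) : Nrm ω A := by
  classical
  have hent : ∀ j l, A 0 j * σ (A 0 l) + A 1 j * σ (A 1 l) + A 2 j * σ (A 2 l) = if j = l then 1 else 0 := fun j l => by
    have h1 := congrFun (congrFun hA j) l
    rw [Matrix.mul_apply, Matrix.one_apply] at h1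
    exact (Fin.sum_univ_three (fun i : Fin 3 => Aᵀ j i * A.map σ i l)).symm.trans h1
  by_cases hfull : ∀ x y, A x y ≠ 0
  · choose e he using fun x y => h.exists_pw (hfull x y)
    have hd : ∀ j l, j ≠ l → ∀ i i', e i j + 2 * e i l = e i' j + 2 * e i' l → i = i' := by
      intro j l hjl
      have h1 := hent j l
      rw [if_neg hjl] at h1
      simp only [he, h.conj, ← h.pw_add] at h1
      obtain ⟨n1, n2, n3⟩ := h.distinct h1
      intro i i' hii
      rcases (show ∀ a : Z, a = 0 ∨ a = 1 ∨ a = 2 by decide) i with rfl | rfl | rfl <;>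
        rcases (show ∀ a : Z, a = 0 ∨ a = 1 ∨ a = 2 by decide) i' with rfl | rfl | rfl <;>
        first
          | rfl
          | (exfalso; first
              | exact n1 (by linear_combination hii) | exact n2 (by linear_combination hii)
              | exact n3 (by linear_combination hii) | exact n1 (by linear_combination -hii)
              | exact n2 (by linear_combination -hii) | exact n3 (by linear_combination -hii))
    have three : (3 : Z) = 0 := rfl
    obtain ⟨β, α, γ, hβ, hps⟩ := two_columns (fun i => e i 1 - e i 0) (fun i => e i 2 - e i 0)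
      (fun i i' hh => hd 1 0 (by decide) i i' (by linear_combination hh + (e i 0 - e i' 0) * three))
      (fun i i' hh => hd 2 0 (by decide) i i' (by linear_combination hh + (e i 0 - e i' 0) * three))
      fun i i' hh => hd 2 1 (by decide) i i' (by linear_combination hh + (e i 1 - e i' 1) * three)
    let D₁ : Matrix Z Z F := Matrix.of fun x y => if x = y then pw ω (e y 0) else 0
    let c : Z → Z := fun y => if y = 0 then 0 else if y = 1 then α else γ
    let D₂ : Matrix Z Z F := Matrix.of fun x y => if x = y then pw ω (c y) else 0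
    let U : Matrix Z Z F := Matrix.of fun x y => pw ω (β * x * y)
    have hAd : A = D₁ * U * D₂ := by
      ext x y
      rw [Matrix.mul_apply, Finset.sum_eq_single y (fun b _ hb => by simp [D₂, hb]) (by simp), Matrix.mul_apply,
        Finset.sum_eq_single x (fun b _ hb => by simp [D₁, Ne.symm hb]) (by simp)]
      simp only [D₁, D₂, U, Matrix.of_apply, if_true, ← h.pw_add, he]
      congr 1
      obtain ⟨hp, hs⟩ := hps x
      rcases (show ∀ a : Z, a = 0 ∨ a = 1 ∨ a = 2 by decide) y with rfl | rfl | rfl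
      · simp [c]
      · simp only [c, show (1 : Z) ≠ 0 by decide, if_false, if_true]
        linear_combination hp
      · simp only [c, show (2 : Z) ≠ 0 by decide, show (2 : Z) ≠ 1 by decide, if_false]
        linear_combination hs
    rw [hAd]
    exact h.nrm_mul (h.nrm_mul (h.nrm_mono id _ Function.injective_id fun x y => rfl)
      (h.nrm_fourier hβ fun x y => rfl)) (h.nrm_mono id _ Function.injective_id fun x y => rfl)
  · have hn : ∀ x, x = 0 ∨ x * σ x = 1 := fun x => (eq_or_ne x 0).imp_right h.norm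
    have hw : ∀ j i, A i j = 0 → ∃ i', A i' j ≠ 0 ∧ ∀ k, k ≠ i' → A k j = 0 := by
      intro j i hi
      have h1 := hent j j
      rw [if_pos rfl] at h1
      have h5 : ∀ k, A k j = 0 ∨ A k j ≠ 0 := fun k => em _
      rcases h5 0 with a0 | a0 <;> rcases h5 1 with a1 | a1 <;> rcases h5 2 with a2 | a2
      · simp [a0, a1, a2] at h1
      · exact ⟨2, a2, fun k hk => by rcases (show ∀ a : Z, a = 0 ∨ a = 1 ∨ a = 2 by decide) k with rfl | rfl | rfl <;> first | assumption | exact absurd rfl hk⟩
      · exact ⟨1, a1, fun k hk => by rcases (show ∀ a : Z, a = 0 ∨ a = 1 ∨ a = 2 by decide) k with rfl | rfl | rfl <;> first | assumption | exact absurd rfl hk⟩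
      · exfalso
        rw [a0, zero_mul, h.norm a1, h.norm a2] at h1
        exact one_ne_zero (α := F) (by linear_combination h.two - h1)
      · exact ⟨0, a0, fun k hk => by rcases (show ∀ a : Z, a = 0 ∨ a = 1 ∨ a = 2 by decide) k with rfl | rfl | rfl <;> first | assumption | exact absurd rfl hk⟩
      · exfalso
        rw [a1, zero_mul, h.norm a0, h.norm a2] at h1
        exact one_ne_zero (α := F) (by linear_combination h.two - h1)
      · exfalso
        rw [a2, zero_mul, h.norm a0, h.norm a1] at h1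
        exact one_ne_zero (α := F) (by linear_combination h.two - h1)
      · rcases (show ∀ a : Z, a = 0 ∨ a = 1 ∨ a = 2 by decide) i with rfl | rfl | rfl <;> contradiction
    push Not at hfull
    obtain ⟨x₀, j₀, h0⟩ := hfull
    obtain ⟨i₀, hi₀, hz₀⟩ := hw j₀ x₀ h0
    have hall : ∀ j, ∃ i', A i' j ≠ 0 ∧ ∀ k, k ≠ i' → A k j = 0 := by
      intro j
      rcases eq_or_ne j j₀ with rfl | hj
      · exact ⟨i₀, hi₀, hz₀⟩
      refine hw j i₀ ?_
      have h1 := hent j₀ j
      rw [if_neg (Ne.symm hj)] at h1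
      have h5 : A i₀ j₀ * σ (A i₀ j) = 0 := by
        rcases (show ∀ a : Z, a = 0 ∨ a = 1 ∨ a = 2 by decide) i₀ with rfl | rfl | rfl
        · rw [hz₀ 1 (by decide), hz₀ 2 (by decide)] at h1; simpa using h1
        · rw [hz₀ 0 (by decide), hz₀ 2 (by decide)] at h1; simpa using h1
        · rw [hz₀ 0 (by decide), hz₀ 1 (by decide)] at h1; simpa using h1
      exact (map_eq_zero σ).1 ((mul_eq_zero.1 h5).resolve_left hi₀)
    choose π hπ hπ0 using hall
    choose c hc using fun j => h.exists_pw (hπ j)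
    refine h.nrm_mono π c (fun j l hjl => ?_) fun x y => ?_
    · by_contra hne
      have h1 := hent j l
      rw [if_neg hne] at h1
      have k1 := hπ l
      rw [← hjl] at k1
      have h0j := hπ0 j
      rcases (show ∀ a : Z, a = 0 ∨ a = 1 ∨ a = 2 by decide) (π j) with e | e | e <;> rw [e] at k1 h0j
      · rw [h0j 1 (by decide), h0j 2 (by decide)] at h1
        exact mul_ne_zero (e ▸ hπ j) ((map_ne_zero σ).2 k1) (by simpa using h1)
      · rw [h0j 0 (by decide), h0j 2 (by decide)] at h1
        exact mul_ne_zero (e ▸ hπ j) ((map_ne_zero σ).2 k1) (by simpa using h1)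
      · rw [h0j 0 (by decide), h0j 1 (by decide)] at h1
        exact mul_ne_zero (e ▸ hπ j) ((map_ne_zero σ).2 k1) (by simpa using h1)
    · by_cases e : x = π y
      · rw [if_pos e, e, hc]
      · rw [if_neg e, hπ0 y x e]

/-- Two monomial factors. -/
def M2 (ω : F) (z : Z) (u w : I2) : Matrix I2 I2 F :=
  Matrix.of fun x y => if y = x + w then pw ω (z + (u 0 * x 0 + u 1 * x 1)) else 0

theorem Root.M2_mul (h : Root σ ω) (z z' : Z) (u u' w w' : I2) :
    M2 ω z u w * M2 ω z' u' w' = M2 ω (z + z' + (u' 0 * w 0 + u' 1 * w 1)) (u + u') (w + w') := by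
  ext x y
  rw [Matrix.mul_apply, Finset.sum_eq_single (x + w) (fun b _ hb => by simp [M2, hb]) (by simp)]
  simp only [M2, Matrix.of_apply, if_true, Pi.add_apply, add_assoc]
  split_ifs
  · rw [← h.pw_add]
    congr 1
    ring
  · rw [mul_zero]

theorem M2_zero : M2 ω 0 0 0 = 1 := by
  ext x y
  simp [M2, Matrix.one_apply, pw_zero, eq_comm]

theorem Root.M2_inj (h : Root σ ω) {z z' : Z} {u u' w w' : I2} (e : M2 ω z u w = M2 ω z' u' w') :
    z = z' ∧ u = u' ∧ w = w' := by
  have hw : w = w' := by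
    have h1 := congrFun (congrFun e 0) w
    simp only [M2, Matrix.of_apply, zero_add, if_true] at h1
    by_contra hne
    rw [if_neg hne] at h1
    exact h.pw_ne _ h1
  subst hw
  have key : ∀ x : I2, z + (u 0 * x 0 + u 1 * x 1) = z' + (u' 0 * x 0 + u' 1 * x 1) := fun x => by
    have h1 := congrFun (congrFun e x) (x + w)
    simp only [M2, Matrix.of_apply, if_true] at h1
    exact h.pw_inj h1
  have k0 := key 0
  simp at k0
  have k1 := key ![1, 0]
  have k2 := key ![0, 1]
  simp [k0] at k1 k2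
  exact ⟨k0, funext fun i => by fin_cases i <;> assumption, rfl⟩

/-- The extraspecial group of order 243. -/
def grp (h : Root σ ω) : Subgroup (GL I2 F) where
  carrier := {g | ∃ z u w, (g : Matrix I2 I2 F) = M2 ω z u w}
  mul_mem' := by
    rintro a b ⟨z, u, w, ha⟩ ⟨z', u', w', hb⟩
    exact ⟨_, _, _, by rw [Units.val_mul, ha, hb, h.M2_mul]⟩
  one_mem' := ⟨0, 0, 0, by rw [Units.val_one, M2_zero]⟩
  inv_mem' := by
    rintro a ⟨z, u, w, ha⟩
    refine ⟨-z + (u 0 * w 0 + u 1 * w 1), -u, -w, (Units.eq_inv_of_mul_eq_one_left (u := a) (a := M2 ω _ _ _) ?_).symm⟩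
    rw [ha, h.M2_mul, ← M2_zero]
    simp only [neg_add_cancel, add_neg_cancel, Pi.neg_apply]
    congr 1
    ring

/-- The parameters. -/
noncomputable def param (h : Root σ ω) : Z × I2 × I2 ≃ grp h :=
  Equiv.ofBijective (fun p => ⟨⟨M2 ω p.1 p.2.1 p.2.2, M2 ω (-p.1 + (p.2.1 0 * p.2.2 0 + p.2.1 1 * p.2.2 1)) (-p.2.1) (-p.2.2),
      by rw [h.M2_mul, ← M2_zero]; simp only [add_neg_cancel, Pi.neg_apply]; congr 1; ring,
      by rw [h.M2_mul, ← M2_zero]; simp only [neg_add_cancel, Pi.neg_apply]; congr 1; ring⟩, _, _, _, rfl⟩)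
    ⟨fun p q e => by
      obtain ⟨e1, e2, e3⟩ := h.M2_inj (congrArg (fun g : grp h => mat g.1) e)
      exact Prod.ext e1 (Prod.ext e2 e3),
    fun g => by
      obtain ⟨z, u, w, hg⟩ := g.2
      exact ⟨(z, u, w), Subtype.ext (Units.ext hg.symm)⟩⟩

theorem mat_param (h : Root σ ω) (p : Z × I2 × I2) : mat (param h p).1 = M2 ω p.1 p.2.1 p.2.2 := rfl

theorem param_mul (h : Root σ ω) (p q : Z × I2 × I2) :
    param h p * param h q =
      param h (p.1 + q.1 + (q.2.1 0 * p.2.2 0 + q.2.1 1 * p.2.2 1), p.2.1 + q.2.1, p.2.2 + q.2.2) :=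
  Subtype.ext (Units.ext (h.M2_mul _ _ _ _ _ _))

theorem param_comm (h : Root σ ω) (p q : Z × I2 × I2) :
    param h p * param h q = param h q * param h p ↔
      q.2.1 0 * p.2.2 0 + q.2.1 1 * p.2.2 1 = p.2.1 0 * q.2.2 0 + p.2.1 1 * q.2.2 1 := by
  rw [param_mul, param_mul, (param h).apply_eq_iff_eq, Prod.mk.injEq, Prod.mk.injEq, add_comm q.1 p.1,
    add_comm q.2.1 p.2.1, add_comm q.2.2 p.2.2]
  simp

theorem card_grp (h : Root σ ω) : Nat.card (grp h) = 243 := by
  rw [Nat.card_congr (param h).symm]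
  simp [Nat.card_eq_fintype_card]

theorem mem_center_iff (h : Root σ ω) (p : Z × I2 × I2) :
    param h p ∈ Subgroup.center (grp h) ↔ p.2.1 = 0 ∧ p.2.2 = 0 := by
  rw [Subgroup.mem_center_iff]
  refine ⟨fun hc => ?_, fun hp g => ?_⟩
  · have key : ∀ v t : I2, p.2.1 0 * t 0 + p.2.1 1 * t 1 = v 0 * p.2.2 0 + v 1 * p.2.2 1 := fun v t =>
      (param_comm h (0, v, t) p).1 (hc _)
    refine ⟨funext fun i => ?_, funext fun i => ?_⟩
    · fin_cases i
      · simpa using key 0 ![1, 0]
      · simpa using key 0 ![0, 1]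
    · fin_cases i
      · simpa using (key ![1, 0] 0).symm
      · simpa using (key ![0, 1] 0).symm
  · obtain ⟨q, rfl⟩ := (param h).surjective g
    exact ((param_comm h q p).2 (by simp [hp.1, hp.2]))

theorem card_center (h : Root σ ω) : Nat.card (Subgroup.center (grp h)) = 3 := by
  rw [show Nat.card (Subgroup.center (grp h)) = Nat.card Z from Nat.card_congr (Equiv.ofBijective
    (fun z => (⟨param h (z, 0, 0), (mem_center_iff h _).2 ⟨rfl, rfl⟩⟩ : Subgroup.center (grp h)))
    ⟨fun a b e => congrArg Prod.fst ((param h).injective (congrArg Subtype.val e)), fun g => by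
      obtain ⟨⟨z, u, w⟩, hp⟩ := (param h).surjective g.1
      obtain ⟨rfl, rfl⟩ := (mem_center_iff h (z, u, w)).1 (hp ▸ g.2)
      exact ⟨z, Subtype.ext hp⟩⟩).symm]
  simp [Nat.card_eq_fintype_card]

theorem cube_one (h : Root σ ω) (g : grp h) : g ^ 3 = 1 := by
  obtain ⟨⟨z, u, w⟩, rfl⟩ := (param h).surjective g
  rw [pow_succ, pow_two, param_mul, param_mul, ← show param h (0, 0, 0) = 1 from Subtype.ext (Units.ext M2_zero)]
  congr 1
  have h3 : ∀ a : Z, a + a + a = 0 := by decide
  refine Prod.ext ?_ (Prod.ext (funext fun i => h3 _) (funext fun i => h3 _))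
  simp only [Pi.add_apply]
  linear_combination (h3 z) + h3 (u 0 * w 0 + u 1 * w 1)

theorem exists_not_isotropic : ∀ w : I2, w ≠ 0 → ∃ S : I2, S 0 * w 0 * w 0 + S 1 * w 1 * w 1 ≠ 0 := by
  decide +kernel

theorem two_squares : ∀ v : I2, v 0 * v 0 + v 1 * v 1 = 0 → v = 0 := by decide +kernel

/-- The group is of symplectic type. -/
theorem symp (h : Root σ ω) : IsSymplecticTypeGroup 3 (grp h) := by
  haveI := Fact.mk Nat.prime_three
  have hcard := card_grp h
  refine ⟨Nat.prime_three, IsPGroup.of_card (n := 5) hcard, fun A hA hAc => ?_, ?_⟩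
  · have hle : A ≤ Subgroup.center (grp h) := by
      intro g hg
      obtain ⟨⟨z, u, w⟩, rfl⟩ := (param h).surjective g
      rw [mem_center_iff]
      by_contra hne
      have move : ∀ (f : Z × I2 × I2 → Z × I2 × I2), Function.Bijective f →
          (∀ p q, f (p.1 + q.1 + (q.2.1 0 * p.2.2 0 + q.2.1 1 * p.2.2 1), p.2.1 + q.2.1, p.2.2 + q.2.2) =
            ((f p).1 + (f q).1 + ((f q).2.1 0 * (f p).2.2 0 + (f q).2.1 1 * (f p).2.2 1), (f p).2.1 + (f q).2.1,
              (f p).2.2 + (f q).2.2)) →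
          (f (z, u, w)).2.1 0 * w 0 + (f (z, u, w)).2.1 1 * w 1 =
            u 0 * (f (z, u, w)).2.2 0 + u 1 * (f (z, u, w)).2.2 1 := by
        intro f hf hhom
        let φ : grp h ≃* grp h :=
          { toEquiv := (param h).symm.trans ((Equiv.ofBijective f hf).trans (param h))
            map_mul' := fun a b => by
              obtain ⟨p, rfl⟩ := (param h).surjective a
              obtain ⟨q, rfl⟩ := (param h).surjective b
              simp only [Equiv.toFun_as_coe, Equiv.trans_apply, Equiv.symm_apply_apply, Equiv.ofBijective_apply,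
                param_mul, hhom] }
        have hm : φ (param h (z, u, w)) ∈ A := by
          have h1 := hg
          rw [← hA.fixed φ] at h1
          exact h1
        have hφ : φ (param h (z, u, w)) = param h (f (z, u, w)) := by simp [φ]
        rw [hφ] at hm
        exact (param_comm h (z, u, w) (f (z, u, w))).1 (congrArg Subtype.val (hAc.is_comm.comm ⟨_, hg⟩ ⟨_, hm⟩))
      rcases eq_or_ne w 0 with rfl | hw
      · have h1 := move (fun p => (p.1 - (p.2.1 0 * p.2.2 0 + p.2.1 1 * p.2.2 1), p.2.2, -p.2.1)) (by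
          refine Finite.injective_iff_bijective.1 fun p q e => ?_
          simp only [Prod.mk.injEq, neg_inj] at e
          obtain ⟨e1, e2, e3⟩ := e
          rw [e2, e3] at e1
          exact Prod.ext (sub_left_inj.1 e1) (Prod.ext e3 e2)) (fun p q => by
          refine Prod.ext ?_ (Prod.ext rfl ?_)
          · simp only [Pi.add_apply, Pi.neg_apply]; ring
          · exact neg_add _ _)
        refine hne ⟨two_squares u ?_, rfl⟩
        simp at h1
        linear_combination h1
      · obtain ⟨S, hS⟩ : ∃ S : I2, S 0 * w 0 * w 0 + S 1 * w 1 * w 1 ≠ 0 :=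
          exists_not_isotropic w hw
        have h1 := move (fun p => (p.1 + 2 * (S 0 * p.2.2 0 * p.2.2 0 + S 1 * p.2.2 1 * p.2.2 1),
          p.2.1 + (fun i => S i * p.2.2 i), p.2.2)) (by
          refine Finite.injective_iff_bijective.1 fun p q e => ?_
          simp only [Prod.mk.injEq] at e
          obtain ⟨e1, e2, e3⟩ := e
          rw [e3] at e1 e2
          exact Prod.ext (add_right_cancel e1) (Prod.ext (add_right_cancel e2) e3)) (fun p q => by
          refine Prod.ext ?_ (Prod.ext (funext fun i => ?_) rfl)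
          · have three : (3 : Z) = 0 := rfl
            simp only [Pi.add_apply]
            linear_combination (S 0 * p.2.2 0 * q.2.2 0 + S 1 * p.2.2 1 * q.2.2 1) * three
          · simp only [Pi.add_apply]; ring)
        simp at h1
        exact hS (by linear_combination h1)
    haveI : IsCyclic (Subgroup.center (grp h)) := isCyclic_of_prime_card (card_center h)
    exact Subgroup.isCyclic_of_le hle
  · rw [show 3 * Nat.gcd 2 3 = 3 from rfl]
    refine ((Nat.dvd_prime Nat.prime_three).1 (Monoid.exponent_dvd_of_forall_pow_eq_one (cube_one h))).resolve_left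
      fun e => ?_
    haveI : Subsingleton (grp h) := Monoid.exp_eq_one_iff.1 e
    rw [Nat.card_of_subsingleton (1 : grp h)] at hcard
    omega

/-- The group acts absolutely irreducibly. -/
theorem grp_abs (h : Root σ ω) : ActsAbsolutelyIrreducibly (matrixSet (grp h)) := by
  classical
  have hmem : ∀ p, (param h p).1 ∈ grp h := fun p => (param h p).2
  have happ : ∀ (z : Z) (u w : I2) (v : I2 → F) (x : I2),
      (M2 ω z u w *ᵥ v) x = pw ω (z + (u 0 * x 0 + u 1 * x 1)) * v (x + w) := fun z u w v x => by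
    show ∑ y, M2 ω z u w x y * v y = _
    rw [Finset.sum_eq_single (x + w) (fun b _ hb => by simp [M2, hb]) (by simp)]
    simp [M2]
  refine abs_iff.2 ⟨fun W hW => ?_, fun X hX => ?_⟩
  · refine (eq_or_ne W ⊥).imp_right fun hne => ?_
    obtain ⟨v, hv, hv0⟩ := W.exists_mem_ne_zero_of_ne_bot hne
    obtain ⟨x₀, hx₀⟩ := Function.ne_iff.1 hv0
    have hmv : ∀ p : Z × I2 × I2, ∀ a ∈ W, M2 ω p.1 p.2.1 p.2.2 *ᵥ a ∈ W := fun p a ha => hW _ (hmem p) a ha
    -- isolate a coordinate
    have hproj : ∀ (i : Fin 2) (c : Z) (a : I2 → F), a ∈ W → (fun x => if x i = c then a x else 0) ∈ W := by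
      intro i c a ha
      have h1 := add_mem (add_mem ha (hmv (-c, Pi.single i 1, 0) a ha)) (hmv (-c - c, Pi.single i 1 + Pi.single i 1, 0) a ha)
      suffices h5 : (fun x => if x i = c then a x else 0) =
          a + M2 ω (-c) (Pi.single i 1) 0 *ᵥ a + M2 ω (-c - c) (Pi.single i 1 + Pi.single i 1) 0 *ᵥ a by rw [h5]; exact h1
      funext x
      simp only [Pi.add_apply, happ, add_zero]
      have e1 : -c + ((Pi.single i (1 : Z) : I2) 0 * x 0 + (Pi.single i (1 : Z) : I2) 1 * x 1) = x i - c := by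
        fin_cases i <;> simp <;> ring
      have e2 : -c - c + (((Pi.single i (1 : Z) : I2) 0 + (Pi.single i (1 : Z) : I2) 0) * x 0 +
          ((Pi.single i (1 : Z) : I2) 1 + (Pi.single i (1 : Z) : I2) 1) * x 1) = (x i - c) + (x i - c) := by
        fin_cases i <;> simp <;> ring
      rw [e1, e2, h.pw_add]
      split_ifs with hc
      · rw [hc, sub_self, pw_zero]; linear_combination -(a x) * h.two
      · obtain ⟨n, hn, hn1⟩ : ∃ n : Z, x i - c = n ∧ n ≠ 0 := ⟨_, rfl, sub_ne_zero.2 hc⟩
        rw [hn]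
        have he := h.eqn
        have h3 := h.cube
        rcases (show ∀ n : Z, n ≠ 0 → n = 1 ∨ n = 2 by decide) n hn1 with rfl | rfl
        · rw [pw, show (1 : Z).val = 1 from rfl]; linear_combination (-(a x)) * he
        · rw [pw, show (2 : Z).val = 2 from rfl]; linear_combination (-(a x)) * he - (a x * ω) * h3
    have hs : ∀ y, (Pi.single y 1 : I2 → F) ∈ W := by
      intro y
      have h1 := hproj 1 (x₀ 1) _ (hproj 0 (x₀ 0) v hv)
      have h5 := Submodule.smul_mem W (v x₀)⁻¹ (hmv (0, 0, x₀ - y) _ h1)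
      suffices e : (Pi.single y 1 : I2 → F) =
          (v x₀)⁻¹ • (M2 ω 0 0 (x₀ - y) *ᵥ fun x => if x 1 = x₀ 1 then (if x 0 = x₀ 0 then v x else 0) else 0) by
        rw [e]; exact h5
      funext x
      rw [Pi.smul_apply, happ, smul_eq_mul]
      simp only [Pi.zero_apply, zero_mul, add_zero, pw_zero, one_mul]
      rcases eq_or_ne x y with rfl | hxy
      · rw [Pi.single_eq_same, add_sub_cancel, if_pos rfl, if_pos rfl, inv_mul_cancel₀ hx₀]
      · rw [Pi.single_eq_of_ne hxy]
        have hne' : ¬ ((x + (x₀ - y)) 0 = x₀ 0 ∧ (x + (x₀ - y)) 1 = x₀ 1) := fun hh => hxy (funext fun i => by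
          fin_cases i
          · simpa [add_sub, sub_eq_iff_eq_add, add_comm] using hh.1
          · simpa [add_sub, sub_eq_iff_eq_add, add_comm] using hh.2)
        split_ifs with a1 a0
        · exact absurd ⟨a0, a1⟩ hne'
        all_goals rw [mul_zero]
    rw [eq_top_iff]
    intro a _
    rw [pi_eq_sum_univ' a]
    exact sum_mem fun y _ => W.smul_mem _ (hs y)
  · have hc : ∀ z u w, X * M2 ω z u w = M2 ω z u w * X := fun z u w => hX _ (hmem (z, u, w))
    have hl : ∀ z u w x y, (M2 ω z u w * X) x y = pw ω (z + (u 0 * x 0 + u 1 * x 1)) * X (x + w) y := fun z u w x y => by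
      rw [Matrix.mul_apply, Finset.sum_eq_single (x + w) (fun b _ hb => by simp [M2, hb]) (by simp)]
      simp [M2]
    have hr : ∀ z u w x y, (X * M2 ω z u w) x y = X x (y - w) * pw ω (z + (u 0 * (y - w) 0 + u 1 * (y - w) 1)) :=
      fun z u w x y => by
      rw [Matrix.mul_apply, Finset.sum_eq_single (y - w) (fun b _ hb => by
        simp only [M2, Matrix.of_apply]; rw [if_neg fun e => hb (by rw [e]; abel), mul_zero]) (by simp)]
      simp [M2]
    refine ⟨X 0 0, Matrix.ext fun x y => ?_⟩
    rw [Matrix.smul_apply, Matrix.one_apply, smul_eq_mul]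
    split_ifs with hxy
    · subst hxy
      have h1 := congrFun (congrFun (hc 0 0 x) 0) x
      rw [hl, hr, sub_self] at h1
      simp [pw_zero] at h1
      rw [mul_one, h1]
    · rw [mul_zero]
      obtain ⟨i, hi⟩ := Function.ne_iff.1 hxy
      have h1 := congrFun (congrFun (hc 0 (Pi.single i 1) 0) x) y
      rw [hl, hr, sub_zero, add_zero, mul_comm] at h1
      by_contra hne
      have h5 := h.pw_inj (mul_right_cancel₀ hne h1)
      refine hi ?_
      fin_cases i <;> simpa using h5.symm

end Three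

variable {F : Type*} [Field F] [Fintype F] {σ : F ≃+* F}

/-- The root of unity in the field with four elements. -/
theorem exists_root (hbar : IsBar σ) (h4 : Fintype.card F = 4) : ∃ ω, Three.Root σ ω := by
  classical
  have hp : ∀ x : F, x ≠ 0 → x ^ 3 = 1 := fun x hx => by
    have h1 := FiniteField.pow_card_sub_one_eq_one x hx
    rwa [h4] at h1
  obtain ⟨ω, hω0, hω1⟩ : ∃ ω : F, ω ≠ 0 ∧ ω ≠ 1 := by
    by_contra hcon
    push Not at hcon
    have h1 : Fintype.card F ≤ ({0, 1} : Finset F).card :=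
      Finset.card_le_card fun x _ => by rcases eq_or_ne x 0 with h | h <;> simp [h, hcon]
    have := Finset.card_le_two (a := (0 : F)) (b := 1)
    omega
  have he : ω * ω + ω + 1 = 0 :=
    (mul_eq_zero.1 (show (ω - 1) * (ω * ω + ω + 1) = 0 by linear_combination hp ω hω0)).resolve_left (sub_ne_zero.2 hω1)
  have h2 : (2 : F) = 0 := by
    have h5 : ((4 : ℕ) : F) = 0 := by rw [← h4]; exact Nat.cast_card_eq_zero F
    exact mul_self_eq_zero.1 (show (2 : F) * 2 = 0 by norm_num at h5 ⊢; linear_combination h5)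
  have hall : ∀ x : F, x = 0 ∨ x = 1 ∨ x = ω ∨ x = ω * ω := fun x => by
    rcases eq_or_ne x 0 with h | h
    · exact Or.inl h
    · have h5 : (x - 1) * ((x - ω) * (x - ω * ω)) = 0 := by
        linear_combination hp x h - (x * x - ω * x + ω - 1) * he
      rcases mul_eq_zero.1 h5 with h6 | h6
      · exact Or.inr (Or.inl (sub_eq_zero.1 h6))
      · rcases mul_eq_zero.1 h6 with h7 | h7
        · exact Or.inr (Or.inr (Or.inl (sub_eq_zero.1 h7)))
        · exact Or.inr (Or.inr (Or.inr (sub_eq_zero.1 h7)))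
  refine ⟨ω, h2, he, ?_, hall⟩
  have hω : σ ω = ω * ω := by
    have h1 : σ ω ≠ 0 := (map_ne_zero σ).2 hω0
    rcases hall (σ ω) with e | e | e | e
    · exact absurd e h1
    · exact absurd (σ.injective (e.trans (map_one σ).symm)) hω1
    · refine absurd (RingEquiv.ext fun x => ?_) hbar.ne_refl
      rcases hall x with rfl | rfl | rfl | rfl <;> simp [e]
    · exact e
  intro x
  rcases hall x with rfl | rfl | rfl | rfl
  · simp
  · simp
  · exact hω
  · rw [map_mul, hω]

variable {ι : Type} [Fintype ι] [DecidableEq ι] [Nonempty ι] {G : Matrix ι ι F} {H : Subgroup (GL ι F)}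

open Three in
set_option maxHeartbeats 1600000 in
/-- Products of two unitary groups of degree three over four elements normalise a group of symplectic type. -/
theorem three_member (hbar : IsBar σ) (h4 : Fintype.card F = 4) (hfix : Fixes σ H G) {e : ι ≃ Fin 3 × Fin 3}
    {P : GL ι F} (hle : H ≤ tensorProductSubgroup 3 3 e P) (hfr : frG σ e P G = 1) :
    ∃ R : Subgroup (GL ι F), IsSymplecticTypeGroup 3 R ∧ ActsAbsolutelyIrreducibly (matrixSet R) ∧ Normalised H R ∧
      R ≤ similarityGroup (formG σ G) ∧ Nat.card (Subgroup.center R) = 3 ∧ Nat.card R = 3 ^ (1 + 2 * 2) ∧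
      ∀ x ∈ R, ∀ y ∈ R, x * y * x⁻¹ * y⁻¹ ∈ scalars ι F := by
  classical
  obtain ⟨ω, h⟩ := exists_root hbar h4
  set e' : ι ≃ I2 := e.trans (finTwoArrowEquiv Z).symm with he'
  set R := (grp h).map (fr e' P).toMonoidHom with hR
  obtain ⟨θ⟩ : Nonempty (grp h ≃* R) := ⟨(grp h).equivMapOfInjective _ (fr e' P).injective⟩
  have hfr' : frG σ e' P G = 1 := by
    rw [show frG σ e' P G = (frG σ e P G).submatrix (finTwoArrowEquiv Z) (finTwoArrowEquiv Z) from
      Matrix.ext fun _ _ => rfl, hfr]
    exact Matrix.submatrix_one_equiv _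
  have hiso : R ≤ similarityGroup (formG σ G) := by
    rintro _ ⟨g, ⟨z, u, w, hg⟩, rfl⟩
    refine ⟨1, fun a b => ?_⟩
    obtain ⟨x, rfl⟩ := (frL e' P).surjective a
    obtain ⟨y, rfl⟩ := (frL e' P).surjective b
    show formG σ G (mat (fr e' P g) *ᵥ frL e' P x) (mat (fr e' P g) *ᵥ frL e' P y) = _
    rw [fr_mulVec, fr_mulVec, ← formG_frL, ← formG_frL, formG_mulVec, hfr', Units.val_one, one_mul]
    congr 1
    rw [act, Matrix.mul_one, show mat g = M2 ω z u w from hg]
    ext i j
    rw [Matrix.mul_apply, Finset.sum_eq_single (i - w)]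
    · simp only [Matrix.transpose_apply, Matrix.map_apply, M2, Matrix.of_apply, sub_add_cancel, if_true, Matrix.one_apply]
      rcases eq_or_ne i j with rfl | hij
      · rw [if_pos rfl, if_pos rfl]; exact h.norm (h.pw_ne _)
      · rw [if_neg (Ne.symm hij), if_neg hij, map_zero, mul_zero]
    · intro b _ hb
      simp only [Matrix.transpose_apply, M2, Matrix.of_apply]
      rw [if_neg fun e0 => hb (by rw [e0]; abel), zero_mul]
    · simp
  have habs : ActsAbsolutelyIrreducibly (matrixSet R) := by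
    refine abs_of_comap e' P ?_
    rw [hR, Subgroup.comap_map_eq_self_of_injective (fr e' P).injective]
    exact grp_abs h
  have hcomm : ∀ x ∈ R, ∀ y ∈ R, x * y * x⁻¹ * y⁻¹ ∈ scalars ι F := by
    intro x hx y hy
    refine comm_of_abs habs fun w hw => ?_
    set a : R := ⟨x, hx⟩
    set b : R := ⟨y, hy⟩
    obtain ⟨p, hp⟩ := (param h).surjective (θ.symm a)
    obtain ⟨q, hq⟩ := (param h).surjective (θ.symm b)
    obtain ⟨r, hr⟩ := (param h).surjective (θ.symm (a * b * a⁻¹ * b⁻¹))
    have h1 : param h r * (param h q * param h p) = param h p * param h q := by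
      rw [hp, hq, hr, ← map_mul, ← map_mul, ← map_mul]
      congr 1
      group
    rw [param_mul, param_mul, param_mul, (param h).apply_eq_iff_eq, Prod.mk.injEq, Prod.mk.injEq] at h1
    have hcen : param h r ∈ Subgroup.center (grp h) := (mem_center_iff h r).2
      ⟨add_eq_right.1 (h1.2.1.trans (add_comm _ _)), add_eq_right.1 (h1.2.2.trans (add_comm _ _))⟩
    rw [hr] at hcen
    have h2 : θ.symm (⟨w, hw⟩ * (a * b * a⁻¹ * b⁻¹)) = θ.symm (a * b * a⁻¹ * b⁻¹ * ⟨w, hw⟩) :=
      (map_mul θ.symm _ _).trans ((Subgroup.mem_center_iff.1 hcen _).trans (map_mul θ.symm _ _).symm)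
    exact (congrArg Subtype.val (θ.symm.injective h2)).symm
  refine ⟨R, ⟨Nat.prime_three, (symp h).pGroup.of_equiv θ, fun A hA hAc => ?_, ?_⟩, habs, ?_, hiso, ?_, ?_, hcomm⟩
  · haveI := hAc
    have hchar : (A.comap θ.toMonoidHom).Characteristic := ⟨fun φ => by
      have h1 := hA.fixed ((θ.symm.trans φ).trans θ)
      ext x
      have h5 := SetLike.ext_iff.1 h1 (θ x)
      simp only [Subgroup.mem_comap, MulEquiv.coe_toMonoidHom, MulEquiv.trans_apply, MulEquiv.symm_apply_apply] at h5 ⊢
      exact h5⟩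
    have hcom : IsMulCommutative (A.comap θ.toMonoidHom) := ⟨⟨fun a b => Subtype.ext (θ.injective (by
      have h1 : (⟨θ a.1, a.2⟩ : A) * ⟨θ b.1, b.2⟩ = ⟨θ b.1, b.2⟩ * ⟨θ a.1, a.2⟩ := hAc.is_comm.comm _ _
      exact (map_mul θ _ _).trans ((congrArg Subtype.val h1).trans (map_mul θ _ _).symm)))⟩⟩
    haveI := (symp h).cyclic_of_characteristic _ hchar hcom
    exact isCyclic_of_surjective (((θ.toMonoidHom.comp (A.comap θ.toMonoidHom).subtype).codRestrict A fun a => a.2))
      fun a => ⟨⟨θ.symm a.1, by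
        show θ (θ.symm a.1) ∈ A
        rw [MulEquiv.apply_symm_apply]; exact a.2⟩, Subtype.ext (θ.apply_symm_apply a.1)⟩
  · rw [← Monoid.exponent_eq_of_mulEquiv θ]; exact (symp h).exponent_eq
  · rintro g hg _ ⟨k, ⟨z, u, w, hk⟩, rfl⟩
    obtain ⟨X, ⟨a, b, hX⟩, rfl⟩ := (map_fr_eq_tensor e P).ge (hle hg)
    have h1 : act σ (1 : Matrix (Fin 3 × Fin 3) (Fin 3 × Fin 3) F) (mat X) = 1 :=
      hfr ▸ fixes_comap e P hfix X hg
    rw [act, Matrix.mul_one, show mat X = (a : Matrix (Fin 3) (Fin 3) F) ⊗ₖ (b : Matrix (Fin 3) (Fin 3) F) from hX,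
      show (((a : Matrix (Fin 3) (Fin 3) F) ⊗ₖ (b : Matrix (Fin 3) (Fin 3) F))).map σ =
        (a : Matrix (Fin 3) (Fin 3) F).map σ ⊗ₖ (b : Matrix (Fin 3) (Fin 3) F).map σ from
        Matrix.ext fun p r => by simp [Matrix.kronecker_apply],
      ← Matrix.kroneckerMap_transpose, ← Matrix.mul_kronecker_mul, ← Matrix.one_kronecker_one] at h1
    obtain ⟨s, t, hst, ha, hb⟩ := kron_prop one_ne_zero one_ne_zero h1
    have hs1 : s = 1 := by
      have h5 : s ≠ 0 := left_ne_zero_of_mul_eq_one hst
      have h6 := congrArg (fun Y : Matrix (Fin 3) (Fin 3) F => Yᵀ.map σ) ha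
      simp only [Matrix.transpose_mul, Matrix.transpose_transpose, Matrix.transpose_smul, Matrix.transpose_one,
        Matrix.map_mul] at h6
      rw [show ((a : Matrix (Fin 3) (Fin 3) F).map σ)ᵀ.map σ = (a : Matrix (Fin 3) (Fin 3) F)ᵀ from
        Matrix.ext fun p r => by simp [hbar.involutive], ha] at h6
      have h7 : σ s = s := by simpa using (congrFun (congrFun h6 0) 0).symm
      rw [h.conj] at h7
      exact mul_left_cancel₀ h5 (h7.trans (mul_one s).symm)
    have ht1 : t = 1 := by rw [hs1, one_mul] at hst; exact hst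
    rw [hs1, one_smul] at ha
    rw [ht1, one_smul] at hb
    let A : Matrix Z Z F := (a : Matrix (Fin 3) (Fin 3) F)
    let B : Matrix Z Z F := (b : Matrix (Fin 3) (Fin 3) F)
    obtain ⟨za, ua, wa, hA'⟩ := h.nrm_unitary (A := A) ha (u 0) (w 0)
    obtain ⟨zb, ub, wb, hB'⟩ := h.nrm_unitary (A := B) hb (u 1) (w 1)
    set Y : GL I2 F := glReindex (finTwoArrowEquiv Z).symm X with hY
    have hXY : fr e P X = fr e' P Y := by
      have h0 : glReindex ((finTwoArrowEquiv Z).symm).symm Y = X :=
        Units.ext (Matrix.ext fun _ _ => rfl)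
      exact (congrArg (fun g => fr e P g) h0).symm.trans (fr_reindex e P (finTwoArrowEquiv Z).symm Y)
    have hYm : mat Y = Matrix.of fun x y => A (x 0) (y 0) * B (x 1) (y 1) := by
      ext x y
      show mat X (finTwoArrowEquiv Z x) (finTwoArrowEquiv Z y) = _
      rw [show mat X = (a : Matrix (Fin 3) (Fin 3) F) ⊗ₖ (b : Matrix (Fin 3) (Fin 3) F) from hX]
      rfl
    have hkey : mat Y * M2 ω z u w = M2 ω (z + za + zb) ![ua, ub] ![wa, wb] * mat Y := by
      rw [hYm]
      ext x y
      rw [Matrix.mul_apply, Finset.sum_eq_single (y - w) (fun c _ hc => by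
        simp only [M2, Matrix.of_apply]; rw [if_neg fun e0 => hc (by rw [e0]; abel), mul_zero]) (by simp),
        Matrix.mul_apply, Finset.sum_eq_single (x + ![wa, wb]) (fun c _ hc => by
          simp only [M2, Matrix.of_apply]; rw [if_neg hc, zero_mul]) (by simp)]
      simp only [M2, Matrix.of_apply, sub_add_cancel, if_true, Pi.add_apply, Pi.sub_apply, Matrix.cons_val_zero,
        Matrix.cons_val_one]
      have q1 := congrFun (congrFun hA' (x 0)) (y 0)
      have q2 := congrFun (congrFun hB' (x 1)) (y 1)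
      rw [mul_M1, M1_mul] at q1 q2
      simp only [h.pw_add, pw_zero, one_mul] at q1 q2 ⊢
      linear_combination pw ω z * (B (x 1) (y 1 - w 1) * pw ω (u 1 * (y 1 - w 1))) * q1 +
        pw ω z * (pw ω za * pw ω (ua * x 0) * A (x 0 + wa) (y 0)) * q2
    show fr e P X * fr e' P k * (fr e P X)⁻¹ ∈ R
    rw [hXY, ← map_inv, ← map_mul, ← map_mul]
    refine ⟨_, ⟨z + za + zb, ![ua, ub], ![wa, wb], ?_⟩, rfl⟩
    show mat Y * mat k * mat Y⁻¹ = _
    rw [show mat k = M2 ω z u w from hk, hkey, Matrix.mul_assoc, mat_mul_inv, Matrix.mul_one]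
  · rw [← Nat.card_congr (Subgroup.centerCongr θ).toEquiv]; exact card_center h
  · rw [← Nat.card_congr θ.toEquiv]; exact card_grp h

end Cfsg.Agent.Asch
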