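import Cfsg.Agent.Asch.UnitStd
import Cfsg.Agent.Asch.SmallMove
import Cfsg.Agent.PrimeDim.SUProper
import Cfsg.Agent.NotMax.Blocks

/-!
The unitary root elements lie in no stabiliser of a proper geometric structure.
-/

set_option autoImplicit false
set_option linter.unusedSectionVars false

namespace Cfsg.Agent.Asch

open Matrix Cfsg.Geo Cfsg.Agent.PrimeDim
open scoped MatrixGroups Kronecker

variable {F : Type*} [Field F] {ι : Type} [Fintype ι] [DecidableEq ι] {σ : F ≃+* F} {A : Subgroup (GL ι F)}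

/-- The special unitary group contains the root elements. -/
theorem hasRoots_su [Fintype F] {n q : ℕ} (hbar : IsBar σ) (hσ : ∀ x, σ x = x ^ q) :
    HasRoots σ (Cfsg.GU n F q ⊓ specialLinear (Fin n) F) := fun v hv b hb =>
  Subgroup.mem_inf.2 ⟨fun u w => by
    rw [hermForm_eq_formG hσ]; exact root_isometry hbar.involutive hv hb u w, Units.ext (det_root hv b)⟩

theorem root_small {v : ι → F} (hv : stdH σ v v = 0) (b : F) : Small 1 (root hv b : GL ι F) := by
  refine small_of_image (Submodule.span F {v}) ?_ fun x => ?_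
  · exact (finrank_span_le_card ({v} : Set (ι → F))).trans (by simp)
  · rw [root_mulVec, add_sub_cancel_left]
    exact Submodule.smul_mem _ _ (Submodule.subset_span rfl)

/-- A non-trivial root element. -/
theorem exists_root_ne (hbar : IsBar σ) (h2 : 2 ≤ Fintype.card ι) :
    ∃ (v : ι → F) (hv : stdH σ v v = 0) (b : F), b + σ b = 0 ∧ (root hv b : GL ι F) ≠ 1 := by
  obtain ⟨x, -, -, hx, -⟩ := exists_norm_neg_one hbar
  obtain ⟨b, hb0, hb⟩ := exists_trace_zero hbar
  obtain ⟨i, j, hij⟩ := Fintype.one_lt_card_iff.1 (show 1 < Fintype.card ι by omega)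
  refine ⟨iso i j x, stdH_iso_self hij hx, b, hb, fun e => ?_⟩
  have h1 := root_mulVec (stdH_iso_self hij hx) b (Pi.single i (1 : F))
  rw [e, show mat (1 : GL ι F) = 1 from rfl, Matrix.one_mulVec, stdH_iso, Pi.single_eq_same,
    Pi.single_eq_of_ne (Ne.symm hij), mul_zero, add_zero, mul_one] at h1
  have h3 := congrFun h1 i
  rw [Pi.add_apply, Pi.smul_apply, iso_apply_left hij, smul_eq_mul, mul_one, left_eq_add] at h3
  exact hb0 h3

theorem root_not_blocks (hbar : IsBar σ) (hA : HasRoots σ A) (h3 : 2 < Fintype.card ι) {t m : ℕ}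
    {D : Fin t → Submodule F (ι → F)} (hD : IsMDecomposition m D) (hm : 2 ≤ m) : ¬ A ≤ decompositionStabilizer D := by
  intro hle
  let i₀ : Fin t := ⟨0, by have := hD.two_le; omega⟩
  have hA' : HasRoots σ (A ⊓ subspaceStabilizer (D i₀)) := by
    intro v hv b hb
    have hg := hA v hv b hb
    refine ⟨hg, fun w => ?_⟩
    have h1 := (root_small hv b).fixes_blocks hD (show 1 < m by omega) (hle hg) i₀
    show w ∈ D i₀ ↔ mat (root hv b) *ᵥ w ∈ D i₀
    refine ⟨fun hw => h1 ▸ ⟨w, hw, Matrix.toLin'_apply _ _⟩, fun hw => ?_⟩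
    obtain ⟨u, hu, he⟩ : mat (root hv b) *ᵥ w ∈ (D i₀).map (Matrix.toLin' (mat (root hv b))) := h1.symm ▸ hw
    rw [Matrix.toLin'_apply] at he
    exact mulVec_injective (root hv b) he ▸ hu
  have h1 := hD.finrank_eq i₀
  refine su_not_stab hbar hA' h3 (W := D i₀) (fun e => ?_) (fun e => ?_) inf_le_right
  · rw [e, finrank_bot] at h1; omega
  · rw [e, finrank_top, Module.finrank_fintype_fun_eq_card] at h1
    have h4 := NotMax.mul_card_eq hD
    have h5 := hD.two_le
    have : 2 * m ≤ t * m := Nat.mul_le_mul_right _ h5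
    omega

/-- An orthogonal family of lines is spanned by an orthonormal basis. -/
theorem root_not_frame (hbar : IsBar σ) (hA : HasRoots σ A) (h4 : 4 ≤ Fintype.card ι) {t : ℕ}
    {D : Fin t → Submodule F (ι → F)} (hD : IsNondegenerateMDecomposition (formG σ (1 : Matrix ι ι F)) 1 D) :
    ¬ A ≤ decompositionStabilizer D := by
  have hs := isSesq_formG σ (1 : Matrix ι ι F)
  have hline : ∀ k, ∃ u ∈ D k, formG σ (1 : Matrix ι ι F) u u = 1 ∧ D k = Submodule.span F {u} := by
    intro k
    have hr := hD.decomp.finrank_eq k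
    obtain ⟨w, hw, hw0⟩ := (D k).exists_mem_ne_zero_of_ne_bot fun e => by rw [e, finrank_bot] at hr; omega
    have hspan : D k = Submodule.span F {w} := (Submodule.eq_of_le_of_finrank_eq
      ((Submodule.span_singleton_le_iff_mem _ _).2 hw) (by rw [finrank_span_singleton hw0, hr])).symm
    have hne : formG σ (1 : Matrix ι ι F) w w ≠ 0 := by
      intro e
      obtain ⟨-, ⟨z, hz, hne⟩⟩ := hD.nondegenerate k w hw hw0
      rw [hspan, Submodule.mem_span_singleton] at hz
      obtain ⟨a, rfl⟩ := hz
      exact hne (by rw [hs.smul_right, e, mul_zero])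
    obtain ⟨c, hc⟩ := hbar.norm _ (stdH_comm hbar w w).symm
    have hc0 : c ≠ 0 := fun e => hne (by rw [show formG σ (1 : Matrix ι ι F) w w = c * σ c from hc.symm, e, zero_mul])
    refine ⟨c⁻¹ • w, (D k).smul_mem _ hw, ?_, ?_⟩
    · rw [hs.smul_left, hs.smul_right, show formG σ (1 : Matrix ι ι F) w w = c * σ c from hc.symm, map_inv₀]
      have := (map_ne_zero σ).2 hc0
      field_simp
    · rw [hspan, Submodule.span_singleton_smul_eq (isUnit_iff_ne_zero.2 (inv_ne_zero hc0))]
  choose u hu huu hspan using hline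
  have hu0 : ∀ k, u k ≠ 0 := fun k e => by
    have := huu k
    rw [e, show formG σ (1 : Matrix ι ι F) 0 0 = 0 by simp [formG]] at this
    exact zero_ne_one this
  have hli : LinearIndependent F u := hD.decomp.indep.linearIndependent _ hu hu0
  have htn : t = Fintype.card ι := by simpa using NotMax.mul_card_eq hD.decomp
  let e : Fin t ≃ ι := (finCongr htn).trans (Fintype.equivFin ι).symm
  have hli' : LinearIndependent F (u ∘ e.symm) := hli.comp _ e.symm.injective
  haveI : Nonempty ι := Fintype.card_pos_iff.1 (by omega)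
  let b : Module.Basis ι F (ι → F) :=
    basisOfLinearIndependentOfCardEqFinrank hli' (Module.finrank_fintype_fun_eq_card F).symm
  have hb : ∀ i, b i = u (e.symm i) := fun i => by simp [b]
  refine su_not_decomp hbar hA h4 b e (fun k => by rw [hb, Equiv.symm_apply_apply]; exact hspan k) fun i j => ?_
  rw [hb, hb]
  by_cases hij : i = j
  · subst hij; rw [if_pos rfl]; exact huu _
  · rw [if_neg hij]
    exact hD.orthogonal _ _ (fun h => hij (e.symm.injective h)) _ (hu _) _ (hu _)

theorem root_not_tensor (hbar : IsBar σ) (hA : HasRoots σ A) {a b : ℕ} (ha : 2 ≤ a) (hb : 2 ≤ b)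
    (e : ι ≃ Fin a × Fin b) (P : GL ι F) : ¬ A ≤ tensorProductSubgroup a b e P := by
  intro hle
  have hc : 2 ≤ Fintype.card ι := by
    rw [Fintype.card_congr e, Fintype.card_prod, Fintype.card_fin, Fintype.card_fin]
    nlinarith
  obtain ⟨v, hv, c, hc', hne⟩ := exists_root_ne (ι := ι) hbar hc
  exact hne ((root_small hv c).kron_eq_one (show 1 < a by omega) (show 1 < b by omega) (hle (hA v hv c hc')))

/-- A square of a root element is a root element of twice the parameter. -/
theorem root_mul {v : ι → F} (hv : stdH σ v v = 0) (b c : F) :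
    mat (root hv b) * mat (root hv c) = mat (root hv (b + c) : GL ι F) := by
  refine Matrix.mulVec_injective (funext fun x => ?_)
  rw [← Matrix.mulVec_mulVec, root_mulVec, root_mulVec, root_mulVec]
  have hs := isSesq_formG σ (1 : Matrix ι ι F)
  rw [show stdH σ (x + (c * stdH σ x v) • v) v = stdH σ x v by
    show formG σ 1 _ _ = _
    rw [hs.add_left, hs.smul_left, show formG σ (1 : Matrix ι ι F) v v = 0 from hv, mul_zero, add_zero]]
  rw [add_assoc, ← add_smul]
  congr 2
  ring

/-- Root elements do not normalise a group of symplectic type in dimension at least five. -/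
theorem root_not_six [Finite F] (hbar : IsBar σ) (hA : HasRoots σ A) (h5 : 5 ≤ Fintype.card ι) {R : Subgroup (GL ι F)}
    (habs : ActsAbsolutelyIrreducibly (matrixSet R))
    (hcomm : ∀ x ∈ R, ∀ y ∈ R, x * y * x⁻¹ * y⁻¹ ∈ scalars ι F) : ¬ A ≤ subgroupNormalizer R := by
  classical
  intro hle
  haveI : Nonempty ι := Fintype.card_pos_iff.1 (by omega)
  obtain ⟨x, hx, hxs⟩ := SetLike.not_le_iff_exists.1 (irr_not_scalar (abs_iff.1 habs).1 (by omega))
  obtain ⟨c₀, hc₀⟩ := scalar_of_commute_root hbar hA (by omega) (A := mat x) fun v hv b hb => by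
    set t : GL ι F := root hv b with ht
    have htR : t * x * t⁻¹ ∈ R := (Subgroup.mem_normalizer_iff.1 (hle (hA v hv b hb)) x).1 hx
    set g := t * x * t⁻¹ * x⁻¹ with hg
    have hgR : g ∈ R := mul_mem htR (inv_mem hx)
    have hsmall : Small 2 g := by
      refine small_of_image (Submodule.span F {v, mat x *ᵥ v}) ?_ fun u => ?_
      · exact (finrank_span_le_card _).trans (by simpa using Finset.card_le_two (a := v) (b := mat x *ᵥ v))
      · rw [hg, ← mulVec_mul, ← mulVec_mul, ← mulVec_mul, ht, root_mulVec hv b, root_inv, root_mulVec hv (-b),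
          Matrix.mulVec_add, Matrix.mulVec_smul, mulVec_inv_cancel,
          show ∀ p r : F, u + p • (mat x *ᵥ v) + r • v - u = r • v + p • (mat x *ᵥ v) from fun p r => by abel]
        exact add_mem (Submodule.smul_mem _ _ (Submodule.subset_span (by simp)))
          (Submodule.smul_mem _ _ (Submodule.subset_span (by simp)))
    have hg1 : g = 1 := by
      by_contra hne
      by_cases hgs : g ∈ scalars ι F
      · obtain ⟨c, hc⟩ := (Cfsg.Geo.mem_scalars_iff g).1 hgs
        have h1 := hsmall.le_of_disjoint ⊤ fun w _ hw => ?_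
        · rw [finrank_top, Module.finrank_fintype_fun_eq_card] at h1; omega
        rw [mat, hc, Matrix.smul_mulVec, Matrix.one_mulVec] at hw
        by_contra hw0
        refine hne (Units.ext ?_)
        rw [hc, Units.val_one, show (c : F) = 1 from smul_left_injective F hw0 (hw.trans (one_smul F w).symm), one_smul]
      · obtain ⟨y, hy, hne'⟩ : ∃ y ∈ R, g * y ≠ y * g := by
          by_contra hcon
          push Not at hcon
          exact hgs (comm_of_abs habs hcon)
        obtain ⟨c, hc⟩ := (Cfsg.Geo.mem_scalars_iff _).1 (hcomm g hgR y hy)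
        have hgy : mat g * mat y = (c : F) • (mat y * mat g) := by
          rw [show mat g * mat y = mat (g * y * g⁻¹ * y⁻¹) * (mat y * mat g) by
            simp only [mat, ← Units.val_mul]; congr 1; group,
            show mat (g * y * g⁻¹ * y⁻¹) = (c : F) • (1 : Matrix ι ι F) from hc, Matrix.smul_mul, one_mul]
        have hc1 : (c : F) ≠ 1 := fun e => hne' (Units.ext (by rw [e, one_smul] at hgy; exact hgy))
        set W := LinearMap.ker (Matrix.toLin' (mat g - 1)) with hW
        have h1 := hsmall.le_of_disjoint (W.map (Matrix.toLin' (mat y))) ?_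
        · rw [← (Submodule.equivMapOfInjective (Matrix.toLin' (mat y))
            (fun p r e => mulVec_injective y (by simpa [Matrix.toLin'_apply] using e)) W).finrank_eq] at h1
          have h2 : Fintype.card ι ≤ Module.finrank F W + 2 := hsmall
          omega
        rintro _ ⟨w, hw, rfl⟩ hfix
        rw [SetLike.mem_coe, hW, mem_fixed] at hw
        rw [Matrix.toLin'_apply] at hfix ⊢
        rw [Matrix.mulVec_mulVec, hgy, Matrix.smul_mulVec, ← Matrix.mulVec_mulVec, hw] at hfix
        exact (smul_eq_zero.1 (show ((c : F) - 1) • (mat y *ᵥ w) = 0 by rw [sub_smul, one_smul, hfix, sub_self])).resolve_left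
          (sub_ne_zero.2 hc1)
    rw [hg, mul_inv_eq_one, mul_inv_eq_iff_eq_mul] at hg1
    exact (congrArg Units.val hg1).symm
  exact hxs (mem_scalars_of_smul hc₀)

theorem root_not_subfield [Finite F] (hbar : IsBar σ) (hG : HasRoots σ A) (h3 : 2 < Fintype.card ι) {F₁ : Subfield F} (hF₁ : F₁ ≠ ⊤) (P : GL ι F) : ¬ A ≤ subfieldSubgroup F₁ P := by
  intro hle
  obtain ⟨x, x', hxx, hx, hx'⟩ := exists_norm_neg_one hbar
  obtain ⟨i, j, k, hij, hik, hjk⟩ := Fintype.two_lt_card_iff.1 h3
  let N : (ι → F) → Matrix ι ι F := fun v => Matrix.vecMulVec v (fun a => σ (v a))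
  have hNtr : ∀ v, (N v).trace = stdH σ v v := fun v => by
    rw [stdH_eq]; simp [N, Matrix.trace_vecMulVec, dotProduct]
  have hNmul : ∀ u v, N u * N v = stdH σ v u • Matrix.vecMulVec u (fun a => σ (v a)) := fun u v => by
    rw [Matrix.vecMulVec_mul_vecMulVec, stdH_eq, Matrix.vecMulVec_smul]
    congr 1
    exact Finset.sum_congr rfl fun a _ => mul_comm _ _
  have hent : ∀ v (hv : stdH σ v v = 0) (b : F), b + σ b = 0 → Entries F₁ (mat (P⁻¹ * root hv b * P)) := by
    intro v hv b hb
    exact (root_small hv b).entries (by omega) (hle (hG v hv b hb))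
  have htr : ∀ g : GL ι F, Entries F₁ (mat (P⁻¹ * g * P)) → (mat g).trace ∈ F₁ := by
    intro g hg
    have : (mat g).trace = (mat (P⁻¹ * g * P)).trace := by
      rw [show mat (P⁻¹ * g * P) = mat P⁻¹ * mat g * mat P by simp [mat], Matrix.trace_mul_cycle, mat_mul_inv, one_mul]
    rw [this]
    exact Subfield.sum_mem _ fun a _ => hg a a
  have hmul : ∀ g g' : GL ι F, Entries F₁ (mat (P⁻¹ * g * P)) → Entries F₁ (mat (P⁻¹ * g' * P)) →
      Entries F₁ (mat (P⁻¹ * (g * g') * P)) := by
    intro g g' h h'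
    rw [show P⁻¹ * (g * g') * P = (P⁻¹ * g * P) * (P⁻¹ * g' * P) by group, mat, Units.val_mul]
    exact h.mul h'
  set v₁ := iso i j x with hv₁
  set v₂ := iso i j x' with hv₂
  set v₃ := iso i k x with hv₃
  have h₁ : stdH σ v₁ v₁ = 0 := stdH_iso_self hij hx
  have h₂ : stdH σ v₂ v₂ = 0 := stdH_iso_self hij hx'
  have h₃ : stdH σ v₃ v₃ = 0 := stdH_iso_self hik hx
  have f13 : stdH σ v₁ v₃ = 1 := by
    rw [hv₃, stdH_iso, hv₁, iso_apply_left hij, iso_apply_ne (Ne.symm hik) (Ne.symm hjk), mul_zero, add_zero]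
  have f32 : stdH σ v₃ v₂ = 1 := by
    rw [hv₂, stdH_iso, hv₃, iso_apply_left hik, iso_apply_ne (Ne.symm hij) hjk, mul_zero, add_zero]
  have f31 : stdH σ v₃ v₁ = 1 := by rw [stdH_comm hbar, f13, map_one]
  have f23 : stdH σ v₂ v₃ = 1 := by rw [stdH_comm hbar, f32, map_one]
  have f21 : stdH σ v₂ v₁ = 1 + σ x * x' := by
    rw [hv₁, stdH_iso, hv₂, iso_apply_left hij, iso_apply_right hij]
  have hn : (Fintype.card ι : F) ∈ F₁ := natCast_mem _ _
  have h2p : ∀ (u v : ι → F) (hu : stdH σ u u = 0) (hv : stdH σ v v = 0) (b c : F), b + σ b = 0 → c + σ c = 0 →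
      b * c * (stdH σ v u * stdH σ u v) ∈ F₁ := by
    intro u v hu hv b c hb hc
    have h1 := htr _ (hmul _ _ (hent u hu b hb) (hent v hv c hc))
    rw [mat, Units.val_mul, show ((root hu b : GL ι F) : Matrix ι ι F) = rootMat σ b u from rfl,
      show ((root hv c : GL ι F) : Matrix ι ι F) = rootMat σ c v from rfl] at h1
    simp only [rootMat, add_mul, mul_add, one_mul, mul_one, Matrix.smul_mul, Matrix.mul_smul, smul_smul] at h1
    rw [show Matrix.vecMulVec u (fun a => σ (u a)) = N u from rfl,
      show Matrix.vecMulVec v (fun a => σ (v a)) = N v from rfl, hNmul] at h1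
    simp only [Matrix.trace_add, Matrix.trace_one, Matrix.trace_smul, hNtr, hu, hv, Matrix.trace_vecMulVec,
      smul_zero, zero_add, add_zero, smul_eq_mul] at h1
    have e : (u ⬝ᵥ fun a => σ (v a)) = stdH σ u v := by rw [stdH_eq]; rfl
    rw [e] at h1
    have := sub_mem h1 hn
    convert this using 1
    ring
  have hfix : ∀ a b : F, σ a = a → b + σ b = 0 → a * b + σ (a * b) = 0 := fun a b ha hb => by
    rw [map_mul, ha]; linear_combination a * hb
  have hF₀ : ∀ a : F, σ a = a → ∀ b, b + σ b = 0 → a * b * b ∈ F₁ := fun a ha b hb => by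
    have := h2p v₁ v₃ h₁ h₃ (a * b) b (hfix a b ha hb) hb
    rwa [f13, f31, one_mul, mul_one] at this
  have h3p : ∀ b : F, b + σ b = 0 → b * b * b * (1 + σ x * x') ∈ F₁ := by
    intro b hb
    have h1 := htr _ (hmul _ _ (hmul _ _ (hent v₁ h₁ b hb) (hent v₂ h₂ b hb)) (hent v₃ h₃ b hb))
    rw [mat, Units.val_mul, Units.val_mul, show ((root h₁ b : GL ι F) : Matrix ι ι F) = rootMat σ b v₁ from rfl,
      show ((root h₂ b : GL ι F) : Matrix ι ι F) = rootMat σ b v₂ from rfl,
      show ((root h₃ b : GL ι F) : Matrix ι ι F) = rootMat σ b v₃ from rfl] at h1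
    simp only [rootMat, add_mul, mul_add, one_mul, mul_one, Matrix.smul_mul, Matrix.mul_smul, smul_smul] at h1
    simp only [show ∀ v : ι → F, Matrix.vecMulVec v (fun a => σ (v a)) = N v from fun _ => rfl, hNmul,
      Matrix.smul_mul] at h1
    simp only [N, Matrix.vecMulVec_mul_vecMulVec, Matrix.vecMulVec_smul] at h1
    have e : ∀ u v : ι → F, ((fun a => σ (v a)) ⬝ᵥ u) = stdH σ u v := fun u v => by
      rw [stdH_eq]; exact Finset.sum_congr rfl fun a _ => mul_comm _ _
    have e' : ∀ u v : ι → F, (u ⬝ᵥ fun a => σ (v a)) = stdH σ u v := fun u v => by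
      rw [stdH_eq]; rfl
    simp only [Matrix.trace_add, Matrix.trace_one, Matrix.trace_smul, Matrix.trace_vecMulVec, e, e', h₁, h₂, h₃,
      smul_zero, zero_add, add_zero, smul_eq_mul] at h1
    have q12 := h2p v₁ v₂ h₁ h₂ b b hb hb
    have q13 := h2p v₁ v₃ h₁ h₃ b b hb hb
    have q23 := h2p v₂ v₃ h₂ h₃ b b hb hb
    have := sub_mem (sub_mem (sub_mem (sub_mem h1 hn) q12) q13) q23
    rw [f13, f31, f23, f32, f21] at this
    convert this using 1
    ring
  obtain ⟨b, hb0, hb⟩ := exists_trace_zero hbar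
  have hbb : σ (b * b) = b * b := by rw [map_mul]; linear_combination (σ b - b) * hb
  have hF₀' : ∀ a : F, σ a = a → a ∈ F₁ := fun a ha => by
    have h1 := hF₀ a ha b hb
    have h4 := hF₀ 1 (map_one σ) b hb
    rw [one_mul] at h4
    have h5 := div_mem h1 h4
    rwa [mul_assoc, mul_div_assoc, div_self (mul_ne_zero hb0 hb0), mul_one] at h5
  -- one element outside the fixed field
  have hw : b * (1 + σ x * x') ∈ F₁ := by
    have h1 := div_mem (h3p b hb) (hF₀' _ hbb)
    have e : b * (1 + σ x * x') = b * b * b * (1 + σ x * x') / (b * b) := by field_simp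
    rwa [e]
  set w := b * (1 + σ x * x') with hwdef
  have hwσ : σ w ≠ w := by
    intro e
    rw [hwdef, map_mul, map_add, map_one, map_mul, hbar.involutive] at e
    have h1 : b * (2 + σ x * x' + x * σ x') = 0 := by linear_combination (x * σ x' + 1) * hb - e
    have h2 := (mul_eq_zero.1 h1).resolve_left hb0
    set δ := σ x * x' with hδ
    have h4 : δ * (x * σ x') = 1 := by rw [hδ]; linear_combination (x' * σ x') * hx - hx'
    have h5 : (δ + 1) * (δ + 1) = 0 := by linear_combination δ * h2 - h4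
    have h6 : δ + 1 = 0 := mul_self_eq_zero.1 h5
    refine hxx ?_
    have hσx : σ x ≠ 0 := by intro e0; rw [e0, mul_zero] at hx; simp at hx
    apply mul_left_cancel₀ hσx
    rw [mul_comm (σ x) x, hx]
    linear_combination -h6
  apply hF₁
  rw [eq_top_iff]
  intro a _
  -- `a = u + t * w` with `u`, `t` fixed
  have hne : w - σ w ≠ 0 := sub_ne_zero.2 (Ne.symm hwσ)
  set t := (a - σ a) / (w - σ w) with ht
  have htσ : σ t = t := by
    rw [ht, map_div₀, map_sub, map_sub, hbar.involutive, hbar.involutive, ← neg_sub a, ← neg_sub w, neg_div_neg_eq]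
  have hu : σ (a - t * w) = a - t * w := by
    rw [map_sub, map_mul, htσ, ht]
    field_simp
    ring
  have h1 := add_mem (hF₀' _ hu) (mul_mem (hF₀' _ htσ) hw)
  rwa [sub_add_cancel] at h1

/-- Among the elements of a tensor square, two outer ones multiply to a product of factors. -/
theorem wreath_two_cases [Fintype F] {m : ℕ} {e : ι ≃ (Fin 2 → Fin m)} {P g h : GL ι F}
    (hg : g ∈ tensorWreathSubgroup m 2 e P) (hh : h ∈ tensorWreathSubgroup m 2 e P) :
    g ∈ tensorProductSubgroup m m (e.trans (finTwoArrowEquiv (Fin m))) P ∨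
      h ∈ tensorProductSubgroup m m (e.trans (finTwoArrowEquiv (Fin m))) P ∨
      g * h ∈ tensorProductSubgroup m m (e.trans (finTwoArrowEquiv (Fin m))) P := by
  have pure : ∀ bs : Fin 2 → GL (Fin m) F,
      fr e P (pureU bs) ∈ tensorProductSubgroup m m (e.trans (finTwoArrowEquiv (Fin m))) P := by
    intro bs
    rw [← map_fr_eq_tensor]
    refine ⟨glReindex (finTwoArrowEquiv (Fin m)) (pureU bs), ⟨bs 0, bs 1, ?_⟩, ?_⟩
    · ext p q
      show pureM (fun j => mat (bs j)) _ _ = _
      simp [pureM, Fin.prod_univ_two, Matrix.kronecker_apply]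
    · show fr (e.trans (finTwoArrowEquiv (Fin m))) P _ = fr e P (pureU bs)
      rw [← fr_reindex]
      exact congrArg _ (glReindex_symm_apply _ _)
  obtain ⟨X, hX, rfl⟩ := (map_fr_eq_wreath e P).ge hg
  obtain ⟨Y, hY, rfl⟩ := (map_fr_eq_wreath e P).ge hh
  obtain ⟨as, ρ, rfl⟩ := mem_standard hX
  obtain ⟨bs, ρ', rfl⟩ := mem_standard hY
  have hone : (permU 1 : GL (Fin 2 → Fin m) F) = 1 := Units.ext permM_one
  rcases (show ∀ ρ ρ' : Equiv.Perm (Fin 2), ρ = 1 ∨ ρ' = 1 ∨ (ρ = ρ' ∧ ρ * ρ' = 1) by decide) ρ ρ' with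
    rfl | rfl | ⟨rfl, hρ⟩
  · exact Or.inl (by rw [hone, mul_one]; exact pure as)
  · exact Or.inr (Or.inl (by rw [hone, mul_one]; exact pure bs))
  refine Or.inr (Or.inr ?_)
  rw [← map_mul]
  have key : pureU as * permU ρ * (pureU bs * permU ρ) = pureU (as * fun j => bs (ρ.symm j)) := by
    refine Units.ext ?_
    have hswap : (permM ρ * pureM (fun j => mat (bs j)) : Matrix (Fin 2 → Fin m) (Fin 2 → Fin m) F) =
        pureM (fun j => mat (bs (ρ.symm j))) * permM ρ := by
      refine Matrix.ext fun x y => ?_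
      have h1 := pureU_mul_permU_apply (fun j => bs (ρ.symm j)) ρ x y
      rw [show mat (pureU (fun j => bs (ρ.symm j)) * permU ρ) =
        pureM (fun j => mat (bs (ρ.symm j))) * permM ρ from rfl] at h1
      rw [h1, Matrix.mul_apply, Finset.sum_eq_single (x ∘ ρ)]
      · simp only [permM, pureM, Matrix.of_apply, if_true, one_mul, Equiv.symm_apply_apply, Function.comp_apply]
      · intro z _ hz
        simp [permM, hz]
      · simp
    show pureM (fun j => mat (as j)) * permM ρ * (pureM (fun j => mat (bs j)) * permM ρ) =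
      pureM (fun j => mat ((as * fun j => bs (ρ.symm j)) j))
    rw [mul_assoc, ← mul_assoc (permM ρ), hswap, mul_assoc, permM_mul, ← mul_assoc, pureM_mul, hρ, permM_one, mul_one]
    rfl
  rw [key]
  exact pure _

/-- Root elements do not preserve a tensor square. -/
theorem root_not_square [Fintype F] (hbar : IsBar σ) (hA : HasRoots σ A) {m : ℕ} (hm : 3 ≤ m)
    (e : ι ≃ (Fin 2 → Fin m)) (P : GL ι F) : ¬ A ≤ tensorWreathSubgroup m 2 e P := by
  classical
  intro hle
  have hc : 2 < Fintype.card ι := by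
    rw [Fintype.card_congr e, Fintype.card_fun, Fintype.card_fin, Fintype.card_fin]
    nlinarith
  obtain ⟨x, x', hxx, hx, hx'⟩ := exists_norm_neg_one hbar
  obtain ⟨b, hb0, hb⟩ := exists_trace_zero hbar
  obtain ⟨i, j, k, hij, hik, hjk⟩ := Fintype.two_lt_card_iff.1 hc
  set v := iso i j x with hv
  set w := iso i k x with hw
  have hvv : stdH σ v v = 0 := stdH_iso_self hij hx
  have hww : stdH σ w w = 0 := stdH_iso_self hik hx
  set t : GL ι F := root hvv b with ht
  set s : GL ι F := root hww b with hs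
  have ht' : mat t *ᵥ Pi.single i 1 = Pi.single i 1 + b • v := by
    rw [ht, root_mulVec, hv, stdH_iso, Pi.single_eq_same, Pi.single_eq_of_ne (Ne.symm hij), mul_zero, add_zero, mul_one]
  have hs' : mat s *ᵥ Pi.single i 1 = Pi.single i 1 + b • w := by
    rw [hs, root_mulVec, hw, stdH_iso, Pi.single_eq_same, Pi.single_eq_of_ne (Ne.symm hik), mul_zero, add_zero, mul_one]
  have one : ∀ (g : GL ι F) (u : ι → F), u i = 1 → mat g *ᵥ Pi.single i 1 = Pi.single i 1 + b • u → g ≠ 1 := by
    intro g u hu hg e'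
    rw [e', show mat (1 : GL ι F) = 1 from rfl, Matrix.one_mulVec] at hg
    have h1 := congrFun hg i
    rw [Pi.add_apply, Pi.smul_apply, hu, smul_eq_mul, mul_one, left_eq_add] at h1
    exact hb0 h1
  rcases wreath_two_cases (hle (hA v hvv b hb)) (hle (hA w hww b hb)) with h1 | h1 | h1
  · exact one t v (iso_apply_left hij x) ht' ((root_small hvv b).kron_eq_one (by omega) (by omega) h1)
  · exact one s w (iso_apply_left hik x) hs' ((root_small hww b).kron_eq_one (by omega) (by omega) h1)
  have hsmall : Small 2 (t * s) := by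
    refine small_of_image (Submodule.span F {v, w}) ?_ fun u => ?_
    · exact (finrank_span_le_card _).trans (by simpa using Finset.card_le_two (a := v) (b := w))
    · rw [← mulVec_mul, ht, hs, root_mulVec hww b, root_mulVec hvv b,
        show ∀ p r : F, u + p • w + r • v - u = r • v + p • w from fun p r => by abel]
      exact add_mem (Submodule.smul_mem _ _ (Submodule.subset_span (by simp)))
        (Submodule.smul_mem _ _ (Submodule.subset_span (by simp)))
  have h2 : t = s⁻¹ := eq_inv_of_mul_eq_one_left (hsmall.kron_eq_one (by omega) (by omega) h1)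
  have h3 := congrFun (congrArg (fun g : GL ι F => mat g *ᵥ (Pi.single i 1 : ι → F)) h2) j
  simp only [ht'] at h3
  rw [hs, root_inv, root_mulVec hww (-b)] at h3
  simp only [Pi.add_apply, Pi.smul_apply, smul_eq_mul, hv, hw, iso_apply_right hij, iso_apply_ne (Ne.symm hij) hjk,
    mul_zero, add_zero, add_eq_left, mul_eq_zero] at h3
  rcases h3 with h3 | h3
  · exact hb0 h3
  · rw [h3, zero_mul] at hx; simp at hx

end Cfsg.Agent.Asch
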